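import Cfsg.Agent.Lib.Classical.SympBasic

/-!
# Root elements of a point parabolic of the symplectic group, and elementary counting

`sroot x v h c` is `w ↦ w + B(v,w) x + B(x,w) (v + c x)`.
-/

set_option autoImplicit false

namespace CfsgLib.MinIdx

open Matrix CfsgLib.Classical

section Root

variable {F : Type*} [Field F] {l : Type*} [DecidableEq l] [Fintype l]

/-- The action of an element of the symplectic group on the column space. -/
def act (g : Matrix.symplecticGroup l F) : (l ⊕ l → F) →ₗ[F] (l ⊕ l → F) := Matrix.mulVecLin g.1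

theorem act_apply (g : Matrix.symplecticGroup l F) (v : l ⊕ l → F) : act g v = g.1 *ᵥ v := rfl

theorem act_injective (g : Matrix.symplecticGroup l F) : Function.Injective (act g) := fun a b h => by
  rw [← sp_inv_mulVec g a, ← act_apply g a, h, act_apply, sp_inv_mulVec]

theorem act_mul (g k : Matrix.symplecticGroup l F) : act (g * k) = (act g).comp (act k) :=
  LinearMap.ext fun v => sp_mul_mulVec g k v

theorem map_act_mul (g k : Matrix.symplecticGroup l F) (W : Submodule F (l ⊕ l → F)) :
    W.map (act (g * k)) = (W.map (act k)).map (act g) := by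
  rw [act_mul, Submodule.map_comp]

/-- `w ↦ w + B(v,w) x + B(x,w) (v + c x)`, for `v` orthogonal to `x`. -/
def sroot (x v : l ⊕ l → F) (h : sbil x v = 0) (c : F) : Matrix.symplecticGroup l F :=
  ⟨1 + vecMulVec x (v ᵥ* Matrix.J l F) + vecMulVec (v + c • x) (x ᵥ* Matrix.J l F),
    mem_symplecticGroup_iff_sbil.2 fun p r => by
      have h' : ∀ z, (1 + vecMulVec x (v ᵥ* Matrix.J l F) + vecMulVec (v + c • x) (x ᵥ* Matrix.J l F)) *ᵥ z =
          z + sbil v z • x + sbil x z • (v + c • x) := by
        intro z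
        simp [add_mulVec, vecMulVec_mulVec, sbil, dotProduct_mulVec]
      simp only [h', sbil_add_left, sbil_add_right, sbil_smul_left, sbil_smul_right, sbil_self, h,
        sbil_swap x v, sbil_swap x p, sbil_swap v p]
      ring⟩

theorem sroot_mulVec (x v : l ⊕ l → F) (h : sbil x v = 0) (c : F) (w : l ⊕ l → F) :
    (sroot x v h c).1 *ᵥ w = w + sbil v w • x + sbil x w • (v + c • x) := by
  simp [sroot, add_mulVec, vecMulVec_mulVec, sbil, dotProduct_mulVec]

theorem sroot_mul (x v v' : l ⊕ l → F) (h : sbil x v = 0) (h' : sbil x v' = 0) (c d : F) :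
    sroot x v h c * sroot x v' h' d =
      sroot x (v + v') (by rw [sbil_add_right, h, h', add_zero]) (c + d + sbil v v') := by
  refine sp_ext fun w => ?_
  simp only [sp_mul_mulVec, sroot_mulVec, sbil_add_left, sbil_add_right, sbil_smul_right, sbil_self, h, h',
    sbil_swap x v]
  module

theorem sroot_congr {x v v' : l ⊕ l → F} (h : sbil x v = 0) (e : v = v') {c c' : F} (ec : c = c') :
    sroot x v h c = sroot x v' (e ▸ h) c' := by subst e; subst ec; rfl

theorem sroot_zero (x : l ⊕ l → F) (h : sbil x 0 = 0) (c : F) : sroot x 0 h c = stv c x := by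
  refine sp_ext fun w => ?_
  simp only [sroot_mulVec, stv_mulVec, zero_add, smul_smul]
  rw [show sbil (0 : l ⊕ l → F) w = 0 by simp [sbil], zero_smul, add_zero, mul_comm]

theorem sroot_one (x : l ⊕ l → F) (h : sbil x 0 = 0) : sroot x 0 h 0 = 1 := by rw [sroot_zero, CfsgLib.Classical.stv_zero]

theorem sroot_line (x : l ⊕ l → F) (α c : F) (h : sbil x (α • x) = 0) :
    sroot x (α • x) h c = stv (2 * α + c) x := by
  refine sp_ext fun w => ?_
  simp only [sroot_mulVec, stv_mulVec, sbil_smul_left]
  module

theorem sroot_inv (x v : l ⊕ l → F) (h : sbil x v = 0) (c : F) :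
    (sroot x v h c)⁻¹ = sroot x (-v) (by rw [← neg_one_smul F v, sbil_smul_right, h, mul_zero]) (-c) := by
  rw [inv_eq_iff_mul_eq_one, sroot_mul, sroot_congr _ (add_neg_cancel v)
    (show c + -c + sbil v (-v) = 0 by rw [← neg_one_smul F v, sbil_smul_right, sbil_self]; ring)]
  exact sroot_one x _

theorem sroot_conj (g : Matrix.symplecticGroup l F) (x v : l ⊕ l → F) (h : sbil x v = 0) (c : F) :
    g * sroot x v h c * g⁻¹ = sroot (g.1 *ᵥ x) (g.1 *ᵥ v) (by rw [sbil_mulVec, h]) c := by
  refine sp_ext fun w => ?_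
  simp only [sp_mul_mulVec, sroot_mulVec, mulVec_add, mulVec_smul, sp_mulVec_inv]
  rw [← sbil_mulVec g v, sp_mulVec_inv, ← sbil_mulVec g x, sp_mulVec_inv]

end Root

section Count

/-- A map constant on the left cosets of `H` takes at most `H.index` values. -/
theorem card_range_le_index {G X : Type*} [Group G] [Finite G] (H : Subgroup G) (f : G → X)
    (hf : ∀ g, ∀ h ∈ H, f (g * h) = f g) : Nat.card (Set.range f) ≤ H.index := by
  refine Nat.card_le_card_of_surjective (Quotient.lift (fun g => (⟨f g, g, rfl⟩ : Set.range f)) ?_) ?_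
  · intro a b hab
    replace hab : a⁻¹ * b ∈ H := QuotientGroup.leftRel_apply.mp hab
    refine Subtype.ext ?_
    show f a = f b
    have := hf a _ hab
    rwa [mul_inv_cancel_left, eq_comm] at this
  · rintro ⟨_, g, rfl⟩
    exact ⟨Quotient.mk _ g, rfl⟩

/-- Double counting an incidence between finite types. -/
theorem double_count {X Y : Type*} [Finite X] [Finite Y] (R : X → Y → Prop) (a b : ℕ)
    (ha : ∀ x, Nat.card {y // R x y} ≤ a) (hb : ∀ y, b ≤ Nat.card {x // R x y}) :
    Nat.card Y * b ≤ Nat.card X * a := by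
  classical
  haveI := Fintype.ofFinite X
  haveI := Fintype.ofFinite Y
  have e : (Σ y : Y, {x // R x y}) ≃ (Σ x : X, {y // R x y}) :=
    { toFun := fun p => ⟨p.2.1, p.1, p.2.2⟩
      invFun := fun p => ⟨p.2.1, p.1, p.2.2⟩
      left_inv := fun _ => rfl
      right_inv := fun _ => rfl }
  have h := Nat.card_congr e
  rw [Nat.card_sigma, Nat.card_sigma] at h
  calc Nat.card Y * b = ∑ _y : Y, b := by rw [Finset.sum_const, Finset.card_univ, smul_eq_mul, Nat.card_eq_fintype_card]
    _ ≤ ∑ y : Y, Nat.card {x // R x y} := Finset.sum_le_sum fun y _ => hb y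
    _ = ∑ x : X, Nat.card {y // R x y} := h
    _ ≤ ∑ _x : X, a := Finset.sum_le_sum fun x _ => ha x
    _ = Nat.card X * a := by rw [Finset.sum_const, Finset.card_univ, smul_eq_mul, Nat.card_eq_fintype_card]

end Count

end CfsgLib.MinIdx
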