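import Mathlib

/-!
# Additive subgroups that are orthogonal for a pairing
-/

set_option autoImplicit false

namespace CfsgLib.MinIdx

/-- If `β(A,B)` lies in a proper subgroup then `|A| |B|` is at most `|V| |A ∩ R|`, for `R` containing all
`a` whose map `β a` is not surjective. -/
theorem card_mul_card_le {V C : Type*} [AddCommGroup V] [Finite V] [AddCommGroup C] [Finite C]
    (β : V → V → C) (hβ : ∀ a v w, β a (v + w) = β a v + β a w)
    (Γ : AddSubgroup C) (hΓ : Γ ≠ ⊤) (A B R : AddSubgroup V)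
    (hl : ∀ a ∈ A, ∀ a' ∈ A, ∀ v, β (a + a') v = β a v + β a' v)
    (hAB : ∀ a ∈ A, ∀ b ∈ B, β a b ∈ Γ) (hR : ∀ a ∈ A, a ∉ R → ∀ c, ∃ v, β a v = c) :
    Nat.card A * Nat.card B ≤ Nat.card V * Nat.card ↥(A ⊓ R) := by
  classical
  haveI := Fintype.ofFinite V
  haveI := Fintype.ofFinite (C ⧸ Γ)
  obtain ⟨c₀, hc₀⟩ : ∃ c, c ∉ Γ := by
    by_contra h
    push Not at h
    exact hΓ (eq_top_iff.2 fun c _ => h c)
  obtain ⟨φ, hφ⟩ := (AddChar.exists_apply_ne_zero (a := (QuotientAddGroup.mk c₀ : C ⧸ Γ))).2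
    (fun h => hc₀ ((QuotientAddGroup.eq_zero_iff c₀).1 h))
  let ψ : AddChar C ℂ := φ.compAddMonoidHom (QuotientAddGroup.mk' Γ)
  have hψΓ : ∀ c ∈ Γ, ψ c = 1 := fun c hc => by
    show φ _ = 1
    rw [show QuotientAddGroup.mk' Γ c = 0 from (QuotientAddGroup.eq_zero_iff c).2 hc, AddChar.map_zero_eq_one]
  have hzero : ∀ a, β a 0 = 0 := fun a => by
    have h := hβ a 0 0
    rw [add_zero] at h
    exact left_eq_add.1 h
  let row : V → AddChar V ℂ := fun a =>
    { toFun := fun v => ψ (β a v)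
      map_zero_eq_one' := by rw [hzero, AddChar.map_zero_eq_one]
      map_add_eq_mul' := fun v w => by rw [hβ, AddChar.map_add_eq_mul] }
  have hcol0 : ∀ v, β 0 v = 0 := fun v => by
    have h := hl 0 A.zero_mem 0 A.zero_mem v
    rw [add_zero] at h
    exact left_eq_add.1 h
  let col : V → AddChar A ℂ := fun v =>
    { toFun := fun a => ψ (β a.1 v)
      map_zero_eq_one' := by rw [AddSubgroup.coe_zero, hcol0, AddChar.map_zero_eq_one]
      map_add_eq_mul' := fun a a' => by rw [AddSubgroup.coe_add, hl _ a.2 _ a'.2, AddChar.map_add_eq_mul] }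
  have h1 : ∑ a : A, ∑ v, row a.1 v = ((Nat.card V * (Finset.univ.filter fun a : A => row a.1 = 0).card : ℕ) : ℂ) := by
    simp_rw [AddChar.sum_eq_ite]
    rw [Finset.sum_ite, Finset.sum_const_zero, add_zero, Finset.sum_const, Nat.card_eq_fintype_card]
    push_cast
    rw [nsmul_eq_mul, mul_comm]
  have h2 : ∑ v, ∑ a : A, col v a = ((Nat.card A * (Finset.univ.filter fun v : V => col v = 0).card : ℕ) : ℂ) := by
    simp_rw [AddChar.sum_eq_ite]
    rw [Finset.sum_ite, Finset.sum_const_zero, add_zero, Finset.sum_const, Nat.card_eq_fintype_card]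
    push_cast
    rw [nsmul_eq_mul, mul_comm]
  have h12 : Nat.card V * (Finset.univ.filter fun a : A => row a.1 = 0).card =
      Nat.card A * (Finset.univ.filter fun v : V => col v = 0).card := by
    refine Nat.cast_injective (R := ℂ) ?_
    rw [← h1, ← h2, Finset.sum_comm]
    rfl
  have hB : Nat.card B ≤ (Finset.univ.filter fun v : V => col v = 0).card := by
    rw [Nat.card_eq_fintype_card, ← Finset.card_univ]
    refine Finset.card_le_card_of_injOn Subtype.val (fun b _ => ?_) (Subtype.val_injective.injOn)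
    simp only [Finset.coe_filter, Finset.mem_univ, true_and, Set.mem_setOf_eq]
    refine DFunLike.ext _ _ fun a => ?_
    show ψ (β a.1 b.1) = _
    rw [hψΓ _ (hAB _ a.2 _ b.2)]; rfl
  have hA : (Finset.univ.filter fun a : A => row a.1 = 0).card ≤ Nat.card ↥(A ⊓ R) := by
    haveI := Fintype.ofFinite ↥(A ⊓ R)
    rw [Nat.card_eq_fintype_card, ← Finset.card_univ (α := ↥(A ⊓ R))]
    refine Finset.card_le_card_of_injOn
      (fun a => if h : a.1 ∈ R then (⟨a.1, a.2, h⟩ : ↥(A ⊓ R)) else 0) (fun _ _ => Finset.mem_univ _) ?_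
    have hmem : ∀ a : A, row a.1 = 0 → a.1 ∈ R := by
      intro a ha
      by_contra hcon
      obtain ⟨v, hv⟩ := hR a.1 a.2 hcon c₀
      have h := DFunLike.congr_fun ha v
      change ψ (β a.1 v) = _ at h
      rw [hv] at h
      exact hφ h
    intro a ha b hb hab
    simp only [Finset.coe_filter, Finset.mem_univ, true_and, Set.mem_setOf_eq] at ha hb
    simp only [dif_pos (hmem a ha), dif_pos (hmem b hb)] at hab
    exact Subtype.ext (congrArg (fun x : ↥(A ⊓ R) => x.1) hab)
  calc Nat.card A * Nat.card B ≤ Nat.card A * _ := Nat.mul_le_mul_left _ hB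
    _ = _ := h12.symm
    _ ≤ _ := Nat.mul_le_mul_left _ hA

/-- The version for `A = B` with a non-degenerate pairing. -/
theorem card_mul_self_le {V C : Type*} [AddCommGroup V] [Finite V] [AddCommGroup C] [Finite C]
    (β : V → V → C) (hβ : ∀ a v w, β a (v + w) = β a v + β a w) (hl : ∀ a a' v, β (a + a') v = β a v + β a' v)
    (Γ : AddSubgroup C) (hΓ : Γ ≠ ⊤) (A : AddSubgroup V) (hA : ∀ a ∈ A, ∀ b ∈ A, β a b ∈ Γ)
    (hR : ∀ a, a ≠ 0 → ∀ c, ∃ v, β a v = c) : Nat.card A * Nat.card A ≤ Nat.card V := by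
  have := card_mul_card_le β hβ Γ hΓ A A ⊥ (fun a _ a' _ => hl a a') hA (fun a _ ha => hR a (by simpa using ha))
  rwa [inf_bot_eq, AddSubgroup.card_bot, mul_one] at this

end CfsgLib.MinIdx
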