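import Cfsg.Agent.Lib.MinIdx.Base
import Cfsg.Agent.Lib.MinIdx.OrthCount
import Cfsg.Agent.Lib.Geometry.OmegaPerfect

/-!
# Root sets in the Siegel group of a quadratic form
-/

set_option autoImplicit false

namespace CfsgLib.MinIdx.Orth

open QuadraticMap CfsgLib.Geometry

variable {F V : Type*} [Field F] [AddCommGroup V] [Module F V]

/-- The Siegel group as a type. -/
abbrev SG (Q : QuadraticForm F V) : Type _ := ↥(siegelGroup Q)

variable {Q : QuadraticForm F V}

/-- The Siegel transformation at `x` with parameter `v`, extended by `1`. -/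
noncomputable def es (Q : QuadraticForm F V) (x v : V) : SG Q :=
  haveI := _root_.Classical.dec (Q x = 0 ∧ polar Q x v = 0)
  if h : Q x = 0 ∧ polar Q x v = 0 then ⟨siegel Q x v h.1 h.2, siegel_mem x v h.1 h.2⟩ else 1

theorem es_apply {x v : V} (hx : Q x = 0) (hv : polar Q x v = 0) (z : V) :
    (es Q x v).1 z = z + polar Q z x • v - polar Q z v • x - (Q v * polar Q z x) • x := by
  rw [es, dif_pos ⟨hx, hv⟩]
  exact siegel_apply Q x v hx hv z

theorem es_of_not {x v : V} (h : ¬ (Q x = 0 ∧ polar Q x v = 0)) : es Q x v = 1 := by rw [es, dif_neg h]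

theorem sg_ext {g k : SG Q} (h : ∀ z, g.1 z = k.1 z) : g = k := Subtype.ext (LinearEquiv.ext h)

theorem sg_mul (g k : SG Q) (z : V) : (g * k).1 z = g.1 (k.1 z) := rfl

theorem sg_one (z : V) : (1 : SG Q).1 z = z := rfl

theorem sg_inv (g : SG Q) (z : V) : g⁻¹.1 (g.1 z) = z := by rw [← sg_mul, inv_mul_cancel]; rfl

theorem sg_inv' (g : SG Q) (z : V) : g.1 (g⁻¹.1 z) = z := by rw [← sg_mul, mul_inv_cancel]; rfl

theorem sg_orth (g : SG Q) : g.1 ∈ orth Q := siegelGroup_le_orth g.2

theorem sg_Q (g : SG Q) (z : V) : Q (g.1 z) = Q z := mem_orth.1 (sg_orth g) z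

theorem sg_polar (g : SG Q) (u v : V) : polar Q (g.1 u) (g.1 v) = polar Q u v := orth_polar (sg_orth g) u v

theorem sg_ne_zero (g : SG Q) {z : V} (hz : z ≠ 0) : g.1 z ≠ 0 := fun h =>
  hz (g.1.injective (h.trans (map_zero g.1).symm))

theorem es_mul (x : V) {v w : V} (hv : polar Q x v = 0) (hw : polar Q x w = 0) :
    es Q x v * es Q x w = es Q x (v + w) := by
  have hvw : polar Q x (v + w) = 0 := by rw [polar_add_right, hv, hw, add_zero]
  by_cases hx : Q x = 0
  · refine Subtype.ext ?_
    show (es Q x v).1 * (es Q x w).1 = _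
    rw [es, dif_pos ⟨hx, hv⟩, es, dif_pos ⟨hx, hw⟩, es, dif_pos ⟨hx, hvw⟩]
    exact siegel_mul x v w hx hv hw
  · rw [es_of_not (fun h => hx h.1), es_of_not (fun h => hx h.1), es_of_not (fun h => hx h.1), one_mul]

theorem es_line (x : V) (c : F) : es Q x (c • x) = 1 := by
  by_cases h : Q x = 0 ∧ polar Q x (c • x) = 0
  · refine sg_ext fun z => ?_
    rw [es_apply h.1 h.2, sg_one, polar_smul_right', map_smul', h.1, smul_smul, mul_comm (polar Q z x) c]
    simp
  · exact es_of_not h

theorem es_zero (x : V) : es Q x 0 = 1 := by simpa using es_line (Q := Q) x 0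

theorem es_inv (x v : V) : (es Q x v)⁻¹ = es Q x (-v) := by
  by_cases hv : polar Q x v = 0
  · rw [inv_eq_iff_mul_eq_one, es_mul x hv (by rw [polar_neg_right, hv, neg_zero]), add_neg_cancel, es_zero]
  · rw [es_of_not (fun h => hv h.2), es_of_not (fun h => hv (by rw [polar_neg_right, neg_eq_zero] at h; exact h.2)),
      inv_one]

theorem es_conj (g : SG Q) (x v : V) : g * es Q x v * g⁻¹ = es Q (g.1 x) (g.1 v) := by
  by_cases h : Q x = 0 ∧ polar Q x v = 0
  · refine Subtype.ext ?_
    show g.1 * (es Q x v).1 * g.1⁻¹ = _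
    rw [es, dif_pos h, es, dif_pos ⟨by rw [sg_Q, h.1], by rw [sg_polar, h.2]⟩]
    exact siegel_conj (sg_orth g) x v h.1 h.2
  · rw [es_of_not h, es_of_not (by rwa [sg_Q, sg_polar]), mul_one, mul_inv_cancel]

theorem es_smul {x v : V} {c : F} (hx : Q x = 0) (hv : polar Q x v = 0) :
    es Q (c • x) v = es Q x (c • v) := by
  refine sg_ext fun z => ?_
  rw [es_apply (by rw [map_smul', hx, mul_zero]) (by rw [polar_smul_left', hv, mul_zero]),
    es_apply hx (by rw [polar_smul_right', hv, mul_zero]), map_smul', polar_smul_right', polar_smul_right']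
  module

theorem es_swap {x y : V} (hx : Q x = 0) (hy : Q y = 0) (hxy : polar Q x y = 0) (c : F) :
    es Q x (c • y) = es Q y (-c • x) := by
  have hyx : polar Q y x = 0 := by rw [polar_comm, hxy]
  refine sg_ext fun z => ?_
  rw [es_apply hx (by rw [polar_smul_right', hxy, mul_zero]), es_apply hy (by rw [polar_smul_right', hyx, mul_zero]),
    map_smul', map_smul', hx, hy, polar_smul_right', polar_smul_right']
  module

theorem es_eq_one {x v y : V} (hx : Q x = 0) (hv : polar Q x v = 0) (hxy : polar Q y x = 1)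
    (h : es Q x v = 1) : ∃ c : F, c • x = v := by
  have h1 := congrArg (fun g : SG Q => g.1 y) h
  simp only [es_apply hx hv, sg_one, hxy, one_smul, mul_one] at h1
  refine ⟨polar Q y v + Q v, ?_⟩
  linear_combination (norm := module) -(1 : F) • h1

/-- The parameters of the Siegel transformations at `x` in `H`. -/
noncomputable def rootSet (H : Subgroup (SG Q)) (x : V) : AddSubgroup V where
  carrier := {v | polar Q x v = 0 ∧ es Q x v ∈ H}
  zero_mem' := ⟨QuadraticMap.polar_zero_right _ _, by rw [es_zero]; exact H.one_mem⟩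
  add_mem' := by
    rintro v w ⟨hv, hv'⟩ ⟨hw, hw'⟩
    exact ⟨by rw [polar_add_right, hv, hw, add_zero], es_mul x hv hw ▸ H.mul_mem hv' hw'⟩
  neg_mem' := by
    rintro v ⟨hv, hv'⟩
    exact ⟨by rw [polar_neg_right, hv, neg_zero], es_inv (Q := Q) x v ▸ H.inv_mem hv'⟩

theorem mem_rootSet {H : Subgroup (SG Q)} {x v : V} :
    v ∈ rootSet H x ↔ polar Q x v = 0 ∧ es Q x v ∈ H := Iff.rfl

theorem line_mem_rootSet (H : Subgroup (SG Q)) {x : V} (hx : Q x = 0) (c : F) : c • x ∈ rootSet H x :=
  ⟨by rw [polar_smul_right', polar_self', hx, mul_zero, mul_zero], es_line x c ▸ H.one_mem⟩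

theorem rootSet_map {H : Subgroup (SG Q)} {g : SG Q} (hg : g ∈ H) {x v : V} (hv : v ∈ rootSet H x) :
    g.1 v ∈ rootSet H (g.1 x) :=
  ⟨by rw [sg_polar, hv.1], es_conj g x v ▸ H.mul_mem (H.mul_mem hg hv.2) (H.inv_mem hg)⟩

theorem rootSet_smul {H : Subgroup (SG Q)} {x v : V} {c : F} (hx : Q x = 0) (hc : c ≠ 0) :
    v ∈ rootSet H (c • x) ↔ c • v ∈ rootSet H x := by
  rw [mem_rootSet, mem_rootSet, polar_smul_left', polar_smul_right', mul_eq_zero, or_iff_right hc]
  constructor <;> rintro ⟨h, h'⟩ <;> refine ⟨h, ?_⟩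
  · rwa [← es_smul hx h]
  · rwa [es_smul hx h]

/-- The commutator of root elements at orthogonal points. -/
theorem comm_mem {H : Subgroup (SG Q)} {x y v w : V} (hx : Q x = 0) (hy : Q y = 0) (hxy : polar Q x y = 0)
    (hv : v ∈ rootSet H x) (hvy : polar Q y v = 0) (hw : w ∈ rootSet H y) (hwx : polar Q x w = 0) :
    polar Q w v • x ∈ rootSet H y := by
  have hyx : polar Q y x = 0 := by rw [polar_comm, hxy]
  have h1 := rootSet_map hv.2 hw
  have e1 : (es Q x v).1 y = y := by
    rw [es_apply hx hv.1, hyx, hvy]; simp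
  have e2 : (es Q x v).1 w = w - polar Q w v • x := by
    rw [es_apply hx hv.1, polar_comm Q w x, hwx]; simp
  rw [e1, e2] at h1
  have := (rootSet H y).sub_mem hw h1
  rwa [sub_sub_cancel] at this

/-- All parameters give the whole group. -/
theorem eq_top_of_rootSets {H : Subgroup (SG Q)}
    (h : ∀ x : V, x ≠ 0 → Q x = 0 → ∀ v, polar Q x v = 0 → v ∈ rootSet H x) : H = ⊤ := by
  have hle : ∀ g (hg : g ∈ siegelGroup Q), (⟨g, hg⟩ : SG Q) ∈ H := by
    intro g hg
    induction hg using Subgroup.closure_induction with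
    | mem s hs =>
      obtain ⟨e, w, he, hw, rfl⟩ := hs
      rcases eq_or_ne e 0 with rfl | he0
      · have : (⟨siegel Q 0 w he hw, siegel_mem 0 w he hw⟩ : SG Q) = 1 := sg_ext fun z => by
          show siegel Q 0 w he hw z = z
          simp [siegel_apply, QuadraticMap.polar_zero_right]
        rw [this]; exact H.one_mem
      · have h1 := (h e he0 he w hw).2
        rwa [es, dif_pos ⟨he, hw⟩] at h1
    | one => exact H.one_mem
    | mul a b ha hb iha ihb => exact H.mul_mem iha ihb
    | inv a ha iha => exact H.inv_mem iha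
  exact eq_top_iff.2 fun g _ => hle g.1 g.2

end CfsgLib.MinIdx.Orth
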