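import Cfsg.Agent.Lib.MinIdx.SpFour

/-!
# The smallest index of a proper subgroup of `Sp` and the stabiliser of a point
-/

set_option autoImplicit false

namespace CfsgLib.MinIdx

open Matrix CfsgLib.Classical CfsgLib.KnownA.SpGen

variable {F : Type*} [Field F] [Finite F]

/-- Proper subgroups of `Sp₂ₘ(q)` have index at least the number of points. -/
theorem sp_index_bound (hq : 3 ≤ Nat.card F) (m : ℕ) (hm : 2 ≤ m) :
    ∀ L : Subgroup (Matrix.symplecticGroup (Fin m) F), L ≠ ⊤ → ¬ (m = 2 ∧ Nat.card F = 3) →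
      Nat.card F ^ (2 * m) - 1 ≤ L.index * (Nat.card F - 1) := by
  induction m, hm using Nat.le_induction with
  | base => exact fun L hL hexc => index_four (by have := fun h => hexc ⟨rfl, h⟩; omega) L hL
  | succ n hn ih => exact fun L hL _ => index_step hq hn ih L hL

variable {m : ℕ}

/-- The stabiliser of the line through `e`. -/
def pointStab (e : Fin m ⊕ Fin m → F) (he : e ≠ 0) : Subgroup (Matrix.symplecticGroup (Fin m) F) where
  carrier := {g | Projectivization.mk F (g.1 *ᵥ e) (sp_mulVec_ne_zero g he) = Projectivization.mk F e he}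
  one_mem' := (Projectivization.mk_eq_mk_iff' F _ _ _ _).2 ⟨1, by rw [one_smul, sp_one_mulVec]⟩
  mul_mem' := by
    intro g k hg hk
    obtain ⟨a, ha⟩ := (Projectivization.mk_eq_mk_iff' F _ _ _ _).1 hg
    obtain ⟨b, hb⟩ := (Projectivization.mk_eq_mk_iff' F _ _ _ _).1 hk
    exact (Projectivization.mk_eq_mk_iff' F _ _ _ _).2 ⟨b * a, by rw [sp_mul_mulVec, ← hb, mulVec_smul, ← ha, smul_smul]⟩
  inv_mem' := by
    intro g hg
    obtain ⟨a, ha⟩ := (Projectivization.mk_eq_mk_iff' F _ _ _ _).1 hg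
    have ha0 : a ≠ 0 := fun h => sp_mulVec_ne_zero g he (by rw [← ha, h, zero_smul])
    refine (Projectivization.mk_eq_mk_iff' F _ _ _ _).2 ⟨a⁻¹, ?_⟩
    have h1 := congrArg (fun v => a⁻¹ • (g⁻¹).1 *ᵥ v) ha
    simp only [mulVec_smul, sp_inv_mulVec, inv_smul_smul₀ ha0] at h1
    exact h1.symm

omit [Finite F] in
theorem mem_pointStab {e : Fin m ⊕ Fin m → F} {he : e ≠ 0} {g : Matrix.symplecticGroup (Fin m) F} :
    g ∈ pointStab e he ↔ ∃ a : F, a • e = g.1 *ᵥ e :=
  Projectivization.mk_eq_mk_iff' F _ _ _ _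

theorem index_pointStab (e : Fin m ⊕ Fin m → F) (he : e ≠ 0) :
    (pointStab e he).index = (Nat.card F ^ (2 * m) - 1) / (Nat.card F - 1) := by
  let f : Matrix.symplecticGroup (Fin m) F ⧸ pointStab e he → Projectivization F (Fin m ⊕ Fin m → F) :=
    Quotient.lift (fun g => Projectivization.mk F (g.1 *ᵥ e) (sp_mulVec_ne_zero g he)) fun a b hab => by
      obtain ⟨c, hc⟩ := mem_pointStab.1 (QuotientGroup.leftRel_apply.mp hab)
      refine ((Projectivization.mk_eq_mk_iff' F _ _ _ _).2 ⟨c, ?_⟩).symm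
      have h1 := congrArg (a.1 *ᵥ ·) hc
      simp only [mulVec_smul, ← sp_mul_mulVec, mul_inv_cancel_left] at h1
      exact h1
  have hf : Function.Bijective f := by
    refine ⟨fun x y => ?_, fun p => ?_⟩
    · induction x using QuotientGroup.induction_on with | _ a => ?_
      induction y using QuotientGroup.induction_on with | _ b => ?_
      intro h
      obtain ⟨c, hc⟩ := (Projectivization.mk_eq_mk_iff' F _ _ _ _).1 h.symm
      refine QuotientGroup.eq.2 (mem_pointStab.2 ⟨c, ?_⟩)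
      rw [sp_mul_mulVec, ← hc, mulVec_smul, sp_inv_mulVec]
    · induction p using Projectivization.ind with | _ v hv => ?_
      obtain ⟨g, hg⟩ := sp_transitive he hv
      exact ⟨QuotientGroup.mk g, (Projectivization.mk_eq_mk_iff' F _ _ _ _).2 ⟨1, by rw [one_smul, hg]⟩⟩
  rw [Subgroup.index, Nat.card_congr (Equiv.ofBijective f hf), Projectivization.card'', card_vec]

omit [Finite F] in
theorem center_le_pointStab (e : Fin m ⊕ Fin m → F) (he : e ≠ 0) :
    Subgroup.center (Matrix.symplecticGroup (Fin m) F) ≤ pointStab e he := by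
  intro z hz
  rw [mem_pointStab]
  obtain ⟨u, hu⟩ := exists_sbil_eq_one he
  have h : stv 1 (z.1 *ᵥ e) = stv 1 e := by
    rw [← stv_conj, ← Subgroup.mem_center_iff.1 hz, mul_inv_cancel_right]
  have h1 := congrArg (fun g : Matrix.symplecticGroup (Fin m) F => g.1 *ᵥ u) h
  simp only [stv_mulVec, hu, one_mul, one_smul, add_right_inj] at h1
  rcases eq_or_ne (sbil (z.1 *ᵥ e) u) 0 with h0 | h0
  · rw [h0, zero_smul] at h1; exact absurd h1.symm he
  · exact ⟨(sbil (z.1 *ᵥ e) u)⁻¹, (inv_smul_eq_iff₀ h0).2 h1.symm⟩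

end CfsgLib.MinIdx
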