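import Cfsg.Agent.Lib.MinIdx.OrthMain
import Cfsg.Agent.Lib.Geometry.POmegaStd
import Cfsg.Agent.Lib.Geometry.AutStd
import Cfsg.Agent.Lib.Geometry.MaxSingular
import Cfsg.Agent.Lib.Classical.OrthStd
import Cfsg.Agent.Lib.Classical.OmegaFive
import Cfsg.Agent.Lib.Classical.OmegaSixPlus
import Cfsg.Agent.S2140
import Cfsg.Agent.S2141

/-!
# The index bound for the standard split forms
-/

set_option autoImplicit false

namespace CfsgLib.MinIdx.Orth

open QuadraticMap CfsgLib.Geometry CfsgLib.Classical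

variable {F : Type*} [Field F]

/-- The embedding of the smaller plus space. -/
def plusEmb (m : ℕ) (F : Type*) [Field F] :
    (Fin m ⊕ Fin m → F) →ₗ[F] (Fin (m + 1) ⊕ Fin (m + 1) → F) where
  toFun w := Sum.elim (Fin.cons 0 fun i => w (.inl i)) (Fin.cons 0 fun i => w (.inr i))
  map_add' u v := by ext (i | i) <;> cases i using Fin.cases <;> simp
  map_smul' c v := by ext (i | i) <;> cases i using Fin.cases <;> simp

/-- The embedding of the smaller odd space. -/
def oddEmb (m : ℕ) (F : Type*) [Field F] :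
    (Unit ⊕ (Fin m ⊕ Fin m) → F) →ₗ[F] (Unit ⊕ (Fin (m + 1) ⊕ Fin (m + 1)) → F) where
  toFun w := Sum.elim (fun u => w (.inl u)) (plusEmb m F fun i => w (.inr i))
  map_add' u v := by ext (i | i | i) <;> first | (cases i using Fin.cases <;> simp [plusEmb]) | simp
  map_smul' c v := by ext (i | i | i) <;> first | (cases i using Fin.cases <;> simp [plusEmb]) | simp

variable [Finite F]

theorem bound_pairs_plus {m B : ℕ} (hm : 1 ≤ m) (hb : Bound (matQuad (plusMat m F)) B) :
    ∀ x y, IsPair (matQuad (plusMat (m + 1) F)) x y → Bound (QW (matQuad (plusMat (m + 1) F)) x y) B := by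
  refine bound_pairs (x₀ := Pi.single (.inl 0) 1) (y₀ := Pi.single (.inr 0) 1) (nondegenerate_plus _)
    (by simp; omega) ⟨?_, ?_, ?_⟩ (plusEmb m F) ?_ (fun w => ?_) (fun w => ?_) (fun w => ?_) (by simp; omega) hb
  · simp [coe_matQuad_plus, Cfsg.quadFormPlus, Pi.single_apply]
  · simp [coe_matQuad_plus, Cfsg.quadFormPlus, Pi.single_apply]
  · simp [QuadraticMap.polar, coe_matQuad_plus, Cfsg.quadFormPlus, Pi.single_apply, Fin.sum_univ_succ]
  · intro a b hab
    ext (i | i)
    · simpa [plusEmb] using congrFun hab (.inl i.succ)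
    · simpa [plusEmb] using congrFun hab (.inr i.succ)
  · simp [coe_matQuad_plus, Cfsg.quadFormPlus, plusEmb, Fin.sum_univ_succ]
  · simp [QuadraticMap.polar, coe_matQuad_plus, Cfsg.quadFormPlus, plusEmb, Pi.single_apply, Fin.sum_univ_succ]
  · simp [QuadraticMap.polar, coe_matQuad_plus, Cfsg.quadFormPlus, plusEmb, Pi.single_apply, Fin.sum_univ_succ]

theorem bound_pairs_odd (h2 : (2 : F) ≠ 0) {m B : ℕ} (hm : 1 ≤ m) (hb : Bound (matQuad (oddMat m F)) B) :
    ∀ x y, IsPair (matQuad (oddMat (m + 1) F)) x y → Bound (QW (matQuad (oddMat (m + 1) F)) x y) B := by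
  refine bound_pairs (x₀ := Pi.single (.inr (.inl 0)) 1) (y₀ := Pi.single (.inr (.inr 0)) 1) (nondegenerate_odd h2 _)
    (by simp; omega) ⟨?_, ?_, ?_⟩ (oddEmb m F) ?_ (fun w => ?_) (fun w => ?_) (fun w => ?_) (by simp; omega) hb
  · simp [coe_matQuad_odd, Cfsg.quadFormOdd, Pi.single_apply]
  · simp [coe_matQuad_odd, Cfsg.quadFormOdd, Pi.single_apply]
  · simp [QuadraticMap.polar, coe_matQuad_odd, Cfsg.quadFormOdd, Pi.single_apply, Fin.sum_univ_succ]
  · intro a b hab
    ext (i | i | i)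
    · simpa [oddEmb] using congrFun hab (.inl i)
    · simpa [oddEmb, plusEmb] using congrFun hab (.inr (.inl i.succ))
    · simpa [oddEmb, plusEmb] using congrFun hab (.inr (.inr i.succ))
  · simp [coe_matQuad_odd, Cfsg.quadFormOdd, oddEmb, plusEmb, Fin.sum_univ_succ]
  · simp [QuadraticMap.polar, coe_matQuad_odd, Cfsg.quadFormOdd, oddEmb, plusEmb, Pi.single_apply, Fin.sum_univ_succ]
  · simp [QuadraticMap.polar, coe_matQuad_odd, Cfsg.quadFormOdd, oddEmb, plusEmb, Pi.single_apply, Fin.sum_univ_succ]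

theorem sing_odd (m : ℕ) : sing (matQuad (oddMat m F)) = Nat.card F ^ (2 * m) - 1 := by
  have h := sing_add_one (matQuad (oddMat m F))
  rw [coe_matQuad_odd, card_zeros_odd] at h
  omega

theorem sing_plus (k : ℕ) :
    sing (matQuad (plusMat (k + 1) F)) = (Nat.card F ^ (k + 1) - 1) * (Nat.card F ^ k + 1) := by
  have h := card_zeros_plus (F := F) (k + 1)
  have hs := sing_add_one (matQuad (plusMat (k + 1) F))
  rw [coe_matQuad_plus] at hs
  rw [← hs] at h
  set q := Nat.card F
  have hq : 0 < q := Nat.card_pos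
  have h1 : 1 ≤ q ^ (k + 1) := Nat.one_le_pow _ _ hq
  refine Nat.eq_of_mul_eq_mul_right hq ?_
  zify [h1] at h ⊢
  rw [show k + 1 + 1 = k + 2 from rfl, show 2 * (k + 1) = k + k + 2 by ring] at h
  simp only [pow_add, pow_one] at h ⊢
  linear_combination h

theorem dvd_div_cancel {a k N : ℕ} (h : (a ^ k - 1) / (a - 1) ≤ N) : a ^ k - 1 ≤ N * (a - 1) := by
  rw [← Nat.div_mul_cancel (show a - 1 ∣ a ^ k - 1 by simpa using Nat.sub_dvd_pow_sub_pow a 1 k)]
  exact Nat.mul_le_mul_right _ h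

theorem bound_five (hodd : Odd (Nat.card F)) (h5 : 5 ≤ Nat.card F) :
    Bound (matQuad (oddMat 2 F)) (Nat.card F ^ 4 - 1) := by
  haveI := Fintype.ofFinite F
  refine bound_of_pOmega (nondegenerate_odd (two_ne_zero_of_odd_card hodd) 2) (by simp) ?_
  rw [coe_matQuad_odd]
  intro H hH
  obtain ⟨e⟩ := pOmega_five_equiv (F := F) hodd
  have hne : H.map e.toMonoidHom ≠ ⊤ := fun h0 => hH (by
    rw [← Subgroup.comap_map_eq_self_of_injective (f := e.toMonoidHom) e.injective H, h0, Subgroup.comap_top])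
  have h1 := (Cfsg.Agent.S2141.result (F := F) rfl 2 le_rfl (Nat.card_eq_fintype_card (α := F) ▸ (by omega))
    (fun hh => by rw [← Nat.card_eq_fintype_card] at hh; omega)).1 _ hne
  rw [← Nat.card_eq_fintype_card, show 2 * 2 = 4 from rfl] at h1
  rw [← H.index_map_equiv e]
  exact dvd_div_cancel h1

theorem bound_six (hq : 4 ≤ Nat.card F) : Bound (matQuad (plusMat 3 F)) (Nat.card F ^ 4 - 1) := by
  haveI := Fintype.ofFinite F
  refine bound_of_pOmega (nondegenerate_plus 3) (by simp) ?_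
  rw [coe_matQuad_plus]
  intro H hH
  obtain ⟨e⟩ := pOmega_six_plus_equiv (F := F)
  have hne : H.map e.toMonoidHom ≠ ⊤ := fun h0 => hH (by
    rw [← Subgroup.comap_map_eq_self_of_injective (f := e.toMonoidHom) e.injective H, h0, Subgroup.comap_top])
  have h1 := (Cfsg.Agent.S2140.result (F := F) rfl 4 (by norm_num)
    (fun hh => by rw [← Nat.card_eq_fintype_card] at hh; omega)).1 _ hne
  rw [← Nat.card_eq_fintype_card] at h1
  rw [← H.index_map_equiv e]
  exact dvd_div_cancel h1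

theorem bound_odd (hodd : Odd (Nat.card F)) (h5 : 5 ≤ Nat.card F) (m : ℕ) (hm : 2 ≤ m) :
    Bound (matQuad (oddMat m F)) (Nat.card F ^ (2 * m) - 1) := by
  induction m, hm using Nat.le_induction with
  | base => exact bound_five hodd h5
  | succ m hm ih =>
    set q := Nat.card F with hqdef
    have h2 : (2 : F) ≠ 0 := two_ne_zero_of_odd_card hodd
    have hQ := nondegenerate_odd (F := F) h2 (m + 1)
    have hd : Module.finrank F (Unit ⊕ (Fin (m + 1) ⊕ Fin (m + 1)) → F) = 2 * m + 3 := by simp; ring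
    have hP : q ^ (2 * (m + 1)) = q * q ^ (2 * m + 1) := by rw [← pow_succ']; congr 1
    have hS2 : sing (matQuad (oddMat (m + 1) F)) <
        2 * (q - 1) * q ^ (Module.finrank F (Unit ⊕ (Fin (m + 1) ⊕ Fin (m + 1)) → F) - 2) := by
      rw [sing_odd, hd, ← hqdef, hP, show 2 * m + 3 - 2 = 2 * m + 1 by omega]
      have h1 : q * q ^ (2 * m + 1) ≤ 2 * (q - 1) * q ^ (2 * m + 1) := Nat.mul_le_mul_right _ (by omega)
      have h2 : 0 < q * q ^ (2 * m + 1) := Nat.mul_pos (by omega) (Nat.pow_pos (by omega))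
      omega
    have hnum : sing (matQuad (oddMat (m + 1) F)) ≤ 2 * q ^ 2 * (q ^ (2 * m) - 1) := by
      rw [sing_odd, ← hqdef, show 2 * (m + 1) = 2 + 2 * m by ring, pow_add, Nat.mul_sub, mul_one, mul_assoc]
      have h1 : q ^ 2 * 2 ≤ q ^ 2 * q ^ (2 * m) :=
        Nat.mul_le_mul_left _ (le_trans (show 2 ≤ q ^ 1 by rw [pow_one]; omega) (Nat.pow_le_pow_right (by omega) (by omega)))
      omega
    have hB := bound_pairs_odd h2 (by omega) ih
    rw [hqdef, ← sing_odd (F := F) (m + 1)]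
    rcases eq_or_lt_of_le hm with h | h
    · exact bound_seven hQ (by omega) h5 h2 hB hS2 hnum
    · exact bound_step hQ (by omega) (by omega) hB hS2 hnum

theorem bound_plus (hq : 4 ≤ Nat.card F) (k : ℕ) (hk : 3 ≤ k) :
    Bound (matQuad (plusMat (k + 1) F)) ((Nat.card F ^ (k + 1) - 1) * (Nat.card F ^ k + 1)) := by
  set q := Nat.card F with hqdef
  have hS2 : ∀ k, 3 ≤ k → sing (matQuad (plusMat (k + 1) F)) <
      2 * (q - 1) * q ^ (Module.finrank F (Fin (k + 1) ⊕ Fin (k + 1) → F) - 2) := by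
    intro k hk
    rw [sing_plus, ← hqdef, show Module.finrank F (Fin (k + 1) ⊕ Fin (k + 1) → F) - 2 = k + k by simp; omega]
    have hpos : 0 < q ^ k + 1 := Nat.succ_pos _
    calc (q ^ (k + 1) - 1) * (q ^ k + 1) < q ^ (k + 1) * (q ^ k + 1) :=
          Nat.mul_lt_mul_of_pos_right (Nat.sub_lt (Nat.pow_pos (by omega)) one_pos) hpos
      _ = q * q ^ (k + k) + q * q ^ k := by rw [pow_add, pow_succ]; ring
      _ ≤ q * q ^ (k + k) + q ^ (k + k) := by
          refine Nat.add_le_add_left ?_ _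
          rw [← pow_succ']
          exact Nat.pow_le_pow_right (by omega) (by omega)
      _ = (q + 1) * q ^ (k + k) := by ring
      _ ≤ _ := Nat.mul_le_mul_right _ (by omega)
  induction k, hk using Nat.le_induction with
  | base =>
    have hS : sing (matQuad (plusMat (3 + 1) F)) = (q ^ 3 + 1) * (q ^ 4 - 1) := by rw [sing_plus]; exact mul_comm _ _
    rw [hqdef, ← sing_plus (F := F) 3]
    exact bound_eight (nondegenerate_plus _) (by simp) hq (bound_pairs_plus (by norm_num) (bound_six hq)) hS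
      (hS2 3 le_rfl)
  | succ k hk ih =>
    have hnum : sing (matQuad (plusMat (k + 1 + 1) F)) ≤ 2 * q ^ 2 * ((q ^ (k + 1) - 1) * (q ^ k + 1)) := by
      rw [sing_plus, ← hqdef]
      have h1 : q ^ (k + 1) + 1 ≤ 2 * (q ^ (k + 1) - 1) := by
        have : q ^ 1 ≤ q ^ (k + 1) := Nat.pow_le_pow_right (by omega) (by omega)
        rw [pow_one] at this
        omega
      calc (q ^ (k + 1 + 1) - 1) * (q ^ (k + 1) + 1) ≤ q ^ (k + 1 + 1) * (q ^ (k + 1) + 1) :=
            Nat.mul_le_mul_right _ (Nat.sub_le _ _)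
        _ ≤ q ^ 2 * q ^ k * (2 * (q ^ (k + 1) - 1)) := by
            rw [← pow_add, show 2 + k = k + 1 + 1 by ring]
            exact Nat.mul_le_mul_left _ h1
        _ ≤ q ^ 2 * (q ^ k + 1) * (2 * (q ^ (k + 1) - 1)) :=
            Nat.mul_le_mul_right _ (Nat.mul_le_mul_left _ (Nat.le_succ _))
        _ = _ := by ring
    rw [hqdef, ← sing_plus (F := F) (k + 1)]
    exact bound_step (nondegenerate_plus _) (by simp; omega) hq (bound_pairs_plus (by omega) ih) (hS2 _ (by omega)) hnum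

end CfsgLib.MinIdx.Orth
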