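import Cfsg.Agent.Lib.MinIdx.OrthEightA

/-!
# Dimension eight: root sets have index at most `q ^ 2`
-/

set_option autoImplicit false

namespace CfsgLib.MinIdx.Orth

open QuadraticMap CfsgLib.Geometry

variable {F V : Type*} [Field F] [AddCommGroup V] [Module F V] [FiniteDimensional F V] [Finite F]
  {Q : QuadraticForm F V} {x y : V}

theorem sg_perfect (hQ : (polarBilin Q).Nondegenerate) (hn : 5 ≤ Module.finrank F V) :
    commutator (SG Q) = ⊤ := by
  refine Subgroup.map_injective (siegelGroup Q).subtype_injective ?_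
  rw [commutator_def, Subgroup.map_commutator, ← MonoidHom.range_eq_map, Subgroup.range_subtype]
  exact le_antisymm ((Subgroup.commutator_le).2 fun a ha b hb =>
    mul_mem (mul_mem (mul_mem ha hb) (inv_mem ha)) (inv_mem hb)) (siegelGroup_perfect hQ hn)

omit [Finite F] in
theorem wSet_cj_es (H : Subgroup (SG Q)) (h : IsPair Q x y) {u : V} (hu : u ∈ pairPerp Q x y) :
    wSet (cj H (es Q x u)) x y = wSet H x y := by
  ext w
  have hu1 := (mem_pairPerp.1 hu).1
  have hw1 := (mem_pairPerp.1 w.2).1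
  have e : (es Q x u)⁻¹ * es Q x w.1 * es Q x u = es Q x w.1 := by
    rw [es_inv, es_mul x (by rw [polar_neg_right, hu1, neg_zero]) hw1,
      es_mul x (by rw [polar_add_right, polar_neg_right, hu1, hw1]; ring) hu1]
    congr 1; abel
  show polar Q x w.1 = 0 ∧ es Q x w.1 ∈ cj H _ ↔ polar Q x w.1 = 0 ∧ es Q x w.1 ∈ H
  rw [mem_cj, e]

omit [Finite F] in
theorem liftM_cj_es (H : Subgroup (SG Q)) (h : IsPair Q x y) {u : V} (hu : u ∈ pairPerp Q x y) :
    liftM (cj H (es Q x u)) h = liftM H h := by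
  have key : ∀ (H : Subgroup (SG Q)) {u : V}, u ∈ pairPerp Q x y → liftM H h ≤ liftM (cj H (es Q x u)) h := by
    intro H u hu g hg
    obtain ⟨w, hw, hmem⟩ := hg
    obtain ⟨c, hc⟩ := g.2.1
    have hgu := Submodule.smul_mem (pairPerp Q x y) c (Mstab_W h g.2 hu)
    refine ⟨u + w - c • g.1.1 u, sub_mem (add_mem hu hw) hgu, ?_⟩
    rw [mem_cj]
    convert hmem using 1
    have hu1 := (mem_pairPerp.1 hu).1
    have hw1 := (mem_pairPerp.1 hw).1
    have hgu1 := (mem_pairPerp.1 hgu).1
    have e : g.1 * es Q x u * g.1⁻¹ = es Q x (c • g.1.1 u) := Mstab_conj hc h.qx hu1 (scale_ne h hc)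
    have e2 : (es Q x u)⁻¹ * es Q x (u + w - c • g.1.1 u) * es Q x (c • g.1.1 u) = es Q x w := by
      rw [es_inv, es_mul x (by rw [polar_neg_right, hu1, neg_zero]) (by rw [polar_sub_right, polar_add_right, hu1, hw1, hgu1]; ring),
        es_mul x (by rw [polar_add_right, polar_neg_right, polar_sub_right, polar_add_right, hu1, hw1, hgu1]; ring) hgu1]
      congr 1; abel
    rw [← e2, ← e]; group
  refine le_antisymm ?_ (key H hu)
  have h1 := key (cj H (es Q x u)) (neg_mem hu)
  have e : cj (cj H (es Q x u)) (es Q x (-u)) = H := by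
    ext k
    rw [mem_cj, mem_cj, ← es_inv]
    simp [mul_assoc]
  rwa [e] at h1

omit [FiniteDimensional F V] in
/-- An additive subgroup containing all squares is everything. -/
theorem top_of_squares (S : AddSubgroup F) (hS : ∀ c : F, c * c ∈ S) : S = ⊤ := by
  classical
  haveI := Fintype.ofFinite F
  have h := double_count (X := S) (Y := F) (fun s c => c * c = s.1) 2 1 (fun s => by
    rcases isEmpty_or_nonempty {c : F // c * c = s.1} with h | ⟨⟨c₀, hc₀⟩⟩
    · simp
    calc _ ≤ Nat.card Bool := Nat.card_le_card_of_injective (fun c => decide (c.1 = c₀)) ?_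
      _ = 2 := by simp
    intro a b hab
    refine Subtype.ext ?_
    have key : ∀ c : {c : F // c * c = s.1}, c.1 = c₀ ∨ c.1 = -c₀ := fun c => mul_self_eq_mul_self_iff.1 (c.2.trans hc₀.symm)
    rcases key a with ha | ha <;> rcases key b with hb | hb
    · rw [ha, hb]
    · simp only [ha, decide_true] at hab
      rw [ha, of_decide_eq_true hab.symm]
    · simp only [hb, decide_true] at hab
      rw [hb, of_decide_eq_true hab]
    · rw [ha, hb])
    (fun c => by
      haveI : Nonempty {s : S // c * c = s.1} := ⟨⟨⟨_, hS c⟩, rfl⟩⟩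
      exact Nat.card_pos)
  rw [mul_one, mul_comm] at h
  have hidx : S.index ≤ 2 := by
    refine Nat.le_of_mul_le_mul_right ?_ (show 0 < Nat.card S from Nat.card_pos)
    rwa [S.index_mul_card]
  have h0 : S.index ≠ 0 := AddSubgroup.index_ne_zero_of_finite
  by_contra htop
  have h1 : S.index ≠ 1 := fun h1 => htop (AddSubgroup.index_eq_one.1 h1)
  have hidx2 : S.index = 2 := by omega
  have h20 : (2 : F) = 0 := by
    by_contra hne
    have hd := FiniteField.even_card_iff_char_two (F := F)
    have heven : Fintype.card F % 2 = 0 := by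
      rw [← Nat.card_eq_fintype_card, ← S.index_mul_card, hidx2]; omega
    have hc := hd.2 heven
    exact hne (by
      have := ringChar.Nat.cast_ringChar (R := F)
      rw [hc] at this
      exact_mod_cast this)
  haveI : CharP F 2 := CharTwo.of_one_ne_zero_of_two_eq_zero one_ne_zero h20
  refine htop (eq_top_iff.2 fun c _ => ?_)
  obtain ⟨r, hr⟩ := (frobeniusEquiv F 2).surjective c
  have : r * r = c := by rw [← hr]; exact (_root_.sq r).symm
  exact this ▸ hS r

omit [FiniteDimensional F V] in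
theorem card_rootSet_cj [Finite V] (H : Subgroup (SG Q)) (g : SG Q) (z : V) :
    Nat.card (rootSet (cj H g) (g.1 z)) = Nat.card (rootSet H z) :=
  (Nat.card_congr
    { toFun := fun v => ⟨g.1 v.1, (rootSet_cj H g z v.1).2 v.2⟩
      invFun := fun v => ⟨g⁻¹.1 v.1, (rootSet_cj H g z _).1 (by rw [sg_inv']; exact v.2)⟩
      left_inv := fun v => Subtype.ext (sg_inv g v.1)
      right_inv := fun v => Subtype.ext (sg_inv' g v.1) }).symm

omit [FiniteDimensional F V] [Finite F] in
theorem card_rootSet_map {H : Subgroup (SG Q)} {g : SG Q} (hg : g ∈ H) (z : V) :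
    Nat.card (rootSet H (g.1 z)) = Nat.card (rootSet H z) :=
  (Nat.card_congr
    { toFun := fun v => ⟨g.1 v.1, rootSet_map hg v.2⟩
      invFun := fun v => ⟨g⁻¹.1 v.1, by
        have := rootSet_map (H.inv_mem hg) v.2
        rwa [sg_inv] at this⟩
      left_inv := fun v => Subtype.ext (sg_inv g v.1)
      right_inv := fun v => Subtype.ext (sg_inv' g v.1) }).symm

omit [FiniteDimensional F V] [Finite F] in
theorem card_rootSet_smul (H : Subgroup (SG Q)) {z : V} (hz : Q z = 0) {c : F} (hc : c ≠ 0) :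
    Nat.card (rootSet H (c • z)) = Nat.card (rootSet H z) :=
  Nat.card_congr
    { toFun := fun v => ⟨c • v.1, (rootSet_smul hz hc).1 v.2⟩
      invFun := fun v => ⟨c⁻¹ • v.1, (rootSet_smul hz hc).2 (by rw [smul_inv_smul₀ hc]; exact v.2)⟩
      left_inv := fun v => Subtype.ext (inv_smul_smul₀ hc v.1)
      right_inv := fun v => Subtype.ext (smul_inv_smul₀ hc v.1) }

/-- The size of a root set and the index of its part in the complement. -/
theorem card_rootSet_mul (H : Subgroup (SG Q)) (h : IsPair Q x y) (hn : Module.finrank F V = 8) :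
    Nat.card (rootSet H x) * (wSet H x y).index = Nat.card F ^ 7 := by
  haveI : Finite V := Module.finite_of_finite F
  have h6 : Module.finrank F (pairPerp Q x y) = 6 := by have := finrank_W h; omega
  rw [card_rootSet H h, mul_assoc, mul_comm (Nat.card (wSet H x y)), AddSubgroup.index_mul_card,
    Module.natCard_eq_pow_finrank (K := F) (V := pairPerp Q x y), h6, ← pow_succ']

/-- The index bound for the complement. -/
def Base6 (Q : QuadraticForm F V) : Prop :=
  ∀ x y : V, IsPair Q x y → ∀ L : Subgroup (SG (QW Q x y)), L ≠ ⊤ →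
    Nat.card F ^ 4 - 1 ≤ L.index * (Nat.card F - 1)

/-- The possible root sets. -/
theorem rootSet_cases (hQ : (polarBilin Q).Nondegenerate) (hn : Module.finrank F V = 8) (hq : 4 ≤ Nat.card F)
    (hB : Base6 Q) (H : Subgroup (SG Q)) (h : IsPair Q x y)
    (hS : sing Q = (Nat.card F ^ 3 + 1) * (Nat.card F ^ 4 - 1))
    (hS2 : sing Q < 2 * (Nat.card F - 1) * Nat.card F ^ (Module.finrank F V - 2))
    (hH : H.index * (Nat.card F - 1) < sing Q) :
    (liftL H h = ⊤ → wSet H x y = ⊤) ∧
      ((wSet H x y).index ≤ Nat.card F * Nat.card F ∨ (wSet H x y).index = Nat.card F ^ 3) := by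
  haveI : Finite V := Module.finite_of_finite F
  have hfirst : liftL H h = ⊤ → wSet H x y = ⊤ := fun htop =>
    (wSet_cases hQ h (by omega) htop).resolve_left (not_zero hQ (by omega) hq H h hS2 hH)
  refine ⟨hfirst, ?_⟩
  set q := Nat.card F with hqdef
  by_cases htop : liftL H h = ⊤
  · left
    rw [hfirst htop, AddSubgroup.index_top]
    exact Nat.mul_pos Nat.card_pos Nat.card_pos
  have h1 : (wSet H x y).index * (q ^ 4 - 1) < (q ^ 3 + 1) * (q ^ 4 - 1) := by
    rw [← hS]
    calc (wSet H x y).index * (q ^ 4 - 1) ≤ (wSet H x y).index * ((liftM H h).index * (q - 1)) :=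
          Nat.mul_le_mul_left _ ((hB x y h _ htop).trans (Nat.mul_le_mul_right _ (liftL_index_le H h)))
      _ = (wSet H x y).index * (liftM H h).index * (q - 1) := (mul_assoc _ _ _).symm
      _ ≤ H.index * (q - 1) := Nat.mul_le_mul_right _ (index_ge H h)
      _ < _ := hH
  have h2 : (wSet H x y).index < q ^ 3 + 1 := Nat.lt_of_mul_lt_mul_right h1
  rcases le_or_gt (wSet H x y).index (q * q) with hsmall | hlarge
  · exact Or.inl hsmall
  right
  have h3 := no_intermediate hQ hn hq H h hS hH hlarge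
  haveI := Fintype.ofFinite F
  obtain ⟨p, hpchar⟩ := CharP.exists F
  haveI := hpchar
  obtain ⟨⟨e, he⟩, hp, hF⟩ := FiniteField.card F p
  dsimp at hF
  rw [← Nat.card_eq_fintype_card, ← hqdef] at hF
  obtain ⟨i, -, hi⟩ : ∃ i ≤ e * 7, (wSet H x y).index = p ^ i := (Nat.dvd_prime_pow hp).1 (by
    rw [pow_mul, ← hF, ← card_rootSet_mul H h hn]
    exact Dvd.intro_left _ rfl)
  rw [← hqdef] at h3
  rw [hi, hF, ← pow_mul] at h2 h3 ⊢
  by_contra hne
  have h4 : i < e * 3 := by
    rcases Nat.lt_or_ge i (e * 3) with h' | h'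
    · exact h'
    · exfalso
      rcases h'.lt_or_eq with h'' | h''
      · have := Nat.pow_lt_pow_right hp.one_lt h''
        omega
      · exact hne (by rw [h''])
  have h5 : 2 * p ^ i ≤ p ^ (e * 3) := by
    calc 2 * p ^ i ≤ p * p ^ i := Nat.mul_le_mul_right _ hp.two_le
      _ = p ^ (i + 1) := (pow_succ' p i).symm
      _ ≤ _ := Nat.pow_le_pow_right hp.pos h4
  omega

/-- A point with a large root set where the torus lies in `H`. -/
theorem eight_core (hQ : (polarBilin Q).Nondegenerate) (hn : Module.finrank F V = 8) (hq : 4 ≤ Nat.card F)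
    (hB : Base6 Q) (H : Subgroup (SG Q)) (h : IsPair Q x y)
    (hS : sing Q = (Nat.card F ^ 3 + 1) * (Nat.card F ^ 4 - 1))
    (hS2 : sing Q < 2 * (Nat.card F - 1) * Nat.card F ^ (Module.finrank F V - 2))
    (hH : H.index * (Nat.card F - 1) < sing Q) (hX : (wSet H x y).index = Nat.card F ^ 3)
    (hscal : ∀ c : F, ∀ w ∈ wSet H x y, c • w ∈ wSet H x y)
    {t : SG Q} {d : F} (hd1 : d ≠ 1) (ht : t ∈ H) (htx : t.1 x = d • x) (hty : t.1 y = d⁻¹ • y)
    (htW : ∀ w ∈ pairPerp Q x y, t.1 w = w) : False := by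
  classical
  haveI : Finite V := Module.finite_of_finite F
  haveI : Finite (SG (QW Q x y)) := finite_sg
  set q := Nat.card F with hqdef
  have hWQ := nondeg_QW h hQ
  have hW6 : Module.finrank F (pairPerp Q x y) = 6 := by have := finrank_W h; omega
  have hd0 : d ≠ 0 := scale_ne h htx
  have hXne : wSet H x y ≠ ⊤ := fun htop => by
    rw [htop, AddSubgroup.index_top] at hX
    have := Nat.one_lt_pow (show (3 : ℕ) ≠ 0 by norm_num) (show 1 < q by omega)
    omega
  have hLne : liftL H h ≠ ⊤ := fun htop => hXne ((rootSet_cases hQ hn hq hB H h hS hS2 hH).1 htop)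
  set l := (liftL H h).index
  set s := (liftM H h).index
  have hls : l ≤ s := liftL_index_le H h
  have hl : q ^ 4 - 1 ≤ l * (q - 1) := hB x y h _ hLne
  have hks : q ^ 3 * s ≤ H.index := hX ▸ index_ge H h
  -- the Levi elements are in `H`
  have hpure : ∀ g ∈ liftL H h, ext h g ∈ H := by
    intro g hg
    obtain ⟨v, hv, hmem⟩ := mem_liftL.1 hg
    obtain ⟨hv1, hv2⟩ := mem_pairPerp.1 hv
    have hcomm : ext h g * t = t * ext h g := by
      refine sg_ext fun z => ?_
      rw [sg_mul, sg_mul, ← decompW (Q := Q) (x := x) (y := y) z]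
      simp only [map_add, map_smul, htW _ (prW_mem h z), htx, hty, ext_x, ext_y,
        htW _ (Mstab_W h (ext_mem_Mstab h g) (prW_mem h z))]
    have h1 := H.mul_mem (H.mul_mem (H.mul_mem hmem ht) (H.inv_mem hmem)) (H.inv_mem ht)
    have e : es Q x v * ext h g * t * (es Q x v * ext h g)⁻¹ * t⁻¹ = es Q x v * (t * es Q x v * t⁻¹)⁻¹ := by
      rw [mul_assoc (es Q x v) _ t, hcomm]; group
    rw [e, Mstab_conj htx h.qx hv1 hd0, htW v hv, es_inv,
      es_mul x hv1 (by rw [polar_neg_right, polar_smul_right', hv1, mul_zero, neg_zero]),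
      show v + -(d • v) = (1 - d) • v by module] at h1
    have h2 : (⟨(1 - d) • v, Submodule.smul_mem _ _ hv⟩ : pairPerp Q x y) ∈ wSet H x y :=
      ⟨by show polar Q x ((1 - d) • v) = 0; rw [polar_smul_right', hv1, mul_zero], h1⟩
    have h3 := hscal (1 - d)⁻¹ _ h2
    have h4 : es Q x v ∈ H := by
      have h5 := (mem_wSet.1 h3).2
      rwa [show ((1 - d)⁻¹ • (⟨(1 - d) • v, Submodule.smul_mem _ _ hv⟩ : pairPerp Q x y)).1 = v from
        inv_smul_smul₀ (sub_ne_zero.2 hd1.symm) v] at h5
    simpa using H.mul_mem (H.inv_mem h4) hmem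
  -- a unipotent group of the complement with a small orbit
  obtain ⟨e, he0, he⟩ := exists_singular hWQ (by omega)
  obtain ⟨f, hef⟩ := exists_isPair hWQ he0 he
  have hZ : Module.finrank F (pairPerp (QW Q x y) e f) = 4 := by have := finrank_W hef; omega
  let P := pairPerp (QW Q x y) e f
  let act : P → (SG (QW Q x y) ⧸ liftL H h) → (SG (QW Q x y) ⧸ liftL H h) := fun u c => es (QW Q x y) e u.1 • c
  letI : AddAction P (SG (QW Q x y) ⧸ liftL H h) :=
    { vadd := act
      zero_vadd := fun c => by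
        show es (QW Q x y) e (0 : P).1 • c = c
        rw [ZeroMemClass.coe_zero, es_zero, one_smul]
      add_vadd := fun u v c => by
        show es (QW Q x y) e (u + v).1 • c = es (QW Q x y) e u.1 • es (QW Q x y) e v.1 • c
        rw [smul_smul, es_mul e (mem_pairPerp.1 u.2).1 (mem_pairPerp.1 v.2).1]
        rfl }
  have hP : Nat.card P = q ^ 4 := by rw [Module.natCard_eq_pow_finrank (K := F) (V := P), hZ]
  obtain ⟨c, hc⟩ : ∃ c : SG (QW Q x y) ⧸ liftL H h, q ^ 3 < Nat.card (AddAction.stabilizer P c) := by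
    by_contra hcon
    push Not at hcon
    haveI := Fintype.ofFinite F
    obtain ⟨p, hpchar⟩ := CharP.exists F
    haveI := hpchar
    obtain ⟨⟨ee, hee⟩, hp, hF⟩ := FiniteField.card F p
    dsimp at hF
    rw [← Nat.card_eq_fintype_card, ← hqdef] at hF
    have hdiv : ∀ c : SG (QW Q x y) ⧸ liftL H h, q ∣ Nat.card (AddAction.orbit P c) := by
      intro c
      have h1 : Nat.card (AddAction.orbit P c) * Nat.card (AddAction.stabilizer P c) = q ^ 4 := by
        rw [← hP, ← (AddAction.stabilizer P c).index_mul_card, AddAction.index_stabilizer,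
          Nat.card_coe_set_eq]
      obtain ⟨i, -, hi⟩ : ∃ i ≤ ee * 4, Nat.card (AddAction.orbit P c) = p ^ i := (Nat.dvd_prime_pow hp).1 (by
        rw [pow_mul, ← hF]; exact Dvd.intro _ h1)
      rw [hi, hF]
      refine pow_dvd_pow p ?_
      by_contra hlt
      push Not at hlt
      have h2 : Nat.card (AddAction.orbit P c) * Nat.card (AddAction.stabilizer P c) < q * q ^ 3 := by
        refine Nat.mul_lt_mul_of_lt_of_le ?_ (hcon c) (pow_pos (by omega) _)
        rw [hi, hF]
        exact Nat.pow_lt_pow_right hp.one_lt hlt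
      rw [h1, ← pow_succ'] at h2
      exact lt_irrefl _ h2
    have hdl : q ∣ l := by
      haveI := Fintype.ofFinite (SG (QW Q x y) ⧸ liftL H h)
      haveI : Fintype (AddAction.orbitRel.Quotient P (SG (QW Q x y) ⧸ liftL H h)) := Fintype.ofFinite _
      show q ∣ (liftL H h).index
      rw [Subgroup.index, Nat.card_congr (AddAction.selfEquivSigmaOrbits P _), Nat.card_sigma]
      exact Finset.dvd_sum fun o _ => hdiv _
    obtain ⟨j, hj⟩ := hdl
    obtain ⟨r, hr⟩ : ∃ r, q = r + 4 := ⟨q - 4, by omega⟩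
    have hup : q ^ 3 * s * (q - 1) < (q ^ 3 + 1) * (q ^ 4 - 1) :=
      hS ▸ lt_of_le_of_lt (Nat.mul_le_mul_right _ hks) hH
    have hB' : q ^ 4 - 1 = (q ^ 3 + q ^ 2 + q + 1) * (q - 1) := by
      rw [hr, show r + 4 - 1 = r + 3 by omega]
      exact Nat.sub_eq_of_eq_add (by ring)
    rw [hB'] at hl
    rw [hB', ← mul_assoc] at hup
    have hlo := Nat.le_of_mul_le_mul_right hl (by omega)
    have hup' := Nat.lt_of_mul_lt_mul_right hup
    set B := q ^ 3 + q ^ 2 + q + 1
    have hBq : B = q * (q ^ 2 + q + 1) + 1 := by show q ^ 3 + q ^ 2 + q + 1 = _; ring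
    have hB2 : B < 2 * q ^ 3 := by
      show q ^ 3 + q ^ 2 + q + 1 < _
      rw [hr]; ring_nf; omega
    have h7 : l ≤ B + 1 := by
      by_contra h8
      push Not at h8
      have h9 : q ^ 3 * (B + 2) ≤ q ^ 3 * s := Nat.mul_le_mul_left _ (by omega)
      have h10 : q ^ 3 * (B + 2) < (q ^ 3 + 1) * B := lt_of_le_of_lt h9 hup'
      rw [Nat.mul_add, Nat.add_mul, one_mul] at h10
      omega
    rw [hj] at hlo h7
    rcases le_or_gt j (q ^ 2 + q + 1) with h8 | h8
    · have := Nat.mul_le_mul_left q h8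
      omega
    · have h9 : q * (q ^ 2 + q + 2) ≤ q * j := Nat.mul_le_mul_left _ h8
      rw [show q * (q ^ 2 + q + 2) = q * (q ^ 2 + q + 1) + q by ring] at h9
      omega
  set g := c.out
  set e' := (g⁻¹).1 e with he'
  have he'0 : e'.1 ≠ 0 := fun h0 => sg_ne_zero g⁻¹ he0 (Subtype.ext h0)
  have he'q : Q e'.1 = 0 := by
    show QW Q x y e' = 0
    rw [he', sg_Q, he]
  have hbig : q ^ 4 < Nat.card (rootSet H e'.1) := by
    calc q ^ 4 = q * q ^ 3 := by ring
      _ < q * Nat.card (AddAction.stabilizer P c) := Nat.mul_lt_mul_of_pos_left hc (by omega)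
      _ = Nat.card (F × AddAction.stabilizer P c) := (Nat.card_prod _ _).symm
      _ ≤ _ := ?_
    have hmem : ∀ p : F × AddAction.stabilizer P c, ((g⁻¹).1 (p.2.1.1 + p.1 • e)).1 ∈ rootSet H e'.1 := by
      rintro ⟨a, u, hu⟩
      have h1 : g⁻¹ * es (QW Q x y) e u.1 * g ∈ liftL H h := by
        have hu' : es (QW Q x y) e u.1 • c = c := hu
        rw [← QuotientGroup.out_eq' c, MulAction.Quotient.smul_mk, smul_eq_mul, QuotientGroup.eq] at hu'
        have := (liftL H h).inv_mem hu'
        simpa [g, mul_assoc] using this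
      have h2 := hpure _ h1
      have h3 : g⁻¹ * es (QW Q x y) e u.1 * g = es (QW Q x y) ((g⁻¹).1 e) ((g⁻¹).1 u.1) := by
        rw [← es_conj, inv_inv]
      rw [h3] at h2
      have hpol : polar Q e'.1 ((g⁻¹).1 u.1).1 = 0 := by
        show polar (QW Q x y) ((g⁻¹).1 e) ((g⁻¹).1 u.1) = 0
        rw [sg_polar]; exact (mem_pairPerp.1 u.2).1
      rw [ext_es h he'q hpol] at h2
      have : ((g⁻¹).1 u.1).1 ∈ rootSet H e'.1 := ⟨hpol, h2⟩
      show ((g⁻¹).1 (u.1 + a • e)).1 ∈ _
      rw [map_add, map_smul, Submodule.coe_add, Submodule.coe_smul_of_tower]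
      exact (rootSet H e'.1).add_mem this (line_mem_rootSet H he'q a)
    refine Nat.card_le_card_of_injective (fun p => (⟨_, hmem p⟩ : rootSet H e'.1)) ?_
    rintro ⟨a, u⟩ ⟨b, w⟩ hab
    have h1 : u.1.1 + a • e = w.1.1 + b • e :=
      (g⁻¹).1.injective (Subtype.ext (congrArg Subtype.val hab :))
    have h2 := congrArg (fun z => polar (QW Q x y) z f) h1
    simp only [polar_add_left, polar_smul_left', hef.xy, polar_comm (QW Q x y) u.1.1 f, (mem_pairPerp.1 u.1.2).2,
      polar_comm (QW Q x y) w.1.1 f, (mem_pairPerp.1 w.1.2).2, zero_add, mul_one] at h2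
    subst h2
    exact Prod.ext rfl (Subtype.ext (Subtype.ext (add_right_cancel h1)))
  have hcardx : Nat.card (rootSet H x) = q ^ 4 := by
    have h1 := card_rootSet_mul H h hn
    rw [hX, ← hqdef, show q ^ 7 = q ^ 4 * q ^ 3 by ring] at h1
    exact Nat.eq_of_mul_eq_mul_right (pow_pos (by omega) _) h1
  obtain ⟨g₀, hg₀, hg₀e⟩ := siegel_trans_singular hQ (by omega) he'0 h.x_ne he'q h.qx
  have hne : ∀ k ∈ H, ∀ a : F, k.1 e'.1 ≠ a • x := by
    intro k hk a hka
    have ha : a ≠ 0 := fun h0 => sg_ne_zero k he'0 (by rw [hka, h0, zero_smul])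
    rw [← card_rootSet_map hk, hka, card_rootSet_smul H h.qx ha, hcardx] at hbig
    exact lt_irrefl _ hbig
  have htwo := index_ge_two H h (e := e'.1) (g₀ := ⟨g₀, hg₀⟩) hg₀e hne
  set K := cj H (⟨g₀, hg₀⟩ : SG Q) with hKdef
  have hKidx : K.index * (q - 1) < sing Q := by rw [hKdef, map_conj_index']; exact hH
  have hKtop : liftL K h = ⊤ := by
    by_contra hne'
    have h1 := hB x y h _ hne'
    have h2 : q ^ 4 - 1 ≤ (wSet K x y).index * (liftM K h).index * (q - 1) := by
      refine h1.trans (Nat.mul_le_mul_right _ ((liftL_index_le K h).trans (Nat.le_mul_of_pos_left _ ?_)))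
      exact Nat.pos_of_ne_zero AddSubgroup.index_ne_zero_of_finite
    have h3 : q ^ 3 * (q ^ 4 - 1) ≤ q ^ 3 * s * (q - 1) := by
      rw [mul_assoc]; exact Nat.mul_le_mul_left _ (hl.trans (Nat.mul_le_mul_right _ hls))
    have h4 := Nat.mul_le_mul_right (q - 1) htwo
    rw [hX, Nat.add_mul] at h4
    rw [hS, Nat.add_mul, one_mul] at hH
    change q ^ 3 * s * (q - 1) + _ ≤ _ at h4
    omega
  have hKW : wSet K x y = ⊤ := (rootSet_cases hQ hn hq hB K h hS hS2 hKidx).1 hKtop
  have hKQ : ∀ u, polar Q x u = 0 → es Q x u ∈ K := by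
    intro u hu
    have h1 : (⟨prW Q x y u, prW_mem h u⟩ : pairPerp Q x y) ∈ wSet K x y := hKW ▸ AddSubgroup.mem_top _
    have h2 := (rootSet K x).add_mem (mem_wSet.1 h1) (line_mem_rootSet K h.qx (polar Q u y))
    have h0 := decompW (Q := Q) (x := x) (y := y) u
    rw [polar_comm Q u x, hu, zero_smul, add_zero] at h0
    exact (h0 ▸ h2 : u ∈ rootSet K x).2
  have hKL : ∀ a : SG (QW Q x y), ext h a ∈ K := by
    intro a
    obtain ⟨v, hv, hmem⟩ := mem_liftL.1 (hKtop ▸ Subgroup.mem_top a)
    simpa using K.mul_mem (K.inv_mem (hKQ v (mem_pairPerp.1 hv).1)) hmem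
  -- the point with the small root set
  set z : V := g₀ x with hz
  have hqz : Q z = 0 := by rw [hz]; exact (mem_orth.1 (siegelGroup_le_orth hg₀) x).trans h.qx
  have hcz : Nat.card (rootSet K z) = q ^ 4 := by
    rw [hKdef, show z = (⟨g₀, hg₀⟩ : SG Q).1 x from rfl, card_rootSet_cj, hcardx]
  have hbigW : ∀ w ∈ pairPerp Q x y, w ≠ 0 → Q w = 0 → q ^ 5 ≤ Nat.card (rootSet K w) := by
    intro w hw hw0 hqw
    let w' : pairPerp Q x y := ⟨w, hw⟩
    obtain ⟨w'', hp⟩ := exists_isPair hWQ (x := w') (fun h0 => hw0 (congrArg Subtype.val h0)) hqw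
    have h4 : Module.finrank F (pairPerp (QW Q x y) w' w'') = 4 := by have := finrank_W hp; omega
    calc q ^ 5 = Nat.card (F × pairPerp (QW Q x y) w' w'') := by
          rw [Nat.card_prod, Module.natCard_eq_pow_finrank (K := F) (V := pairPerp (QW Q x y) w' w''), h4,
            ← pow_succ']
      _ ≤ _ := ?_
    have hmem : ∀ p : F × pairPerp (QW Q x y) w' w'', p.2.1.1 + p.1 • w ∈ rootSet K w := by
      intro p
      refine (rootSet K w).add_mem ⟨(mem_pairPerp.1 p.2.2).1, ?_⟩ (line_mem_rootSet K hqw _)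
      have h1 := hKL (es (QW Q x y) w' p.2.1)
      rwa [ext_es h (e := w') (w := p.2.1) hqw (mem_pairPerp.1 p.2.2).1] at h1
    refine Nat.card_le_card_of_injective (fun p => (⟨_, hmem p⟩ : rootSet K w)) ?_
    rintro ⟨a, u⟩ ⟨b, v⟩ hab
    have h1 : u.1 + a • w' = v.1 + b • w' := Subtype.ext (congrArg Subtype.val hab :)
    have h2 := congrArg (fun z => polar (QW Q x y) z w'') h1
    simp only [polar_add_left, polar_smul_left', hp.xy, polar_comm (QW Q x y) u.1 w'', (mem_pairPerp.1 u.2).2,
      polar_comm (QW Q x y) v.1 w'', (mem_pairPerp.1 v.2).2, zero_add, mul_one] at h2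
    subst h2
    exact Prod.ext rfl (Subtype.ext (add_right_cancel h1))
  have hzx : ¬ ∃ a : F, z = a • x := by
    rintro ⟨a, ha⟩
    have ha0 : a ≠ 0 := fun h0 => sg_ne_zero (⟨g₀, hg₀⟩ : SG Q) h.x_ne (by show z = 0; rw [ha, h0, zero_smul])
    have h1 := card_rootSet_mul K h hn
    rw [hKW, AddSubgroup.index_top, mul_one, ← card_rootSet_smul K h.qx ha0, ← ha, hcz] at h1
    exact absurd h1 (Nat.pow_lt_pow_right (show 1 < q by omega) (by norm_num : (4 : ℕ) < 7)).ne
  have hzdec := decompW (Q := Q) (x := x) (y := y) z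
  set w := prW Q x y z
  have hwW : w ∈ pairPerp Q x y := prW_mem h _
  obtain ⟨hw1, hw2⟩ := mem_pairPerp.1 hwW
  rcases eq_or_ne (polar Q z x) 0 with hb | hb
  · rw [hb, zero_smul, add_zero] at hzdec
    have hwne : w ≠ 0 := fun h0 => hzx ⟨polar Q z y, by rw [h0, zero_add] at hzdec; exact hzdec.symm⟩
    have hqw : Q w = 0 := by
      rw [← hzdec] at hqz
      simpa [map_add', map_smul', h.qx, polar_smul_right', polar_comm Q w x, hw1] using hqz
    obtain ⟨u, -, hu⟩ := exists_polar hWQ ⊥ (x := (⟨w, hwW⟩ : pairPerp Q x y))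
      (by simp only [Submodule.mem_bot]; exact fun h0 => hwne (congrArg Subtype.val h0)) (polar Q z y)
    have hu' : polar Q w u.1 = polar Q z y := by rw [polar_comm]; exact hu
    have e : (es Q x u.1).1 z = w := by
      rw [es_apply h.qx (mem_pairPerp.1 u.2).1, hb, ← hzdec]
      simp only [polar_add_left, polar_smul_left', hu', (mem_pairPerp.1 u.2).1]
      module
    have h1 := card_rootSet_map (hKQ u.1 (mem_pairPerp.1 u.2).1) z
    rw [e, hcz] at h1
    have h2 := hbigW w hwW hwne hqw
    rw [h1] at h2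
    have h3 : q ^ 4 < q ^ 5 := Nat.pow_lt_pow_right (by omega) (by norm_num)
    omega
  · set α := polar Q z x
    set β := polar Q z y
    have hqz' : Q w + β * α = 0 := by
      rw [← hzdec] at hqz
      simpa [map_add', map_smul', h.qx, h.qy, polar_add_left, polar_smul_left', polar_smul_right', polar_comm Q w x,
        polar_comm Q w y, hw1, hw2, h.xy, mul_comm, mul_assoc, mul_left_comm] using hqz
    have hu : α⁻¹ • w ∈ pairPerp Q x y := Submodule.smul_mem _ _ hwW
    obtain ⟨hu1, hu2⟩ := mem_pairPerp.1 hu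
    have e : (es Q x (α⁻¹ • w)).1 (α • y) = z := by
      rw [map_smul, es_apply h.qx hu1, h.yx, hu2, map_smul', ← hzdec]
      have hβ : β = -(α⁻¹ * Q w) := by
        field_simp
        linear_combination hqz'
      rw [hβ]
      match_scalars <;> field_simp
      all_goals ring
    have hy4 : Nat.card (rootSet K y) = q ^ 4 := by
      rw [← card_rootSet_smul K h.qy hb, ← card_rootSet_map (hKQ _ hu1), e, hcz]
    have hinv : ∀ a : SG (QW Q x y), ∀ u ∈ wSet K y x, (⟨(ext h a).1 u.1, Mstab_W h.symm (g := ext h a)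
        ⟨⟨1, by rw [one_smul, ext_y]⟩, ⟨1, by rw [one_smul, ext_x]⟩⟩ u.2⟩ : pairPerp Q y x) ∈ wSet K y x := by
      intro a u hu'
      have h1 := rootSet_map (hKL a) (mem_wSet.1 hu')
      rw [ext_y] at h1
      exact h1
    have hswap : ∀ v : V, v ∈ pairPerp Q x y ↔ v ∈ pairPerp Q y x := fun v => by
      rw [mem_pairPerp, mem_pairPerp, and_comm]
    let A : AddSubgroup (pairPerp Q x y) := (rootSet K y).comap (pairPerp Q x y).subtype.toAddMonoidHom
    have hA : A = ⊥ ∨ A = ⊤ := invariant_cases hWQ (by omega) A fun a u hu' => by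
      have := hinv a ⟨u.1, (hswap _).1 u.2⟩ hu'
      show (a.1 u).1 ∈ rootSet K y
      rw [← ext_W h a u]
      exact this
    have hcard : Nat.card (rootSet K y) = q * Nat.card A := by
      rw [card_rootSet K h.symm]
      congr 1
      exact Nat.card_congr
        { toFun := fun v => ⟨⟨v.1.1, (hswap _).2 v.1.2⟩, v.2⟩
          invFun := fun v => ⟨⟨v.1.1, (hswap _).1 v.1.2⟩, v.2⟩
          left_inv := fun _ => rfl
          right_inv := fun _ => rfl }
    rw [hy4] at hcard
    rcases hA with hA | hA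
    · rw [hA, AddSubgroup.card_bot, mul_one] at hcard
      have h3 : q ^ 1 < q ^ 4 := Nat.pow_lt_pow_right (by omega) (by norm_num)
      rw [pow_one] at h3
      omega
    · rw [hA, AddSubgroup.card_top, Module.natCard_eq_pow_finrank (K := F) (V := pairPerp Q x y), hW6,
        ← pow_succ'] at hcard
      have h3 : q ^ 4 < q ^ (6 + 1) := Nat.pow_lt_pow_right (by omega) (by norm_num)
      exact h3.ne hcard

/-- In dimension eight every root set has index at most `q ^ 2`. -/
theorem rootSet_ge_eight (hQ : (polarBilin Q).Nondegenerate) (hn : Module.finrank F V = 8) (hq : 4 ≤ Nat.card F)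
    (hB : Base6 Q) (H : Subgroup (SG Q)) (h : IsPair Q x y)
    (hS : sing Q = (Nat.card F ^ 3 + 1) * (Nat.card F ^ 4 - 1))
    (hS2 : sing Q < 2 * (Nat.card F - 1) * Nat.card F ^ (Module.finrank F V - 2))
    (hH : H.index * (Nat.card F - 1) < sing Q) : Nat.card F ^ 5 ≤ Nat.card (rootSet H x) := by
  classical
  haveI : Finite V := Module.finite_of_finite F
  haveI : Finite (SG (QW Q x y)) := finite_sg
  set q := Nat.card F with hqdef
  have hcard := card_rootSet_mul H h hn
  obtain ⟨hfirst, hX | hX⟩ := rootSet_cases hQ hn hq hB H h hS hS2 hH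
  · refine Nat.le_of_mul_le_mul_right (c := q * q) ?_ (Nat.mul_pos (by omega) (by omega))
    calc q ^ 5 * (q * q) = q ^ 7 := by ring
      _ = Nat.card (rootSet H x) * (wSet H x y).index := hcard.symm
      _ ≤ _ := Nat.mul_le_mul_left _ hX
  exfalso
  rw [← hqdef] at hX
  have hWQ := nondeg_QW h hQ
  have hW6 : Module.finrank F (pairPerp Q x y) = 6 := by have := finrank_W h; omega
  have hXne : wSet H x y ≠ ⊤ := fun htop => by
    rw [htop, AddSubgroup.index_top] at hX
    have := Nat.one_lt_pow (show (3 : ℕ) ≠ 0 by norm_num) (show 1 < q by omega)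
    omega
  have hLne : liftL H h ≠ ⊤ := fun htop => hXne (hfirst htop)
  have hl : q ^ 4 - 1 ≤ (liftL H h).index * (q - 1) := hB x y h _ hLne
  -- pure torus elements
  have htorus : ∀ d : F, d ≠ 0 → IsSquare d → ∃ t : Mstab Q x y, t ∈ liftM H h ∧ t.1.1 x = d • x ∧
      t.1.1 y = d⁻¹ • y ∧ ∀ w ∈ pairPerp Q x y, t.1.1 w = w := by
    intro d hd hsq
    obtain ⟨t, htx, hty, htW⟩ := exists_torus hQ (by omega) h hd hsq
    let tM : Mstab Q x y := ⟨t, ⟨_, htx⟩, ⟨_, hty⟩⟩
    have hcomm : ∀ a : SG (QW Q x y), extM h a * tM = tM * extM h a := fun a => by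
      refine Subtype.ext (sg_ext fun z => ?_)
      show (ext h a).1 (t.1 z) = t.1 ((ext h a).1 z)
      rw [← decompW (Q := Q) (x := x) (y := y) z]
      simp only [map_add, map_smul, htW _ (prW_mem h z), htx, hty, ext_x, ext_y,
        htW _ (Mstab_W h (ext_mem_Mstab h a) (prW_mem h z))]
    obtain ⟨l₀, hl₀⟩ : ∃ l₀, extM h l₀ * tM ∈ liftM H h := by
      by_contra hcon
      push Not at hcon
      let F₁ : (SG (QW Q x y) ⧸ liftL H h) ⊕ (SG (QW Q x y) ⧸ liftL H h) → Mstab Q x y ⧸ liftM H h :=
        Sum.elim (fun c => QuotientGroup.mk (extM h c.out)) (fun c => QuotientGroup.mk (tM * extM h c.out))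
      have hF₁ : Function.Injective F₁ := by
        refine Function.Injective.sumElim (fun a b hab => ?_) (fun a b hab => ?_) fun a b hab => ?_
        · rw [QuotientGroup.eq, ← map_inv, ← map_mul] at hab
          rw [← QuotientGroup.out_eq' a, ← QuotientGroup.out_eq' b]
          exact QuotientGroup.eq.2 hab
        · rw [QuotientGroup.eq, mul_inv_rev, mul_assoc, inv_mul_cancel_left, ← map_inv, ← map_mul] at hab
          rw [← QuotientGroup.out_eq' a, ← QuotientGroup.out_eq' b]
          exact QuotientGroup.eq.2 hab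
        · rw [QuotientGroup.eq, ← hcomm, ← mul_assoc, ← map_inv, ← map_mul] at hab
          exact hcon _ hab
      haveI : Finite (SG Q) := finite_sg
      have h2 : 2 * (liftL H h).index ≤ (liftM H h).index := by
        rw [two_mul, Subgroup.index, Subgroup.index, ← Nat.card_sum]
        exact Nat.card_le_card_of_injective F₁ hF₁
      have h3 : q ^ 3 * (2 * (q ^ 4 - 1)) < (q ^ 3 + 1) * (q ^ 4 - 1) := by
        calc q ^ 3 * (2 * (q ^ 4 - 1)) ≤ q ^ 3 * (2 * ((liftL H h).index * (q - 1))) :=
              Nat.mul_le_mul_left _ (Nat.mul_le_mul_left _ hl)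
          _ = q ^ 3 * (2 * (liftL H h).index) * (q - 1) := by ring
          _ ≤ (wSet H x y).index * (liftM H h).index * (q - 1) :=
              Nat.mul_le_mul_right _ (by rw [hX]; exact Nat.mul_le_mul_left _ h2)
          _ ≤ H.index * (q - 1) := Nat.mul_le_mul_right _ (index_ge H h)
          _ < _ := hS ▸ hH
      rw [← mul_assoc] at h3
      have h4 := Nat.lt_of_mul_lt_mul_right h3
      have h5 : 1 ≤ q ^ 3 := Nat.one_le_pow _ _ (by omega)
      omega
    have hnorm : l₀ ∈ Subgroup.normalizer (liftL H h : Set (SG (QW Q x y))) := by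
      refine Subgroup.mem_normalizer_iff.2 fun a => ?_
      have e : extM h (l₀ * a * l₀⁻¹) = extM h l₀ * tM * extM h a * (extM h l₀ * tM)⁻¹ := by
        rw [map_mul, map_mul, map_inv, mul_inv_rev, mul_assoc (extM h l₀) tM (extM h a), ← hcomm a]
        group
      constructor
      · intro ha
        show extM h (l₀ * a * l₀⁻¹) ∈ liftM H h
        rw [e]
        exact (liftM H h).mul_mem ((liftM H h).mul_mem hl₀ ha) ((liftM H h).inv_mem hl₀)
      · intro ha
        show extM h a ∈ liftM H h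
        have h1 := (liftM H h).mul_mem ((liftM H h).mul_mem ((liftM H h).inv_mem hl₀)
          (show extM h (l₀ * a * l₀⁻¹) ∈ liftM H h from ha)) hl₀
        rw [e] at h1
        simpa [mul_assoc] using h1
    have hl₀L : l₀ ∈ liftL H h := by
      by_contra hne
      set N := liftL H h ⊔ Subgroup.zpowers l₀ with hN
      have hlt : liftL H h < N := lt_of_le_of_ne le_sup_left fun heq =>
        hne (heq.symm ▸ Subgroup.mem_sup_right (Subgroup.mem_zpowers l₀))
      have hNtop : N = ⊤ := by
        by_contra hNne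
        have h1 := hB x y h _ hNne
        have h2 := Subgroup.relIndex_mul_index hlt.le
        have h3 : 2 ≤ (liftL H h).relIndex N := by
          have ha : (liftL H h).relIndex N ≠ 1 := fun h0 => hlt.ne (le_antisymm hlt.le (Subgroup.relIndex_eq_one.1 h0))
          have hb : (liftL H h).relIndex N ≠ 0 := by
            intro h0; rw [h0, zero_mul] at h2
            exact Subgroup.index_ne_zero_of_finite h2.symm
          omega
        have h4 : q ^ 3 * (2 * (q ^ 4 - 1)) < (q ^ 3 + 1) * (q ^ 4 - 1) := by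
          calc q ^ 3 * (2 * (q ^ 4 - 1)) ≤ q ^ 3 * ((liftL H h).relIndex N * (N.index * (q - 1))) :=
                Nat.mul_le_mul_left _ (Nat.mul_le_mul h3 h1)
            _ = q ^ 3 * (liftL H h).index * (q - 1) := by rw [← h2]; ring
            _ ≤ (wSet H x y).index * (liftM H h).index * (q - 1) :=
                Nat.mul_le_mul_right _ (by rw [hX]; exact Nat.mul_le_mul_left _ (liftL_index_le H h))
            _ ≤ H.index * (q - 1) := Nat.mul_le_mul_right _ (index_ge H h)
            _ < _ := hS ▸ hH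
        rw [← mul_assoc] at h4
        have h5 := Nat.lt_of_mul_lt_mul_right h4
        have h6 : 1 ≤ q ^ 3 := Nat.one_le_pow _ _ (by omega)
        omega
      have hnormal : (liftL H h).Normal := by
        refine Subgroup.normalizer_eq_top_iff.1 (top_le_iff.1 (hNtop ▸ ?_))
        exact sup_le Subgroup.le_normalizer (Subgroup.zpowers_le.2 hnorm)
      haveI := hnormal
      haveI hcyc : IsCyclic (SG (QW Q x y) ⧸ liftL H h) := by
        refine ⟨⟨QuotientGroup.mk l₀, fun c => ?_⟩⟩
        induction c using QuotientGroup.induction_on with | _ a => ?_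
        have h1 : (⊤ : Subgroup (SG (QW Q x y))).map (QuotientGroup.mk' (liftL H h)) ≤
            Subgroup.zpowers (QuotientGroup.mk l₀) := by
          rw [← hNtop, hN, Subgroup.map_sup, MonoidHom.map_zpowers]
          refine sup_le ?_ le_rfl
          rintro _ ⟨b, hb, rfl⟩
          rw [show QuotientGroup.mk' (liftL H h) b = 1 from (QuotientGroup.eq_one_iff b).2 hb]
          exact one_mem _
        exact h1 ⟨a, trivial, rfl⟩
      refine hLne (eq_top_iff.2 ?_)
      rw [← sg_perfect hWQ (by omega)]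
      exact Subgroup.Normal.quotient_commutative_iff_commutator_le.1 ⟨⟨fun a b => IsCyclic.commGroup.mul_comm a b⟩⟩
    refine ⟨tM, ?_, htx, hty, htW⟩
    have := (liftM H h).mul_mem ((liftM H h).inv_mem (show extM h l₀ ∈ liftM H h from hl₀L)) hl₀
    rwa [inv_mul_cancel_left] at this
  have hscal : ∀ c : F, ∀ w ∈ wSet H x y, c • w ∈ wSet H x y := by
    let S : AddSubgroup F :=
      { carrier := {c | ∀ w ∈ wSet H x y, c • w ∈ wSet H x y}
        zero_mem' := fun w _ => by rw [zero_smul]; exact (wSet H x y).zero_mem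
        add_mem' := fun ha hb w hw => by rw [add_smul]; exact (wSet H x y).add_mem (ha w hw) (hb w hw)
        neg_mem' := fun ha w hw => by rw [neg_smul]; exact (wSet H x y).neg_mem (ha w hw) }
    have hsq : S = ⊤ := top_of_squares S fun c => by
      intro w hw
      rcases eq_or_ne c 0 with rfl | hc
      · rw [mul_zero, zero_smul]; exact (wSet H x y).zero_mem
      obtain ⟨t, ht, htx, -, htW⟩ := htorus (c * c) (mul_ne_zero hc hc) ⟨c, rfl⟩
      have h1 := wSet_conj h ht hw htx
      convert h1 using 1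
      refine Subtype.ext ?_
      show (c * c) • w.1 = (c * c) • t.1.1 w.1
      rw [htW _ w.2]
    exact fun c => (show c ∈ S from hsq ▸ AddSubgroup.mem_top c)
  obtain ⟨b, hb0, hb⟩ := exists_sq_ne_one hq
  obtain ⟨t, ht, htx, hty, htW⟩ := htorus (b ^ 2) (pow_ne_zero 2 hb0) ⟨b, _root_.sq b⟩
  obtain ⟨v, hv, hmem⟩ := ht
  set u := (b ^ 2 - 1)⁻¹ • v
  have hu : u ∈ pairPerp Q x y := Submodule.smul_mem _ _ hv
  have hu1 := (mem_pairPerp.1 hu).1
  have ht' : t.1 ∈ cj H (es Q x u) := by
    rw [mem_cj]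
    convert hmem using 1
    have e : t.1 * es Q x u * t.1⁻¹ = es Q x ((b ^ 2) • u) := by
      rw [Mstab_conj htx h.qx hu1 (pow_ne_zero 2 hb0), htW u hu]
    have e2 : (es Q x u)⁻¹ * es Q x ((b ^ 2) • u) = es Q x v := by
      rw [es_inv, es_mul x (by rw [polar_neg_right, hu1, neg_zero]) (by rw [polar_smul_right', hu1, mul_zero]),
        show -u + (b ^ 2) • u = (b ^ 2 - 1) • u by module, smul_inv_smul₀ (sub_ne_zero.2 hb)]
    rw [← e2, ← e]; group
  refine eight_core hQ hn hq hB (cj H (es Q x u)) h hS hS2 (by rw [map_conj_index']; exact hH)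
    (by rw [wSet_cj_es H h hu]; exact hX) (by rw [wSet_cj_es H h hu]; exact hscal) hb ht' htx hty htW

end CfsgLib.MinIdx.Orth
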