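import Mathlib

/-!
# A quadratic map has a non-trivial zero on a large additive subgroup
-/

set_option autoImplicit false

namespace CfsgLib.MinIdx

/-- The theorem of Chevalley and Warning for one quadratic form on an additive subgroup. -/
theorem exists_zero_of_card {F W : Type*} [Field F] [Finite F] [AddCommGroup W] [Module F W] [Finite W]
    (M : LinearMap.BilinForm F W) (A : AddSubgroup W) (hA : Nat.card F * Nat.card F < Nat.card A) :
    ∃ a ∈ A, a ≠ 0 ∧ M a a = 0 := by
  classical
  haveI := Fintype.ofFinite F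
  obtain ⟨p, hpchar⟩ := CharP.exists F
  haveI := hpchar
  obtain ⟨_, hp, -⟩ := FiniteField.card F p
  haveI : Fact p.Prime := ⟨hp⟩
  letI : Algebra (ZMod p) F := ZMod.algebra F p
  have hkill : ∀ a : A, p • a = 0 := fun a => Subtype.ext (by
    rw [AddSubgroup.coe_nsmul, ← Nat.cast_smul_eq_nsmul F, CharP.cast_eq_zero F p, zero_smul]
    rfl)
  letI : Module (ZMod p) A := AddCommGroup.zmodModule (n := p) (G := A) hkill
  have hsmul : ∀ (c : ZMod p) (a : A), ((c • a : A) : W) = (algebraMap (ZMod p) F c) • (a : W) := by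
    intro c a
    conv_lhs => rw [← ZMod.natCast_zmod_val c, Nat.cast_smul_eq_nsmul (ZMod p)]
    rw [AddSubgroup.coe_nsmul, ← Nat.cast_smul_eq_nsmul F]
    congr 1
    rw [← map_natCast (algebraMap (ZMod p) F), ZMod.natCast_zmod_val]
  haveI : Module.Finite (ZMod p) A := Module.Finite.of_finite
  let bA : Module.Basis (Fin (Module.finrank (ZMod p) A)) (ZMod p) A := Module.finBasis (ZMod p) A
  let bF : Module.Basis (Fin (Module.finrank (ZMod p) F)) (ZMod p) F := Module.finBasis (ZMod p) F
  set d := Module.finrank (ZMod p) A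
  set e := Module.finrank (ZMod p) F
  have hde : 2 * e < d := by
    have h1 := Module.natCard_eq_pow_finrank (K := ZMod p) (V := A)
    have h2 := Module.natCard_eq_pow_finrank (K := ZMod p) (V := F)
    rw [Nat.card_zmod] at h1 h2
    rw [h1, h2, ← pow_add, ← two_mul] at hA
    exact (Nat.pow_lt_pow_iff_right hp.one_lt).1 hA
  let f : Fin e → MvPolynomial (Fin d) (ZMod p) := fun k =>
    ∑ i, ∑ j, MvPolynomial.C (bF.repr (M (bA i : A) (bA j : A)) k) * MvPolynomial.X i * MvPolynomial.X j
  have hdeg : (∑ k, (f k).totalDegree) < Fintype.card (Fin d) := by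
    calc (∑ k, (f k).totalDegree) ≤ ∑ _k : Fin e, 2 := by
          refine Finset.sum_le_sum fun k _ => ?_
          refine (MvPolynomial.totalDegree_finsetSum _ _).trans (Finset.sup_le fun i _ => ?_)
          refine (MvPolynomial.totalDegree_finsetSum _ _).trans (Finset.sup_le fun j _ => ?_)
          refine (MvPolynomial.totalDegree_mul _ _).trans ?_
          refine (Nat.add_le_add (MvPolynomial.totalDegree_mul _ _) le_rfl).trans ?_
          simp [MvPolynomial.totalDegree_C, MvPolynomial.totalDegree_X]
      _ < _ := by simp; omega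
  have hdvd := char_dvd_card_solutions_of_fintype_sum_lt p (f := f) hdeg
  have hzero : ∀ k, MvPolynomial.eval (0 : Fin d → ZMod p) (f k) = 0 := fun k => by simp [f]
  have hcard : 1 < Fintype.card {x : Fin d → ZMod p // ∀ k, MvPolynomial.eval x (f k) = 0} := by
    haveI : Nonempty {x : Fin d → ZMod p // ∀ k, MvPolynomial.eval x (f k) = 0} := ⟨⟨0, hzero⟩⟩
    exact lt_of_lt_of_le hp.one_lt (Nat.le_of_dvd Fintype.card_pos (by convert hdvd))
  obtain ⟨⟨x, hx⟩, hne⟩ := Fintype.exists_ne_of_one_lt_card hcard ⟨0, hzero⟩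
  let a : A := ∑ i, x i • bA i
  refine ⟨a.1, a.2, fun h => hne (Subtype.ext ?_), ?_⟩
  · funext i
    have h' : a = 0 := Subtype.ext h
    have := Fintype.linearIndependent_iff.1 bA.linearIndependent x h' i
    simpa using this
  · have ha : (a : W) = ∑ i, (algebraMap (ZMod p) F (x i)) • (bA i : W) := by
      rw [show (a : W) = A.subtype (∑ i, x i • bA i) from rfl, map_sum]
      exact Finset.sum_congr rfl fun i _ => hsmul _ _
    have hM : M a a = ∑ i, ∑ j, (x i * x j) • M (bA i : W) (bA j : W) := by
      rw [ha]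
      simp only [map_sum, LinearMap.sum_apply, map_smul, LinearMap.smul_apply, smul_eq_mul, Finset.mul_sum,
        Algebra.smul_def, map_mul]
      rw [Finset.sum_comm]
      exact Finset.sum_congr rfl fun i _ => Finset.sum_congr rfl fun j _ => by ring
    rw [← bF.repr.map_eq_zero_iff]
    ext k
    have h1 := hx k
    simp only [f, map_sum, map_mul, MvPolynomial.eval_C, MvPolynomial.eval_X] at h1
    rw [hM]
    simp only [map_sum, map_smul, Finsupp.coe_finsetSum, Finset.sum_apply, Finsupp.smul_apply, smul_eq_mul,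
      Finsupp.coe_zero, Pi.zero_apply]
    rw [← h1]
    refine Finset.sum_congr rfl fun i _ => Finset.sum_congr rfl fun j _ => ?_
    ring

end CfsgLib.MinIdx
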