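import Cfsg.Agent.Lib.MinIdx.OrthLevi

/-!
# A point whose root set is trivial forces a large index
-/

set_option autoImplicit false

namespace CfsgLib.MinIdx.Orth

open QuadraticMap CfsgLib.Geometry

variable {F V : Type*} [Field F] [AddCommGroup V] [Module F V] [FiniteDimensional F V] [Finite F]
  {Q : QuadraticForm F V} {x y : V}

/-- The number of non-zero singular vectors. -/
noncomputable def sing (Q : QuadraticForm F V) : ℕ := Nat.card {v : V // v ≠ 0 ∧ Q v = 0}

/-- A subgroup fixing a singular line has index at least the number of lines. -/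
theorem sing_le_of_line (hQ : (polarBilin Q).Nondegenerate) (hn : 4 ≤ Module.finrank F V) (H : Subgroup (SG Q))
    {z : V} (hz0 : z ≠ 0) (hz : Q z = 0) (hfix : ∀ k ∈ H, ∃ c : F, k.1 z = c • z) :
    sing Q ≤ H.index * (Nat.card F - 1) := by
  haveI : Finite V := Module.finite_of_finite F
  haveI : Finite (SG Q) := finite_sg
  let f : SG Q → Submodule F V := fun g => Submodule.span F {g.1 z}
  have hf : ∀ g, ∀ k ∈ H, f (g * k) = f g := by
    intro g k hk
    obtain ⟨c, hc⟩ := hfix k hk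
    have hc0 : c ≠ 0 := fun h0 => sg_ne_zero k hz0 (by rw [hc, h0, zero_smul])
    show Submodule.span F {(g * k).1 z} = _
    rw [sg_mul, hc, map_smul, Submodule.span_singleton_smul_eq (IsUnit.mk0 c hc0)]
  haveI : Finite (Submodule F V) := Finite.of_injective _ SetLike.coe_injective
  have h1 := card_range_le_index H f hf
  have h2 := double_count (X := Set.range f) (Y := {v : V // v ≠ 0 ∧ Q v = 0}) (fun l v => v.1 ∈ l.1)
    (Nat.card F - 1) 1 (fun l => by
      obtain ⟨_, g, rfl⟩ := l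
      rw [← Nat.card_units]
      refine Nat.card_le_card_of_injective (fun v => Units.mk0 (Submodule.mem_span_singleton.1 v.2).choose
        (fun h0 => v.1.2.1 (by rw [← (Submodule.mem_span_singleton.1 v.2).choose_spec, h0, zero_smul]))) ?_
      intro a b hab
      have hab' := congrArg (fun u : Fˣ => (u : F)) hab
      simp only [Units.val_mk0] at hab'
      refine Subtype.ext (Subtype.ext ?_)
      rw [← (Submodule.mem_span_singleton.1 a.2).choose_spec, ← (Submodule.mem_span_singleton.1 b.2).choose_spec,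
        hab'])
    (fun v => by
      obtain ⟨s, hs, hsv⟩ := siegel_trans_singular hQ hn hz0 v.2.1 hz v.2.2
      haveI : Nonempty {l : Set.range f // v.1 ∈ l.1} :=
        ⟨⟨⟨f ⟨s, hs⟩, ⟨s, hs⟩, rfl⟩, by rw [← hsv]; exact Submodule.mem_span_singleton_self _⟩⟩
      exact Nat.card_pos)
  rw [mul_one] at h2
  exact h2.trans (Nat.mul_le_mul_right _ h1)

theorem exists_sq_ne_one (hq : 4 ≤ Nat.card F) : ∃ b : F, b ≠ 0 ∧ b ^ 2 ≠ 1 := by
  classical
  haveI := Fintype.ofFinite F
  obtain ⟨b, -, hb⟩ := Finset.exists_mem_notMem_of_card_lt_card (s := ({0, 1, -1} : Finset F)) (t := Finset.univ)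
    (by rw [Finset.card_univ, ← Nat.card_eq_fintype_card]; exact lt_of_le_of_lt Finset.card_le_three (by omega))
  simp only [Finset.mem_insert, Finset.mem_singleton, not_or] at hb
  exact ⟨b, hb.1, fun h => (sq_eq_one_iff.1 h).elim hb.2.1 hb.2.2⟩

/-- Pairs in a hyperbolic plane. -/
theorem card_pairs_plane (h : IsPair Q x y) :
    Nat.card {p : V × V // IsPair Q p.1 p.2 ∧ p.1 ∈ Submodule.span F {x, y} ∧ p.2 ∈ Submodule.span F {x, y}} ≤
      2 * (Nat.card F - 1) := by
  classical
  haveI : Finite V := Module.finite_of_finite F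
  have key : ∀ p : {p : V × V // IsPair Q p.1 p.2 ∧ p.1 ∈ Submodule.span F {x, y} ∧ p.2 ∈ Submodule.span F {x, y}},
      ∃ u : Bool × Fˣ, p.1 = if u.1 then ((u.2 : F) • x, ((u.2⁻¹ : Fˣ) : F) • y) else ((u.2 : F) • y, ((u.2⁻¹ : Fˣ) : F) • x) := by
    rintro ⟨⟨a, b⟩, hp, ha, hb⟩
    obtain ⟨α, β, rfl⟩ := Submodule.mem_span_pair.1 ha
    obtain ⟨γ, δ, rfl⟩ := Submodule.mem_span_pair.1 hb
    have h1 : α * β = 0 := by
      have := hp.qx
      simpa [map_add', map_smul', h.qx, h.qy, polar_smul_left', polar_smul_right', h.xy, mul_comm] using this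
    have h2 : γ * δ = 0 := by
      have := hp.qy
      simpa [map_add', map_smul', h.qx, h.qy, polar_smul_left', polar_smul_right', h.xy, mul_comm] using this
    have h3 : α * δ + β * γ = 1 := by
      have := hp.xy
      simp only [polar_add_left, polar_add_right, polar_smul_left', polar_smul_right', h.xx, h.yy, h.xy, h.yx] at this
      linear_combination this
    rcases mul_eq_zero.1 h1 with ha0 | hb0
    · have hβγ : β * γ = 1 := by rw [ha0] at h3; linear_combination h3
      have hβ : β ≠ 0 := left_ne_zero_of_mul_eq_one hβγ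
      have hδ : δ = 0 := (mul_eq_zero.1 h2).resolve_left (right_ne_zero_of_mul_eq_one hβγ)
      refine ⟨(false, Units.mk0 β hβ), ?_⟩
      simp [ha0, hδ, eq_inv_of_mul_eq_one_right hβγ]
    · have hαδ : α * δ = 1 := by rw [hb0] at h3; linear_combination h3
      have hα : α ≠ 0 := left_ne_zero_of_mul_eq_one hαδ
      have hγ : γ = 0 := (mul_eq_zero.1 h2).resolve_right (right_ne_zero_of_mul_eq_one hαδ)
      refine ⟨(true, Units.mk0 α hα), ?_⟩
      simp [hb0, hγ, eq_inv_of_mul_eq_one_right hαδ]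
  choose u hu using key
  calc _ ≤ Nat.card (Bool × Fˣ) := Nat.card_le_card_of_injective u fun a b hab => Subtype.ext (by rw [hu a, hu b, hab])
    _ = _ := by rw [Nat.card_prod, Nat.card_units]; simp

/-- There are many hyperbolic pairs. -/
theorem card_pairs_ge (h : IsPair Q x y) :
    Nat.card (pairPerp Q x y) * Nat.card (pairPerp Q x y) ≤ Nat.card {p : V × V // IsPair Q p.1 p.2} := by
  haveI : Finite V := Module.finite_of_finite F
  rw [← Nat.card_prod]
  have ey : ∀ u : pairPerp Q x y, (es Q y u.1).1 x = x + u.1 - Q u.1 • y := fun u => by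
    rw [es_apply h.qy (mem_pairPerp.1 u.2).2, h.xy, (mem_pairPerp.1 u.2).1]; simp
  have ex : ∀ w : pairPerp Q x y, (es Q x w.1).1 y = y + w.1 - Q w.1 • x := fun w => by
    rw [es_apply h.qx (mem_pairPerp.1 w.2).1, h.yx, (mem_pairPerp.1 w.2).2]; simp
  have exx : ∀ w : pairPerp Q x y, (es Q x w.1).1 x = x := fun w => by
    rw [es_apply h.qx (mem_pairPerp.1 w.2).1, h.xx, (mem_pairPerp.1 w.2).1]; simp
  refine Nat.card_le_card_of_injective
    (fun p : pairPerp Q x y × pairPerp Q x y => (⟨((es Q y p.1.1).1 x, (es Q y p.1.1).1 ((es Q x p.2.1).1 y)), by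
      have := (h.map (es Q x p.2.1)).map (es Q y p.1.1)
      rwa [exx] at this⟩ : {p : V × V // IsPair Q p.1 p.2})) ?_
  rintro ⟨u, w⟩ ⟨u', w'⟩ hab
  obtain ⟨h1, h2⟩ := Prod.mk.inj (congrArg Subtype.val hab)
  dsimp only at h1 h2
  have hp : ∀ (v : pairPerp Q x y) (c : F) (z : V), (z = x ∨ z = y) → prW Q x y (z + v.1 - c • y) = v.1 ∧
      prW Q x y (z + v.1 - c • x) = v.1 := by
    intro v c z hz
    have hx : prW Q x y x = 0 := by rw [prW_apply, h.xy, h.xx]; simp
    have hy : prW Q x y y = 0 := by rw [prW_apply, h.yx, h.yy]; simp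
    rcases hz with rfl | rfl <;> simp [map_sub, map_add, map_smul, hx, hy, prW_of_mem v.2]
  have hu : u = u' := by
    refine Subtype.ext ?_
    have h1' := congrArg (prW Q x y) h1
    rwa [ey, ey, (hp u _ x (Or.inl rfl)).1, (hp u' _ x (Or.inl rfl)).1] at h1'
  subst hu
  have h2' := congrArg (prW Q x y) ((es Q y u.1).1.injective h2)
  rw [ex, ex, (hp w _ y (Or.inr rfl)).2, (hp w' _ y (Or.inr rfl)).2] at h2'
  exact Prod.ext rfl (Subtype.ext h2')

/-- The stabiliser of a point of the plane of two points has large index. -/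
theorem plane_contra (hQ : (polarBilin Q).Nondegenerate) (hn : 7 ≤ Module.finrank F V) (hq : 4 ≤ Nat.card F)
    (H : Subgroup (SG Q)) (h : IsPair Q x y) {z z' : V} (hz : z ∈ pairPerp Q x y) (hz' : z' ∈ pairPerp Q x y)
    (hp : IsPair Q z z') (hexact : ∀ v, v ∈ rootSet H z ↔ polar Q z v = 0 ∧ prW Q x y v = v)
    (hS : sing Q < 2 * (Nat.card F - 1) * Nat.card F ^ (Module.finrank F V - 2)) :
    sing Q ≤ H.index * (Nat.card F - 1) := by
  haveI : Finite V := Module.finite_of_finite F
  set q := Nat.card F with hqdef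
  obtain ⟨hz1, hz2⟩ := mem_pairPerp.1 hz
  obtain ⟨hz'1, hz'2⟩ := mem_pairPerp.1 hz'
  let x₁ : pairPerp Q z z' := ⟨x, mem_pairPerp.2 ⟨by rw [polar_comm, hz1], by rw [polar_comm, hz'1]⟩⟩
  let y₁ : pairPerp Q z z' := ⟨y, mem_pairPerp.2 ⟨by rw [polar_comm, hz2], by rw [polar_comm, hz'2]⟩⟩
  have h₁ : IsPair (QW Q z z') x₁ y₁ := ⟨h.qx, h.qy, h.xy⟩
  have hW : ∀ w : pairPerp Q z z', w ∈ wSet H z z' ↔ w ∈ pairPerp (QW Q z z') x₁ y₁ := by
    intro w
    rw [mem_wSet, hexact, mem_pairPerp, and_iff_right (mem_pairPerp.1 w.2).1]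
    constructor
    · intro hw
      have := mem_pairPerp.1 (hw ▸ prW_mem h w.1)
      exact this
    · intro hw
      exact prW_of_mem (mem_pairPerp.2 hw)
  have hcardW : Nat.card (wSet H z z') = Nat.card (pairPerp (QW Q z z') x₁ y₁) :=
    Nat.card_congr (Equiv.subtypeEquivRight hW)
  have hidx : (wSet H z z').index = q * q := by
    have h2 := (wSet H z z').index_mul_card
    rw [hcardW, card_split h₁, ← mul_assoc] at h2
    exact Nat.eq_of_mul_eq_mul_right Nat.card_pos h2
  -- the plane is invariant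
  have hinv : ∀ g ∈ liftL H hp, ∀ u ∈ Submodule.span F ({x₁, y₁} : Set (pairPerp Q z z')),
      g.1 u ∈ Submodule.span F ({x₁, y₁} : Set (pairPerp Q z z')) := by
    intro g hg u hu
    have hperp : ∀ w ∈ pairPerp (QW Q z z') x₁ y₁, polar (QW Q z z') u w = 0 := by
      intro w hw
      obtain ⟨a, b, rfl⟩ := Submodule.mem_span_pair.1 hu
      rw [polar_add_left, polar_smul_left', polar_smul_left', (mem_pairPerp.1 hw).1, (mem_pairPerp.1 hw).2]
      ring
    have hz0 : prW (QW Q z z') x₁ y₁ (g.1 u) = 0 := by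
      refine (nondeg_QW h₁ (nondeg_QW hp hQ)).1 ⟨_, prW_mem h₁ _⟩ (fun w => ?_) |> congrArg Subtype.val
      show polar (QW Q z z') (prW (QW Q z z') x₁ y₁ (g.1 u)) w.1 = 0
      rw [polar_prW _ w.2]
      have hmem : g⁻¹.1 w.1 ∈ pairPerp (QW Q z z') x₁ y₁ :=
        (hW _).1 (wSet_invariant hp ((liftL H hp).inv_mem hg) ((hW _).2 w.2))
      rw [← sg_inv' g w.1, sg_polar]
      exact hperp _ hmem
    rw [← decompW (Q := QW Q z z') (x := x₁) (y := y₁) (g.1 u), hz0, zero_add]
    exact add_mem (Submodule.smul_mem _ _ (Submodule.subset_span (by simp)))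
      (Submodule.smul_mem _ _ (Submodule.subset_span (by simp)))
  let f : SG (QW Q z z') → Submodule F (pairPerp Q z z') := fun g => Submodule.span F {g.1 x₁, g.1 y₁}
  have hf : ∀ g, ∀ k ∈ liftL H hp, f (g * k) = f g := by
    have hle : ∀ g, ∀ k ∈ liftL H hp, f (g * k) ≤ f g := by
      intro g k hk
      refine Submodule.span_le.2 ?_
      have hmap : ∀ u ∈ ({x₁, y₁} : Set (pairPerp Q z z')), (g * k).1 u ∈ f g := by
        intro u hu
        obtain ⟨a, b, hab⟩ := Submodule.mem_span_pair.1 (hinv k hk u (Submodule.subset_span hu))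
        rw [sg_mul, ← hab, map_add, map_smul, map_smul]
        exact add_mem (Submodule.smul_mem _ _ (Submodule.subset_span (by simp)))
          (Submodule.smul_mem _ _ (Submodule.subset_span (by simp)))
      rintro _ (rfl | rfl)
      · exact hmap _ (by simp)
      · exact hmap _ (by simp)
    intro g k hk
    refine le_antisymm (hle g k hk) ?_
    have := hle (g * k) k⁻¹ ((liftL H hp).inv_mem hk)
    rwa [mul_inv_cancel_right] at this
  haveI : Finite (SG (QW Q z z')) := finite_sg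
  haveI : Finite (Submodule F (pairPerp Q z z')) := Finite.of_injective _ SetLike.coe_injective
  have h1 := card_range_le_index (liftL H hp) f hf
  have hn' : 4 ≤ Module.finrank F (pairPerp Q z z') := by have := finrank_W hp; omega
  have h2 := double_count (X := Set.range f)
    (Y := {p : pairPerp Q z z' × pairPerp Q z z' // IsPair (QW Q z z') p.1 p.2})
    (fun l p => p.1.1 ∈ l.1 ∧ p.1.2 ∈ l.1) (2 * (q - 1)) 1 (fun l => by
      obtain ⟨_, g, rfl⟩ := l
      refine le_trans ?_ (card_pairs_plane (h₁.map g))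
      exact Nat.card_le_card_of_injective (fun p => ⟨p.1.1, p.1.2, p.2⟩) fun a b hab =>
        Subtype.ext (Subtype.ext (congrArg Subtype.val hab :)))
    (fun p => by
      obtain ⟨s, hs, e1, e2⟩ := siegel_trans_pair (nondeg_QW hp hQ) hn' h₁.qx h₁.qy p.2.qx p.2.qy h₁.xy p.2.xy
      haveI : Nonempty {l : Set.range f // p.1.1 ∈ l.1 ∧ p.1.2 ∈ l.1} :=
        ⟨⟨⟨f ⟨s, hs⟩, ⟨s, hs⟩, rfl⟩, by
          exact ⟨Submodule.subset_span (by simp [e1]), Submodule.subset_span (by simp [e2])⟩⟩⟩
      exact Nat.card_pos)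
  rw [mul_one] at h2
  have h3 := (card_pairs_ge h₁).trans (h2.trans (Nat.mul_le_mul_right _ (h1.trans (liftL_index_le H hp))))
  have h4 := index_ge H hp
  rw [hidx] at h4
  set K := Nat.card (pairPerp (QW Q z z') x₁ y₁) with hK
  have hd : Module.finrank F (pairPerp (QW Q z z') x₁ y₁) + 4 = Module.finrank F V := by
    have := finrank_W hp
    have := finrank_W h₁
    omega
  have hKe : K = q ^ Module.finrank F (pairPerp (QW Q z z') x₁ y₁) := Module.natCard_eq_pow_finrank
  have hSK : sing Q < 2 * (q - 1) * (q * q * K) := by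
    refine hS.trans_eq ?_
    rw [hKe, show Module.finrank F V - 2 = Module.finrank F (pairPerp (QW Q z z') x₁ y₁) + 2 by omega, pow_add]
    ring
  have hK4 : 4 * (q - 1) ≤ K := by
    rw [hKe]
    calc 4 * (q - 1) ≤ q * q := Nat.mul_le_mul hq (Nat.sub_le _ _)
      _ = q ^ 2 := by ring
      _ ≤ _ := Nat.pow_le_pow_right (by omega) (by omega)
  have h5 : 2 * (2 * (q - 1) * (q * q * K)) ≤ 2 * ((q - 1) * H.index) := by
    calc 2 * (2 * (q - 1) * (q * q * K)) = q * q * ((4 * (q - 1)) * K) := by ring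
      _ ≤ q * q * (K * K) := Nat.mul_le_mul_left _ (Nat.mul_le_mul_right _ hK4)
      _ ≤ q * q * ((liftM H hp).index * (2 * (q - 1))) := Nat.mul_le_mul_left _ h3
      _ = 2 * ((q - 1) * (q * q * (liftM H hp).index)) := by ring
      _ ≤ _ := Nat.mul_le_mul_left _ (Nat.mul_le_mul_left _ h4)
  rw [mul_comm (q - 1) H.index] at h5
  omega

/-- The case where the torus already lies in the subgroup. -/
theorem zero_core (hQ : (polarBilin Q).Nondegenerate) (hn : 7 ≤ Module.finrank F V) (hq : 4 ≤ Nat.card F)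
    (H : Subgroup (SG Q)) (h : IsPair Q x y) (hw : wSet H x y = ⊥) (htop : liftM H h = ⊤)
    {t : SG Q} {d : F} (hd1 : d ≠ 1) (ht : t ∈ H) (htx : t.1 x = d • x) (hty : t.1 y = d⁻¹ • y)
    (htW : ∀ w ∈ pairPerp Q x y, t.1 w = w)
    (hS : sing Q < 2 * (Nat.card F - 1) * Nat.card F ^ (Module.finrank F V - 2)) :
    sing Q ≤ H.index * (Nat.card F - 1) := by
  haveI : Finite V := Module.finite_of_finite F
  have hWQ := nondeg_QW h hQ
  have hW5 : 5 ≤ Module.finrank F (pairPerp Q x y) := by have := finrank_W h; omega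
  have hd0 : d ≠ 0 := scale_ne h htx
  -- no non-zero vector of the complement in the root set
  have hnone : ∀ w ∈ pairPerp Q x y, w ∈ rootSet H x → w = 0 := fun w hw' hmem => by
    have : (⟨w, hw'⟩ : pairPerp Q x y) ∈ wSet H x y := hmem
    rw [hw, AddSubgroup.mem_bot] at this
    exact congrArg Subtype.val this
  -- the stabiliser of the pair lies in `H`
  have hM : ∀ g ∈ Mstab Q x y, g ∈ H := by
    intro g hg
    obtain ⟨v, hv, hmem⟩ : (⟨g, hg⟩ : Mstab Q x y) ∈ liftM H h := htop ▸ Subgroup.mem_top _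
    change es Q x v * g ∈ H at hmem
    obtain ⟨hv1, hv2⟩ := mem_pairPerp.1 hv
    have hcomm : g * t = t * g := by
      obtain ⟨⟨a, ha⟩, ⟨b, hb⟩⟩ := hg
      refine sg_ext fun z => ?_
      rw [sg_mul, sg_mul, ← decompW (Q := Q) (x := x) (y := y) z]
      simp only [map_add, map_smul, htW _ (prW_mem h z), htW _ (Mstab_W h ⟨⟨a, ha⟩, ⟨b, hb⟩⟩ (prW_mem h z)), htx, hty, ha, hb,
        smul_smul]
      module
    have h1 := H.mul_mem (H.mul_mem (H.mul_mem hmem ht) (H.inv_mem hmem)) (H.inv_mem ht)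
    have e : es Q x v * g * t * (es Q x v * g)⁻¹ * t⁻¹ = es Q x v * (t * es Q x v * t⁻¹)⁻¹ := by
      rw [mul_assoc (es Q x v) g t, hcomm]; group
    rw [e, Mstab_conj htx h.qx hv1 hd0, htW v hv, es_inv,
      es_mul x hv1 (by rw [polar_neg_right, polar_smul_right', hv1, mul_zero, neg_zero])] at h1
    have h2 : v + -(d • v) = (1 - d) • v := by module
    rw [h2] at h1
    have h3 := hnone _ (Submodule.smul_mem _ _ hv)
      ⟨by rw [polar_smul_right', hv1, mul_zero], h1⟩
    rw [smul_eq_zero, or_iff_right (sub_ne_zero.2 hd1.symm)] at h3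
    rwa [h3, es_zero, one_mul] at hmem
  have hL : ∀ g : SG (QW Q x y), ext h g ∈ H := fun g => hM _ (ext_mem_Mstab h g)
  have hWroot : ∀ z ∈ pairPerp Q x y, Q z = 0 → ∀ w ∈ pairPerp Q x y, polar Q z w = 0 → w ∈ rootSet H z := by
    intro z hz hqz w hw' hzw
    refine ⟨hzw, ?_⟩
    have := hL (es (QW Q x y) ⟨z, hz⟩ ⟨w, hw'⟩)
    rwa [ext_es h (e := ⟨z, hz⟩) (w := ⟨w, hw'⟩) hqz hzw] at this
  -- the component along `x`
  have hnox : ∀ z ∈ pairPerp Q x y, z ≠ 0 → Q z = 0 → ∀ α β : F, α • x + β • y ∈ rootSet H z → α = 0 := by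
    intro z hz hz0 hqz α β hab
    by_contra hα
    obtain ⟨hz1, hz2⟩ := mem_pairPerp.1 hz
    obtain ⟨b, hb0, hb⟩ := exists_sq_ne_one hq
    obtain ⟨g, hgx, hgy⟩ := exists_scale hQ (by omega) h hb0
    have hgM : g ∈ Mstab Q x y := ⟨⟨b, hgx⟩, ⟨b⁻¹, hgy⟩⟩
    obtain ⟨s, hs, hsz⟩ := siegel_trans_singular hWQ (by omega) (e := (⟨g.1 z, Mstab_W h hgM hz⟩ : pairPerp Q x y))
      (z := ⟨z, hz⟩) (fun h0 => sg_ne_zero g hz0 (congrArg Subtype.val h0)) (fun h0 => hz0 (congrArg Subtype.val h0))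
      (show Q (g.1 z) = 0 by rw [sg_Q, hqz]) hqz
    -- transfer
    have move : ∀ {p : V}, p ∈ rootSet H z → (ext h ⟨s, hs⟩).1 (g.1 p) ∈ rootSet H z := by
      intro p hp
      have h1 := rootSet_map (hL ⟨s, hs⟩) (rootSet_map (hM g hgM) hp)
      rwa [ext_W h ⟨s, hs⟩ ⟨g.1 z, Mstab_W h hgM hz⟩, show (s ⟨g.1 z, Mstab_W h hgM hz⟩).1 = z from congrArg Subtype.val hsz] at h1
    -- scalars
    have scal : ∀ {p : V}, (∀ l : SG (QW Q x y), (ext h l).1 p = p) → p ∈ rootSet H z → ∀ c : F, c • p ∈ rootSet H z := by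
      intro p hfix hp c
      rcases eq_or_ne c 0 with rfl | hc
      · rw [zero_smul]; exact (rootSet H z).zero_mem
      obtain ⟨l, hl, hlz⟩ := siegel_trans_singular hWQ (by omega) (e := (⟨z, hz⟩ : pairPerp Q x y))
        (z := c • ⟨z, hz⟩) (fun h0 => hz0 (congrArg Subtype.val h0))
        (smul_ne_zero hc fun h0 => hz0 (congrArg Subtype.val h0)) hqz (show Q (c • z) = 0 by rw [map_smul', hqz, mul_zero])
      have h1 := rootSet_map (hL ⟨l, hl⟩) hp
      rw [hfix, ext_W h ⟨l, hl⟩ ⟨z, hz⟩, show (l ⟨z, hz⟩).1 = c • z from congrArg Subtype.val hlz] at h1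
      exact (rootSet_smul hqz hc).1 h1
    have hfix : ∀ (a b : F) (l : SG (QW Q x y)), (ext h l).1 (a • x + b • y) = a • x + b • y := fun a b l => by
      rw [map_add, map_smul, map_smul, ext_x, ext_y]
    have h1 := move hab
    rw [map_add, map_smul, map_smul, hgx, hgy, smul_smul, smul_smul, hfix] at h1
    have h2 := (rootSet H z).sub_mem (scal (hfix α β) hab b⁻¹) h1
    have h3 : b⁻¹ • (α • x + β • y) - ((α * b) • x + (β * b⁻¹) • y) = (α * (b⁻¹ - b)) • x := by module
    rw [h3] at h2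
    have hne : α * (b⁻¹ - b) ≠ 0 := mul_ne_zero hα (sub_ne_zero.2 fun h0 => hb (by
      rw [_root_.sq]; calc b * b = b⁻¹ * b := by rw [h0]
        _ = 1 := inv_mul_cancel₀ hb0))
    have h4 := scal (p := (α * (b⁻¹ - b)) • x) (fun l => by rw [map_smul, ext_x]) h2 (α * (b⁻¹ - b))⁻¹
    rw [inv_smul_smul₀ hne, ← one_smul F x] at h4
    refine hz0 (neg_eq_zero.1 (hnone (-z) (neg_mem hz) ⟨by rw [polar_neg_right, hz1, neg_zero], ?_⟩))
    rw [show -z = -(1 : F) • z by module, ← es_swap hqz h.qx (by rw [polar_comm, hz1])]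
    exact h4.2
  have hdec : ∀ z ∈ pairPerp Q x y, Q z = 0 → ∀ v ∈ rootSet H z,
      polar Q v y • x + polar Q v x • y ∈ rootSet H z := by
    intro z hz hqz v hv
    have hp : prW Q x y v ∈ rootSet H z := hWroot z hz hqz _ (prW_mem h v) (by
      rw [polar_comm, polar_prW v hz, polar_comm, hv.1])
    have := (rootSet H z).sub_mem hv hp
    rwa [show v - prW Q x y v = polar Q v y • x + polar Q v x • y by rw [prW_apply]; module] at this
  by_cases hcase : ∃ z ∈ pairPerp Q x y, z ≠ 0 ∧ Q z = 0 ∧ ∃ β : F, β ≠ 0 ∧ β • y ∈ rootSet H z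
  · obtain ⟨z, hz, hz0, hqz, β, hβ, hmem⟩ := hcase
    obtain ⟨hz1, hz2⟩ := mem_pairPerp.1 hz
    -- then `H` contains all root elements at `y`
    have hyall : ∀ v, polar Q y v = 0 → v ∈ rootSet H y := by
      have hWy : ∀ w : pairPerp Q x y, w.1 ∈ rootSet H y := by
        refine singular_induction (P := fun w : pairPerp Q x y => w.1 ∈ rootSet H y) hWQ (by omega) ?_
          (fun a b ha hb => (rootSet H y).add_mem ha hb)
        intro w hw0
        rcases eq_or_ne w 0 with rfl | hwne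
        · exact (rootSet H y).zero_mem
        obtain ⟨l, hl, hlz⟩ := siegel_trans_singular hWQ (by omega) (e := (-β) • (⟨z, hz⟩ : pairPerp Q x y))
          (smul_ne_zero (neg_ne_zero.2 hβ) fun h0 => hz0 (congrArg Subtype.val h0)) hwne
          (show Q ((-β) • z) = 0 by rw [map_smul', hqz, mul_zero]) hw0
        have h0 : (-β) • z ∈ rootSet H y := by
          refine ⟨by rw [polar_smul_right', hz2, mul_zero], ?_⟩
          rw [← es_swap hqz h.qy (by rw [polar_comm, hz2])]
          exact hmem.2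
        have h1 := rootSet_map (hL ⟨l, hl⟩) h0
        rw [ext_y] at h1
        have h2 := ext_W h ⟨l, hl⟩ ((-β) • ⟨z, hz⟩)
        rw [show l ((-β) • (⟨z, hz⟩ : pairPerp Q x y)) = w from hlz] at h2
        exact h2 ▸ h1
      intro v hv
      have h0 := decompW (Q := Q) (x := x) (y := y) v
      rw [polar_comm Q v y, hv, zero_smul, add_zero] at h0
      rw [← h0]
      exact (rootSet H y).add_mem (hWy ⟨_, prW_mem h v⟩) (line_mem_rootSet H h.qy _)
    have hfull : ∀ k ∈ H, ∀ v, polar Q (k.1 y) v = 0 → v ∈ rootSet H (k.1 y) := by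
      intro k hk v hv
      have := rootSet_map hk (hyall (k⁻¹.1 v) (by rw [← sg_polar k, sg_inv', hv]))
      rwa [sg_inv'] at this
    refine sing_le_of_line hQ (by omega) H h.symm.x_ne h.qy fun k hk => ?_
    by_contra hc
    push Not at hc
    have hqk : Q (k.1 y) = 0 := by rw [sg_Q, h.qy]
    set z' := k.1 y with hz'
    have hz'dec := decompW (Q := Q) (x := x) (y := y) z'
    set w := prW Q x y z' with hwdef
    have hwW : w ∈ pairPerp Q x y := prW_mem h _
    obtain ⟨hw1, hw2⟩ := mem_pairPerp.1 hwW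
    set a := polar Q z' y with ha
    set b := polar Q z' x with hb
    have hqz' : Q w + a * b = 0 := by
      rw [← hz'dec] at hqk
      simpa [map_add', map_smul', h.qx, h.qy, polar_add_left, polar_smul_left', polar_smul_right', polar_comm Q w x,
        polar_comm Q w y, hw1, hw2, h.xy, mul_comm, mul_assoc, mul_left_comm] using hqk
    rcases eq_or_ne a 0 with ha0 | ha0
    · rw [ha0, zero_mul, add_zero] at hqz'
      rw [ha0, zero_smul, add_zero] at hz'dec
      have hwne : w ≠ 0 := fun h0 => hc b (by rw [← hz'dec, h0, zero_add])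
      obtain ⟨u, hu, huw⟩ : ∃ u ∈ pairPerp Q x y, polar Q w u = b := by
        obtain ⟨u, -, hu⟩ := exists_polar hWQ ⊥ (x := (⟨w, hwW⟩ : pairPerp Q x y))
          (by simp only [Submodule.mem_bot]; exact fun h0 => hwne (congrArg Subtype.val h0)) b
        exact ⟨u.1, u.2, by rw [polar_comm]; exact hu⟩
      obtain ⟨hu1, hu2⟩ := mem_pairPerp.1 hu
      have hk' : es Q y u * k ∈ H := H.mul_mem (hyall u hu2).2 hk
      have e : (es Q y u * k).1 y = w := by
        rw [sg_mul, ← hz', es_apply h.qy hu2, ← hz'dec]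
        simp only [polar_add_left, polar_smul_left', polar_comm Q w y, hw2, h.yy, huw, hu2]
        module
      have := hfull _ hk' x (by rw [e, polar_comm, hw1])
      rw [e] at this
      exact one_ne_zero (hnox w hwW hwne hqz' 1 0 (by simpa using this))
    · have hu : a⁻¹ • w ∈ pairPerp Q x y := Submodule.smul_mem _ _ hwW
      obtain ⟨hu1, hu2⟩ := mem_pairPerp.1 hu
      have e : (es Q y (a⁻¹ • w)).1 (a • x) = z' := by
        rw [map_smul, es_apply h.qy hu2, h.xy, hu1, map_smul', ← hz'dec]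
        have hb' : b = -(a⁻¹ * Q w) := by
          field_simp
          linear_combination hqz'
        rw [hb']
        match_scalars <;> field_simp
        all_goals ring
      have hk' : (es Q y (a⁻¹ • w))⁻¹ * k ∈ H := H.mul_mem (H.inv_mem (hyall _ hu2).2) hk
      have e' : ((es Q y (a⁻¹ • w))⁻¹ * k).1 y = a • x := by rw [sg_mul, ← hz', ← e, sg_inv]
      obtain ⟨e1, he0, hqe, he⟩ := exists_singular_pairPerp hQ (by omega) h.qx h.qy h.xy
      have := hfull _ hk' (a⁻¹ • e1) (by
        rw [e', polar_smul_left', polar_smul_right', (mem_pairPerp.1 he).1, mul_zero, mul_zero])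
      rw [e', rootSet_smul h.qx ha0, smul_inv_smul₀ ha0] at this
      exact he0 (hnone e1 he this)
  · push Not at hcase
    obtain ⟨e, f, he, hf, hef⟩ := exists_singular_W hQ (by omega) h
    refine plane_contra hQ hn hq H h he hf hef (fun v => ⟨fun hv => ⟨hv.1, ?_⟩, fun hv => ?_⟩) hS
    · have h0 := hdec e he hef.qx v hv
      have ha := hnox e he hef.x_ne hef.qx _ _ h0
      rw [ha, zero_smul, zero_add] at h0
      have hb : polar Q v x = 0 := by
        by_contra hb0
        exact hcase e he hef.x_ne hef.qx _ hb0 h0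
      rw [prW_apply, ha, hb]; simp
    · exact hWroot e he hef.qx v (hv.2 ▸ prW_mem h v) hv.1

/-- No point has a trivial root set and full Levi part. -/
theorem not_zero (hQ : (polarBilin Q).Nondegenerate) (hn : 7 ≤ Module.finrank F V) (hq : 4 ≤ Nat.card F)
    (H : Subgroup (SG Q)) (h : IsPair Q x y)
    (hS : sing Q < 2 * (Nat.card F - 1) * Nat.card F ^ (Module.finrank F V - 2))
    (hH : H.index * (Nat.card F - 1) < sing Q) : wSet H x y ≠ ⊥ := by
  intro hw
  haveI : Finite V := Module.finite_of_finite F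
  haveI : Finite (Mstab Q x y) := finite_mstab
  have htop : liftM H h = ⊤ := by
    refine Subgroup.index_eq_one.1 ?_
    have h1 := index_ge H h
    rw [hw, AddSubgroup.index_bot, Module.natCard_eq_pow_finrank (K := F),
      show Module.finrank F (pairPerp Q x y) = Module.finrank F V - 2 by have := finrank_W h; omega] at h1
    have h0 : 0 < (liftM H h).index := Nat.pos_of_ne_zero Subgroup.index_ne_zero_of_finite
    by_contra hne
    have h2 : 2 ≤ (liftM H h).index := by omega
    have := calc 2 * (Nat.card F - 1) * Nat.card F ^ (Module.finrank F V - 2)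
          = (Nat.card F ^ (Module.finrank F V - 2) * 2) * (Nat.card F - 1) := by ring
      _ ≤ (Nat.card F ^ (Module.finrank F V - 2) * (liftM H h).index) * (Nat.card F - 1) :=
        Nat.mul_le_mul_right _ (Nat.mul_le_mul_left _ h2)
      _ ≤ H.index * (Nat.card F - 1) := Nat.mul_le_mul_right _ h1
    omega
  obtain ⟨b, hb0, hb⟩ := exists_sq_ne_one hq
  obtain ⟨t, htx, hty, htW⟩ := exists_torus hQ (by omega) h (pow_ne_zero 2 hb0) ⟨b, _root_.sq b⟩
  have htM : t ∈ Mstab Q x y := ⟨⟨_, htx⟩, ⟨_, hty⟩⟩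
  obtain ⟨v, hv, hmem⟩ : (⟨t, htM⟩ : Mstab Q x y) ∈ liftM H h := htop ▸ Subgroup.mem_top _
  change es Q x v * t ∈ H at hmem
  set u := (b ^ 2 - 1)⁻¹ • v
  have hu : u ∈ pairPerp Q x y := Submodule.smul_mem _ _ hv
  have hu1 := (mem_pairPerp.1 hu).1
  have hv1 := (mem_pairPerp.1 hv).1
  let g₀ := es Q x u
  have hab : ∀ w : V, polar Q x w = 0 → g₀ * es Q x w * g₀⁻¹ = es Q x w := fun w hw1 => by
    rw [es_inv, es_mul x hu1 hw1, es_mul x (by rw [polar_add_right, hu1, hw1, add_zero]) (by rw [polar_neg_right, hu1, neg_zero])]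
    congr 1; abel
  have hroot : wSet (cj H g₀) x y = ⊥ := by
    rw [AddSubgroup.eq_bot_iff_forall]
    intro w hw'
    have h1 : g₀⁻¹ * es Q x w.1 * g₀ ∈ H := mem_cj.1 hw'.2
    rw [show g₀⁻¹ * es Q x w.1 * g₀ = g₀⁻¹ * (g₀ * es Q x w.1 * g₀⁻¹) * g₀ by rw [hab _ (mem_pairPerp.1 w.2).1]] at h1
    have h2 : w ∈ wSet H x y := ⟨(mem_pairPerp.1 w.2).1, by simpa [mul_assoc] using h1⟩
    rwa [hw, AddSubgroup.mem_bot] at h2
  have ht : t ∈ cj H g₀ := by
    rw [mem_cj]
    convert hmem using 1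
    have e : t * g₀ * t⁻¹ = es Q x ((b ^ 2) • u) := by rw [Mstab_conj htx h.qx hu1 (pow_ne_zero 2 hb0), htW u hu]
    have e2 : g₀⁻¹ * es Q x ((b ^ 2) • u) = es Q x v := by
      rw [es_inv, es_mul x (by rw [polar_neg_right, hu1, neg_zero]) (by rw [polar_smul_right', hu1, mul_zero]),
        show -u + (b ^ 2) • u = (b ^ 2 - 1) • u by module, smul_inv_smul₀ (sub_ne_zero.2 hb)]
    rw [← e2, ← e]; group
  have htop' : liftM (cj H g₀) h = ⊤ := by
    rw [eq_top_iff]
    intro g _
    obtain ⟨w, hw', hmem'⟩ : g ∈ liftM H h := htop ▸ Subgroup.mem_top _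
    obtain ⟨c, hc⟩ := g.2.1
    have hgu := Submodule.smul_mem (pairPerp Q x y) c (Mstab_W h g.2 hu)
    refine ⟨u + w - c • g.1.1 u, sub_mem (add_mem hu hw') hgu, ?_⟩
    rw [mem_cj]
    convert hmem' using 1
    have hw1 := (mem_pairPerp.1 hw').1
    have hgu1 := (mem_pairPerp.1 hgu).1
    have e : g.1 * g₀ * g.1⁻¹ = es Q x (c • g.1.1 u) := Mstab_conj hc h.qx hu1 (scale_ne h hc)
    have e2 : g₀⁻¹ * es Q x (u + w - c • g.1.1 u) * es Q x (c • g.1.1 u) = es Q x w := by
      rw [es_inv, es_mul x (by rw [polar_neg_right, hu1, neg_zero]) (by rw [polar_sub_right, polar_add_right, hu1, hw1, hgu1]; ring),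
        es_mul x (by rw [polar_add_right, polar_neg_right, polar_sub_right, polar_add_right, hu1, hw1, hgu1]; ring) hgu1]
      congr 1; abel
    rw [← e2, ← e]; group
  have := zero_core hQ hn hq (cj H g₀) h hroot htop' hb ht htx hty htW hS
  rw [map_conj_index'] at this
  omega

end CfsgLib.MinIdx.Orth
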