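import Cfsg.Agent.Lib.MinIdx.OrthSeven
import Cfsg.Agent.Lib.MinIdx.OrthZero
import Cfsg.Agent.Lib.MinIdx.OrthWarning

/-!
# Dimension eight: orbits of pairs of vectors in dimension six
-/

set_option autoImplicit false

namespace CfsgLib.MinIdx.Orth

open QuadraticMap CfsgLib.Geometry

variable {F V : Type*} [Field F] [AddCommGroup V] [Module F V] [FiniteDimensional F V] [Finite F]
  {Q : QuadraticForm F V} {x y : V}

/-- Non-zero vectors of a given value in a space containing a hyperbolic pair. -/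
theorem card_level_ge (h : IsPair Q x y) (c : F) :
    (Nat.card F - 1) * Nat.card (pairPerp Q x y) ≤ Nat.card {v : V // v ≠ 0 ∧ Q v = c} := by
  haveI : Finite V := Module.finite_of_finite F
  rw [← Nat.card_units, ← Nat.card_prod]
  refine Nat.card_le_card_of_injective (fun p : Fˣ × pairPerp Q x y =>
    (⟨(p.1 : F) • x + ((c - Q p.2.1) / (p.1 : F)) • y + p.2.1, ?_, ?_⟩ : {v : V // v ≠ 0 ∧ Q v = c})) ?_
  · intro h0
    have h1 := congrArg (fun v => polar Q v y) h0
    simp only [polar_add_left, polar_smul_left', h.xy, h.yy, polar_comm Q p.2.1 y, (mem_pairPerp.1 p.2.2).2,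
      QuadraticMap.polar_zero_left, mul_one, mul_zero, add_zero] at h1
    exact p.1.ne_zero h1
  · rw [map_add', map_add', map_smul', map_smul', h.qx, h.qy, polar_smul_left', polar_smul_right', h.xy,
      polar_add_left, polar_smul_left', polar_smul_left', (mem_pairPerp.1 p.2.2).1, (mem_pairPerp.1 p.2.2).2]
    field_simp
    ring
  · rintro ⟨a, w⟩ ⟨b, u⟩ hab
    have h1 := congrArg Subtype.val hab
    have h2 := congrArg (fun v => polar Q v y) h1
    simp only [polar_add_left, polar_smul_left', h.xy, h.yy, polar_comm Q w.1 y, (mem_pairPerp.1 w.2).2,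
      polar_comm Q u.1 y, (mem_pairPerp.1 u.2).2, mul_one, mul_zero, add_zero] at h2
    obtain rfl : a = b := Units.ext h2
    have h3 := congrArg (prW Q x y) h1
    have hx : prW Q x y x = 0 := by rw [prW_apply, h.xy, h.xx]; simp
    have hy : prW Q x y y = 0 := by rw [prW_apply, h.yx, h.yy]; simp
    simp only [map_add, map_smul, hx, hy, prW_of_mem w.2, prW_of_mem u.2, smul_zero, zero_add] at h3
    exact Prod.ext rfl (Subtype.ext h3)

/-- The orbit of a second vector under the stabiliser of a singular vector. -/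
theorem card_stab_orbit (hQ : (polarBilin Q).Nondegenerate) (hn : Module.finrank F V = 6) {a b : V}
    (ha0 : a ≠ 0) (ha : Q a = 0) (hb : b ∉ Submodule.span F {a}) :
    Nat.card F ^ 4 - Nat.card F ^ 3 ≤ Nat.card {v : V // ∃ g : SG Q, g.1 a = a ∧ g.1 b = v} := by
  haveI : Finite V := Module.finite_of_finite F
  obtain ⟨a', h⟩ := exists_isPair hQ ha0 ha
  have hW : Module.finrank F (pairPerp Q a a') = 4 := by have := finrank_W h; omega
  have hfix : ∀ u : pairPerp Q a a', (es Q a u.1).1 a = a := fun u => by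
    rw [es_apply ha (mem_pairPerp.1 u.2).1, h.xx, (mem_pairPerp.1 u.2).1]; simp
  by_cases hab : polar Q b a = 0
  swap
  · calc Nat.card F ^ 4 - Nat.card F ^ 3 ≤ Nat.card (pairPerp Q a a') := by
          rw [Module.natCard_eq_pow_finrank (K := F) (V := pairPerp Q a a'), hW]; exact Nat.sub_le _ _
      _ ≤ _ := Nat.card_le_card_of_injective
          (fun u => (⟨(es Q a u.1).1 b, es Q a u.1, hfix u, rfl⟩ : {v : V // ∃ g : SG Q, g.1 a = a ∧ g.1 b = v})) ?_
    intro u w huw
    have h1 := congrArg (prW Q a a') (congrArg Subtype.val huw)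
    have hx : prW Q a a' a = 0 := by rw [prW_apply, h.xy, h.xx]; simp
    simp only [es_apply ha (mem_pairPerp.1 u.2).1, es_apply ha (mem_pairPerp.1 w.2).1, map_sub, map_add, map_smul,
      hx, prW_of_mem u.2, prW_of_mem w.2, smul_zero, sub_zero, add_right_inj] at h1
    exact Subtype.ext (smul_right_injective V hab h1)
  -- now `b` is orthogonal to `a`
  set w : pairPerp Q a a' := ⟨prW Q a a' b, prW_mem h b⟩
  have hbdec : b = w.1 + polar Q b a' • a := by
    have := decompW (Q := Q) (x := a) (y := a') b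
    rw [hab, zero_smul, add_zero] at this
    exact this.symm
  have hw0 : w ≠ 0 := fun h0 => hb (by
    rw [hbdec, show w.1 = 0 from congrArg Subtype.val h0, zero_add]
    exact Submodule.smul_mem _ _ (Submodule.mem_span_singleton_self a))
  have hWQ := nondeg_QW h hQ
  obtain ⟨e, he0, he⟩ := exists_singular hWQ (by omega)
  obtain ⟨f, hef⟩ := exists_isPair hWQ he0 he
  have hZ : Module.finrank F (pairPerp (QW Q a a') e f) = 2 := by have := finrank_W hef; omega
  have hlev := card_level_ge hef (QW Q a a' w)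
  rw [Module.natCard_eq_pow_finrank (K := F) (V := pairPerp (QW Q a a') e f), hZ] at hlev
  calc Nat.card F ^ 4 - Nat.card F ^ 3 = Nat.card F * ((Nat.card F - 1) * Nat.card F ^ 2) := by
        rw [Nat.sub_mul, Nat.mul_sub]; ring_nf
    _ ≤ Nat.card F * Nat.card {v : pairPerp Q a a' // v ≠ 0 ∧ QW Q a a' v = QW Q a a' w} := Nat.mul_le_mul_left _ hlev
    _ = Nat.card (F × {v : pairPerp Q a a' // v ≠ 0 ∧ QW Q a a' v = QW Q a a' w}) := (Nat.card_prod _ _).symm
    _ ≤ _ := Nat.card_le_card_of_injective (fun p => (⟨p.2.1.1 + p.1 • a, ?_⟩ :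
        {v : V // ∃ g : SG Q, g.1 a = a ∧ g.1 b = v})) ?_
  · -- the orbit contains `v + γ a`
    obtain ⟨s, hs, hsw⟩ : ∃ s ∈ siegelGroup (QW Q a a'), s w = p.2.1 := by
      by_cases hq0 : QW Q a a' w = 0
      · exact siegel_trans_singular hWQ (by omega) hw0 p.2.2.1 hq0 (by rw [p.2.2.2, hq0])
      · exact siegel_trans_norm hWQ (by omega) hq0 p.2.2.2
    obtain ⟨u, -, hu⟩ := exists_polar hWQ ⊥ (x := p.2.1) (by simpa using p.2.2.1) (polar Q b a' - p.1)
    have hu' : polar Q p.2.1.1 u.1 = polar Q b a' - p.1 := by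
      rw [← polar_QW, polar_comm]; exact hu
    refine ⟨es Q a u.1 * ext h ⟨s, hs⟩, by rw [sg_mul, ext_x, hfix], ?_⟩
    have e1 : (ext h ⟨s, hs⟩).1 b = p.2.1.1 + polar Q b a' • a := by
      rw [hbdec, map_add, map_smul, ext_x, ext_W, ← hbdec]
      rw [show (⟨s, hs⟩ : SG (QW Q a a')).1 w = p.2.1 from hsw]
    rw [sg_mul, e1, map_add, map_smul, hfix, es_apply ha (mem_pairPerp.1 u.2).1, polar_comm Q p.2.1.1 a,
      (mem_pairPerp.1 p.2.1.2).1, hu']
    module
  · rintro ⟨γ, v⟩ ⟨γ', v'⟩ hvv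
    have h1 := congrArg Subtype.val hvv
    dsimp only at h1
    have h2 := congrArg (fun z => polar Q z a') h1
    simp only [polar_add_left, polar_smul_left', h.xy, polar_comm Q v.1.1 a', (mem_pairPerp.1 v.1.2).2,
      polar_comm Q v'.1.1 a', (mem_pairPerp.1 v'.1.2).2, zero_add, mul_one] at h2
    subst h2
    exact Prod.ext rfl (Subtype.ext (Subtype.ext (add_right_cancel h1)))

/-- Singular vectors in dimension six. -/
theorem card_sing_six (hQ : (polarBilin Q).Nondegenerate) (hn : Module.finrank F V = 6) :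
    Nat.card F ^ 5 - Nat.card F ^ 3 ≤ Nat.card {v : V // v ≠ 0 ∧ Q v = 0} := by
  classical
  haveI : Finite V := Module.finite_of_finite F
  obtain ⟨x, hx0, hx⟩ := exists_singular hQ (by omega)
  obtain ⟨y, h⟩ := exists_isPair hQ hx0 hx
  have hW : Module.finrank F (pairPerp Q x y) = 4 := by have := finrank_W h; omega
  have hWQ := nondeg_QW h hQ
  obtain ⟨e, he0, he⟩ := exists_singular hWQ (by omega)
  obtain ⟨f, hef⟩ := exists_isPair hWQ he0 he
  have hZ : Module.finrank F (pairPerp (QW Q x y) e f) = 2 := by have := finrank_W hef; omega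
  have h2 := card_level_ge hef (0 : F)
  rw [Module.natCard_eq_pow_finrank (K := F) (V := pairPerp (QW Q x y) e f), hZ] at h2
  -- `α ≠ 0`, or `α = 0` and the component is singular
  let P1 := {v : V // (v ≠ 0 ∧ Q v = 0) ∧ polar Q v y ≠ 0}
  let P2 := {v : V // (v ≠ 0 ∧ Q v = 0) ∧ ¬ polar Q v y ≠ 0}
  have hsum : Nat.card {v : V // v ≠ 0 ∧ Q v = 0} = Nat.card P1 + Nat.card P2 := by
    rw [← Nat.card_sum]
    refine Nat.card_congr
      { toFun := fun v => if hv : polar Q v.1 y ≠ 0 then Sum.inl ⟨v.1, v.2, hv⟩ else Sum.inr ⟨v.1, v.2, hv⟩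
        invFun := fun v => v.elim (fun v => ⟨v.1, v.2.1⟩) (fun v => ⟨v.1, v.2.1⟩)
        left_inv := fun v => by dsimp only; split_ifs <;> rfl
        right_inv := fun v => by
          rcases v with v | v
          · simp [v.2.2]
          · simp [not_not.1 v.2.2] }
  have hP1 : (Nat.card F - 1) * Nat.card F ^ 4 ≤ Nat.card P1 := by
    rw [← Nat.card_units, ← hW, ← Module.natCard_eq_pow_finrank, ← Nat.card_prod]
    refine Nat.card_le_card_of_injective (fun p : Fˣ × pairPerp Q x y =>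
      (⟨(p.1 : F) • x + ((0 - Q p.2.1) / (p.1 : F)) • y + p.2.1, ?_⟩ : P1)) ?_
    · have hy : polar Q ((p.1 : F) • x + ((0 - Q p.2.1) / (p.1 : F)) • y + p.2.1) y = p.1 := by
        simp only [polar_add_left, polar_smul_left', h.xy, h.yy, polar_comm Q p.2.1 y, (mem_pairPerp.1 p.2.2).2,
          mul_one, mul_zero, add_zero]
      refine ⟨⟨fun h0 => ?_, ?_⟩, by rw [hy]; exact p.1.ne_zero⟩
      · rw [h0, QuadraticMap.polar_zero_left] at hy; exact p.1.ne_zero hy.symm
      · rw [map_add', map_add', map_smul', map_smul', h.qx, h.qy, polar_smul_left', polar_smul_right', h.xy,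
          polar_add_left, polar_smul_left', polar_smul_left', (mem_pairPerp.1 p.2.2).1, (mem_pairPerp.1 p.2.2).2]
        field_simp
        ring
    · rintro ⟨a, w⟩ ⟨b, u⟩ hab
      have h1 := congrArg Subtype.val hab
      have h3 := congrArg (fun v => polar Q v y) h1
      simp only [polar_add_left, polar_smul_left', h.xy, h.yy, polar_comm Q w.1 y, (mem_pairPerp.1 w.2).2,
        polar_comm Q u.1 y, (mem_pairPerp.1 u.2).2, mul_one, mul_zero, add_zero] at h3
      obtain rfl : a = b := Units.ext h3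
      exact Prod.ext rfl (Subtype.ext (add_left_cancel (a := (a : F) • x + ((0 - Q u.1) / (a : F)) • y) (by
        have h4 := congrArg (prW Q x y) h1
        have hx : prW Q x y x = 0 := by rw [prW_apply, h.xy, h.xx]; simp
        have hy : prW Q x y y = 0 := by rw [prW_apply, h.yx, h.yy]; simp
        simp only [map_add, map_smul, hx, hy, prW_of_mem w.2, prW_of_mem u.2, smul_zero, zero_add] at h4
        rw [h4])))
  have hP2 : Nat.card F * Nat.card {v : pairPerp Q x y // v ≠ 0 ∧ QW Q x y v = 0} ≤ Nat.card P2 := by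
    rw [← Nat.card_prod]
    refine Nat.card_le_card_of_injective (fun p => (⟨p.2.1.1 + p.1 • y, ?_⟩ : P2)) ?_
    · obtain ⟨h1, h3⟩ := mem_pairPerp.1 p.2.1.2
      have hy : polar Q (p.2.1.1 + p.1 • y) y = 0 := by
        rw [polar_add_left, polar_smul_left', h.yy, polar_comm Q p.2.1.1 y, h3]; ring
      refine ⟨⟨fun h0 => p.2.2.1 (Subtype.ext ?_), ?_⟩, fun h4 => h4 hy⟩
      · have h4 := congrArg (prW Q x y) h0
        have hy' : prW Q x y y = 0 := by rw [prW_apply, h.yx, h.yy]; simp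
        simpa [map_add, map_smul, hy', prW_of_mem p.2.1.2] using h4
      · rw [map_add', map_smul', h.qy, polar_smul_right', polar_comm Q p.2.1.1 y, h3,
          show Q p.2.1.1 = 0 from p.2.2.2]
        ring
    · rintro ⟨c, v⟩ ⟨c', v'⟩ hvv
      have h1 := congrArg Subtype.val hvv
      have h3 := congrArg (fun z => polar Q z x) h1
      simp only [polar_add_left, polar_smul_left', h.yx, polar_comm Q v.1.1 x, (mem_pairPerp.1 v.1.2).1,
        polar_comm Q v'.1.1 x, (mem_pairPerp.1 v'.1.2).1, zero_add, mul_one] at h3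
      subst h3
      exact Prod.ext rfl (Subtype.ext (Subtype.ext (add_right_cancel h1)))
  have hq : 2 ≤ Nat.card F := Finite.one_lt_card
  obtain ⟨s, hs⟩ : ∃ s, Nat.card F = s + 1 := ⟨Nat.card F - 1, by omega⟩
  have hP2' := (Nat.mul_le_mul_left (Nat.card F) h2).trans hP2
  rw [hs] at hP1 hP2' ⊢
  simp only [Nat.add_sub_cancel] at hP1 hP2'
  have hid : (s + 1) ^ 5 = s * (s + 1) ^ 4 + (s + 1) * (s * (s + 1) ^ 2) + (s + 1) ^ 3 := by ring
  omega

/-- The orbit of a pair bounds the index of the stabiliser of a finite set. -/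
theorem orbit_pair_le (hQ : (polarBilin Q).Nondegenerate) (hn : Module.finrank F V = 6) (L : Subgroup (SG Q))
    (A : AddSubgroup V) (hA : ∀ g ∈ L, ∀ v ∈ A, g.1 v ∈ A) {a b : V} (ha : a ∈ A) (hb : b ∈ A) (ha0 : a ≠ 0)
    (hqa : Q a = 0) (hbspan : b ∉ Submodule.span F {a}) :
    (Nat.card F ^ 5 - Nat.card F ^ 3) * (Nat.card F ^ 4 - Nat.card F ^ 3) ≤ L.index * (Nat.card A * Nat.card A) := by
  haveI : Finite V := Module.finite_of_finite F
  haveI : Finite (SG Q) := finite_sg
  let O := {p : V × V // ∃ g : SG Q, g.1 a = p.1 ∧ g.1 b = p.2}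
  let O' := {v : V // ∃ g : SG Q, g.1 a = a ∧ g.1 b = v}
  have h1 : Nat.card O ≤ L.index * (Nat.card A * Nat.card A) := by
    rw [Subgroup.index, ← Nat.card_prod, ← Nat.card_prod]
    choose g hg using fun p : O => p.2
    have hl : ∀ p, (QuotientGroup.mk (g p) : SG Q ⧸ L).out⁻¹ * g p ∈ L := fun p =>
      QuotientGroup.eq.1 (QuotientGroup.out_eq' _)
    refine Nat.card_le_card_of_injective (fun p => ((QuotientGroup.mk (g p) : SG Q ⧸ L),
      (⟨_, hA _ (hl p) a ha⟩ : A), (⟨_, hA _ (hl p) b hb⟩ : A))) fun p r hpr => ?_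
    obtain ⟨e1, e23⟩ := Prod.mk.inj hpr
    obtain ⟨e2, e3⟩ := Prod.mk.inj e23
    have e2' := congrArg Subtype.val e2
    have e3' := congrArg Subtype.val e3
    dsimp only at e2' e3'
    rw [e1, sg_mul, sg_mul] at e2' e3'
    refine Subtype.ext (Prod.ext ?_ ?_)
    · rw [← (hg p).1, ← (hg r).1]
      exact ((QuotientGroup.mk (g r) : SG Q ⧸ L).out⁻¹).1.injective e2'
    · rw [← (hg p).2, ← (hg r).2]
      exact ((QuotientGroup.mk (g r) : SG Q ⧸ L).out⁻¹).1.injective e3'
  refine le_trans ?_ h1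
  calc _ ≤ Nat.card {v : V // v ≠ 0 ∧ Q v = 0} * Nat.card O' :=
        Nat.mul_le_mul (card_sing_six hQ hn) (card_stab_orbit hQ hn ha0 hqa hbspan)
    _ = Nat.card ({v : V // v ≠ 0 ∧ Q v = 0} × O') := (Nat.card_prod _ _).symm
    _ ≤ _ := by
      choose s hs hsz using fun z : {v : V // v ≠ 0 ∧ Q v = 0} =>
        siegel_trans_singular hQ (by omega) ha0 z.2.1 hqa z.2.2
      refine Nat.card_le_card_of_injective (fun p => (⟨(p.1.1, s p.1 p.2.1), ?_⟩ : O)) ?_
      · obtain ⟨g, hga, hgb⟩ := p.2.2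
        exact ⟨⟨s p.1, hs p.1⟩ * g, by rw [sg_mul, hga]; exact hsz p.1, by rw [sg_mul, hgb]⟩
      · rintro ⟨z, v⟩ ⟨z', v'⟩ hzv
        obtain ⟨e1, e2⟩ := Prod.mk.inj (congrArg Subtype.val hzv)
        obtain rfl : z = z' := Subtype.ext e1
        exact Prod.ext rfl (Subtype.ext ((s z).injective e2))

/-- Intermediate root sets do not occur. -/
theorem no_intermediate (hQ : (polarBilin Q).Nondegenerate) (hn : Module.finrank F V = 8) (hq : 4 ≤ Nat.card F)
    (H : Subgroup (SG Q)) (h : IsPair Q x y)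
    (hS : sing Q = (Nat.card F ^ 3 + 1) * (Nat.card F ^ 4 - 1)) (hH : H.index * (Nat.card F - 1) < sing Q)
    (hlow : Nat.card F * Nat.card F < (wSet H x y).index) :
    Nat.card F ^ 3 < 2 * (wSet H x y).index := by
  classical
  haveI : Finite V := Module.finite_of_finite F
  by_contra hcon
  push Not at hcon
  obtain ⟨ψ, hψ⟩ := exists_char F
  set q := Nat.card F with hqdef
  have hWQ := nondeg_QW h hQ
  have hW6 : Module.finrank F (pairPerp Q x y) = 6 := by have := finrank_W h; omega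
  let A : AddSubgroup (pairPerp Q x y) :=
    { carrier := {a | ∀ r ∈ wSet H x y, ψ (polar (QW Q x y) a r) = 1}
      zero_mem' := fun r _ => by rw [QuadraticMap.polar_zero_left, AddChar.map_zero_eq_one]
      add_mem' := fun {a b} ha hb r hr => by rw [polar_add_left, AddChar.map_add_eq_mul, ha r hr, hb r hr, one_mul]
      neg_mem' := fun {a} ha r hr => by rw [polar_neg_left, AddChar.map_neg_eq_inv, ha r hr, inv_one] }
  have hsur : ∀ a : pairPerp Q x y, a ≠ 0 → ∀ c : F, ∃ v, polar (QW Q x y) a v = c := fun a ha c => by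
    obtain ⟨v, -, hv⟩ := exists_polar hWQ ⊥ (x := a) (by simpa using ha) c
    exact ⟨v, by rw [polar_comm]; exact hv⟩
  have hAge : Nat.card (pairPerp Q x y) ≤ Nat.card A * Nat.card (wSet H x y) := by
    refine card_annih (fun a v => polar (QW Q x y) a v) (fun a v w => polar_add_right _ _ _ _)
      (fun a a' v => polar_add_left _ _ _ _) ψ (fun r hr => ?_) (wSet H x y)
    obtain ⟨v, hv⟩ := hsur r hr 1
    exact ⟨v, by rw [polar_comm, hv]; exact hψ⟩
  have hAle : Nat.card A * Nat.card (wSet H x y) ≤ Nat.card (pairPerp Q x y) := by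
    have h1 := card_mul_card_le (fun a v => polar (QW Q x y) a v) (fun a v w => polar_add_right _ _ _ _) (charKer ψ)
      (fun htop => hψ (show (1 : F) ∈ charKer ψ from htop ▸ AddSubgroup.mem_top 1)) A (wSet H x y) ⊥
      (fun a _ a' _ v => polar_add_left _ _ _ _) (fun a ha r hr => ha r hr)
      (fun a _ ha c => hsur a (by simpa using ha) c)
    rwa [inf_bot_eq, AddSubgroup.card_bot, mul_one] at h1
  have hAX : Nat.card A = (wSet H x y).index := by
    refine Nat.eq_of_mul_eq_mul_right (show 0 < Nat.card (wSet H x y) from Nat.card_pos) ?_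
    rw [AddSubgroup.index_mul_card]
    exact le_antisymm hAle hAge
  obtain ⟨a, haA, ha0, hqa⟩ := exists_zero_of_card
    ((QW Q x y).toBilin (Module.finBasis F (pairPerp Q x y))) A (by rw [hAX]; exact hlow)
  have hqa' : QW Q x y a = 0 := by
    have := congrArg (fun R : QuadraticMap F (pairPerp Q x y) F => R a)
      ((QW Q x y).toQuadraticMap_toBilin (Module.finBasis F (pairPerp Q x y)))
    rw [← this]
    exact hqa
  obtain ⟨b, hbA, hb⟩ : ∃ b ∈ A, b ∉ Submodule.span F {a} := by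
    by_contra hc
    push Not at hc
    have : Nat.card A ≤ Nat.card (Submodule.span F ({a} : Set (pairPerp Q x y))) :=
      Nat.card_le_card_of_injective (fun v => ⟨v.1, hc v.1 v.2⟩) fun v w hvw =>
        Subtype.ext (congrArg (fun z : Submodule.span F ({a} : Set (pairPerp Q x y)) => z.1) hvw)
    rw [Module.natCard_eq_pow_finrank (K := F) (V := Submodule.span F ({a} : Set (pairPerp Q x y))),
      finrank_span_singleton ha0, pow_one, hAX, ← hqdef] at this
    have hq1 : q ≤ q * q := Nat.le_mul_self q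
    omega
  have hAinv : ∀ g ∈ liftL H h, ∀ v ∈ A, g.1 v ∈ A := fun g hg v hv r hr => by
    have := hv _ (wSet_invariant h ((liftL H h).inv_mem hg) hr)
    rwa [← sg_polar g v, sg_inv'] at this
  have horb := orbit_pair_le hWQ hW6 (liftL H h) A hAinv haA hbA ha0 hqa' hb
  rw [← hqdef, hAX] at horb
  set X := (wSet H x y).index
  set l := (liftL H h).index
  have hk : X * l * (q - 1) < (q ^ 3 + 1) * (q ^ 4 - 1) := by
    rw [← hS]
    refine lt_of_le_of_lt (Nat.mul_le_mul_right _ ?_) hH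
    exact (Nat.mul_le_mul_left _ (liftL_index_le H h)).trans (index_ge H h)
  have h1 : 2 * (q - 1) * ((q ^ 5 - q ^ 3) * (q ^ 4 - q ^ 3)) < q ^ 3 * ((q ^ 3 + 1) * (q ^ 4 - 1)) := by
    calc 2 * (q - 1) * ((q ^ 5 - q ^ 3) * (q ^ 4 - q ^ 3)) ≤ 2 * (q - 1) * (l * (X * X)) :=
          Nat.mul_le_mul_left _ horb
      _ = (2 * X) * (X * l * (q - 1)) := by ring
      _ ≤ q ^ 3 * (X * l * (q - 1)) := Nat.mul_le_mul_right _ hcon
      _ < _ := Nat.mul_lt_mul_of_pos_left hk (pow_pos (by omega) _)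
  obtain ⟨s, hs⟩ : ∃ s, q = s + 4 := ⟨q - 4, by omega⟩
  rw [hs, show (s + 4) ^ 5 - (s + 4) ^ 3 = (s + 4) ^ 3 * (s ^ 2 + 8 * s + 15) from Nat.sub_eq_of_eq_add (by ring),
    show (s + 4) ^ 4 - (s + 4) ^ 3 = (s + 4) ^ 3 * (s + 3) from Nat.sub_eq_of_eq_add (by ring),
    show (s + 4) ^ 4 - 1 = s ^ 4 + 16 * s ^ 3 + 96 * s ^ 2 + 256 * s + 255 from Nat.sub_eq_of_eq_add (by ring),
    show s + 4 - 1 = s + 3 by omega] at h1
  have h2 : 2 * (s + 3) * ((s ^ 2 + 8 * s + 15) * ((s + 4) ^ 3 * (s + 3))) <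
      ((s + 4) ^ 3 + 1) * (s ^ 4 + 16 * s ^ 3 + 96 * s ^ 2 + 256 * s + 255) := by
    refine Nat.lt_of_mul_lt_mul_left (a := (s + 4) ^ 3) ?_
    calc (s + 4) ^ 3 * (2 * (s + 3) * ((s ^ 2 + 8 * s + 15) * ((s + 4) ^ 3 * (s + 3))))
        = 2 * (s + 3) * ((s + 4) ^ 3 * (s ^ 2 + 8 * s + 15) * ((s + 4) ^ 3 * (s + 3))) := by ring
      _ < _ := h1
  ring_nf at h2
  omega

end CfsgLib.MinIdx.Orth
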