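import Cfsg.Agent.Lib.MinIdx.OrthPair
import Cfsg.Agent.Lib.Geometry.OmegaMem
import Cfsg.Agent.Lib.Geometry.OmegaPerfect

/-!
# Torus elements, irreducibility, and the Levi part of the parabolic
-/

set_option autoImplicit false

namespace CfsgLib.MinIdx.Orth

open QuadraticMap CfsgLib.Geometry

variable {F V : Type*} [Field F] [AddCommGroup V] [Module F V] [FiniteDimensional F V] [Finite F]
  {Q : QuadraticForm F V} {x y : V}

theorem mem_of_invariant (hQ : (polarBilin Q).Nondegenerate) (hn : 5 ≤ Module.finrank F V)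
    (hR : reflGroup Q = orth Q) (g : orth Q) (hg : orthInvariant hQ hR g = 1) : (g : V ≃ₗ[F] V) ∈ siegelGroup Q := by
  have h := (mem_commutator_orth_iff hQ hR g).2 hg
  rwa [commutator_eq_siegel hQ (by omega) (splitSingular_of hQ (Or.inl (by omega))) hR,
    Subgroup.mem_subgroupOf] at h

/-- Scaling the pair by a square, fixing its complement. -/
theorem exists_torus (hQ : (polarBilin Q).Nondegenerate) (hn : 5 ≤ Module.finrank F V) (h : IsPair Q x y)
    {d : F} (hd : d ≠ 0) (hsq : IsSquare d) :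
    ∃ t : SG Q, t.1 x = d • x ∧ t.1 y = d⁻¹ • y ∧ ∀ w ∈ pairPerp Q x y, t.1 w = w := by
  have hR := reflGroup_eq_orth hQ (Or.inl (show Module.finrank F V ≠ 4 by omega))
  obtain ⟨g, hg, hgx⟩ := exists_pair_scale hQ hR h.qx h.qy h.xy hd
  refine ⟨⟨g, mem_of_invariant hQ hn hR g (by rw [hg, (sqMk_eq_one_iff hd).2 hsq]; rfl)⟩, ?_, ?_, fun w hw => ?_⟩
  · show (g : V ≃ₗ[F] V) x = _
    rw [hgx, h.xy, h.xx]; module
  · show (g : V ≃ₗ[F] V) y = _
    rw [hgx, h.yx, h.yy]; module
  · show (g : V ≃ₗ[F] V) w = _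
    rw [hgx, polar_comm Q w y, (mem_pairPerp.1 hw).2, polar_comm Q w x, (mem_pairPerp.1 hw).1]; simp

theorem exists_singular_W (hQ : (polarBilin Q).Nondegenerate) (hn : 5 ≤ Module.finrank F V) (h : IsPair Q x y) :
    ∃ e f : V, e ∈ pairPerp Q x y ∧ f ∈ pairPerp Q x y ∧ IsPair Q e f := by
  obtain ⟨e, he0, he, heW⟩ := exists_singular_pairPerp hQ hn h.qx h.qy h.xy
  obtain ⟨f, hf⟩ := exists_isPair (nondeg_QW h hQ) (x := (⟨e, heW⟩ : pairPerp Q x y))
    (fun h0 => he0 (congrArg Subtype.val h0)) he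
  exact ⟨e, f.1, heW, f.2, he, hf.qy, hf.xy⟩

/-- An element scaling the pair by any factor. -/
theorem exists_scale (hQ : (polarBilin Q).Nondegenerate) (hn : 5 ≤ Module.finrank F V) (h : IsPair Q x y)
    {b : F} (hb : b ≠ 0) : ∃ g : SG Q, g.1 x = b • x ∧ g.1 y = b⁻¹ • y := by
  have hR := reflGroup_eq_orth hQ (Or.inl (show Module.finrank F V ≠ 4 by omega))
  obtain ⟨e, f, he, hf, hef⟩ := exists_singular_W hQ hn h
  obtain ⟨he1, he2⟩ := mem_pairPerp.1 he
  obtain ⟨hf1, hf2⟩ := mem_pairPerp.1 hf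
  obtain ⟨g, hg, hgx⟩ := exists_pairs_scale hQ hR 2 ![x, e] ![y, f]
    (by intro i; fin_cases i <;> simp [h.qx, hef.qx]) (by intro i; fin_cases i <;> simp [h.qy, hef.qy])
    (by intro i; fin_cases i <;> simp [h.xy, hef.xy])
    (by
      intro i j hij
      fin_cases i <;> fin_cases j <;> simp_all [polar_comm Q e x, polar_comm Q e y, polar_comm Q f y])
    ![b, b] (by simp [hb])
  refine ⟨⟨g, mem_of_invariant hQ hn hR g (by
    rw [hg, (sqMk_eq_one_iff _).2 ⟨b, by simp⟩]; rfl)⟩, ?_, ?_⟩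
  · show (g : V ≃ₗ[F] V) x = _
    rw [hgx, Fin.sum_univ_two]
    simp only [Matrix.cons_val_zero, Matrix.cons_val_one, h.xy, h.xx, hf1, he1,
      polar_comm Q x f, polar_comm Q x e]
    simp [polar_comm Q f x, polar_comm Q e x, hf1, he1]
    module
  · show (g : V ≃ₗ[F] V) y = _
    rw [hgx, Fin.sum_univ_two]
    simp only [Matrix.cons_val_zero, Matrix.cons_val_one, h.yx, h.yy, hf2, he2]
    simp
    module

/-- Every vector is a combination of singular vectors. -/
theorem singular_induction (hQ : (polarBilin Q).Nondegenerate) (hn : 3 ≤ Module.finrank F V) {P : V → Prop}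
    (hsing : ∀ v, Q v = 0 → P v) (hadd : ∀ u v, P u → P v → P (u + v)) (v : V) : P v := by
  obtain ⟨e, he0, he⟩ := exists_singular hQ hn
  obtain ⟨f, h⟩ := exists_isPair hQ he0 he
  have hz := mem_pairPerp.1 (prW_mem h v)
  set z := prW Q e f v
  have key : P z := by
    rw [show z = (z + e + (-Q z) • f) + (-(1 : F) • e + Q z • f - 0) by module]
    refine hadd _ _ (hsing _ ?_) ?_
    · rw [map_add', map_add', map_smul', h.qx, h.qy, polar_smul_right', polar_add_left,
        polar_comm Q z e, hz.1, polar_comm Q z f, hz.2, h.xy]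
      ring
    · rw [sub_zero]
      exact hadd _ _ (hsing _ (by rw [map_smul', h.qx, mul_zero])) (hsing _ (by rw [map_smul', h.qy, mul_zero]))
  rw [← decompW (Q := Q) (x := e) (y := f) v]
  exact hadd _ _ (hadd _ _ key (hsing _ (by rw [map_smul', h.qx, mul_zero])))
    (hsing _ (by rw [map_smul', h.qy, mul_zero]))

/-- The Siegel group is additively irreducible. -/
theorem invariant_cases (hQ : (polarBilin Q).Nondegenerate) (hn : 5 ≤ Module.finrank F V) (A : AddSubgroup V)
    (hA : ∀ g : SG Q, ∀ v ∈ A, g.1 v ∈ A) : A = ⊥ ∨ A = ⊤ := by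
  rcases AddSubgroup.bot_or_exists_ne_zero A with h | ⟨v, hv, hv0⟩
  · exact Or.inl h
  right
  obtain ⟨e, he0, he, heA⟩ : ∃ e, e ≠ 0 ∧ Q e = 0 ∧ e ∈ A := by
    by_cases hqv : Q v = 0
    · exact ⟨v, hv0, hqv, hv⟩
    -- a singular vector orthogonal to `v`
    obtain ⟨e, he0, he, hev⟩ : ∃ e, e ≠ 0 ∧ Q e = 0 ∧ polar Q v e = 0 := by
      obtain ⟨f₀, hf₀0, hf₀⟩ := exists_singular hQ (by omega)
      by_cases hvf : polar Q v f₀ = 0
      · exact ⟨f₀, hf₀0, hf₀, hvf⟩
      obtain ⟨g₀, hp⟩ := exists_isPair hQ hf₀0 hf₀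
      obtain ⟨z, hz0, hz, hzW⟩ := exists_singular_pairPerp hQ hn hp.qx hp.qy hp.xy
      refine ⟨z + (-(polar Q v z / polar Q v f₀)) • f₀, fun h0 => hz0 ?_, ?_, ?_⟩
      · have h1 := prW_of_mem hzW
        rw [← h1]
        have h2 := congrArg (prW Q f₀ g₀) h0
        rw [map_add, map_smul, map_zero, prW_apply (Q := Q) (x := f₀) (y := g₀) f₀, hp.xy, hp.xx] at h2
        simpa using h2
      · rw [map_add', map_smul', hz, hp.qx, polar_smul_right', polar_comm Q z f₀, (mem_pairPerp.1 hzW).1]; ring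
      · rw [polar_add_right, polar_smul_right']; field_simp; ring
    obtain ⟨u, hu, huv⟩ := exists_polar hQ (Submodule.span F {e}) (x := v) (fun hm => hqv (by
      obtain ⟨c, rfl⟩ := Submodule.mem_span_singleton.1 hm
      rw [map_smul', he, mul_zero])) 1
    have heu : polar Q e u = 0 := by rw [polar_comm]; exact hu e (Submodule.mem_span_singleton_self e)
    have h1 := A.sub_mem hv (hA (es Q e u) v hv)
    rw [es_apply he heu, hev, polar_comm Q v u, huv] at h1
    exact ⟨e, he0, he, by simpa using h1⟩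
  have hsing : ∀ z, Q z = 0 → z ∈ A := fun z hz => by
    rcases eq_or_ne z 0 with rfl | hz0
    · exact A.zero_mem
    obtain ⟨s, hs, rfl⟩ := siegel_trans_singular hQ (by omega) he0 hz0 he hz
    exact hA ⟨s, hs⟩ e heA
  exact eq_top_iff.2 fun z _ => singular_induction (P := fun z => z ∈ A) hQ (by omega) hsing
    (fun _ _ => A.add_mem) z

omit [Finite F] in
theorem wSet_conj {H : Subgroup (SG Q)} (h : IsPair Q x y) {g : Mstab Q x y} (hg : g ∈ liftM H h)
    {w : pairPerp Q x y} (hw : w ∈ wSet H x y) {c : F} (hc : g.1.1 x = c • x) :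
    (⟨c • g.1.1 w.1, Submodule.smul_mem _ _ (Mstab_W h g.2 w.2)⟩ : pairPerp Q x y) ∈ wSet H x y := by
  obtain ⟨v, hv, hmem⟩ := hg
  refine ⟨(mem_pairPerp.1 (Submodule.smul_mem _ c (Mstab_W h g.2 w.2))).1, ?_⟩
  show es Q x (c • g.1.1 w.1) ∈ H
  have h1 := H.mul_mem (H.mul_mem hmem hw.2) (H.inv_mem hmem)
  have e : es Q x v * g.1 * es Q x w.1 * (es Q x v * g.1)⁻¹ =
      es Q x v * (g.1 * es Q x w.1 * g.1⁻¹) * (es Q x v)⁻¹ := by group
  change es Q x v * g.1 * es Q x w.1 * (es Q x v * g.1)⁻¹ ∈ H at h1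
  rw [e, Mstab_conj hc h.qx (mem_pairPerp.1 w.2).1 (scale_ne h hc), es_inv] at h1
  have hv1 := (mem_pairPerp.1 hv).1
  have hw1 := (mem_pairPerp.1 (Submodule.smul_mem _ c (Mstab_W h g.2 w.2))).1
  rw [es_mul x hv1 hw1, es_mul x (by rw [polar_add_right, hv1, hw1, add_zero]) (by rw [polar_neg_right, hv1, neg_zero]),
    add_neg_cancel_comm] at h1
  exact h1

/-- The inclusion of the Siegel group of the complement in the stabiliser of the pair. -/
noncomputable def extM (h : IsPair Q x y) : SG (QW Q x y) →* Mstab Q x y :=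
  (ext h).codRestrict _ (ext_mem_Mstab h)

/-- The elements of the Siegel group of the complement that lift to `H`. -/
noncomputable def liftL (H : Subgroup (SG Q)) (h : IsPair Q x y) : Subgroup (SG (QW Q x y)) :=
  (liftM H h).comap (extM h)

omit [Finite F] in
theorem mem_liftL {H : Subgroup (SG Q)} {h : IsPair Q x y} {g : SG (QW Q x y)} :
    g ∈ liftL H h ↔ ∃ w ∈ pairPerp Q x y, es Q x w * ext h g ∈ H := Iff.rfl

theorem finite_mstab [Finite V] : Finite (Mstab Q x y) := by
  haveI : Finite (SG Q) := finite_sg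
  infer_instance

theorem liftL_index_le (H : Subgroup (SG Q)) (h : IsPair Q x y) : (liftL H h).index ≤ (liftM H h).index := by
  haveI : Finite V := Module.finite_of_finite F
  haveI : Finite (Mstab Q x y) := finite_mstab
  rw [liftL, Subgroup.index_comap, ← Subgroup.relIndex_top_right (liftM H h)]
  exact Subgroup.relIndex_le_of_le_right le_top (by rw [Subgroup.relIndex_top_right]; exact Subgroup.index_ne_zero_of_finite)

omit [Finite F] in
theorem wSet_invariant {H : Subgroup (SG Q)} (h : IsPair Q x y) {g : SG (QW Q x y)} (hg : g ∈ liftL H h)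
    {w : pairPerp Q x y} (hw : w ∈ wSet H x y) : g.1 w ∈ wSet H x y := by
  have := wSet_conj h (g := extM h g) hg hw (c := 1) (by rw [one_smul]; exact ext_x h g)
  convert this using 1
  refine Subtype.ext ?_
  show (g.1 w).1 = (1 : F) • (ext h g).1 w.1
  rw [one_smul, ext_W]

/-- A full Levi part leaves two possibilities. -/
theorem wSet_cases (hQ : (polarBilin Q).Nondegenerate) {H : Subgroup (SG Q)} (h : IsPair Q x y)
    (hn : 7 ≤ Module.finrank F V) (htop : liftL H h = ⊤) : wSet H x y = ⊥ ∨ wSet H x y = ⊤ :=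
  invariant_cases (nondeg_QW h hQ) (by have := finrank_W h; omega) _
    fun g w hw => wSet_invariant h (htop ▸ Subgroup.mem_top g) hw

end CfsgLib.MinIdx.Orth
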