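import Cfsg.Agent.Lib.MinIdx.OrthTop

/-!
# Dimension seven: root sets of index at most `q ^ 2` give the whole group
-/

set_option autoImplicit false

namespace CfsgLib.MinIdx.Orth

open QuadraticMap CfsgLib.Geometry

variable {F V : Type*} [Field F] [AddCommGroup V] [Module F V] [FiniteDimensional F V] [Finite F]
  {Q : QuadraticForm F V} {x y : V}

theorem exists_char (F : Type*) [Field F] [Finite F] : ∃ ψ : AddChar F ℂ, ψ 1 ≠ 1 :=
  AddChar.exists_apply_ne_zero.2 one_ne_zero

/-- The kernel of a character. -/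
noncomputable def charKer {C : Type*} [AddCommGroup C] (ψ : AddChar C ℂ) : AddSubgroup C where
  carrier := {c | ψ c = 1}
  zero_mem' := AddChar.map_zero_eq_one ψ
  add_mem' := by
    intro a b ha hb
    show ψ (a + b) = 1
    rw [AddChar.map_add_eq_mul, show ψ a = 1 from ha, show ψ b = 1 from hb, one_mul]
  neg_mem' := by
    intro a ha
    show ψ (-a) = 1
    rw [AddChar.map_neg_eq_inv, show ψ a = 1 from ha, inv_one]

/-- The annihilator is large. -/
theorem card_annih {W : Type*} [AddCommGroup W] [Finite W] (β : W → W → F)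
    (hβ : ∀ a v w, β a (v + w) = β a v + β a w) (hl : ∀ a a' v, β (a + a') v = β a v + β a' v)
    (ψ : AddChar F ℂ) (hnd : ∀ r, r ≠ 0 → ∃ a, ψ (β a r) ≠ 1) (R : AddSubgroup W) :
    Nat.card W ≤ Nat.card {a : W // ∀ r ∈ R, ψ (β a r) = 1} * Nat.card R := by
  classical
  haveI := Fintype.ofFinite W
  have hz : ∀ a, β a 0 = 0 := fun a => by
    have h := hβ a 0 0; rw [add_zero] at h; exact left_eq_add.1 h
  have hz' : ∀ v, β 0 v = 0 := fun v => by
    have h := hl 0 0 v; rw [add_zero] at h; exact left_eq_add.1 h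
  let row : W → AddChar R ℂ := fun a =>
    { toFun := fun r => ψ (β a r.1)
      map_zero_eq_one' := by rw [AddSubgroup.coe_zero, hz, AddChar.map_zero_eq_one]
      map_add_eq_mul' := fun v w => by rw [AddSubgroup.coe_add, hβ, AddChar.map_add_eq_mul] }
  let col : R → AddChar W ℂ := fun r =>
    { toFun := fun a => ψ (β a r.1)
      map_zero_eq_one' := by rw [hz', AddChar.map_zero_eq_one]
      map_add_eq_mul' := fun v w => by rw [hl, AddChar.map_add_eq_mul] }
  have h1 : ∑ a : W, ∑ r : R, row a r = ((Nat.card R * (Finset.univ.filter fun a => row a = 0).card : ℕ) : ℂ) := by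
    simp_rw [AddChar.sum_eq_ite]
    rw [Finset.sum_ite, Finset.sum_const_zero, add_zero, Finset.sum_const, Nat.card_eq_fintype_card]
    push_cast
    rw [nsmul_eq_mul, mul_comm]
  have h2 : ∑ r : R, ∑ a : W, col r a = ((Nat.card W * (Finset.univ.filter fun r => col r = 0).card : ℕ) : ℂ) := by
    simp_rw [AddChar.sum_eq_ite]
    rw [Finset.sum_ite, Finset.sum_const_zero, add_zero, Finset.sum_const, Nat.card_eq_fintype_card]
    push_cast
    rw [nsmul_eq_mul, mul_comm]
  have h12 : Nat.card R * (Finset.univ.filter fun a => row a = 0).card =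
      Nat.card W * (Finset.univ.filter fun r => col r = 0).card := by
    refine Nat.cast_injective (R := ℂ) ?_
    rw [← h1, ← h2, Finset.sum_comm]
    rfl
  have hcol : 1 ≤ (Finset.univ.filter fun r => col r = 0).card :=
    Finset.one_le_card.2 ⟨0, by
      simp only [Finset.mem_filter, Finset.mem_univ, true_and]
      refine DFunLike.ext _ _ fun a => ?_
      show ψ (β a 0) = _
      rw [hz, AddChar.map_zero_eq_one]; rfl⟩
  have hrow : (Finset.univ.filter fun a => row a = 0).card ≤ Nat.card {a : W // ∀ r ∈ R, ψ (β a r) = 1} := by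
    rw [Nat.card_eq_fintype_card, Fintype.card_subtype]
    refine Finset.card_le_card fun a ha => ?_
    simp only [Finset.mem_filter, Finset.mem_univ, true_and] at ha ⊢
    intro r hr
    exact DFunLike.congr_fun ha ⟨r, hr⟩
  calc Nat.card W = Nat.card W * 1 := (mul_one _).symm
    _ ≤ Nat.card W * (Finset.univ.filter fun r => col r = 0).card := Nat.mul_le_mul_left _ hcol
    _ = Nat.card R * (Finset.univ.filter fun a => row a = 0).card := h12.symm
    _ ≤ Nat.card R * Nat.card {a : W // ∀ r ∈ R, ψ (β a r) = 1} := Nat.mul_le_mul_left _ hrow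
    _ = _ := mul_comm _ _

/-- Singular vectors in a hyperplane. -/
theorem card_sing_perp (hQ : (polarBilin Q).Nondegenerate) (hn : Module.finrank F V = 5) {a : V} (ha : a ≠ 0) :
    Nat.card {v : V // (v ≠ 0 ∧ Q v = 0) ∧ polar Q a v = 0} ≤ 2 * Nat.card F ^ 3 := by
  classical
  haveI : Finite V := Module.finite_of_finite F
  let U := LinearMap.ker (polarBilin Q a)
  have hU : Module.finrank F U = 4 := by
    have h := LinearMap.finrank_range_add_finrank_ker (polarBilin Q a)
    have hne : LinearMap.range (polarBilin Q a) = ⊤ := by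
      refine Submodule.eq_top_of_finrank_eq ?_
      have h1 : 1 ≤ Module.finrank F (LinearMap.range (polarBilin Q a)) := by
        refine Submodule.one_le_finrank_iff.2 fun h0 => ha (hQ.1 a fun v => ?_)
        rw [LinearMap.range_eq_bot] at h0
        rw [h0]; rfl
      have h2 := Submodule.finrank_le (LinearMap.range (polarBilin Q a))
      simp at h2 ⊢
      omega
    rw [hne, finrank_top, Module.finrank_self, hn] at h
    change 1 + Module.finrank F U = 5 at h
    omega
  obtain ⟨u, huU, hu⟩ : ∃ u ∈ U, Q u ≠ 0 := by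
    by_contra hc
    push Not at hc
    have h1 : U ≤ polarPerp Q U := fun w hw => mem_polarPerp.2 fun v hv => polar_eq_zero_of_singular hc hv hw
    have h2 := Submodule.finrank_mono h1
    have h3 := finrank_polarPerp hQ U
    omega
  let u' : U := ⟨u, huU⟩
  have hu0 : u' ≠ 0 := fun h => hu (by rw [show u = 0 from congrArg Subtype.val h]; exact QuadraticMap.map_zero Q)
  have hquot : Nat.card (U ⧸ Submodule.span F {u'}) = Nat.card F ^ 3 := by
    rw [Module.natCard_eq_pow_finrank (K := F), Submodule.finrank_quotient, finrank_span_singleton hu0, hU]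
  haveI : Finite (U ⧸ Submodule.span F {u'}) := Module.finite_of_finite F
  have h := double_count (X := U ⧸ Submodule.span F {u'}) (Y := {v : V // (v ≠ 0 ∧ Q v = 0) ∧ polar Q a v = 0})
    (fun c v => Submodule.Quotient.mk (⟨v.1, v.2.2⟩ : U) = c) 2 1 (fun c => by
      rcases isEmpty_or_nonempty {v : {v : V // (v ≠ 0 ∧ Q v = 0) ∧ polar Q a v = 0} //
          Submodule.Quotient.mk (⟨v.1, v.2.2⟩ : U) = c} with h | ⟨⟨v₀, hv₀⟩⟩
      · simp
      have hdiff : ∀ v : {v : {v : V // (v ≠ 0 ∧ Q v = 0) ∧ polar Q a v = 0} //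
          Submodule.Quotient.mk (⟨v.1, v.2.2⟩ : U) = c}, ∃ t : F, v.1.1 = v₀.1 + t • u ∧ (t = 0 ∨ t = -(polar Q v₀.1 u / Q u)) := by
        intro v
        obtain ⟨t, ht⟩ := Submodule.mem_span_singleton.1 ((Submodule.Quotient.eq _).1 (v.2.trans hv₀.symm))
        have ht' : t • u = v.1.1 - v₀.1 := congrArg Subtype.val ht
        refine ⟨t, by rw [ht']; abel, ?_⟩
        have hv : Q (v₀.1 + t • u) = 0 := by rw [ht', add_sub_cancel]; exact v.1.2.1.2
        rw [map_add', map_smul', v₀.2.1.2, polar_smul_right'] at hv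
        have h0 : t * (t * Q u + polar Q v₀.1 u) = 0 := by linear_combination hv
        rcases mul_eq_zero.1 h0 with h0 | h0
        · exact Or.inl h0
        · right; field_simp; linear_combination h0
      choose t ht htt using hdiff
      calc _ ≤ Nat.card Bool := Nat.card_le_card_of_injective (fun v => decide (t v = 0)) fun v w hvw => ?_
        _ = 2 := by simp
      have heq : t v = t w := by
        by_cases h0 : t v = 0
        · rw [h0]; symm; simpa [h0] using hvw.symm
        · have hw0 : t w ≠ 0 := by simpa [h0] using hvw.symm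
          rw [(htt v).resolve_left h0, (htt w).resolve_left hw0]
      exact Subtype.ext (Subtype.ext (by rw [ht v, ht w, heq])))
    (fun v => by
      haveI : Nonempty {c : U ⧸ Submodule.span F {u'} // Submodule.Quotient.mk (⟨v.1, v.2.2⟩ : U) = c} := ⟨⟨_, rfl⟩⟩
      exact Nat.card_pos)
  rw [mul_one, hquot, mul_comm] at h
  exact h

/-- Singular vectors. -/
theorem card_sing_ge (hQ : (polarBilin Q).Nondegenerate) (hn : Module.finrank F V = 5) :
    (Nat.card F - 1) * Nat.card F ^ 3 ≤ Nat.card {v : V // v ≠ 0 ∧ Q v = 0} := by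
  haveI : Finite V := Module.finite_of_finite F
  obtain ⟨e, he0, he⟩ := exists_singular hQ (by omega)
  obtain ⟨f, h⟩ := exists_isPair hQ he0 he
  have hW : Module.finrank F (pairPerp Q e f) = 3 := by have := finrank_W h; omega
  rw [← hW, ← Module.natCard_eq_pow_finrank, ← Nat.card_units, ← Nat.card_prod]
  have he' : ∀ w : pairPerp Q e f, (es Q f w.1).1 e = e + w.1 - Q w.1 • f := fun w => by
    rw [es_apply h.qy (mem_pairPerp.1 w.2).2, h.xy, (mem_pairPerp.1 w.2).1]; simp
  refine Nat.card_le_card_of_injective (fun p : Fˣ × pairPerp Q e f =>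
    (⟨(es Q f p.2.1).1 ((p.1 : F) • e), sg_ne_zero _ (smul_ne_zero p.1.ne_zero he0), by
      rw [sg_Q, map_smul', he, mul_zero]⟩ : {v : V // v ≠ 0 ∧ Q v = 0})) ?_
  rintro ⟨a, w⟩ ⟨b, u⟩ hab
  have h1 := congrArg Subtype.val hab
  dsimp only at h1
  rw [map_smul, map_smul, he', he'] at h1
  have h2 := congrArg (fun v => polar Q v f) h1
  simp only [polar_smul_left', polar_sub_left, polar_add_left, h.xy, h.yy, polar_comm Q w.1 f,
    (mem_pairPerp.1 w.2).2, polar_comm Q u.1 f, (mem_pairPerp.1 u.2).2, mul_zero, sub_zero, add_zero, mul_one] at h2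
  obtain rfl : a = b := Units.ext h2
  have h3 := congrArg (prW Q e f) (smul_right_injective V a.ne_zero h1)
  have hx : prW Q e f e = 0 := by rw [prW_apply, h.xy, h.xx]; simp
  have hy : prW Q e f f = 0 := by rw [prW_apply, h.yx, h.yy]; simp
  simp only [map_sub, map_add, map_smul, hx, hy, prW_of_mem w.2, prW_of_mem u.2, zero_add, smul_zero, sub_zero] at h3
  exact Prod.ext rfl (Subtype.ext h3)

/-- Root sets of index at most `q ^ 2` have index at most `q`. -/
theorem rootSet_ge_seven (hQ : (polarBilin Q).Nondegenerate) (hn : Module.finrank F V = 7) (hq : 5 ≤ Nat.card F)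
    (h2 : (2 : F) ≠ 0) (H : Subgroup (SG Q))
    (hbig : ∀ x : V, x ≠ 0 → Q x = 0 → Nat.card F ^ 4 ≤ Nat.card (rootSet H x)) (h : IsPair Q x y) :
    Nat.card F ^ 5 ≤ Nat.card (rootSet H x) := by
  classical
  haveI : Finite V := Module.finite_of_finite F
  obtain ⟨ψ, hψ⟩ := exists_char F
  set q := Nat.card F with hqdef
  have hWQ := nondeg_QW h hQ
  have hW5 : Module.finrank F (pairPerp Q x y) = 5 := by have := finrank_W h; omega
  have hcW : Nat.card (pairPerp Q x y) = q ^ 5 := by rw [Module.natCard_eq_pow_finrank (K := F), hW5]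
  let A : AddSubgroup (pairPerp Q x y) :=
    { carrier := {a | ∀ r ∈ wSet H x y, ψ (polar (QW Q x y) a r) = 1}
      zero_mem' := fun r _ => by rw [QuadraticMap.polar_zero_left, AddChar.map_zero_eq_one]
      add_mem' := fun {a b} ha hb r hr => by rw [polar_add_left, AddChar.map_add_eq_mul, ha r hr, hb r hr, one_mul]
      neg_mem' := fun {a} ha r hr => by rw [polar_neg_left, AddChar.map_neg_eq_inv, ha r hr, inv_one] }
  have hA : q ^ 5 ≤ Nat.card A * Nat.card (wSet H x y) := by
    rw [← hcW]
    refine card_annih (fun a v => polar (QW Q x y) a v) (fun a v w => polar_add_right _ _ _ _)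
      (fun a a' v => polar_add_left _ _ _ _) ψ (fun r hr => ?_) (wSet H x y)
    obtain ⟨a, -, ha⟩ := exists_polar hWQ ⊥ (x := r) (by simpa using hr) 1
    exact ⟨a, by rw [ha]; exact hψ⟩
  suffices hsmall : Nat.card A ≤ q by
    have hc := card_rootSet H h
    rw [hc]
    refine Nat.le_of_mul_le_mul_left (?_ : q * _ ≤ q * _) (by omega)
    calc q * q ^ 5 ≤ q * (Nat.card A * Nat.card (wSet H x y)) := Nat.mul_le_mul_left _ hA
      _ ≤ q * (q * Nat.card (wSet H x y)) := Nat.mul_le_mul_left _ (Nat.mul_le_mul_right _ hsmall)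
  by_contra hgt
  push Not at hgt
  haveI := Fintype.ofFinite F
  obtain ⟨p, hpchar⟩ := CharP.exists F
  haveI := hpchar
  obtain ⟨⟨e, he⟩, hp, hF⟩ := FiniteField.card F p
  dsimp at hF
  rw [← Nat.card_eq_fintype_card, ← hqdef] at hF
  obtain ⟨i, -, hi⟩ : ∃ i ≤ e * 5, Nat.card A = p ^ i := (Nat.dvd_prime_pow hp).1 (by
    rw [pow_mul, ← hF, ← hcW]; exact A.card_addSubgroup_dvd_card)
  obtain ⟨k, hk⟩ : q ∣ Nat.card A := by
    rw [hi, hF]
    refine pow_dvd_pow p ?_
    by_contra hlt
    push Not at hlt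
    rw [hi, hF] at hgt
    exact absurd hgt (not_lt.2 (Nat.pow_le_pow_right hp.pos hlt.le))
  have hk2 : 2 ≤ k := by
    rcases Nat.lt_or_ge k 2 with h0 | h0
    · rcases (show k = 0 ∨ k = 1 by omega) with hk' | hk' <;> rw [hk'] at hk <;> simp only [mul_zero, mul_one] at hk <;> omega
    · exact h0
  have hS := card_sing_ge hWQ hW5
  have hcount := double_count (X := {a : A // a.1 ≠ 0}) (Y := {v : pairPerp Q x y // v ≠ 0 ∧ QW Q x y v = 0})
    (fun a v => polar (QW Q x y) a.1.1 v.1 = 0) (2 * q ^ 3) (3 * k - 1) (fun a => by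
      refine le_trans ?_ (card_sing_perp hWQ hW5 a.2)
      exact Nat.card_le_card_of_injective (fun v => ⟨v.1.1, v.1.2, v.2⟩) fun v w hvw =>
        Subtype.ext (Subtype.ext (congrArg Subtype.val hvw :)))
    (fun w => by
      have hw0 : (w.1.1 : V) ≠ 0 := fun h0 => w.2.1 (Subtype.ext h0)
      have hxw : polar Q x w.1.1 = 0 := (mem_pairPerp.1 w.1.2).1
      have hyw : polar Q y w.1.1 = 0 := (mem_pairPerp.1 w.1.2).2
      set Γ := lineS H x w.1.1
      have hΓ : 3 ≤ Nat.card Γ := by
        by_cases htop : Γ = ⊤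
        · rw [htop, AddSubgroup.card_top]; omega
        have hind : w.1.1 ∉ Submodule.span F {x} := fun hm => by
          obtain ⟨c, hc⟩ := Submodule.mem_span_singleton.1 hm
          rw [← hc, polar_smul_right', h.yx, mul_one] at hyw
          exact hw0 (by rw [← hc, hyw, zero_smul])
        have h1 := (Nat.mul_le_mul (hbig x h.x_ne h.qx) (hbig w.1.1 hw0 w.2.2)).trans
          (line_count hQ H h.qx w.2.2 hxw h.x_ne hind htop)
        rw [hn] at h1
        by_contra hlt
        push Not at hlt
        have h3 : Nat.card Γ * Nat.card Γ ≤ 4 := Nat.mul_le_mul (show _ ≤ 2 by omega) (show _ ≤ 2 by omega)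
        have : q ^ 4 * q ^ 4 ≤ q ^ 7 * 4 := h1.trans (Nat.mul_le_mul_left _ h3)
        rw [← pow_add, show 4 + 4 = 7 + 1 from rfl, pow_succ] at this
        have := Nat.le_of_mul_le_mul_left this (pow_pos (by omega) _)
        omega
      let φ : A →+ F :=
        { toFun := fun a => polar (QW Q x y) a.1 w.1
          map_zero' := QuadraticMap.polar_zero_left _ _
          map_add' := fun a b => polar_add_left _ _ _ _ }
      have hann : Nat.card φ.range * Nat.card Γ ≤ q := by
        have h1 := card_mul_card_le (V := F) (C := F) (fun a b => a * b) (fun a v w => mul_add a v w) (charKer ψ)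
          (fun htop => hψ (show (1 : F) ∈ charKer ψ from htop ▸ AddSubgroup.mem_top 1)) φ.range Γ ⊥
          (fun a _ a' _ v => add_mul a a' v)
          (fun c ⟨a, ha⟩ d hd => by
            show ψ (c * d) = 1
            have hd' : (d • w.1 : pairPerp Q x y) ∈ wSet H x y := mem_wSet.2 (mem_lineS.1 hd)
            have h2 := a.2 _ hd'
            rw [polar_smul_right', show polar (QW Q x y) a.1 w.1 = c from ha, mul_comm] at h2
            exact h2)
          (fun a _ ha c => ⟨c / a, mul_div_cancel₀ _ (by simpa using ha)⟩)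
        rwa [inf_bot_eq, AddSubgroup.card_bot, mul_one] at h1
      have hker : 3 * k ≤ Nat.card φ.ker := by
        refine Nat.le_of_mul_le_mul_left (?_ : q * _ ≤ q * _) (by omega)
        calc q * (3 * k) = Nat.card A * 3 := by rw [hk]; ring
          _ = Nat.card φ.range * Nat.card φ.ker * 3 := by
              rw [AddSubgroup.card_eq_card_quotient_mul_card_addSubgroup φ.ker,
                Nat.card_congr (QuotientAddGroup.quotientKerEquivRange φ).toEquiv]
          _ ≤ Nat.card φ.range * Nat.card φ.ker * Nat.card Γ := Nat.mul_le_mul_left _ hΓ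
          _ = Nat.card φ.range * Nat.card Γ * Nat.card φ.ker := by ring
          _ ≤ _ := Nat.mul_le_mul_right _ hann
      haveI := Fintype.ofFinite φ.ker
      haveI := Fintype.ofFinite {a : {a : A // a.1 ≠ 0} // polar (QW Q x y) a.1.1 w.1 = 0}
      have hle : Nat.card φ.ker ≤ Nat.card (Option {a : {a : A // a.1 ≠ 0} // polar (QW Q x y) a.1.1 w.1 = 0}) :=
        Nat.card_le_card_of_injective
          (fun a => if h0 : a.1.1 = 0 then none else some ⟨⟨a.1, h0⟩, a.2⟩) fun a b hab => by
            dsimp only at hab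
            split_ifs at hab with ha hb hb
            · exact Subtype.ext (Subtype.ext (ha.trans hb.symm))
            · exact Subtype.ext (congrArg (fun z : {a : {a : A // a.1 ≠ 0} // polar (QW Q x y) a.1.1 w.1 = 0} => z.1.1)
                (Option.some.inj hab))
      rw [Finite.card_option] at hle
      omega)
  have hA1 : Nat.card {a : A // a.1 ≠ 0} + 1 = Nat.card A := by
    haveI := Fintype.ofFinite A
    haveI := Fintype.ofFinite {a : A // a.1 ≠ 0}
    rw [← Finite.card_option]
    refine Nat.card_congr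
      { toFun := fun a => a.elim 0 Subtype.val
        invFun := fun a => if h0 : a.1 = 0 then none else some ⟨a, h0⟩
        left_inv := fun a => by
          cases a with
          | none => simp
          | some a => simp [a.2]
        right_inv := fun a => by
          by_cases h0 : a.1 = 0
          · simp only [h0, dite_true, Option.elim_none]; exact (Subtype.ext h0).symm
          · simp [h0] }
  rw [hk] at hA1
  obtain ⟨j, rfl⟩ : ∃ j, k = j + 2 := ⟨k - 2, by omega⟩
  obtain ⟨s, hs⟩ : ∃ s, q = s + 5 := ⟨q - 5, by omega⟩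
  set Sg := Nat.card {v : pairPerp Q x y // v ≠ 0 ∧ QW Q x y v = 0}
  set a0 := Nat.card {a : A // a.1 ≠ 0}
  have h5 : (q - 1) * q ^ 3 * (3 * (j + 2) - 1) ≤ a0 * (2 * q ^ 3) :=
    (Nat.mul_le_mul_right _ hS).trans hcount
  have h6 : (q - 1) * (3 * (j + 2) - 1) ≤ a0 * 2 := by
    refine Nat.le_of_mul_le_mul_right (c := q ^ 3) ?_ (pow_pos (by omega) _)
    calc (q - 1) * (3 * (j + 2) - 1) * q ^ 3 = (q - 1) * q ^ 3 * (3 * (j + 2) - 1) := by ring
      _ ≤ a0 * (2 * q ^ 3) := h5
      _ = _ := by ring
  rw [hs, show 3 * (j + 2) - 1 = 3 * j + 5 by omega, show s + 5 - 1 = s + 4 by omega] at h6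
  rw [hs] at hA1
  nlinarith

/-- Dimension seven. -/
theorem eq_top_seven (hQ : (polarBilin Q).Nondegenerate) (hn : Module.finrank F V = 7) (hq : 5 ≤ Nat.card F)
    (h2 : (2 : F) ≠ 0) (H : Subgroup (SG Q))
    (hbig : ∀ x : V, x ≠ 0 → Q x = 0 → Nat.card F ^ 4 ≤ Nat.card (rootSet H x)) : H = ⊤ := by
  haveI : Finite V := Module.finite_of_finite F
  have h5 : ∀ x : V, x ≠ 0 → Q x = 0 → Nat.card F ^ 5 ≤ Nat.card (rootSet H x) := fun x hx0 hx => by
    obtain ⟨y, h⟩ := exists_isPair hQ hx0 hx
    exact rootSet_ge_seven hQ hn hq h2 H hbig h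
  refine eq_top_of_lines hQ (by omega) H fun x y hx0 hx hy hxy hind => ?_
  by_contra hne
  have hy0 : y ≠ 0 := fun h => hind (h ▸ zero_mem _)
  have h1 := (Nat.mul_le_mul (h5 x hx0 hx) (h5 y hy0 hy)).trans (line_count hQ H hx hy hxy hx0 hind hne)
  have h3 := card_lineS_lt hne
  rw [hn, ← pow_add] at h1
  set q := Nat.card F
  set g := Nat.card (lineS H x y)
  have h4 : 4 * q ^ 10 ≤ q ^ 9 := by
    calc 4 * q ^ 10 ≤ 4 * (q ^ 7 * (g * g)) := Nat.mul_le_mul_left _ h1
      _ = q ^ 7 * ((2 * g) * (2 * g)) := by ring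
      _ ≤ q ^ 7 * (q * q) := Nat.mul_le_mul_left _ (Nat.mul_le_mul h3 h3)
      _ = _ := by ring
  have h6 : q ^ 9 ≤ q ^ 10 := Nat.pow_le_pow_right (by omega) (by omega)
  have h7 : 0 < q ^ 10 := pow_pos (by omega) _
  omega

end CfsgLib.MinIdx.Orth
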