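import Cfsg.Agent.Lib.MinIdx.OrthLevi
import Cfsg.Agent.Lib.Geometry.MaxSingular

/-!
# Large root sets at every point give the whole group
-/

set_option autoImplicit false

namespace CfsgLib.MinIdx.Orth

open QuadraticMap CfsgLib.Geometry

variable {F V : Type*} [Field F] [AddCommGroup V] [Module F V] [FiniteDimensional F V] [Finite F]
  {Q : QuadraticForm F V} {x y : V}

/-- The counting lemma when both sides have a radical. -/
theorem card_mul_card_le' {T C : Type*} [AddCommGroup T] [Finite T] [AddCommGroup C] [Finite C]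
    (β : T → T → C) (hβ : ∀ a v w, β a (v + w) = β a v + β a w) (hl : ∀ a a' v, β (a + a') v = β a v + β a' v)
    (Γ : AddSubgroup C) (hΓ : Γ ≠ ⊤) (A B R : AddSubgroup T)
    (hAB : ∀ a ∈ A, ∀ b ∈ B, β a b ∈ Γ) (hRz : ∀ a, ∀ r ∈ R, β a r = 0)
    (hR : ∀ a, a ∉ R → ∀ c, ∃ v, β a v = c) :
    Nat.card A * Nat.card B * Nat.card R ≤ Nat.card T * Nat.card ↥(A ⊓ R) * Nat.card ↥(B ⊓ R) := by
  classical
  have h1 := card_mul_card_le β hβ Γ hΓ A (B ⊔ R) R (fun a _ a' _ => hl a a') (fun a ha b hb => by
    obtain ⟨b', hb', r, hr, rfl⟩ := AddSubgroup.mem_sup.1 hb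
    rw [hβ, hRz a r hr, add_zero]
    exact hAB a ha b' hb') (fun a _ ha => hR a ha)
  let φ : B × R →+ T := B.subtype.coprod R.subtype
  have h2 : Nat.card B * Nat.card R ≤ Nat.card ↥(B ⊔ R) * Nat.card ↥(B ⊓ R) := by
    rw [← Nat.card_prod, AddSubgroup.card_eq_card_quotient_mul_card_addSubgroup φ.ker]
    refine Nat.mul_le_mul ?_ ?_
    · rw [Nat.card_congr (QuotientAddGroup.quotientKerEquivRange φ).toEquiv]
      refine Nat.card_le_card_of_injective (fun v => (⟨v.1, ?_⟩ : ↥(B ⊔ R))) fun a b hab =>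
        Subtype.ext (congrArg (fun z : ↥(B ⊔ R) => z.1) hab)
      obtain ⟨⟨b, r⟩, hbr⟩ := v.2
      rw [← hbr]
      exact add_mem (AddSubgroup.mem_sup_left b.2) (AddSubgroup.mem_sup_right r.2)
    · refine Nat.card_le_card_of_injective (fun p => (⟨p.1.1.1, p.1.1.2, ?_⟩ : ↥(B ⊓ R))) ?_
      · have h := p.2
        change (p.1.1.1 : T) + p.1.2.1 = 0 at h
        rw [eq_neg_of_add_eq_zero_left h]
        exact R.neg_mem p.1.2.2
      · intro p r hpr
        have e1 : p.1.1.1 = r.1.1.1 := congrArg (fun z : ↥(B ⊓ R) => z.1) hpr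
        have hp : (p.1.1.1 : T) + p.1.2.1 = 0 := p.2
        have hr : (r.1.1.1 : T) + r.1.2.1 = 0 := r.2
        refine Subtype.ext (Prod.ext (Subtype.ext e1) (Subtype.ext ?_))
        rw [e1] at hp
        exact add_left_cancel (hp.trans hr.symm)
  calc Nat.card A * Nat.card B * Nat.card R = Nat.card A * (Nat.card B * Nat.card R) := by ring
    _ ≤ Nat.card A * (Nat.card ↥(B ⊔ R) * Nat.card ↥(B ⊓ R)) := Nat.mul_le_mul_left _ h2
    _ = Nat.card A * Nat.card ↥(B ⊔ R) * Nat.card ↥(B ⊓ R) := by ring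
    _ ≤ _ := Nat.mul_le_mul_right _ h1

/-- The scalars `c` with `c • x` in the root set at `y`. -/
noncomputable def lineS (H : Subgroup (SG Q)) (y x : V) : AddSubgroup F :=
  (rootSet H y).comap (LinearMap.toSpanSingleton F V x).toAddMonoidHom

omit [FiniteDimensional F V] [Finite F] in
theorem mem_lineS {H : Subgroup (SG Q)} {c : F} : c ∈ lineS H y x ↔ c • x ∈ rootSet H y := Iff.rfl

omit [FiniteDimensional F V] [Finite F] in
theorem lineS_comm (H : Subgroup (SG Q)) (hx : Q x = 0) (hy : Q y = 0) (hxy : polar Q x y = 0) :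
    lineS H x y = lineS H y x := by
  have key : ∀ {x y : V}, Q x = 0 → Q y = 0 → polar Q x y = 0 → ∀ c : F, c ∈ lineS H x y → c ∈ lineS H y x := by
    intro x y hx hy hxy c hc
    have h1 : -c ∈ lineS H y x := mem_lineS.2 ⟨by rw [polar_smul_right', polar_comm, hxy, mul_zero],
      es_swap hx hy hxy c ▸ (mem_lineS.1 hc).2⟩
    simpa using (lineS H y x).neg_mem h1
  ext c
  exact ⟨key hx hy hxy c, key hy hx (by rw [polar_comm, hxy]) c⟩

/-- Two orthogonal points with a proper line intersection. -/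
theorem line_count (hQ : (polarBilin Q).Nondegenerate) (H : Subgroup (SG Q)) (hx : Q x = 0) (hy : Q y = 0)
    (hxy : polar Q x y = 0) (hx0 : x ≠ 0) (hind : y ∉ Submodule.span F {x}) (hne : lineS H x y ≠ ⊤) :
    Nat.card (rootSet H x) * Nat.card (rootSet H y) ≤
      Nat.card F ^ Module.finrank F V * (Nat.card (lineS H x y) * Nat.card (lineS H x y)) := by
  classical
  haveI : Finite V := Module.finite_of_finite F
  set q := Nat.card F
  have hyx : polar Q y x = 0 := by rw [polar_comm, hxy]
  have hli : LinearIndependent F ![x, y] :=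
    (LinearIndependent.pair_iff' hx0).2 fun a ha => hind (Submodule.mem_span_singleton.2 ⟨a, ha⟩)
  have hS : Module.finrank F (Submodule.span F ({x, y} : Set V)) = 2 := by
    have := finrank_span_eq_card hli
    rwa [Matrix.range_cons_cons_empty, Fintype.card_fin] at this
  let T := polarPerp Q (Submodule.span F ({x, y} : Set V))
  have hT : ∀ {v}, v ∈ T ↔ polar Q x v = 0 ∧ polar Q y v = 0 := by
    intro v
    rw [mem_polarPerp]
    refine ⟨fun h => ⟨h x (Submodule.subset_span (by simp)), h y (Submodule.subset_span (by simp))⟩,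
      fun h w hw => ?_⟩
    obtain ⟨a, b, rfl⟩ := Submodule.mem_span_pair.1 hw
    rw [polar_add_left, polar_smul_left', polar_smul_left', h.1, h.2, mul_zero, mul_zero, add_zero]
  have hTcard : Nat.card T * (q * q) = q ^ Module.finrank F V := by
    have h := finrank_polarPerp hQ (Submodule.span F ({x, y} : Set V))
    rw [hS] at h
    rw [Module.natCard_eq_pow_finrank (K := F), ← h, pow_add, _root_.sq]
  let A : AddSubgroup T := (rootSet H x).comap T.subtype.toAddMonoidHom
  let B : AddSubgroup T := (rootSet H y).comap T.subtype.toAddMonoidHom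
  let R : AddSubgroup T := ((Submodule.span F ({x, y} : Set V)).comap T.subtype).toAddSubgroup
  have hRT : Submodule.span F ({x, y} : Set V) ≤ T := by
    refine Submodule.span_le.2 ?_
    rintro _ (rfl | rfl)
    · exact hT.2 ⟨by rw [polar_self', hx, mul_zero], hyx⟩
    · exact hT.2 ⟨hxy, by rw [polar_self', hy, mul_zero]⟩
  have hRcard : Nat.card R = q * q := by
    rw [← _root_.sq, ← hS, ← Module.natCard_eq_pow_finrank]
    exact Nat.card_congr
      { toFun := fun v => ⟨v.1.1, v.2⟩
        invFun := fun v => ⟨⟨v.1, hRT v.2⟩, v.2⟩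
        left_inv := fun _ => rfl
        right_inv := fun _ => rfl }
  -- restricting to `T`
  have hrestr : ∀ a b : V, (∀ {v}, polar Q a v = 0 → polar Q b v = 0 → v ∈ T) →
      Nat.card (rootSet H a) ≤ Nat.card ↥((rootSet H a).comap T.subtype.toAddMonoidHom) * q := by
    intro a b hT'
    let φ : rootSet H a →+ F :=
      { toFun := fun v => polar Q b v.1
        map_zero' := QuadraticMap.polar_zero_right _ _
        map_add' := fun v w => polar_add_right _ _ _ _ }
    rw [AddSubgroup.card_eq_card_quotient_mul_card_addSubgroup φ.ker, mul_comm]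
    refine Nat.mul_le_mul ?_ ?_
    · refine Nat.card_le_card_of_injective (fun v => (⟨⟨v.1.1, hT' v.1.2.1 v.2⟩, v.1.2⟩ :
          ↥((rootSet H a).comap T.subtype.toAddMonoidHom))) fun v w h => ?_
      exact Subtype.ext (Subtype.ext (congrArg (fun z => (z.1 : V)) h))
    · rw [Nat.card_congr (QuotientAddGroup.quotientKerEquivRange φ).toEquiv]
      exact Nat.card_le_card_of_injective _ Subtype.val_injective
  have hA := hrestr x y (fun h1 h2 => hT.2 ⟨h1, h2⟩)
  have hB := hrestr y x (fun h1 h2 => hT.2 ⟨h2, h1⟩)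
  change Nat.card (rootSet H x) ≤ Nat.card A * q at hA
  change Nat.card (rootSet H y) ≤ Nat.card B * q at hB
  have hcap : ∀ (a b : V), Q a = 0 → (∀ v : T, v.1 ∈ Submodule.span F ({x, y} : Set V) → ∃ s c : F, s • a + c • b = v.1) →
      Nat.card ↥((rootSet H a).comap T.subtype.toAddMonoidHom ⊓ R) ≤ q * Nat.card (lineS H a b) := by
    intro a b ha hdec
    rw [← Nat.card_prod]
    choose s c hsc using hdec
    refine Nat.card_le_card_of_injective (fun v => (s v.1 v.2.2, (⟨c v.1 v.2.2, ?_⟩ : lineS H a b))) ?_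
    · have := (rootSet H a).sub_mem (show (v.1.1 : V) ∈ rootSet H a from v.2.1) (line_mem_rootSet H ha (s v.1 v.2.2))
      rw [← hsc v.1 v.2.2, add_sub_cancel_left] at this
      exact this
    · intro v w hvw
      obtain ⟨h1, h2⟩ := Prod.mk.inj hvw
      refine Subtype.ext (Subtype.ext ?_)
      have h3 : c v.1 v.2.2 = c w.1 w.2.2 := congrArg (fun z : lineS H a b => z.1) h2
      rw [← hsc v.1 v.2.2, ← hsc w.1 w.2.2, h1, h3]
  have hcA := hcap x y hx fun v hv => Submodule.mem_span_pair.1 hv
  have hcB := hcap y x hy fun v hv => by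
    obtain ⟨a, b, h⟩ := Submodule.mem_span_pair.1 hv
    exact ⟨b, a, by rw [← h, add_comm]⟩
  rw [← lineS_comm H hx hy hxy] at hcB
  have hmain := card_mul_card_le' (T := T) (C := F) (fun a b => polar Q a.1 b.1)
    (fun a v w => polar_add_right _ _ _ _) (fun a a' v => polar_add_left _ _ _ _) (lineS H x y) hne A B R
    (fun a ha b hb => by
      show polar Q a.1 b.1 ∈ lineS H x y
      exact mem_lineS.2 (comm_mem hy hx hyx hb (hT.1 b.2).1 ha (hT.1 a.2).2))
    (fun a r hr => by
      show polar Q a.1 r.1 = 0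
      obtain ⟨s, c, h⟩ := Submodule.mem_span_pair.1 (show r.1 ∈ Submodule.span F ({x, y} : Set V) from hr)
      rw [← h, polar_add_right, polar_smul_right', polar_smul_right', polar_comm Q a.1 x, (hT.1 a.2).1,
        polar_comm Q a.1 y, (hT.1 a.2).2]; ring)
    (fun a haR c => by
      obtain ⟨v, hv, hva⟩ : ∃ v ∈ T, polar Q a.1 v ≠ 0 := by
        by_contra hc
        push Not at hc
        refine haR ?_
        show a.1 ∈ Submodule.span F ({x, y} : Set V)
        rw [← LinearMap.BilinForm.orthogonal_orthogonal (B := (polarBilin Q : LinearMap.BilinForm F V)) hQ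
          (fun u v h => by
            show polar Q v u = 0
            rw [polar_comm]; exact h) (Submodule.span F ({x, y} : Set V))]
        intro n hn
        show polar Q n a.1 = 0
        rw [polar_comm]
        exact hc n hn
      exact ⟨⟨(c / polar Q a.1 v) • v, T.smul_mem _ hv⟩, by
        show polar Q a.1 ((c / polar Q a.1 v) • v) = c
        rw [polar_smul_right', div_mul_cancel₀ _ hva]⟩)
  rw [hRcard] at hmain
  have hqq : 0 < q * q := Nat.mul_pos Nat.card_pos Nat.card_pos
  refine Nat.le_of_mul_le_mul_right ?_ hqq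
  calc Nat.card (rootSet H x) * Nat.card (rootSet H y) * (q * q)
      ≤ (Nat.card A * q) * (Nat.card B * q) * (q * q) := Nat.mul_le_mul_right _ (Nat.mul_le_mul hA hB)
    _ = Nat.card A * Nat.card B * (q * q) * (q * q) := by ring
    _ ≤ Nat.card T * Nat.card ↥(A ⊓ R) * Nat.card ↥(B ⊓ R) * (q * q) := Nat.mul_le_mul_right _ hmain
    _ ≤ Nat.card T * (q * Nat.card (lineS H x y)) * (q * Nat.card (lineS H x y)) * (q * q) :=
        Nat.mul_le_mul_right _ (Nat.mul_le_mul (Nat.mul_le_mul_left _ hcA) hcB)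
    _ = Nat.card T * (q * q) * (Nat.card (lineS H x y) * Nat.card (lineS H x y)) * (q * q) := by ring
    _ = _ := by rw [hTcard]

theorem card_lineS_lt {H : Subgroup (SG Q)} (hne : lineS H x y ≠ ⊤) :
    2 * Nat.card (lineS H x y) ≤ Nat.card F := by
  rw [← (lineS H x y).index_mul_card]
  refine Nat.mul_le_mul_right _ ?_
  have h0 : (lineS H x y).index ≠ 0 := AddSubgroup.index_ne_zero_of_finite
  have h1 : (lineS H x y).index ≠ 1 := fun h => hne (AddSubgroup.index_eq_one.1 h)
  omega

/-- All line intersections full gives the whole group. -/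
theorem eq_top_of_lines (hQ : (polarBilin Q).Nondegenerate) (hn : 5 ≤ Module.finrank F V) (H : Subgroup (SG Q))
    (h : ∀ x y : V, x ≠ 0 → Q x = 0 → Q y = 0 → polar Q x y = 0 → y ∉ Submodule.span F {x} → lineS H x y = ⊤) :
    H = ⊤ := by
  refine eq_top_of_rootSets fun x hx0 hx v hv => ?_
  have hsing : ∀ w, Q w = 0 → polar Q x w = 0 → w ∈ rootSet H x := by
    intro w hw hxw
    by_cases hm : w ∈ Submodule.span F {x}
    · obtain ⟨c, rfl⟩ := Submodule.mem_span_singleton.1 hm
      exact line_mem_rootSet H hx c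
    · have : (1 : F) ∈ lineS H x w := h x w hx0 hx hw hxw hm ▸ AddSubgroup.mem_top 1
      simpa using mem_lineS.1 this
  obtain ⟨y, hp⟩ := exists_isPair hQ hx0 hx
  have hW : ∀ w : pairPerp Q x y, w.1 ∈ rootSet H x :=
    singular_induction (P := fun w : pairPerp Q x y => w.1 ∈ rootSet H x) (nondeg_QW hp hQ)
      (by have := finrank_W hp; omega) (fun w hw => hsing _ hw (mem_pairPerp.1 w.2).1)
      (fun a b ha hb => (rootSet H x).add_mem ha hb)
  have h0 := decompW (Q := Q) (x := x) (y := y) v
  rw [polar_comm Q v x, hv, zero_smul, add_zero] at h0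
  rw [← h0]
  exact (rootSet H x).add_mem (hW ⟨_, prW_mem hp v⟩) (line_mem_rootSet H hx _)

/-- Root sets of codimension at most two, in dimension at least eight. -/
theorem eq_top_of_big (hQ : (polarBilin Q).Nondegenerate) (hn : 8 ≤ Module.finrank F V) (H : Subgroup (SG Q))
    (hbig : ∀ x : V, x ≠ 0 → Q x = 0 → Nat.card F ^ (Module.finrank F V - 3) ≤ Nat.card (rootSet H x)) :
    H = ⊤ := by
  refine eq_top_of_lines hQ (by omega) H fun x y hx0 hx hy hxy hind => ?_
  by_contra hne
  have hy0 : y ≠ 0 := fun h => hind (h ▸ zero_mem _)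
  have h1 := (Nat.mul_le_mul (hbig x hx0 hx) (hbig y hy0 hy)).trans (line_count hQ H hx hy hxy hx0 hind hne)
  have h2 := card_lineS_lt hne
  rw [← pow_add] at h1
  set q := Nat.card F
  set g := Nat.card (lineS H x y)
  have hq : 2 ≤ q := Finite.one_lt_card
  have h3 : 4 * q ^ (Module.finrank F V - 3 + (Module.finrank F V - 3)) ≤ q ^ (Module.finrank F V + 2) := by
    calc 4 * q ^ (Module.finrank F V - 3 + (Module.finrank F V - 3))
        ≤ 4 * (q ^ Module.finrank F V * (g * g)) := Nat.mul_le_mul_left _ h1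
      _ = q ^ Module.finrank F V * ((2 * g) * (2 * g)) := by ring
      _ ≤ q ^ Module.finrank F V * (q * q) := Nat.mul_le_mul_left _ (Nat.mul_le_mul h2 h2)
      _ = _ := by ring
  have h4 : q ^ (Module.finrank F V + 2) ≤ q ^ (Module.finrank F V - 3 + (Module.finrank F V - 3)) :=
    Nat.pow_le_pow_right (by omega) (by omega)
  have h5 : 0 < q ^ (Module.finrank F V - 3 + (Module.finrank F V - 3)) := pow_pos (by omega) _
  omega

end CfsgLib.MinIdx.Orth
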