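import Cfsg.Agent.Lib.MinIdx.OrthEight
import Cfsg.Agent.Lib.MinIdx.OrthTop
import Cfsg.Agent.Lib.MinIdx.OrthSeven
import Cfsg.Agent.Lib.Geometry.POmega

/-!
# The index bound: induction step, transport, and passage to `POmega`
-/

set_option autoImplicit false

namespace CfsgLib.MinIdx.Orth

open QuadraticMap CfsgLib.Geometry
open scoped commutatorElement

variable {F V : Type*} [Field F] [AddCommGroup V] [Module F V] {Q : QuadraticForm F V} {x y : V}

/-- Every proper subgroup of the Siegel group has index times `q - 1` at least `B`. -/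
def Bound (Q : QuadraticForm F V) (B : ℕ) : Prop :=
  ∀ L : Subgroup (SG Q), L ≠ ⊤ → B ≤ L.index * (Nat.card F - 1)

section Step

variable [FiniteDimensional F V] [Finite F]

theorem rootSet_ge_of_not_zero (hQ : (polarBilin Q).Nondegenerate) (hn : 7 ≤ Module.finrank F V)
    {B : ℕ} (hB : ∀ x y : V, IsPair Q x y → Bound (QW Q x y) B)
    (hS2 : sing Q < 2 * (Nat.card F - 1) * Nat.card F ^ (Module.finrank F V - 2))
    (hnum : sing Q ≤ 2 * Nat.card F ^ 2 * B) (H : Subgroup (SG Q)) (h : IsPair Q x y)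
    (hH : H.index * (Nat.card F - 1) < sing Q) (hnz : liftL H h = ⊤ → wSet H x y ≠ ⊥) :
    Nat.card F ^ (Module.finrank F V - 3) ≤ Nat.card (rootSet H x) := by
  classical
  have hq : 2 ≤ Nat.card F := Finite.one_lt_card
  haveI : Finite V := Module.finite_of_finite F
  set q := Nat.card F with hqdef
  set X := (wSet H x y).index
  have hWcard : X * Nat.card (wSet H x y) = q ^ (Module.finrank F V - 2) := by
    rw [AddSubgroup.index_mul_card, Module.natCard_eq_pow_finrank (K := F), ← hqdef]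
    congr 1
    have := finrank_W h
    omega
  have hX : X ≤ q ^ 2 := by
    by_cases htop : liftL H h = ⊤
    · have hw := (wSet_cases hQ h (by omega) htop).resolve_left (hnz htop)
      show (wSet H x y).index ≤ _
      rw [hw, AddSubgroup.index_top]
      exact Nat.one_le_pow _ _ (by omega)
    have h1 : X * B < 2 * q ^ 2 * B := by
      calc X * B ≤ X * ((liftM H h).index * (q - 1)) :=
            Nat.mul_le_mul_left _ ((hB x y h _ htop).trans (Nat.mul_le_mul_right _ (liftL_index_le H h)))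
        _ = X * (liftM H h).index * (q - 1) := (mul_assoc _ _ _).symm
        _ ≤ H.index * (q - 1) := Nat.mul_le_mul_right _ (index_ge H h)
        _ < sing Q := hH
        _ ≤ _ := hnum
    have h2 : X < 2 * q ^ 2 := Nat.lt_of_mul_lt_mul_right h1
    haveI := Fintype.ofFinite F
    obtain ⟨p, hpchar⟩ := CharP.exists F
    haveI := hpchar
    obtain ⟨⟨e, he⟩, hp, hF⟩ := FiniteField.card F p
    dsimp at hF
    rw [← Nat.card_eq_fintype_card, ← hqdef] at hF
    obtain ⟨i, -, hi⟩ : ∃ i ≤ e * (Module.finrank F V - 2), X = p ^ i := (Nat.dvd_prime_pow hp).1 (by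
      rw [pow_mul, ← hF, ← hWcard]
      exact Dvd.intro _ rfl)
    rw [hi, hF, ← pow_mul] at h2 ⊢
    rcases le_or_gt i (e * 2) with hle | hlt
    · exact Nat.pow_le_pow_right hp.pos hle
    · exfalso
      have h5 : 2 * p ^ (e * 2) ≤ p ^ i :=
        calc 2 * p ^ (e * 2) ≤ p * p ^ (e * 2) := Nat.mul_le_mul_right _ hp.two_le
          _ = p ^ (e * 2 + 1) := (pow_succ' p _).symm
          _ ≤ _ := Nat.pow_le_pow_right hp.pos hlt
      omega
  rw [card_rootSet H h, ← hqdef]
  refine Nat.le_of_mul_le_mul_left (c := q ^ 2) ?_ (Nat.pow_pos (by omega))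
  calc q ^ 2 * q ^ (Module.finrank F V - 3) = q * q ^ (Module.finrank F V - 2) := by
        rw [← (pow_succ' q (Module.finrank F V - 2)), ← pow_add]
        congr 1
        omega
    _ = X * (q * Nat.card (wSet H x y)) := by rw [← hWcard]; ring
    _ ≤ _ := Nat.mul_le_mul_right _ hX

theorem rootSet_ge_of_base (hQ : (polarBilin Q).Nondegenerate) (hn : 7 ≤ Module.finrank F V) (hq : 4 ≤ Nat.card F)
    {B : ℕ} (hB : ∀ x y : V, IsPair Q x y → Bound (QW Q x y) B)
    (hS2 : sing Q < 2 * (Nat.card F - 1) * Nat.card F ^ (Module.finrank F V - 2))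
    (hnum : sing Q ≤ 2 * Nat.card F ^ 2 * B) (H : Subgroup (SG Q)) (h : IsPair Q x y)
    (hH : H.index * (Nat.card F - 1) < sing Q) :
    Nat.card F ^ (Module.finrank F V - 3) ≤ Nat.card (rootSet H x) :=
  rootSet_ge_of_not_zero hQ hn hB hS2 hnum H h hH fun _ => not_zero hQ (by omega) hq H h hS2 hH

theorem bound_of_rootSets (hQ : (polarBilin Q).Nondegenerate)
    (hbig : ∀ (H : Subgroup (SG Q)) (x y : V), IsPair Q x y → H.index * (Nat.card F - 1) < sing Q →
      Nat.card F ^ (Module.finrank F V - 3) ≤ Nat.card (rootSet H x))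
    (htop : ∀ H : Subgroup (SG Q), (∀ x : V, x ≠ 0 → Q x = 0 →
      Nat.card F ^ (Module.finrank F V - 3) ≤ Nat.card (rootSet H x)) → H = ⊤) :
    Bound Q (sing Q) := by
  intro H hH
  by_contra hlt
  push Not at hlt
  refine hH (htop H fun x hx0 hx => ?_)
  obtain ⟨y, hy⟩ := exists_isPair hQ hx0 hx
  exact hbig H x y hy hlt

theorem bound_seven (hQ : (polarBilin Q).Nondegenerate) (hn : Module.finrank F V = 7) (hq : 5 ≤ Nat.card F)
    (h2 : (2 : F) ≠ 0) {B : ℕ} (hB : ∀ x y : V, IsPair Q x y → Bound (QW Q x y) B)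
    (hS2 : sing Q < 2 * (Nat.card F - 1) * Nat.card F ^ (Module.finrank F V - 2))
    (hnum : sing Q ≤ 2 * Nat.card F ^ 2 * B) : Bound Q (sing Q) :=
  bound_of_rootSets hQ (fun H _ _ h hH => rootSet_ge_of_base hQ (by omega) (by omega) hB hS2 hnum H h hH)
    fun H hbig => eq_top_seven hQ hn hq h2 H fun x hx0 hx => by simpa [hn] using hbig x hx0 hx

theorem bound_step (hQ : (polarBilin Q).Nondegenerate) (hn : 8 ≤ Module.finrank F V) (hq : 4 ≤ Nat.card F)
    {B : ℕ} (hB : ∀ x y : V, IsPair Q x y → Bound (QW Q x y) B)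
    (hS2 : sing Q < 2 * (Nat.card F - 1) * Nat.card F ^ (Module.finrank F V - 2))
    (hnum : sing Q ≤ 2 * Nat.card F ^ 2 * B) : Bound Q (sing Q) :=
  bound_of_rootSets hQ (fun H _ _ h hH => rootSet_ge_of_base hQ (by omega) hq hB hS2 hnum H h hH)
    fun H hbig => eq_top_of_big hQ hn H hbig

theorem bound_eight (hQ : (polarBilin Q).Nondegenerate) (hn : Module.finrank F V = 8) (hq : 4 ≤ Nat.card F)
    (hB : ∀ x y : V, IsPair Q x y → Bound (QW Q x y) (Nat.card F ^ 4 - 1))
    (hS : sing Q = (Nat.card F ^ 3 + 1) * (Nat.card F ^ 4 - 1))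
    (hS2 : sing Q < 2 * (Nat.card F - 1) * Nat.card F ^ (Module.finrank F V - 2)) : Bound Q (sing Q) :=
  bound_of_rootSets hQ
    (fun H _ _ h hH => by simpa [hn] using rootSet_ge_eight hQ hn hq hB H h hS hS2 hH)
    fun H hbig => eq_top_of_big hQ (by omega) H hbig

end Step

section Transport

variable {V' : Type*} [AddCommGroup V'] [Module F V'] {Q' : QuadraticForm F V'}

theorem polar_congr (e : V ≃ₗ[F] V') (he : ∀ v, Q' (e v) = Q v) (u v : V) :
    polar Q' (e u) (e v) = polar Q u v := by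
  simp only [QuadraticMap.polar, ← map_add, he]

theorem conj_mem_siegel (e : V ≃ₗ[F] V') (he : ∀ v, Q' (e v) = Q v) {g : V ≃ₗ[F] V} (hg : g ∈ siegelGroup Q) :
    (e.symm.trans g).trans e ∈ siegelGroup Q' := by
  induction hg using Subgroup.closure_induction with
  | mem g hg =>
    obtain ⟨a, w, ha, hw, rfl⟩ := hg
    refine Subgroup.subset_closure ⟨e a, e w, (he a).trans ha, (polar_congr e he a w).trans hw,
      LinearEquiv.ext fun z => ?_⟩
    obtain ⟨v, rfl⟩ := e.surjective z
    simp [siegel_apply, he, polar_congr e he]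
  | one =>
    convert Subgroup.one_mem (siegelGroup Q') using 1
    exact LinearEquiv.ext fun z => by simp
  | mul a b _ _ iha ihb =>
    convert Subgroup.mul_mem (siegelGroup Q') iha ihb using 1
    exact LinearEquiv.ext fun z => by simp [LinearEquiv.mul_apply]
  | inv a _ iha =>
    convert Subgroup.inv_mem (siegelGroup Q') iha using 1
    exact LinearEquiv.ext fun z => rfl

/-- An isometry gives an isomorphism of Siegel groups. -/
noncomputable def congrSG (e : V ≃ₗ[F] V') (he : ∀ v, Q' (e v) = Q v) : SG Q ≃* SG Q' where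
  toFun g := ⟨(e.symm.trans g.1).trans e, conj_mem_siegel e he g.2⟩
  invFun g := ⟨(e.trans g.1).trans e.symm, by
    have := conj_mem_siegel e.symm (fun v => by rw [← he (e.symm v), e.apply_symm_apply]) g.2
    simpa using this⟩
  left_inv g := Subtype.ext (LinearEquiv.ext fun v => by simp)
  right_inv g := Subtype.ext (LinearEquiv.ext fun v => by simp)
  map_mul' a b := Subtype.ext (LinearEquiv.ext fun v => by simp [LinearEquiv.mul_apply])

theorem Bound.congr {B : ℕ} (hb : Bound Q B) (e : V ≃ₗ[F] V') (he : ∀ v, Q' (e v) = Q v) : Bound Q' B := by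
  intro L hL
  have hs : Function.Surjective (congrSG e he).toMonoidHom := (congrSG e he).surjective
  have hne : L.comap (congrSG e he).toMonoidHom ≠ ⊤ := fun h0 =>
    hL (Subgroup.comap_injective hs (h0.trans (Subgroup.comap_top _).symm))
  have := hb _ hne
  rwa [Subgroup.index_comap_of_surjective L hs] at this

variable [FiniteDimensional F V] [FiniteDimensional F V'] [Finite F]

/-- A bound for one complement of a pair holds for all complements of pairs. -/
theorem bound_pairs (hQ : (polarBilin Q).Nondegenerate) (hn : 4 ≤ Module.finrank F V) {x₀ y₀ : V}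
    (h₀ : IsPair Q x₀ y₀) (j : V' →ₗ[F] V) (hj : Function.Injective j) (hiso : ∀ w, Q (j w) = Q' w)
    (hx : ∀ w, polar Q x₀ (j w) = 0) (hy : ∀ w, polar Q y₀ (j w) = 0)
    (hdim : Module.finrank F V' + 2 = Module.finrank F V) {B : ℕ} (hb : Bound Q' B) :
    ∀ x y : V, IsPair Q x y → Bound (QW Q x y) B := by
  intro x y h
  obtain ⟨s, hs, hsx, hsy⟩ := siegel_trans_pair hQ hn h₀.qx h₀.qy h.qx h.qy h₀.xy h.xy
  have hso := siegelGroup_le_orth hs
  let k : V' →ₗ[F] pairPerp Q x y := (s.toLinearMap ∘ₗ j).codRestrict _ fun w => mem_pairPerp.2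
    ⟨by rw [← hsx]; exact (orth_polar hso _ _).trans (hx w), by rw [← hsy]; exact (orth_polar hso _ _).trans (hy w)⟩
  have hk : Function.Injective k := fun a b hab => hj (s.injective (congrArg Subtype.val hab))
  have hd : Module.finrank F V' = Module.finrank F (pairPerp Q x y) := by
    have := finrank_W h
    omega
  refine hb.congr (k.linearEquivOfInjective hk hd) fun w => ?_
  rw [LinearMap.linearEquivOfInjective_apply, QW_apply]
  exact (mem_orth.1 hso _).trans (hiso w)

end Transport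

section Lines

/-- The subgroup fixing a line. -/
noncomputable def lineStab (Q : QuadraticForm F V) (z : V) : Subgroup (SG Q) where
  carrier := {g | ∃ c : F, c ≠ 0 ∧ g.1 z = c • z}
  one_mem' := ⟨1, one_ne_zero, by rw [sg_one, one_smul]⟩
  mul_mem' := by
    rintro a b ⟨c, hc, ha⟩ ⟨d, hd, hb⟩
    exact ⟨d * c, mul_ne_zero hd hc, by rw [sg_mul, hb, map_smul, ha, smul_smul]⟩
  inv_mem' := by
    rintro a ⟨c, hc, ha⟩
    refine ⟨c⁻¹, inv_ne_zero hc, ?_⟩
    rw [eq_inv_smul_iff₀ hc, ← map_smul, ← ha, sg_inv]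

variable [FiniteDimensional F V] [Finite F]

theorem index_lineStab (hQ : (polarBilin Q).Nondegenerate) (hn : 4 ≤ Module.finrank F V) {z : V} (hz0 : z ≠ 0)
    (hz : Q z = 0) : (lineStab Q z).index * (Nat.card F - 1) = sing Q := by
  haveI : Finite V := Module.finite_of_finite F
  refine le_antisymm ?_ (sing_le_of_line hQ hn _ hz0 hz fun k hk => hk.imp fun c hc => hc.2)
  rw [← Nat.card_units F, Subgroup.index, sing, ← Nat.card_prod]
  refine Nat.card_le_card_of_injective
    (fun p => ⟨(p.2 : F) • p.1.out.1 z, smul_ne_zero p.2.ne_zero (sg_ne_zero _ hz0),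
      by rw [map_smul', sg_Q, hz, mul_zero]⟩) ?_
  rintro ⟨g, a⟩ ⟨k, b⟩ hab
  have h1 : (a : F) • g.out.1 z = (b : F) • k.out.1 z := congrArg Subtype.val hab
  have hgk : g = k := by
    rw [← QuotientGroup.out_eq' g, ← QuotientGroup.out_eq' k]
    refine QuotientGroup.eq.2 ⟨(b : F)⁻¹ * a, mul_ne_zero (inv_ne_zero b.ne_zero) a.ne_zero, ?_⟩
    rw [sg_mul, mul_smul, eq_inv_smul_iff₀ b.ne_zero, ← map_smul, ← h1, map_smul, sg_inv]
  subst hgk
  refine Prod.ext rfl (Units.ext ?_)
  by_contra hne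
  have h2 : ((a : F) - b) • g.out.1 z = 0 := by rw [sub_smul, h1, sub_self]
  exact (smul_ne_zero (sub_ne_zero.2 hne) (sg_ne_zero _ hz0)) h2

end Lines

section Quotient

variable {ι : Type} [Fintype ι] [DecidableEq ι] [Finite F] {R : QuadraticForm F (ι → F)}

/-- The projection of the Siegel group onto `POmega`. -/
theorem exists_proj (hR : (polarBilin R).Nondegenerate) (hn : 5 ≤ Fintype.card ι) :
    ∃ π : SG R →* Cfsg.POmega F ⇑R, Function.Surjective π ∧
      (∀ g, π g = 1 → ∃ t : F, t ≠ 0 ∧ ∀ v, g.1 v = t • v) ∧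
      ∀ g, π g = 1 → g ∈ Subgroup.center (SG R) := by
  have hd : 5 ≤ Module.finrank F (ι → F) := by simpa using hn
  have hn4 : Module.finrank F (ι → F) ≠ 4 ∨ ∃ a : F, a ≠ 0 ∧ a ≠ 1 := Or.inl (by omega)
  have hC := commutator_eq_siegel hR (by omega) (splitSingular_of hR hn4) (reflGroup_eq_orth hR hn4)
  let ψ : commutator (orth R) ≃* SG R :=
    (MulEquiv.subgroupCongr hC).trans (Subgroup.subgroupOfEquivOfLe siegelGroup_le_orth)
  have hψ : ∀ g, ((ψ.symm g : orth R) : (ι → F) ≃ₗ[F] (ι → F)) = g.1 := fun g => rfl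
  refine ⟨(pOmegaEquiv R).symm.toMonoidHom.comp ((QuotientGroup.mk' _).comp ψ.symm.toMonoidHom),
    (pOmegaEquiv R).symm.surjective.comp ((QuotientGroup.mk'_surjective _).comp ψ.symm.surjective), ?_, ?_⟩
  · intro g hg
    have h1 : ψ.symm g ∈ Subgroup.center (commutator (orth R)) :=
      (QuotientGroup.eq_one_iff _).1 ((pOmegaEquiv R).symm.map_eq_one_iff.1 hg)
    obtain ⟨t, htt, ht⟩ := (mem_center_omega_iff hR hd _).1 h1
    exact ⟨t, fun h0 => by simp [h0] at htt, fun v => hψ g ▸ ht v⟩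
  · intro g hg
    have h1 : ψ.symm g ∈ Subgroup.center (commutator (orth R)) :=
      (QuotientGroup.eq_one_iff _).1 ((pOmegaEquiv R).symm.map_eq_one_iff.1 hg)
    refine Subgroup.mem_center_iff.2 fun a => ψ.symm.injective ?_
    simpa using Subgroup.mem_center_iff.1 h1 (ψ.symm a)

theorem index_bound_pOmega (hR : (polarBilin R).Nondegenerate) (hn : 5 ≤ Fintype.card ι) {B : ℕ} (hb : Bound R B)
    (H : Subgroup (Cfsg.POmega F ⇑R)) (hH : H ≠ ⊤) : B ≤ H.index * (Nat.card F - 1) := by
  obtain ⟨π, hπ, -, -⟩ := exists_proj hR hn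
  have hne : H.comap π ≠ ⊤ := fun h0 => hH (Subgroup.comap_injective hπ (h0.trans (Subgroup.comap_top π).symm))
  have := hb _ hne
  rwa [Subgroup.index_comap_of_surjective H hπ] at this

theorem bound_of_pOmega (hR : (polarBilin R).Nondegenerate) (hn : 5 ≤ Fintype.card ι) {B : ℕ}
    (hb : ∀ H : Subgroup (Cfsg.POmega F ⇑R), H ≠ ⊤ → B ≤ H.index * (Nat.card F - 1)) : Bound R B := by
  intro L hL
  obtain ⟨π, hπ, -, hker⟩ := exists_proj hR hn
  haveI : Finite (SG R) := finite_sg
  have hne : L.map π ≠ ⊤ := fun htop => by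
    have hk : ∀ a, ∃ l ∈ L, l⁻¹ * a ∈ Subgroup.center (SG R) := fun a => by
      obtain ⟨l, hl, hla⟩ := htop.symm ▸ Subgroup.mem_top (π a)
      exact ⟨l, hl, hker _ (by rw [map_mul, map_inv, hla, inv_mul_cancel])⟩
    refine hL (eq_top_iff.2 ((sg_perfect hR (by simpa using hn)).symm.le.trans ?_))
    rw [commutator_def, Subgroup.commutator_le]
    intro a _ b _
    obtain ⟨l, hl, hla⟩ := hk a
    obtain ⟨l', hl', hlb⟩ := hk b
    rw [← mul_inv_cancel_left l a, ← mul_inv_cancel_left l' b]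
    set c := l⁻¹ * a
    set d := l'⁻¹ * b
    have hc : ∀ z, c * z = z * c := fun z => (Subgroup.mem_center_iff.1 hla z).symm
    have hd : ∀ z, d * z = z * d := fun z => (Subgroup.mem_center_iff.1 hlb z).symm
    have e : ⁅l * c, l' * d⁆ = ⁅l, l'⁆ := by
      simp only [commutatorElement_def, mul_inv_rev]
      calc l * c * (l' * d) * (c⁻¹ * l⁻¹) * (d⁻¹ * l'⁻¹)
          = l * (c * (l' * d)) * (c⁻¹ * l⁻¹) * (d⁻¹ * l'⁻¹) := by group
        _ = l * l' * (d * l⁻¹) * (d⁻¹ * l'⁻¹) := by rw [hc]; group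
        _ = _ := by rw [hd]; group
    rw [e]
    exact L.mul_mem (L.mul_mem (L.mul_mem hl hl') (L.inv_mem hl)) (L.inv_mem hl')
  refine (hb _ hne).trans (Nat.mul_le_mul_right _ ?_)
  refine Nat.le_of_dvd (Nat.pos_of_ne_zero Subgroup.index_ne_zero_of_finite) ?_
  rw [Subgroup.index_map, MonoidHom.range_eq_top.2 hπ, Subgroup.index_top, mul_one]
  exact Subgroup.index_dvd_of_le le_sup_left

theorem exists_index_pOmega (hR : (polarBilin R).Nondegenerate) (hn : 5 ≤ Fintype.card ι) :
    ∃ H : Subgroup (Cfsg.POmega F ⇑R), H.index * (Nat.card F - 1) = sing R := by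
  obtain ⟨π, hπ, hker, -⟩ := exists_proj hR hn
  obtain ⟨z, hz0, hz⟩ := exists_singular hR (by simp; omega)
  refine ⟨(lineStab R z).map π, ?_⟩
  rw [Subgroup.index_map_eq _ hπ fun g hg => (hker g hg).imp fun t ht => ⟨ht.1, ht.2 z⟩]
  exact index_lineStab hR (by simp; omega) hz0 hz

theorem sing_add_one {V : Type*} [AddCommGroup V] [Module F V] [Finite V] (Q : QuadraticForm F V) :
    sing Q + 1 = Nat.card {v : V // Q v = 0} := by
  rw [sing, ← Nat.card_unique (α := {v : V // v = 0}), ← Nat.card_sum]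
  refine Nat.card_congr ?_
  classical
  exact ((Equiv.subtypeEquivRight fun v => show (v ≠ 0 ∧ Q v = 0) ↔ (Q v = 0 ∧ ¬ v = 0) from and_comm).trans
    (Equiv.subtypeSubtypeEquivSubtypeInter _ fun v => ¬ v = 0).symm).sumCongr
      ((Equiv.subtypeEquivRight fun v => show (v = 0) ↔ (Q v = 0 ∧ v = 0) from
        ⟨fun h => ⟨by rw [h, QuadraticMap.map_zero], h⟩, fun h => h.2⟩).trans
        (Equiv.subtypeSubtypeEquivSubtypeInter _ fun v => v = 0).symm) |>.trans
    ((Equiv.sumComm _ _).trans (Equiv.sumCompl _))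

end Quotient

end CfsgLib.MinIdx.Orth
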