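import Cfsg.Agent.Lib.MinIdx.UnPoint

/-!
# The smallest index of a proper subgroup of `SU` in even dimension at least six
-/

set_option autoImplicit false

namespace CfsgLib.MinIdx.Un

open Matrix CfsgLib.Classical CfsgLib.Classical.Unitary

variable {F : Type*} [Field F] [Finite F] {σ : F →+* F} {q n m k : ℕ}

theorem exists_nonfull (hF : Nat.card F = q ^ 2) (h : UFrob σ q) (hn : 4 ≤ n) (H : Subgroup (Cfsg.SU n F q))
    (hH : H ≠ ⊤) : ∃ x : Fin n → F, x ≠ 0 ∧ uh σ x x = 0 ∧ ctr h H x ≠ ⊤ := by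
  by_contra hall
  push Not at hall
  refine hH (eq_top_iff.2 ?_)
  rw [← transvGroup_eq_top hF h n (by omega) (by omega)]
  refine mem_of_eq_utv h fun v c hv hc => ?_
  rw [← ue_center h hv hc]
  rcases eq_or_ne v 0 with rfl | hv0
  · convert H.one_mem
    exact su_ext fun w => by simp [ue_apply h (Ok.zero hv hc), uh_zero_right]
  · exact (mem_ctr h hv (c := ⟨c, hc⟩)).1 (hall v hv0 hv ▸ AddSubgroup.mem_top _)

theorem notMem_orb (h : UFrob σ q) {H : Subgroup (Cfsg.SU n F q)} {x z : Fin n → F} (hxx : uh σ x x = 0)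
    (hC : ctr h H x = ⊥) (hz : ctr h H z = ⊤) : z ∉ orb H x := by
  rintro ⟨g, hg, α, hα, rfl⟩
  obtain ⟨c, hc0, hc⟩ := exists_skew h
  have hgx : uh σ (g.1.1 *ᵥ x) (g.1.1 *ᵥ x) = 0 := by rw [su_uh h, hxx]
  have hzz : uh σ (α • g.1.1 *ᵥ x) (α • g.1.1 *ᵥ x) = 0 := by rw [uh_smul_left, uh_smul_right, hgx]; ring
  have h1 := (mem_ctr h hzz (c := ⟨c, hc⟩)).1 (hz ▸ AddSubgroup.mem_top _)
  rw [ue_smul h (Ok.zero hgx hc), smul_zero] at h1
  obtain ⟨d, hd⟩ : ∃ d, d = α * σ α * c := ⟨_, rfl⟩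
  rw [← hd, show (0 : Fin n → F) = g.1.1 *ᵥ 0 from (mulVec_zero _).symm, ← ue_conj] at h1
  have h2 := H.mul_mem (H.mul_mem (H.inv_mem hg) h1) hg
  rw [show g⁻¹ * (g * ue h x 0 d * g⁻¹) * g = ue h x 0 d by group] at h2
  have hd0 : d + σ d = 0 := by
    rw [hd, map_mul, map_mul, h.invol]; linear_combination (α * σ α) * hc
  have h3 := (mem_ctr h hxx (c := ⟨d, hd0⟩)).2 h2
  rw [hC, AddSubgroup.mem_bot] at h3
  have h4 : d = 0 := congrArg Subtype.val h3
  rw [hd] at h4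
  simp [hα, hc0] at h4

/-- The number of lines in dimension `n`, times `q ^ 2 - 1`, exceeds these bounds. -/
theorem iso_lt (hF : Nat.card F = q ^ 2) (h : UFrob σ q) (hm : Even m) :
    (iso σ (m + 2) : ℤ) = ((q : ℤ) ^ (m + 2) - 1) * ((q : ℤ) ^ (m + 1) + 1) :=
  iso_even hF h hm.add_one

theorem step_big (hq : 3 ≤ q) (hm : 2 ≤ m) {N : ℕ} (hN : q ^ (2 * m) * (q + 1) ≤ N) :
    ((q : ℤ) ^ (m + 2) - 1) * ((q : ℤ) ^ (m + 1) + 1) ≤ (N : ℤ) * ((q : ℤ) ^ 2 - 1) := by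
  have hq' : (3 : ℤ) ≤ q := by exact_mod_cast hq
  have hN' : (q : ℤ) ^ (2 * m) * ((q : ℤ) + 1) ≤ N := by exact_mod_cast hN
  have h1 : (q : ℤ) ^ (m + 2) ≤ (q : ℤ) ^ (2 * m) := pow_le_pow_right₀ (by linarith) (by omega)
  have h2 : (1 : ℤ) ≤ (q : ℤ) ^ 2 - q - 1 := by nlinarith
  have h3 := mul_le_mul_of_nonneg_left h2 (show (0 : ℤ) ≤ (q : ℤ) ^ (2 * m) by positivity)
  have h4 : (0 : ℤ) ≤ (q : ℤ) ^ (m + 1) := by positivity
  have h5 := mul_le_mul_of_nonneg_right hN' (show (0 : ℤ) ≤ (q : ℤ) ^ 2 - 1 by nlinarith)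
  have e : ((q : ℤ) ^ (m + 2) - 1) * ((q : ℤ) ^ (m + 1) + 1) =
      (q : ℤ) ^ (2 * m) * (q : ℤ) ^ 3 + (q : ℤ) ^ (m + 2) - (q : ℤ) ^ (m + 1) - 1 := by ring
  rw [e]
  linarith

/-- A proper Levi part forces a large index. -/
theorem levi_proper (hF : Nat.card F = q ^ 2) (h : UFrob σ q) (hq : 3 ≤ q) (hk : 2 ≤ k) (hev : Even k)
    (hyp : k = 2 ∨ ∀ L : Subgroup (Cfsg.SU (k + 2) F q), L ≠ ⊤ → iso σ (k + 2) ≤ L.index * (q ^ 2 - 1))
    {N zt l : ℕ} {A : AddSubgroup (Fin (k + 2) → F)} {L : Subgroup (Cfsg.SU (k + 2) F q)} (hL : L ≠ ⊤)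
    (hl : l = L.index) (hA : Nat.card A ≤ q ^ (k + 2)) (hinv : ∀ g ∈ L, ∀ a ∈ A, g.1.1 *ᵥ a ∈ A)
    (hzt : q ≤ zt) (hcnt : A.index * zt * l ≤ N) : q ^ (2 * (k + 2)) * (q + 1) ≤ N := by
  have hl2 : 2 ≤ l := hl ▸ Subgroup.one_lt_index_of_ne_top hL
  have hAc : A.index * Nat.card A = q ^ (2 * (k + 2)) := by
    rw [AddSubgroup.index_mul_card, Nat.card_fun, hF, Nat.card_fin, ← pow_mul]
  refine le_trans ?_ hcnt
  by_cases hA0 : A = ⊥
  · rw [hA0, AddSubgroup.card_bot, mul_one] at hAc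
    rw [hA0, hAc, mul_assoc]
    refine Nat.mul_le_mul_left _ ?_
    calc q + 1 ≤ q * 2 := by omega
      _ ≤ zt * l := Nat.mul_le_mul hzt hl2
  have hX : q ^ (k + 2) ≤ A.index := by
    refine Nat.le_of_mul_le_mul_right ?_ (Nat.pow_pos (n := k + 2) (show 0 < q by omega))
    calc q ^ (k + 2) * q ^ (k + 2) = A.index * Nat.card A := by rw [hAc, ← pow_add, two_mul]
      _ ≤ _ := Nat.mul_le_mul_left _ hA
  refine le_trans ?_ (Nat.mul_le_mul_right _ (Nat.mul_le_mul hX hzt))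
  rcases hyp with rfl | hyp
  · refine le_trans ?_ (Nat.mul_le_mul_left _ (hl ▸ weak_four hF h L A hA0 hA hinv))
    exact le_of_eq (by ring)
  · obtain ⟨d, hd⟩ : ∃ d, q ^ 2 - 1 = d := ⟨_, rfl⟩
    have hd1 : d + 1 = q ^ 2 := by rw [← hd]; exact Nat.sub_add_cancel (Nat.one_le_pow _ _ (by omega))
    have h2 := hyp _ hL
    rw [hd, ← hl] at h2
    have hi : q ^ (k + 2) * q ^ (k + 1) ≤ iso σ (k + 2) := by
      zify
      rw [iso_lt hF h hev]
      have h5 : (q : ℤ) ^ (k + 1) * 3 ≤ (q : ℤ) ^ (k + 1) * q :=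
        mul_le_mul_of_nonneg_left (by exact_mod_cast hq) (by positivity)
      rw [← pow_succ] at h5
      have h6 : (1 : ℤ) ≤ (q : ℤ) ^ (k + 1) := one_le_pow₀ (by exact_mod_cast (by omega : 1 ≤ q))
      linarith
    refine Nat.le_of_mul_le_mul_right ?_ (show 0 < d by nlinarith)
    calc q ^ (2 * (k + 2)) * (q + 1) * d ≤ q ^ (2 * (k + 2)) * q ^ 2 * q ^ 2 :=
          Nat.mul_le_mul (Nat.mul_le_mul_left _ (by nlinarith)) (by omega)
      _ ≤ q ^ (2 * (k + 2)) * q ^ (k + 2) := by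
          rw [mul_assoc, ← pow_add]
          exact Nat.mul_le_mul_left _ (Nat.pow_le_pow_right (by omega) (by omega))
      _ = q ^ (k + 2) * q * (q ^ (k + 2) * q ^ (k + 1)) := by ring
      _ ≤ q ^ (k + 2) * q * (l * d) := Nat.mul_le_mul_left _ (hi.trans h2)
      _ = _ := by ring

/-- The arithmetic at the end of a step. -/
theorem final_count (hF : Nat.card F = q ^ 2) (h : UFrob σ q) (hq : 3 ≤ q) (hev : Even k)
    {N cx cz o : ℕ} (hcx : q ^ (2 * (k + 2) + 1) ≤ cx)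
    (hcz : q ^ 2 * iso σ (k + 2) ≤ cz * (q ^ 2 - 1)) (hsum : cx + cz ≤ N)
    (hmul : cx * iso σ (k + 2 + 2) = N * o) (hlt : N * (q ^ 2 - 1) < iso σ (k + 2 + 2)) : False := by
  obtain ⟨d, hd⟩ : ∃ d, q ^ 2 - 1 = d := ⟨_, rfl⟩
  rw [hd] at hcz hlt
  have hd1 : d + 1 = q ^ 2 := by rw [← hd]; exact Nat.sub_add_cancel (Nat.one_le_pow _ _ (by omega))
  have hdi : (d : ℤ) = (q : ℤ) ^ 2 - 1 := by
    have : (d : ℤ) + 1 = (q : ℤ) ^ 2 := by exact_mod_cast hd1
    linarith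
  have hison := iso_lt hF h (σ := σ) (by simpa using hev.add even_two : Even (k + 2))
  have hdvd : d ∣ iso σ (k + 2 + 2) := by
    obtain ⟨j, hj⟩ := hev
    have h1 : d ∣ q ^ (k + 2 + 2) - 1 := by
      rw [← hd, show k + 2 + 2 = 2 * (j + 2) by omega, pow_mul]
      exact Nat.sub_one_dvd_pow_sub_one _ _
    have h2 : iso σ (k + 2 + 2) = (q ^ (k + 2 + 2) - 1) * (q ^ (k + 2 + 1) + 1) := by
      zify [Nat.one_le_pow (k + 2 + 2) q (by omega)]
      exact hison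
    rw [h2]
    exact h1.mul_right _
  have hiso1 : iso σ (k + 2 + 2) + 1 = q ^ (2 * (k + 2) + 1) * d + q ^ 2 * iso σ (k + 2) + q ^ 2 := by
    zify
    rw [hison, iso_lt hF h hev, hdi]
    ring
  have h2 : (cx + cz) * d ≤ N * d := Nat.mul_le_mul_right _ hsum
  rw [add_mul] at h2
  have h3 : q ^ (2 * (k + 2) + 1) * d ≤ cx * d := Nat.mul_le_mul_right _ hcx
  obtain ⟨K, hK⟩ := hdvd
  have hN : N * d + d = iso σ (k + 2 + 2) := by
    have hlt' : N < K := Nat.lt_of_mul_lt_mul_right (a := d) (by rwa [hK, mul_comm d] at hlt)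
    have h4 : (N + 1) * d ≤ K * d := Nat.mul_le_mul_right _ hlt'
    rw [add_mul, one_mul, mul_comm K, ← hK] at h4
    omega
  have hcx' : cx * d = q ^ (2 * (k + 2) + 1) * d := by omega
  have hce : cx = q ^ (2 * (k + 2) + 1) := Nat.eq_of_mul_eq_mul_right (by nlinarith) hcx'
  rw [hce, ← hN, show N * d + d = (N + 1) * d by ring] at hmul
  refine short_index_absurd hq (M := k + 2) (by omega) hd1 rfl hmul (i := iso σ (k + 2)) ?_ (by omega)
  rw [← Int.natCast_dvd_natCast]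
  push_cast
  rw [iso_lt hF h hev]
  exact ⟨(q : ℤ) ^ (k + 1) * q ^ (k + 1) + q ^ (k + 1) - q ^ k, by ring⟩

/-- One step of the induction on the dimension. -/
theorem su_step (hF : Nat.card F = q ^ 2) (h : UFrob σ q) (hq : 3 ≤ q) (hk : 2 ≤ k) (hev : Even k)
    (hyp : k = 2 ∨ ∀ L : Subgroup (Cfsg.SU (k + 2) F q), L ≠ ⊤ → iso σ (k + 2) ≤ L.index * (q ^ 2 - 1))
    (H : Subgroup (Cfsg.SU (k + 2 + 2) F q)) (hH : H ≠ ⊤) :
    iso σ (k + 2 + 2) ≤ H.index * (q ^ 2 - 1) := by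
  by_contra hlt
  push Not at hlt
  obtain ⟨x, hx0, hxx, hxc⟩ := exists_nonfull hF h (by omega) H hH
  obtain ⟨y, P, s⟩ := exists_split h hx0 hxx
  have hA : Nat.card (aSet h H s) ≤ q ^ (k + 2) := by
    refine Nat.mul_self_le_mul_self_iff.1 ((card_aSet_sq hF h s hxc).trans (le_of_eq ?_))
    rw [← pow_add, two_mul]
  have hcnt := (cnt_ge' h H s (by omega)).trans (cnt_le_index H x)
  obtain ⟨zc, hzc⟩ : ∃ zc, zc = (ctr h H x).index := ⟨_, rfl⟩
  obtain ⟨t, ht⟩ : ∃ t, t = ((liftM h H s).map (scalHom s)).index := ⟨_, rfl⟩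
  have htc := torus_count hF h s hxc
  rw [← hzc, ← ht] at htc hcnt
  have ht1 : 1 ≤ t := ht ▸ Nat.pos_of_ne_zero Subgroup.index_ne_zero_of_finite
  have hzt : q - 1 + t ≤ zc * t := by
    have hz1 : 1 ≤ zc := hzc ▸ Nat.pos_of_ne_zero AddSubgroup.index_ne_zero_of_finite
    calc q - 1 + t ≤ (zc - 1) * t + t := Nat.add_le_add_right htc _
      _ = (zc - 1 + 1) * t := by ring
      _ = zc * t := by rw [Nat.sub_add_cancel hz1]
  have hbig : ¬ q ^ (2 * (k + 2)) * (q + 1) ≤ H.index := fun hb => by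
    have h1 := step_big hq (by omega) hb
    rw [← iso_lt hF h (σ := σ) (by simpa using hev.add even_two : Even (k + 2))] at h1
    have h2 : (H.index : ℤ) * ((q : ℤ) ^ 2 - 1) < iso σ (k + 2 + 2) := by
      have h3 : ((H.index * (q ^ 2 - 1) : ℕ) : ℤ) < iso σ (k + 2 + 2) := by exact_mod_cast hlt
      rwa [Nat.cast_mul, Nat.cast_sub (Nat.one_le_pow _ _ (by omega)), Nat.cast_pow, Nat.cast_one] at h3
    linarith
  by_cases hL : liftL h H s = ⊤
  swap
  · exact hbig (levi_proper hF h hq hk hev hyp hL rfl hA (fun g hg a ha => aSet_liftL h s hg ha)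
      (show q ≤ zc * t by omega) hcnt)
  rw [hL, Subgroup.index_top, mul_one] at hcnt
  have hA0 : aSet h H s = ⊥ :=
    (invariant_cases hF h (by omega) _ fun M a ha => aSet_liftL h s (hL ▸ Subgroup.mem_top M) ha).resolve_right
      fun hT => by
        rw [hT, AddSubgroup.card_top, Nat.card_fun, hF, Nat.card_fin, ← pow_mul] at hA
        have := Nat.pow_lt_pow_right (show 1 < q by omega) (show k + 2 < 2 * (k + 2) by omega)
        omega
  rw [hA0, AddSubgroup.index_bot, Nat.card_fun, hF, Nat.card_fin, ← pow_mul] at hcnt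
  have hzt' : zc * t ≤ q := by
    by_contra hh
    exact hbig (le_trans (Nat.mul_le_mul_left _ (by omega)) hcnt)
  have ht' : t = 1 := by omega
  have hzq : zc = q := by rw [ht', mul_one] at hzt hzt'; omega
  have hC : ctr h H x = ⊥ := by
    have h1 := (ctr h H x).index_mul_card
    rw [← hzc, hzq, card_Sk hF h] at h1
    refine AddSubgroup.eq_bot_of_card_eq _ ?_
    exact Nat.eq_of_mul_eq_mul_left (by omega : 0 < q) (by rw [h1, mul_one])
  have hMtop : liftM h H s = ⊤ := liftM_eq_top h s (Subgroup.index_eq_one.1 (ht ▸ ht')) hL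
  obtain ⟨r, hr, hA', hC'⟩ := exists_pure hF h hq (by omega) s hA0 hC hMtop
  obtain ⟨e, he0, hee⟩ := exists_iso_vector (m := k + 2) h (by omega)
  have hidx : (cj H r).index = H.index := Subgroup.index_map_equiv H (MulAut.conj r)
  obtain ⟨hfull, -, -, -⟩ := point_structure hF h hq (by omega) s hr hA' he0 hee
  have hzz : uh σ (P *ᵥ e) (P *ᵥ e) = 0 := by rw [s.pp h, hee]
  have hz0 : P *ᵥ e ≠ 0 := fun h0 => he0 (s.inj (by rw [h0, mulVec_zero]))
  have hsum := cnt_add_le hF h (by omega) (cj H r) hx0 hxx hz0 hzz (notMem_orb h hxx hC' hfull)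
  rw [hidx] at hsum
  have hcx : q ^ (2 * (k + 2) + 1) ≤ cnt (cj H r) x := by
    refine le_trans ?_ (cnt_ge' h (cj H r) s (by omega))
    rw [hA', hC', AddSubgroup.index_bot, AddSubgroup.index_bot, Nat.card_fun, hF, Nat.card_fin, ← pow_mul,
      card_Sk hF h]
    have h1 : 1 ≤ ((liftM h (cj H r) s).map (scalHom s)).index :=
      Nat.pos_of_ne_zero Subgroup.index_ne_zero_of_finite
    have h2 : 1 ≤ (liftL h (cj H r) s).index := Nat.pos_of_ne_zero Subgroup.index_ne_zero_of_finite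
    calc q ^ (2 * (k + 2) + 1) = q ^ (2 * (k + 2)) * (q * 1) * 1 := by ring
      _ ≤ _ := Nat.mul_le_mul (Nat.mul_le_mul_left _ (Nat.mul_le_mul_left _ h1)) h2
  have hmul := cnt_mul hF h (by omega) (cj H r) hx0 hxx
  rw [hidx] at hmul
  exact final_count hF h hq hev hcx (point_count hF h hq hk hyp s hr hA' he0 hee) hsum hmul hlt

/-- Every proper subgroup of `SU n`, `n` even and at least six, has index at least the number of isotropic points. -/
theorem su_index_bound (hF : Nat.card F = q ^ 2) (h : UFrob σ q) (hq : 3 ≤ q) (j : ℕ) :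
    ∀ H : Subgroup (Cfsg.SU (2 * j + 2 + 2 + 2) F q), H ≠ ⊤ →
      iso σ (2 * j + 2 + 2 + 2) ≤ H.index * (q ^ 2 - 1) := by
  induction j with
  | zero => exact su_step hF h hq le_rfl even_two (Or.inl rfl)
  | succ j ih => exact su_step hF h hq (k := 2 * j + 2 + 2) (by omega) ⟨j + 2, by omega⟩ (Or.inr ih)

/-- The stabilizer of a line. -/
def lineStab (x : Fin n → F) : Subgroup (Cfsg.SU n F q) where
  carrier := {g | ∃ c : F, c ≠ 0 ∧ g.1.1 *ᵥ x = c • x}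
  one_mem' := ⟨1, one_ne_zero, by rw [su_one_mulVec, one_smul]⟩
  mul_mem' := by
    rintro a b ⟨c, hc, hac⟩ ⟨c', hc', hbc⟩
    exact ⟨c' * c, mul_ne_zero hc' hc, by rw [su_mul_mulVec, hbc, mulVec_smul, hac, smul_smul]⟩
  inv_mem' := by
    rintro a ⟨c, hc, hac⟩
    exact ⟨c⁻¹, inv_ne_zero hc, by rw [eq_inv_smul_iff₀ hc, ← mulVec_smul, ← hac, su_inv_mulVec]⟩

theorem center_le_lineStab (hF : Nat.card F = q ^ 2) (hn : 2 ≤ n) {x : Fin n → F} (hx : x ≠ 0) :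
    Subgroup.center (Cfsg.SU n F q) ≤ lineStab x := by
  intro g hg
  obtain ⟨c, -, -, hc⟩ := SU_center_scalar hF hn hg
  refine ⟨c, fun hc0 => hx ?_, by rw [hc, diag_mulVec_const]⟩
  rw [← su_inv_mulVec g x, hc, hc0]
  simp
where diag_mulVec_const {c : F} : (Matrix.diagonal fun _ : Fin n => c) *ᵥ x = c • x := by
        funext i; simp [mulVec_diagonal]

theorem index_lineStab (hF : Nat.card F = q ^ 2) (h : UFrob σ q) (hm : 1 ≤ m) {x : Fin (m + 2) → F} (hx0 : x ≠ 0)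
    (hxx : uh σ x x = 0) : (lineStab (q := q) x).index * (q ^ 2 - 1) = iso σ (m + 2) := by
  classical
  set L := lineStab (q := q) x with hL
  have h1 := cnt_mul hF h hm L hx0 hxx
  have horb : orb L x = {v | ∃ α : F, α ≠ 0 ∧ v = α • x} := by
    ext v
    constructor
    · rintro ⟨g, ⟨c, hc, hgc⟩, α, hα, rfl⟩
      exact ⟨α * c, mul_ne_zero hα hc, by rw [hgc, smul_smul]⟩
    · rintro ⟨α, hα, rfl⟩
      exact ⟨1, L.one_mem, α, hα, by rw [su_one_mulVec]⟩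
  have hcard : Nat.card (orb L x) = q ^ 2 - 1 := by
    rw [horb, ← card_units_sq hF]
    refine (Nat.card_eq_of_bijective (fun u : Fˣ => (⟨(u : F) • x, u, u.ne_zero, rfl⟩ :
      {v | ∃ α : F, α ≠ 0 ∧ v = α • x})) ⟨fun u v huv => Units.ext ?_, ?_⟩).symm
    · exact smul_left_injective F hx0 (congrArg Subtype.val huv)
    · rintro ⟨v, α, hα, rfl⟩
      exact ⟨Units.mk0 α hα, rfl⟩
  have hcnt : cnt L x = 1 := by
    refine le_antisymm ?_ (one_le_cnt L x)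
    refine Finite.card_le_one_iff_subsingleton.2 ⟨?_⟩
    have key : ∀ c : {c : Cfsg.SU (m + 2) F q ⧸ L // (c.out⁻¹).1.1 *ᵥ x ∈ orb L x},
        c.1 = QuotientGroup.mk 1 := by
      rintro ⟨c, hc⟩
      obtain ⟨α, hα, hcx⟩ : ∃ α : F, α ≠ 0 ∧ (c.out⁻¹).1.1 *ᵥ x = α • x := by rwa [horb] at hc
      refine (QuotientGroup.out_eq' c).symm.trans (QuotientGroup.eq.2 ?_)
      rw [mul_one]
      exact ⟨α, hα, hcx⟩
    exact fun a b => Subtype.ext ((key a).trans (key b).symm)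
  rw [hcnt, hcard, one_mul] at h1
  exact h1.symm

end CfsgLib.MinIdx.Un
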