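import Cfsg.Agent.Lib.MinIdx.Un4Plane
import Cfsg.Agent.Lib.MinIdx.UnMain

/-!
# The smallest index of a proper subgroup of `SU 4`
-/

set_option autoImplicit false

namespace CfsgLib.MinIdx.Un

open Matrix CfsgLib.Classical CfsgLib.Classical.Unitary

variable {F : Type*} [Field F] [Finite F] {σ : F →+* F} {q : ℕ}

theorem su4_exists_full (hF : Nat.card F = q ^ 2) (h : UFrob σ q) {H : Subgroup (Cfsg.SU (2 + 2) F q)}
    (hH : H ≠ ⊤) (hN : H.index ≤ q ^ 4 + q ^ 3 + q) :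
    ∃ x z, x ≠ 0 ∧ uh σ x x = 0 ∧ z ≠ 0 ∧ uh σ z z = 0 ∧ z ∉ orb H x ∧ ctr h H z = ⊤ ∧
      q ^ 4 + q ^ 3 ≤ cnt H x := by
  have hq := two_le_q hF
  obtain ⟨x, hx0, hxx, hxc⟩ := exists_nonfull hF h (by norm_num) H hH
  obtain ⟨y, P, s⟩ := exists_split h hx0 hxx
  obtain ⟨hshape, hC, hcx⟩ := nonfull_shape hF h hN s hxc
  by_cases hfull : ∃ z, z ≠ 0 ∧ uh σ z z = 0 ∧ ctr h H z = ⊤
  · obtain ⟨z, hz0, hzz, hz⟩ := hfull
    exact ⟨x, z, hx0, hxx, hz0, hzz, notMem_orb h hxx hC hz, hz, hcx⟩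
  exfalso
  push Not at hfull
  have hbot : ∀ z, z ≠ 0 → uh σ z z = 0 → ctr h H z = ⊥ ∧ q ^ 4 + q ^ 3 ≤ cnt H z := fun z hz0 hzz => by
    obtain ⟨y', P', s'⟩ := exists_split h hz0 hzz
    exact (nonfull_shape hF h hN s' (hfull z hz0 hzz)).2
  have htr : ∀ z, z ≠ 0 → uh σ z z = 0 → z ∈ orb H x := fun z hz0 hzz => by
    by_contra hz
    have h1 := cnt_add_le hF h (by norm_num) H hx0 hxx hz0 hzz hz
    have h2 := (hbot z hz0 hzz).2
    have h3 := q_lt_cube hq
    omega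
  rcases hshape with hl | hp
  · obtain ⟨w, hw0, hww, hwc⟩ := line_full hF h s hC hl
    exact hwc (hbot w hw0 hww).1
  · exact plane_absurd hF h hC htr s hp

theorem su4_bound (hF : Nat.card F = q ^ 2) (h : UFrob σ q) (H : Subgroup (Cfsg.SU (2 + 2) F q)) (hH : H ≠ ⊤) :
    (q + 1) * (q ^ 3 + 1) ≤ H.index := by
  classical
  by_contra hlt
  have hq := two_le_q hF
  have hN : H.index ≤ q ^ 4 + q ^ 3 + q := by
    have e : (q + 1) * (q ^ 3 + 1) = q ^ 4 + q ^ 3 + q + 1 := by ring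
    omega
  obtain ⟨x, z, hx0, hxx, hz0, hzz, hzx, hz, hcx⟩ := su4_exists_full hF h hH hN
  have hsum := cnt_add_le hF h (by norm_num) H hx0 hxx hz0 hzz hzx
  have hNlow : q ^ 4 + q ^ 3 ≤ H.index := hcx.trans (cnt_le_index H x)
  have hcz : cnt H z ≤ q := by omega
  obtain ⟨y, P, s⟩ := exists_split h hz0 hzz
  have hbound := cnt_ge' h H s (by norm_num)
  rw [hz, AddSubgroup.index_top, one_mul] at hbound
  have ht1 : 1 ≤ ((liftM h H s).map (scalHom s)).index := Nat.pos_of_ne_zero Subgroup.index_ne_zero_of_finite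
  have hl1 : 1 ≤ (liftL h H s).index := Nat.pos_of_ne_zero Subgroup.index_ne_zero_of_finite
  have hX1 : 1 ≤ (aSet h H s).index := Nat.pos_of_ne_zero AddSubgroup.index_ne_zero_of_finite
  have hA : q ^ 3 ≤ Nat.card (aSet h H s) := by
    refine Nat.le_of_mul_le_mul_left ?_ (show 0 < q by omega)
    calc q * q ^ 3 = (aSet h H s).index * Nat.card (aSet h H s) := by rw [aSet_card_mul hF h H s]; ring
      _ ≤ _ := by
        refine Nat.mul_le_mul_right _ (le_trans ?_ hcz)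
        refine le_trans ?_ hbound
        calc (aSet h H s).index = (aSet h H s).index * 1 * 1 := by ring
          _ ≤ _ := Nat.mul_le_mul (Nat.mul_le_mul_left _ ht1) hl1
  have hperp : ∀ w ∈ orb H z, uh σ w z = 0 := fun w hw => by
    by_contra hwz
    choose c hc hcm using fun a : aSet h H s => (mem_aSet h s).1 a.2
    have hinj : Nat.card (aSet h H s) * (q ^ 2 - 1) ≤ Nat.card (orb H z) := by
      rw [← card_units_sq hF, ← Nat.card_prod]
      refine Nat.card_le_card_of_injective (fun p : aSet h H s × Fˣ =>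
        (⟨(p.2 : F) • (ue h z (P *ᵥ p.1.1) (c p.1)).1.1 *ᵥ w, ?_⟩ : orb H z)) ?_
      · obtain ⟨k, hk, α, hα, hkw⟩ := hw
        exact ⟨ue h z (P *ᵥ p.1.1) (c p.1) * k, H.mul_mem (hcm p.1) hk, p.2 * α, mul_ne_zero p.2.ne_zero hα,
          by rw [su_mul_mulVec, hkw, mulVec_smul, smul_smul]⟩
      · rintro ⟨a, u⟩ ⟨b, v⟩ he
        have h1 : (u : F) • (ue h z (P *ᵥ a.1) (c a)).1.1 *ᵥ w = (v : F) • (ue h z (P *ᵥ b.1) (c b)).1.1 *ᵥ w :=
          congrArg Subtype.val he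
        rw [ue_apply h (hc a), ue_apply h (hc b)] at h1
        have h2 := congrArg (fun t => uh σ t z) h1
        simp [uh_add_left, uh_smul_left, s.px, hzz, hwz] at h2
        obtain rfl : u = v := Units.ext h2
        have h3 := congrArg ((P.map σ)ᵀ *ᵥ ·) h1
        simp only [mulVec_add, mulVec_smul, s.frame.apply, s.proj_x h, smul_zero, add_zero] at h3
        have h4 := smul_right_injective _ hwz (add_left_cancel (smul_right_injective _ u.ne_zero h3))
        rw [Subtype.ext h4]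
    have hd : 0 < q ^ 2 - 1 := Nat.sub_pos_of_lt (Nat.one_lt_pow (by norm_num) (by omega))
    have h1 : (q ^ 4 + q ^ 3) * (q ^ 3 * (q ^ 2 - 1)) ≤ q * iso σ (2 + 2) :=
      calc (q ^ 4 + q ^ 3) * (q ^ 3 * (q ^ 2 - 1)) ≤ H.index * Nat.card (orb H z) :=
            Nat.mul_le_mul hNlow ((Nat.mul_le_mul_right _ hA).trans hinj)
        _ = cnt H z * iso σ (2 + 2) := (cnt_mul hF h (by norm_num) H hz0 hzz).symm
        _ ≤ _ := Nat.mul_le_mul_right _ hcz
    have h2 : iso σ (2 + 2) = (q ^ 2 - 1) * ((q ^ 2 + 1) * (q ^ 3 + 1)) := by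
      zify [Nat.one_le_pow 2 q (by omega)]
      rw [iso_four hF h]
      ring
    rw [h2, ← mul_assoc, mul_comm (q ^ 2 - 1), ← mul_assoc] at h1
    have h3 := Nat.le_of_mul_le_mul_right h1 hd
    have e1 : (q ^ 4 + q ^ 3) * q ^ 3 = q ^ 7 + q ^ 6 := by ring
    have e2 : q * ((q ^ 2 + 1) * (q ^ 3 + 1)) = q ^ 6 + q ^ 4 + q ^ 3 + q := by ring
    have e3 : q ^ 4 * 8 ≤ q ^ 7 := by
      calc q ^ 4 * 8 ≤ q ^ 4 * q ^ 3 := Nat.mul_le_mul_left _ (Nat.pow_le_pow_left hq 3)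
        _ = q ^ 7 := by ring
    have e4 : q ^ 3 ≤ q ^ 4 := Nat.pow_le_pow_right (by omega) (by norm_num)
    have e5 := q_lt_cube hq
    omega
  by_cases hfix : ∀ w ∈ orb H z, ∃ c : F, w = c • z
  · have h1 := iso_le_of_fix hF h (by norm_num : 1 ≤ 2) H hz0 hzz fun g hg =>
      hfix _ ⟨g, hg, 1, one_ne_zero, by rw [one_smul]⟩
    have h2 : iso σ (2 + 2) = ((q ^ 2 + 1) * (q ^ 3 + 1)) * (q ^ 2 - 1) := by
      zify [Nat.one_le_pow 2 q (by omega)]
      rw [iso_four hF h]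
      ring
    rw [h2] at h1
    have h3 := Nat.le_of_mul_le_mul_right h1 (Nat.sub_pos_of_lt (Nat.one_lt_pow (by norm_num) (by omega)))
    have e1 : (q ^ 2 + 1) * (q ^ 3 + 1) = q ^ 5 + q ^ 3 + q ^ 2 + 1 := by ring
    have e2 : q ^ 4 * 2 ≤ q ^ 5 := by
      calc q ^ 4 * 2 ≤ q ^ 4 * q := Nat.mul_le_mul_left _ hq
        _ = q ^ 5 := by ring
    have e4 : q ^ 3 ≤ q ^ 4 := Nat.pow_le_pow_right (by omega) (by norm_num)
    have e5 := q_lt_cube hq
    omega
  push Not at hfix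
  obtain ⟨w, hw, hwc⟩ := hfix
  obtain ⟨e, he⟩ : ∃ e, e = (P.map σ)ᵀ *ᵥ w := ⟨_, rfl⟩
  have hdec := s.perp_x (hperp w hw)
  rw [← he] at hdec
  have he0 : e ≠ 0 := fun h0 => hwc (uh σ w y) (by rw [h0, mulVec_zero, add_zero] at hdec; exact hdec.symm)
  have hee : uh σ e e = 0 := by
    have h1 := (orb_iso h hz0 hzz hw).2
    rw [← hdec] at h1
    simpa [uh_add_left, uh_add_right, uh_smul_left, uh_smul_right, hzz, s.px, s.xp h, s.pp h] using h1
  obtain ⟨f, hff, hef, hfe, -⟩ := exists_partner h ⊥ (by simpa using he0) hee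
    (fun z hz => by rw [(Submodule.mem_bot F).1 hz, uh_zero_left])
  have hl : q + 1 ≤ (liftL h H s).index := fix_two hF h _ he0 hee fun M hM => by
    obtain ⟨b, d, hb, hbm⟩ := (mem_liftL h s).1 hM
    have hv := orb_map hbm hw
    obtain ⟨v, hveq⟩ : ∃ v, v = (ue h z (P *ᵥ b) d * ext h s M).1.1 *ᵥ w := ⟨_, rfl⟩
    have hvw : uh σ v w = 0 := by
      obtain ⟨k, hk, α, hα, hkw⟩ := hw
      have h1 : (k⁻¹).1.1 *ᵥ v ∈ orb H z := orb_map (H.inv_mem hk) (hveq ▸ hv)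
      rw [hkw, uh_smul_right, ← su_mulVec_inv k v, su_uh h, hperp _ h1, mul_zero]
    rw [hveq, su_mul_mulVec] at hvw
    obtain ⟨me, hme⟩ : ∃ me, me = M.1.1 *ᵥ e := ⟨_, rfl⟩
    conv_lhs at hvw => arg 2; rw [← hdec, mulVec_add, mulVec_smul, ext_x, ext_p, ← hme, mulVec_add, mulVec_smul,
      ue_apply h hb, ue_apply h hb, hzz, s.px, s.xp h, s.pp h]
    rw [← hdec] at hvw
    simp [uh_add_left, uh_add_right, uh_smul_left, uh_smul_right, uh_neg_left, hzz, s.px, s.xp h, s.pp h] at hvw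
    obtain ⟨α, β, hαβ⟩ := SU_two_span hee hef me
    refine ⟨α, ?_⟩
    rw [← hme]
    rw [hαβ] at hvw ⊢
    rw [uh_add_left, uh_smul_left, uh_smul_left, hee, hfe, mul_zero, zero_add, mul_one] at hvw
    rw [hvw, zero_smul, add_zero]
  have h1 : q + 1 ≤ cnt H z := by
    refine le_trans ?_ hbound
    calc q + 1 ≤ 1 * 1 * (liftL h H s).index := by omega
      _ ≤ _ := Nat.mul_le_mul_right _ (Nat.mul_le_mul hX1 ht1)
  omega

/-- The stabiliser of a totally isotropic line. -/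
def pairStab {n : ℕ} (x z : Fin n → F) : Subgroup (Cfsg.SU n F q) where
  carrier := {g | ∀ v, OnLine x z v ↔ OnLine x z (g.1.1 *ᵥ v)}
  one_mem' v := by rw [su_one_mulVec]
  mul_mem' := by
    intro a b ha hb v
    rw [hb v, ha, su_mul_mulVec]
  inv_mem' := by
    intro a ha v
    rw [ha ((a⁻¹).1.1 *ᵥ v), su_mulVec_inv]

theorem center_le_pairStab {n : ℕ} (hF : Nat.card F = q ^ 2) (hn : 2 ≤ n) (x z : Fin n → F) :
    Subgroup.center (Cfsg.SU n F q) ≤ pairStab x z := by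
  intro g hg v
  obtain ⟨c, hc, -, hgc⟩ := SU_center_scalar hF hn hg
  have hc0 : c ≠ 0 := fun h0 => by simp [h0] at hc
  have e : g.1.1 *ᵥ v = c • v := by rw [hgc]; funext i; simp [mulVec_diagonal]
  rw [e]
  constructor
  · rintro ⟨r, t, rfl⟩
    exact ⟨c * r, c * t, by module⟩
  · rintro ⟨r, t, hv⟩
    refine ⟨c⁻¹ * r, c⁻¹ * t, ?_⟩
    rw [← inv_smul_smul₀ hc0 v, hv]
    module

theorem exists_line_stab (hF : Nat.card F = q ^ 2) (h : UFrob σ q) :
    ∃ L : Subgroup (Cfsg.SU (2 + 2) F q), L ≠ ⊤ ∧ L.index ≤ (q + 1) * (q ^ 3 + 1) ∧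
      Subgroup.center (Cfsg.SU (2 + 2) F q) ≤ L := by
  classical
  have hq := two_le_q hF
  obtain ⟨x, hx0, hxx⟩ := exists_iso_vector (m := 2 + 2) h (by norm_num)
  obtain ⟨y, P, s⟩ := exists_split h hx0 hxx
  obtain ⟨e, he0, hee⟩ := exists_iso_vector (m := 2) h le_rfl
  obtain ⟨f, hff, hef, hfe, -⟩ := exists_partner h ⊥ (by simpa using he0) hee
    (fun z hz => by rw [(Submodule.mem_bot F).1 hz, uh_zero_left])
  obtain ⟨z, hz⟩ : ∃ z, z = P *ᵥ e := ⟨_, rfl⟩
  have hzz : uh σ z z = 0 := by rw [hz, s.pp h, hee]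
  have hzx : uh σ z x = 0 := hz ▸ s.px e
  have hxz : uh σ x z = 0 := h.swap_zero hzx
  refine ⟨pairStab x z, fun htop => ?_, ?_, center_le_pairStab hF (by norm_num) x z⟩
  · obtain ⟨g, hg⟩ := su_trans hF h (m := 2) (by norm_num) hx0 (fun h0 => by simpa [h0, uh_zero_right] using s.xy) hxx s.yy
    obtain ⟨r, t, hrt⟩ := ((htop ▸ Subgroup.mem_top g : g ∈ pairStab x z) x).1 ⟨1, 0, by simp⟩
    rw [hg] at hrt
    have h1 := congrArg (fun v => uh σ v x) hrt
    simp [uh_add_left, uh_smul_left, s.yx h, hxx, hzx] at h1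
  let T := {p : (Fin (2 + 2) → F) × (Fin (2 + 2) → F) //
    (p.1 ≠ 0 ∧ uh σ p.1 p.1 = 0) ∧ (uh σ p.2 p.2 = 0 ∧ uh σ p.2 p.1 = 0) ∧ ∀ k : F, p.2 ≠ k • p.1}
  have hT : Nat.card T ≤ iso σ (2 + 2) * (Nat.card F * iso σ 2) := by
    choose y' P' s' using fun p : T => exists_split h p.2.1.1 p.2.1.2
    have hsp : ∀ p : T, ∃ (yy : Fin (2 + 2) → F) (PP : Matrix (Fin (2 + 2)) (Fin 2) F), Split σ 2 p.1.1 yy PP :=
      fun p => ⟨_, _, s' p⟩
    have hch : ∀ v : {v : Fin (2 + 2) → F // v ≠ 0 ∧ uh σ v v = 0},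
        ∃ (yy : Fin (2 + 2) → F) (PP : Matrix (Fin (2 + 2)) (Fin 2) F), Split σ 2 v.1 yy PP :=
      fun v => exists_split h v.2.1 v.2.2
    choose yy PP sp using hch
    rw [iso, iso, ← Nat.card_prod, ← Nat.card_prod]
    let fst : T → {v : Fin (2 + 2) → F // v ≠ 0 ∧ uh σ v v = 0} := fun p => ⟨p.1.1, p.2.1⟩
    have hne : ∀ p : T, ((PP (fst p)).map σ)ᵀ *ᵥ p.1.2 ≠ 0 := fun p h0 => by
      have h1 := (sp (fst p)).perp_x p.2.2.1.2
      rw [h0, mulVec_zero, add_zero] at h1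
      exact p.2.2.2 _ h1.symm
    have hiso : ∀ p : T, uh σ (((PP (fst p)).map σ)ᵀ *ᵥ p.1.2) (((PP (fst p)).map σ)ᵀ *ᵥ p.1.2) = 0 := fun p => by
      have h1 := p.2.2.1.1
      have h2 := (sp (fst p)).perp_x p.2.2.1.2
      obtain ⟨a, ha⟩ : ∃ a, a = ((PP (fst p)).map σ)ᵀ *ᵥ p.1.2 := ⟨_, rfl⟩
      have hxx' : uh σ (fst p).1 (fst p).1 = 0 := p.2.1.2
      rw [← ha] at h2 ⊢
      rw [← h2] at h1
      simpa [uh_add_left, uh_add_right, uh_smul_left, uh_smul_right, hxx', (sp (fst p)).px, (sp (fst p)).xp h,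
        (sp (fst p)).pp h] using h1
    refine Nat.card_le_card_of_injective (fun p : T =>
      (fst p, uh σ p.1.2 (yy (fst p)), (⟨_, hne p, hiso p⟩ : {v : Fin 2 → F // v ≠ 0 ∧ uh σ v v = 0}))) ?_
    intro p p' he
    obtain ⟨e1, e2⟩ := Prod.ext_iff.1 he
    obtain ⟨e3, e4⟩ := Prod.ext_iff.1 e2
    have e5 := congrArg Subtype.val e4
    dsimp only at e1 e3 e5
    have e6 : p.1.1 = p'.1.1 := congrArg Subtype.val e1
    refine Subtype.ext (Prod.ext e6 ?_)
    have h1 := (sp (fst p)).perp_x p.2.2.1.2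
    have h2 := (sp (fst p')).perp_x p'.2.2.1.2
    rw [← h1, ← h2]
    rw [e1] at e3 e5 ⊢
    rw [e3, e5]
  let W := Σ w : {w : F × F // w ≠ 0}, {w' : F × F // w' ∉ Set.range (fun k : F => k • w.1)}
  have hW : Nat.card W = (q ^ 4 - 1) * (q ^ 4 - q ^ 2) := by
    haveI := Fintype.ofFinite F
    haveI := Fintype.ofFinite {w : F × F // w ≠ 0}
    have hF4 : Fintype.card (F × F) = q ^ 4 := by
      rw [Fintype.card_prod, ← Nat.card_eq_fintype_card, hF, ← pow_add]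
    rw [Nat.card_sigma, Finset.sum_congr rfl (g := fun _ => q ^ 4 - q ^ 2) fun w _ => ?_, Finset.sum_const,
      Finset.card_univ, smul_eq_mul, Fintype.card_subtype_compl, Fintype.card_subtype_eq, hF4]
    rw [Nat.card_eq_fintype_card, Fintype.card_subtype_compl, hF4]
    congr 1
    refine ((Set.card_range_of_injective (smul_left_injective F w.2))).trans ?_
    rw [← Nat.card_eq_fintype_card, hF]
  let emb : F × F → (Fin (2 + 2) → F) := fun w => w.1 • x + w.2 • z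
  have hemb : Function.Injective emb := fun w w' he => by
    have h1 := congrArg (fun v => uh σ v y) he
    have h2 := congrArg (fun v => uh σ v (P *ᵥ f)) he
    simp [emb, hz, uh_add_left, uh_smul_left, s.xy, s.py, s.xp h, s.pp h, hef] at h1 h2
    exact Prod.ext h1 h2
  have hembs : ∀ (k : F) w, emb (k • w) = k • emb w := fun k w => by simp [emb, smul_add, smul_smul]
  have hiso : ∀ w w' : F × F, uh σ (emb w) (emb w') = 0 := fun w w' => by
    simp [emb, uh_add_left, uh_add_right, uh_smul_left, uh_smul_right, hxx, hzz, hzx, hxz]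
  have hmain : (pairStab (q := q) x z).index * Nat.card W ≤ Nat.card T := by
    rw [Subgroup.index, ← Nat.card_prod]
    refine Nat.card_le_card_of_injective (fun p : (Cfsg.SU (2 + 2) F q ⧸ pairStab x z) × W =>
      (⟨(p.1.out.1.1 *ᵥ emb p.2.1.1, p.1.out.1.1 *ᵥ emb p.2.2.1), ⟨fun h0 => p.2.1.2 ?_, ?_⟩, ⟨?_, ?_⟩,
        fun k hk => p.2.2.2 ⟨k, ?_⟩⟩ : T)) ?_
    · refine hemb ?_
      have h1 : p.1.out.1.1 *ᵥ emb p.2.1.1 = 0 := h0
      rw [← su_inv_mulVec p.1.out (emb p.2.1.1), h1]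
      simp [emb]
    · rw [su_uh h, hiso]
    · rw [su_uh h, hiso]
    · rw [su_uh h, hiso]
    · refine hemb ?_
      dsimp only at hk ⊢
      rw [hembs, ← su_inv_mulVec p.1.out (emb p.2.2.1), hk, mulVec_smul, su_inv_mulVec]
    · rintro ⟨c, ⟨w, w'⟩⟩ ⟨d, ⟨u, u'⟩⟩ he
      obtain ⟨e1, e2⟩ := Prod.ext_iff.1 (congrArg Subtype.val he)
      dsimp only at e1 e2
      obtain rfl : c = d := by
        rw [← QuotientGroup.out_eq' c, ← QuotientGroup.out_eq' d]
        refine QuotientGroup.eq.2 ?_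
        obtain ⟨j, hj⟩ : ∃ j, j = c.out⁻¹ * d.out := ⟨_, rfl⟩
        rw [← hj]
        have hj1 : j.1.1 *ᵥ emb u.1 = emb w.1 := by rw [hj, su_mul_mulVec, ← e1, su_inv_mulVec]
        have hj2 : j.1.1 *ᵥ emb u'.1 = emb w'.1 := by rw [hj, su_mul_mulVec, ← e2, su_inv_mulVec]
        let ψ : F × F → F × F := fun p => p.1 • u.1 + p.2 • u'.1
        have hψ : Function.Injective ψ := by
          intro p p' hp
          have h3 : (p.1 - p'.1) • u.1 + (p.2 - p'.2) • u'.1 = 0 := by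
            rw [sub_smul, sub_smul]
            linear_combination (norm := module) hp
          have h4 : p.2 = p'.2 := by
            by_contra hne
            refine u'.2 ⟨-(p.1 - p'.1) / (p.2 - p'.2), ?_⟩
            show (-(p.1 - p'.1) / (p.2 - p'.2)) • u.1 = u'.1
            rw [div_eq_inv_mul, mul_smul, inv_smul_eq_iff₀ (sub_ne_zero.2 hne)]
            linear_combination (norm := module) -(1 : F) • h3
          rw [h4, sub_self, zero_smul, add_zero, smul_eq_zero, or_iff_left u.2, sub_eq_zero] at h3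
          exact Prod.ext h3 h4
        have hsurj := Finite.injective_iff_surjective.1 hψ
        have hmap : ∀ v, OnLine x z v → OnLine x z (j.1.1 *ᵥ v) := by
          rintro _ ⟨r, t, rfl⟩
          obtain ⟨p, hp⟩ := hsurj (r, t)
          have e : r • x + t • z = p.1 • emb u.1 + p.2 • emb u'.1 := by
            rw [show r = (ψ p).1 by rw [hp], show t = (ψ p).2 by rw [hp]]
            simp [ψ, emb]
            module
          rw [e, mulVec_add, mulVec_smul, mulVec_smul, hj1, hj2]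
          exact ⟨p.1 * w.1.1 + p.2 * w'.1.1, p.1 * w.1.2 + p.2 * w'.1.2, by simp [emb]; module⟩
        intro v
        refine ⟨hmap v, fun hv => ?_⟩
        let g : {v // OnLine x z v} → {v // OnLine x z v} := fun a => ⟨_, hmap a.1 a.2⟩
        have hg : Function.Injective g := fun a a' ha => Subtype.ext (by
          have h1 : j.1.1 *ᵥ a.1 = j.1.1 *ᵥ a'.1 := congrArg Subtype.val ha
          rw [← su_inv_mulVec j a.1, h1, su_inv_mulVec])
        obtain ⟨a, ha⟩ := (Finite.injective_iff_surjective.1 hg) ⟨_, hv⟩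
        have h1 : j.1.1 *ᵥ a.1 = j.1.1 *ᵥ v := congrArg Subtype.val ha
        rw [← su_inv_mulVec j v, ← h1, su_inv_mulVec]
        exact a.2
      have hcan : ∀ a b : F × F, c.out.1.1 *ᵥ emb a = c.out.1.1 *ᵥ emb b → a = b := fun a b hab => hemb (by
        rw [← su_inv_mulVec c.out (emb a), hab, su_inv_mulVec])
      obtain rfl : w = u := Subtype.ext (hcan _ _ e1)
      obtain rfl : w' = u' := Subtype.ext (hcan _ _ e2)
      rfl
  have hq2 : 1 < q ^ 2 := Nat.one_lt_pow (by norm_num) (by omega)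
  have hq24 : q ^ 2 < q ^ 4 := Nat.pow_lt_pow_right (by omega) (by norm_num)
  refine Nat.le_of_mul_le_mul_right ?_ (show 0 < (q ^ 4 - 1) * (q ^ 4 - q ^ 2) from Nat.mul_pos (by omega) (by omega))
  refine (hW ▸ hmain).trans (hT.trans (le_of_eq ?_))
  zify [Nat.one_le_pow 4 q (by omega), hq24.le]
  rw [hF, iso_four hF h, iso_two hF h]
  push_cast
  ring

end CfsgLib.MinIdx.Un
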