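import Cfsg.Agent.Lib.MinIdx.OrthPrimeStep
import Cfsg.Agent.Lib.MinIdx.OrthBound
import Cfsg.Agent.Lib.MinIdx.Un4Main
import Cfsg.Agent.Lib.Classical.OmegaSixMinus

/-!
# The index bound for the forms of minus type
-/

set_option autoImplicit false

namespace CfsgLib.MinIdx.Orth

open QuadraticMap CfsgLib.Geometry CfsgLib.Classical

variable {F : Type*} [Field F]

/-- The embedding of the smaller minus space. -/
def minusEmb (m : ℕ) (F : Type*) [Field F] :
    ((Fin m ⊕ Fin m) ⊕ Fin 2 → F) →ₗ[F] ((Fin (m + 1) ⊕ Fin (m + 1)) ⊕ Fin 2 → F) where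
  toFun w := Sum.elim (plusEmb m F fun i => w (.inl i)) fun u => w (.inr u)
  map_add' u v := by ext ((i | i) | i) <;> first | (cases i using Fin.cases <;> simp [plusEmb]) | simp
  map_smul' c v := by ext ((i | i) | i) <;> first | (cases i using Fin.cases <;> simp [plusEmb]) | simp

variable [Finite F] {a b : F}

theorem bound_pairs_minus (hab : BinAniso a b) {m B : ℕ} (hm : 1 ≤ m) (hb : Bound (matQuad (minusMat m F a b)) B) :
    ∀ x y, IsPair (matQuad (minusMat (m + 1) F a b)) x y → Bound (QW (matQuad (minusMat (m + 1) F a b)) x y) B := by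
  refine bound_pairs (x₀ := Pi.single (.inl (.inl 0)) 1) (y₀ := Pi.single (.inl (.inr 0)) 1)
    (nondegenerate_minus _ hab) (by simp; omega) ⟨?_, ?_, ?_⟩ (minusEmb m F) ?_ (fun w => ?_) (fun w => ?_)
    (fun w => ?_) (by simp; omega) hb
  · simp [coe_matQuad_minus, Cfsg.quadFormMinus, Pi.single_apply]
  · simp [coe_matQuad_minus, Cfsg.quadFormMinus, Pi.single_apply]
  · simp [QuadraticMap.polar, coe_matQuad_minus, Cfsg.quadFormMinus, Pi.single_apply, Fin.sum_univ_succ]
  · intro u v huv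
    ext ((i | i) | i)
    · simpa [minusEmb, plusEmb] using congrFun huv (.inl (.inl i.succ))
    · simpa [minusEmb, plusEmb] using congrFun huv (.inl (.inr i.succ))
    · simpa [minusEmb] using congrFun huv (.inr i)
  · simp [coe_matQuad_minus, Cfsg.quadFormMinus, minusEmb, plusEmb, Fin.sum_univ_succ]
  · simp [QuadraticMap.polar, coe_matQuad_minus, Cfsg.quadFormMinus, minusEmb, plusEmb, Pi.single_apply, Fin.sum_univ_succ]
  · simp [QuadraticMap.polar, coe_matQuad_minus, Cfsg.quadFormMinus, minusEmb, plusEmb, Pi.single_apply, Fin.sum_univ_succ]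

theorem sing_minus (hab : BinAniso a b) (k : ℕ) :
    sing (matQuad (minusMat k F a b)) = (Nat.card F ^ (k + 1) + 1) * (Nat.card F ^ k - 1) := by
  have h := card_zeros_minus (F := F) k hab
  have hs := sing_add_one (matQuad (minusMat k F a b))
  rw [coe_matQuad_minus] at hs
  rw [← hs] at h
  set q := Nat.card F
  have hq : 0 < q := Nat.card_pos
  have h1 : 1 ≤ q ^ k := Nat.one_le_pow _ _ hq
  refine Nat.eq_of_mul_eq_mul_right hq ?_
  zify [h1] at h ⊢
  rw [show k + 2 = k + 1 + 1 from rfl, show 2 * k + 2 = k + k + 1 + 1 by ring] at h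
  simp only [pow_add, pow_one] at h ⊢
  linear_combination h

theorem bound_six_minus (hab : BinAniso a b) :
    Bound (matQuad (minusMat 2 F a b)) ((Nat.card F ^ 3 + 1) * (Nat.card F ^ 2 - 1)) := by
  classical
  haveI := Fintype.ofFinite F
  obtain ⟨p, hpchar⟩ := CharP.exists F
  haveI := hpchar
  obtain ⟨⟨e, he⟩, hp, hF⟩ := FiniteField.card F p
  haveI : Fact p.Prime := ⟨hp⟩
  dsimp only [PNat.mk_coe] at hF
  rw [← Nat.card_eq_fintype_card] at hF
  have hK : Nat.card (GaloisField p (2 * e)) = Nat.card F ^ 2 := by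
    rw [GaloisField.card p _ (by omega), hF, ← pow_mul, mul_comm]
  obtain ⟨_, σ, t, h, hσ⟩ := exists_quadExt (F := F) (K := GaloisField p (2 * e)) rfl hK hab
  obtain ⟨φ⟩ := pOmega_six_minus_equiv rfl hK hab h hσ
  refine bound_of_pOmega (nondegenerate_minus 2 hab) (by simp) ?_
  rw [coe_matQuad_minus]
  intro H hH
  let π := QuotientGroup.mk' (Subgroup.center (Cfsg.SU (2 + 2) (GaloisField p (2 * e)) (Nat.card F)))
  have hπ : Function.Surjective π := QuotientGroup.mk'_surjective _
  let K' : Subgroup (Cfsg.PSU 4 (GaloisField p (2 * e)) (Nat.card F)) := H.map φ.toMonoidHom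
  have hne : K' ≠ ⊤ := fun h0 => hH (by
    rw [← Subgroup.comap_map_eq_self_of_injective (f := φ.toMonoidHom) φ.injective H,
      show H.map φ.toMonoidHom = ⊤ from h0, Subgroup.comap_top])
  have hne' : K'.comap π ≠ ⊤ := fun h' => hne (Subgroup.comap_injective hπ (h'.trans (Subgroup.comap_top π).symm))
  have h1 := CfsgLib.MinIdx.Un.su4_bound hK hσ (K'.comap π) hne'
  rw [Subgroup.index_comap_of_surjective _ hπ] at h1
  rw [← H.index_map_equiv φ]
  calc (Nat.card F ^ 3 + 1) * (Nat.card F ^ 2 - 1)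
      = ((Nat.card F + 1) * (Nat.card F ^ 3 + 1)) * (Nat.card F - 1) := by
        rw [show Nat.card F ^ 2 - 1 = (Nat.card F + 1) * (Nat.card F - 1) by
          rw [← Nat.sq_sub_sq, one_pow]]
        ring
    _ ≤ _ := Nat.mul_le_mul_right _ h1

theorem bound_minus (hab : BinAniso a b) (k : ℕ) (hk : 2 ≤ k) :
    Bound (matQuad (minusMat k F a b)) ((Nat.card F ^ (k + 1) + 1) * (Nat.card F ^ k - 1)) := by
  induction k, hk using Nat.le_induction with
  | base => exact bound_six_minus hab
  | succ k hk ih =>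
    set q := Nat.card F with hqdef
    have hq : 2 ≤ q := Finite.one_lt_card
    have hQ := nondegenerate_minus (F := F) (k + 1) hab
    have hd : Module.finrank F ((Fin (k + 1) ⊕ Fin (k + 1)) ⊕ Fin 2 → F) = 2 * k + 4 := by simp; ring
    have hd2 : Module.finrank F ((Fin (k + 1) ⊕ Fin (k + 1)) ⊕ Fin 2 → F) - 2 = 2 * k + 2 := by omega
    have hk1 : 1 ≤ q ^ (k + 1) := Nat.one_le_pow _ _ (by omega)
    have hk0 : q ^ 2 ≤ q ^ k := Nat.pow_le_pow_right (by omega) hk
    have hS : sing (matQuad (minusMat (k + 1) F a b)) = (q ^ (k + 1 + 1) + 1) * (q ^ (k + 1) - 1) := sing_minus hab _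
    have hrec : sing (matQuad (minusMat (k + 1) F a b)) =
        q ^ (2 * k + 2) * (q - 1) + q * ((q ^ (k + 1) + 1) * (q ^ k - 1)) + (q - 1) := by
      rw [hS]
      zify [hk1, Nat.one_le_pow k q (by omega), (by omega : 1 ≤ q)]
      ring
    have hS2 : sing (matQuad (minusMat (k + 1) F a b)) <
        2 * (q - 1) * q ^ (Module.finrank F ((Fin (k + 1) ⊕ Fin (k + 1)) ⊕ Fin 2 → F) - 2) := by
      rw [hd2, hS]
      calc (q ^ (k + 1 + 1) + 1) * (q ^ (k + 1) - 1) < q ^ (k + 1 + 1) * q ^ (k + 1) := by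
            zify [hk1]
            have hnum : (q : ℤ) ^ (k + 1) < (q : ℤ) ^ (k + 1 + 1) + 1 :=
              Int.lt_add_one_iff.2 (pow_le_pow_right₀ (by omega) (by omega))
            linarith [hnum]
        _ = q * q ^ (2 * k + 2) := by rw [← pow_add, ← pow_succ']; congr 1; ring
        _ ≤ _ := Nat.mul_le_mul_right _ (by omega)
    have hnum : sing (matQuad (minusMat (k + 1) F a b)) ≤ 2 * q ^ 2 * ((q ^ (k + 1) + 1) * (q ^ k - 1)) := by
      rw [hS]
      have h1 : q ^ (k + 1 + 1) + 1 ≤ q * (q ^ (k + 1) + 1) := by rw [pow_succ' q (k + 1), mul_add, mul_one]; omega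
      have h2 : q ^ (k + 1) - 1 ≤ 2 * q * (q ^ k - 1) := by
        have h3 : 2 * q ≤ q * q ^ k := by
          rw [mul_comm]
          exact Nat.mul_le_mul_left _ (le_trans (by nlinarith) hk0)
        rw [pow_succ', Nat.mul_sub, mul_one, mul_assoc]
        omega
      calc (q ^ (k + 1 + 1) + 1) * (q ^ (k + 1) - 1) ≤ q * (q ^ (k + 1) + 1) * (2 * q * (q ^ k - 1)) :=
            Nat.mul_le_mul h1 h2
        _ = _ := by ring
    have hB := bound_pairs_minus hab (by omega) ih
    rw [hqdef, ← sing_minus (F := F) hab (k + 1)]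
    by_cases h4 : 4 ≤ q
    · exact bound_step hQ (by omega) h4 hB hS2 hnum
    · refine bound_step_prime hQ (by omega) ?_ ?_ hB ?_ (by rw [hd2]; exact hrec.le) hS2 hnum
      · rcases (show q = 2 ∨ q = 3 by omega) with h | h <;> rw [← hqdef, h] <;> norm_num
      · intro h8 S hS'
        have := singular_finrank_le_minus (k + 1) hab S hS'
        omega
      · exact Nat.mul_pos (Nat.succ_pos _) (by have := Nat.one_lt_pow (n := k) (by omega) (show 1 < q by omega); omega)

end CfsgLib.MinIdx.Orth
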