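import Cfsg.Agent.Lib.MinIdx.OrthBase

/-!
# The parabolic of a singular point: complement of a hyperbolic pair and index counting
-/

set_option autoImplicit false

namespace CfsgLib.MinIdx.Orth

open QuadraticMap CfsgLib.Geometry

variable {F V : Type*} [Field F] [AddCommGroup V] [Module F V] {Q : QuadraticForm F V}

/-- A hyperbolic pair. -/
structure IsPair (Q : QuadraticForm F V) (x y : V) : Prop where
  qx : Q x = 0
  qy : Q y = 0
  xy : polar Q x y = 1

theorem IsPair.yx {x y : V} (h : IsPair Q x y) : polar Q y x = 1 := by rw [polar_comm, h.xy]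

theorem IsPair.symm {x y : V} (h : IsPair Q x y) : IsPair Q y x := ⟨h.qy, h.qx, h.yx⟩

theorem IsPair.xx {x y : V} (h : IsPair Q x y) : polar Q x x = 0 := by rw [polar_self', h.qx, mul_zero]

theorem IsPair.yy {x y : V} (h : IsPair Q x y) : polar Q y y = 0 := by rw [polar_self', h.qy, mul_zero]

theorem IsPair.x_ne {x y : V} (h : IsPair Q x y) : x ≠ 0 := fun h0 => by
  have := h.xy; rw [h0, QuadraticMap.polar_zero_left] at this; exact zero_ne_one this

theorem IsPair.map {x y : V} (h : IsPair Q x y) (g : SG Q) : IsPair Q (g.1 x) (g.1 y) :=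
  ⟨by rw [sg_Q, h.qx], by rw [sg_Q, h.qy], by rw [sg_polar, h.xy]⟩

variable [FiniteDimensional F V]

theorem exists_isPair (hQ : (polarBilin Q).Nondegenerate) {x : V} (hx0 : x ≠ 0)
    (hx : Q x = 0) : ∃ y, IsPair Q x y := by
  obtain ⟨f, hf, hxf⟩ := exists_pair hQ hx0 hx
  exact ⟨f, hx, hf, hxf⟩

variable {x y : V}

/-- The projection onto the complement of the pair. -/
noncomputable def prW (Q : QuadraticForm F V) (x y : V) : V →ₗ[F] V where
  toFun v := v - polar Q v y • x - polar Q v x • y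
  map_add' u v := by simp only [polar_add_left]; module
  map_smul' c v := by simp only [polar_smul_left', RingHom.id_apply]; module

theorem prW_apply (v : V) : prW Q x y v = v - polar Q v y • x - polar Q v x • y := rfl

theorem decompW (v : V) : prW Q x y v + polar Q v y • x + polar Q v x • y = v := by rw [prW_apply]; module

theorem prW_mem (h : IsPair Q x y) (v : V) : prW Q x y v ∈ pairPerp Q x y := by
  refine mem_pairPerp.2 ⟨?_, ?_⟩
  · rw [prW_apply, polar_sub_right, polar_sub_right, polar_smul_right', polar_smul_right', h.xx, h.xy,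
      polar_comm Q x v]; ring
  · rw [prW_apply, polar_sub_right, polar_sub_right, polar_smul_right', polar_smul_right', h.yx, h.yy,
      polar_comm Q y v]; ring

theorem prW_of_mem {v : V} (hv : v ∈ pairPerp Q x y) : prW Q x y v = v := by
  obtain ⟨h1, h2⟩ := mem_pairPerp.1 hv
  rw [prW_apply, polar_comm Q v y, h2, polar_comm Q v x, h1]; simp

/-- The form on the complement. -/
noncomputable abbrev QW (Q : QuadraticForm F V) (x y : V) : QuadraticForm F (pairPerp Q x y) :=
  Q.comp (pairPerp Q x y).subtype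

theorem QW_apply (w : pairPerp Q x y) : QW Q x y w = Q w.1 := rfl

theorem polar_QW (u w : pairPerp Q x y) : polar (QW Q x y) u w = polar Q u.1 w.1 := rfl

theorem polar_prW (v : V) {w : V} (hw : w ∈ pairPerp Q x y) : polar Q (prW Q x y v) w = polar Q v w := by
  obtain ⟨h1, h2⟩ := mem_pairPerp.1 hw
  rw [prW_apply, polar_sub_left, polar_sub_left, polar_smul_left', polar_smul_left', h1, h2]
  ring

theorem nondeg_QW (h : IsPair Q x y) (hQ : (polarBilin Q).Nondegenerate) : (polarBilin (QW Q x y)).Nondegenerate := by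
  have key : ∀ u : pairPerp Q x y, (∀ w : pairPerp Q x y, polar Q u.1 w.1 = 0) → u = 0 := by
    intro u hu
    refine Subtype.ext (hQ.1 u.1 fun v => ?_)
    show polar Q u.1 v = 0
    rw [polar_comm, ← polar_prW v u.2, polar_comm]
    exact hu ⟨_, prW_mem h v⟩
  refine ⟨fun u hu => key u hu, fun u hu => key u fun w => ?_⟩
  rw [polar_comm]; exact hu w

/-- `V ≅ F × F × W`. -/
noncomputable def splitEquiv (h : IsPair Q x y) : V ≃ F × F × pairPerp Q x y where
  toFun v := (polar Q v y, polar Q v x, ⟨prW Q x y v, prW_mem h v⟩)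
  invFun p := p.2.2.1 + p.1 • x + p.2.1 • y
  left_inv v := decompW v
  right_inv p := by
    obtain ⟨h1, h2⟩ := mem_pairPerp.1 p.2.2.2
    have e1 : polar Q (p.2.2.1 + p.1 • x + p.2.1 • y) y = p.1 := by
      rw [polar_add_left, polar_add_left, polar_smul_left', polar_smul_left', h.xy, h.yy, polar_comm Q _ y, h2]
      ring
    have e2 : polar Q (p.2.2.1 + p.1 • x + p.2.1 • y) x = p.2.1 := by
      rw [polar_add_left, polar_add_left, polar_smul_left', polar_smul_left', h.xx, h.yx, polar_comm Q _ x, h1]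
      ring
    refine Prod.ext e1 (Prod.ext e2 (Subtype.ext ?_))
    show prW Q x y _ = _
    rw [prW_apply, e1, e2]; module

theorem card_split [Finite F] (h : IsPair Q x y) :
    Nat.card V = Nat.card F * (Nat.card F * Nat.card (pairPerp Q x y)) := by
  rw [Nat.card_congr (splitEquiv h), Nat.card_prod, Nat.card_prod]

theorem finrank_W [Finite F] (h : IsPair Q x y) :
    Module.finrank F (pairPerp Q x y) + 2 = Module.finrank F V := by
  have h1 := card_split h
  rw [Module.natCard_eq_pow_finrank (K := F) (V := V),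
    Module.natCard_eq_pow_finrank (K := F) (V := pairPerp Q x y), ← pow_succ', ← pow_succ'] at h1
  exact (Nat.pow_right_injective Finite.one_lt_card h1).symm

/-- Extension of a linear map of the complement. -/
noncomputable def extMap (h : IsPair Q x y) (f : pairPerp Q x y →ₗ[F] pairPerp Q x y) : V →ₗ[F] V :=
  LinearMap.id - prW Q x y + (pairPerp Q x y).subtype ∘ₗ f ∘ₗ (prW Q x y).codRestrict _ (prW_mem h)

theorem extMap_apply (h : IsPair Q x y) (f : pairPerp Q x y →ₗ[F] pairPerp Q x y) (v : V) :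
    extMap h f v = polar Q v y • x + polar Q v x • y + (f ⟨prW Q x y v, prW_mem h v⟩).1 := by
  simp only [extMap, LinearMap.add_apply, LinearMap.sub_apply, LinearMap.id_apply, LinearMap.comp_apply,
    Submodule.subtype_apply]
  have : (LinearMap.codRestrict (pairPerp Q x y) (prW Q x y) (prW_mem h)) v = ⟨prW Q x y v, prW_mem h v⟩ := rfl
  rw [this]
  linear_combination (norm := module) -(1 : F) • decompW (Q := Q) (x := x) (y := y) v

theorem extMap_comp (h : IsPair Q x y) (f g : pairPerp Q x y →ₗ[F] pairPerp Q x y) (v : V) :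
    extMap h f (extMap h g v) = extMap h (f ∘ₗ g) v := by
  set w := g ⟨prW Q x y v, prW_mem h v⟩
  have he : extMap h g v = (splitEquiv h).symm (polar Q v y, polar Q v x, w) := by
    rw [extMap_apply]
    show _ = w.1 + polar Q v y • x + polar Q v x • y
    module
  have h1 := (splitEquiv h).apply_symm_apply (polar Q v y, polar Q v x, w)
  rw [← he] at h1
  obtain ⟨e1, e2, e3⟩ : polar Q (extMap h g v) y = polar Q v y ∧ polar Q (extMap h g v) x = polar Q v x ∧
      (⟨prW Q x y (extMap h g v), prW_mem h _⟩ : pairPerp Q x y) = w :=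
    ⟨congrArg Prod.fst h1, congrArg (fun p => p.2.1) h1, congrArg (fun p => p.2.2) h1⟩
  rw [extMap_apply, extMap_apply h (f ∘ₗ g), e3, e1, e2]
  rfl

/-- Extension as a homomorphism. -/
noncomputable def extHom (h : IsPair Q x y) :
    (pairPerp Q x y ≃ₗ[F] pairPerp Q x y) →* (V ≃ₗ[F] V) where
  toFun g := LinearEquiv.ofLinearMap (extMap h g.toLinearMap) (extMap h g.symm.toLinearMap)
    (LinearMap.ext fun v => by
      simp only [LinearMap.comp_apply, extMap_comp]
      rw [show g.toLinearMap ∘ₗ g.symm.toLinearMap = LinearMap.id from LinearMap.ext g.apply_symm_apply, extMap_apply]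
      show polar Q v y • x + polar Q v x • y + prW Q x y v = v
      linear_combination (norm := module) decompW (Q := Q) (x := x) (y := y) v)
    (LinearMap.ext fun v => by
      simp only [LinearMap.comp_apply, extMap_comp]
      rw [show g.symm.toLinearMap ∘ₗ g.toLinearMap = LinearMap.id from LinearMap.ext g.symm_apply_apply, extMap_apply]
      show polar Q v y • x + polar Q v x • y + prW Q x y v = v
      linear_combination (norm := module) decompW (Q := Q) (x := x) (y := y) v)
  map_one' := LinearEquiv.ext fun v => by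
    show extMap h _ v = v
    rw [extMap_apply]
    show _ + _ + prW Q x y v = v
    rw [prW_apply]; module
  map_mul' g k := LinearEquiv.ext fun v => by
    show extMap h _ v = extMap h _ (extMap h _ v)
    rw [extMap_comp]; rfl

theorem extHom_apply (h : IsPair Q x y) (g : pairPerp Q x y ≃ₗ[F] pairPerp Q x y) (v : V) :
    extHom h g v = polar Q v y • x + polar Q v x • y + (g ⟨prW Q x y v, prW_mem h v⟩).1 :=
  extMap_apply h g.toLinearMap v

theorem extHom_siegel (h : IsPair Q x y) (e w : pairPerp Q x y) (he : QW Q x y e = 0)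
    (hw : polar (QW Q x y) e w = 0) :
    extHom h (siegel (QW Q x y) e w he hw) = (es Q e.1 w.1).1 := by
  refine LinearEquiv.ext fun v => ?_
  have hv := decompW (Q := Q) (x := x) (y := y) v
  rw [extHom_apply, es_apply (show Q e.1 = 0 from he) (show polar Q e.1 w.1 = 0 from hw), siegel_apply]
  simp only [Submodule.coe_add, Submodule.coe_sub, Submodule.coe_smul_of_tower, polar_QW, QW_apply,
    polar_prW v e.2, polar_prW v w.2]
  linear_combination (norm := module) hv

theorem extHom_mem (h : IsPair Q x y) {g : pairPerp Q x y ≃ₗ[F] pairPerp Q x y}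
    (hg : g ∈ siegelGroup (QW Q x y)) : extHom h g ∈ siegelGroup Q := by
  have : Subgroup.map (extHom h) (siegelGroup (QW Q x y)) ≤ siegelGroup Q := by
    rw [siegelGroup, MonoidHom.map_closure, Subgroup.closure_le]
    rintro _ ⟨_, ⟨e, w, he, hw, rfl⟩, rfl⟩
    rw [extHom_siegel]
    exact (es Q e.1 w.1).2
  exact this ⟨g, hg, rfl⟩

/-- The Siegel group of the complement inside the Siegel group. -/
noncomputable def ext (h : IsPair Q x y) : SG (QW Q x y) →* SG Q :=
  ((extHom h).comp (siegelGroup (QW Q x y)).subtype).codRestrict (siegelGroup Q) fun g => extHom_mem h g.2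

theorem ext_apply (h : IsPair Q x y) (g : SG (QW Q x y)) (v : V) :
    (ext h g).1 v = polar Q v y • x + polar Q v x • y + (g.1 ⟨prW Q x y v, prW_mem h v⟩).1 :=
  extHom_apply h g.1 v

theorem ext_x (h : IsPair Q x y) (g : SG (QW Q x y)) : (ext h g).1 x = x := by
  rw [ext_apply, show (⟨prW Q x y x, prW_mem h x⟩ : pairPerp Q x y) = 0 from Subtype.ext (by
    show prW Q x y x = 0
    rw [prW_apply, h.xy, h.xx]; simp), map_zero, h.xy, h.xx]; simp

theorem ext_y (h : IsPair Q x y) (g : SG (QW Q x y)) : (ext h g).1 y = y := by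
  rw [ext_apply, show (⟨prW Q x y y, prW_mem h y⟩ : pairPerp Q x y) = 0 from Subtype.ext (by
    show prW Q x y y = 0
    rw [prW_apply, h.yx, h.yy]; simp), map_zero, h.yx, h.yy]; simp

theorem ext_W (h : IsPair Q x y) (g : SG (QW Q x y)) (w : pairPerp Q x y) : (ext h g).1 w.1 = (g.1 w).1 := by
  obtain ⟨h1, h2⟩ := mem_pairPerp.1 w.2
  rw [ext_apply, show (⟨prW Q x y w.1, prW_mem h w.1⟩ : pairPerp Q x y) = w from Subtype.ext (prW_of_mem w.2),
    polar_comm Q _ y, h2, polar_comm Q _ x, h1]; simp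

theorem ext_es (h : IsPair Q x y) {e w : pairPerp Q x y} (he : Q e.1 = 0) (hw : polar Q e.1 w.1 = 0) :
    ext h (es (QW Q x y) e w) = es Q e.1 w.1 := by
  refine Subtype.ext ?_
  show extHom h (es (QW Q x y) e w).1 = _
  rw [es, dif_pos ⟨show QW Q x y e = 0 from he, show polar (QW Q x y) e w = 0 from hw⟩]
  exact extHom_siegel h e w he hw

/-- The stabiliser of both lines of the pair. -/
noncomputable def Mstab (Q : QuadraticForm F V) (x y : V) : Subgroup (SG Q) where
  carrier := {g | (∃ c : F, g.1 x = c • x) ∧ ∃ c : F, g.1 y = c • y}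
  one_mem' := ⟨⟨1, by rw [one_smul]; rfl⟩, ⟨1, by rw [one_smul]; rfl⟩⟩
  mul_mem' := by
    rintro g k ⟨⟨a, ha⟩, ⟨b, hb⟩⟩ ⟨⟨c, hc⟩, ⟨d, hd⟩⟩
    exact ⟨⟨c * a, by rw [sg_mul, hc, map_smul, ha, smul_smul]⟩, ⟨d * b, by rw [sg_mul, hd, map_smul, hb, smul_smul]⟩⟩
  inv_mem' := by
    rintro g ⟨⟨a, ha⟩, ⟨b, hb⟩⟩
    constructor
    · rcases eq_or_ne a 0 with rfl | ha0
      · exact ⟨0, by rw [zero_smul] at ha ⊢; have := sg_inv g x; rw [ha, map_zero] at this; rw [← this, map_zero]⟩
      · exact ⟨a⁻¹, by have := sg_inv g x; rw [ha, map_smul] at this; exact (inv_smul_eq_iff₀ ha0).2 this.symm |>.symm⟩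
    · rcases eq_or_ne b 0 with rfl | hb0
      · exact ⟨0, by rw [zero_smul] at hb ⊢; have := sg_inv g y; rw [hb, map_zero] at this; rw [← this, map_zero]⟩
      · exact ⟨b⁻¹, by have := sg_inv g y; rw [hb, map_smul] at this; exact (inv_smul_eq_iff₀ hb0).2 this.symm |>.symm⟩

theorem ext_mem_Mstab (h : IsPair Q x y) (g : SG (QW Q x y)) : ext h g ∈ Mstab Q x y :=
  ⟨⟨1, by rw [one_smul, ext_x]⟩, ⟨1, by rw [one_smul, ext_y]⟩⟩

theorem Mstab_W (h : IsPair Q x y) {g : SG Q} (hg : g ∈ Mstab Q x y) {v : V} (hv : v ∈ pairPerp Q x y) :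
    g.1 v ∈ pairPerp Q x y := by
  obtain ⟨⟨a, ha⟩, ⟨b, hb⟩⟩ := hg
  obtain ⟨h1, h2⟩ := mem_pairPerp.1 hv
  have ha0 : a ≠ 0 := fun h0 => sg_ne_zero g h.x_ne (by rw [ha, h0, zero_smul])
  have hb0 : b ≠ 0 := fun h0 => sg_ne_zero g h.symm.x_ne (by rw [hb, h0, zero_smul])
  refine mem_pairPerp.2 ⟨?_, ?_⟩
  · have := sg_polar g x v
    rw [ha, polar_smul_left', h1] at this
    exact (mul_eq_zero.1 this).resolve_left ha0
  · have := sg_polar g y v
    rw [hb, polar_smul_left', h2] at this
    exact (mul_eq_zero.1 this).resolve_left hb0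

theorem Mstab_conj {g : SG Q} {c : F} (hg : g.1 x = c • x) {v : V}
    (hx : Q x = 0) (hv : polar Q x v = 0) (hc : c ≠ 0) : g * es Q x v * g⁻¹ = es Q x (c • g.1 v) := by
  have h' : polar Q x (g.1 v) = 0 := by
    have := sg_polar g x v
    rw [hg, polar_smul_left', hv] at this
    exact (mul_eq_zero.1 this).resolve_left hc
  rw [es_conj, hg, es_smul hx h']

theorem scale_ne (h : IsPair Q x y) {g : SG Q} {c : F} (hg : g.1 x = c • x) : c ≠ 0 := fun h0 =>
  sg_ne_zero g h.x_ne (by rw [hg, h0, zero_smul])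

/-- The elements of the Levi part that lift to `H`. -/
noncomputable def liftM (H : Subgroup (SG Q)) (h : IsPair Q x y) : Subgroup (Mstab Q x y) where
  carrier := {g | ∃ w ∈ pairPerp Q x y, es Q x w * g.1 ∈ H}
  one_mem' := ⟨0, zero_mem _, by rw [es_zero]; simpa using H.one_mem⟩
  mul_mem' := by
    rintro ⟨g, hg⟩ ⟨k, hk⟩ ⟨v, hv, hv'⟩ ⟨w, hw, hw'⟩
    obtain ⟨c, hc⟩ := hg.1
    have hw1 := (mem_pairPerp.1 hw).1
    refine ⟨v + c • g.1 w, add_mem hv (Submodule.smul_mem _ _ (Mstab_W h hg hw)), ?_⟩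
    rw [← es_mul x (mem_pairPerp.1 hv).1 (mem_pairPerp.1 (Submodule.smul_mem _ c (Mstab_W h hg hw))).1,
      ← Mstab_conj hc h.qx hw1 (scale_ne h hc)]
    have := H.mul_mem hv' hw'
    convert this using 1
    show es Q x v * (g * es Q x w * g⁻¹) * (g * k) = es Q x v * g * (es Q x w * k)
    group
  inv_mem' := by
    rintro ⟨g, hg⟩ ⟨v, hv, hv'⟩
    obtain ⟨c, hc⟩ := (inv_mem hg : g⁻¹ ∈ Mstab Q x y).1
    have hv1 := (mem_pairPerp.1 hv).1
    refine ⟨-(c • g⁻¹.1 v), neg_mem (Submodule.smul_mem _ _ (Mstab_W h (inv_mem hg) hv)), ?_⟩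
    rw [← es_inv, ← Mstab_conj hc h.qx hv1 (scale_ne h hc)]
    have := H.inv_mem hv'
    convert this using 1
    show (g⁻¹ * es Q x v * g⁻¹⁻¹)⁻¹ * g⁻¹ = (es Q x v * g)⁻¹
    group

/-- The root set inside the complement. -/
noncomputable def wSet (H : Subgroup (SG Q)) (x y : V) : AddSubgroup (pairPerp Q x y) :=
  (rootSet H x).comap (pairPerp Q x y).subtype.toAddMonoidHom

theorem mem_wSet {H : Subgroup (SG Q)} {w : pairPerp Q x y} : w ∈ wSet H x y ↔ w.1 ∈ rootSet H x := Iff.rfl

theorem prW_rootSet {H : Subgroup (SG Q)} (h : IsPair Q x y) {v : V} (hv : v ∈ rootSet H x) :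
    prW Q x y v ∈ rootSet H x := by
  rw [prW_apply, polar_comm Q v x, hv.1, zero_smul, sub_zero]
  exact (rootSet H x).sub_mem hv (line_mem_rootSet H h.qx _)

theorem card_rootSet [Finite V] (H : Subgroup (SG Q)) (h : IsPair Q x y) :
    Nat.card (rootSet H x) = Nat.card F * Nat.card (wSet H x y) := by
  rw [← Nat.card_prod]
  refine Nat.card_congr
    { toFun := fun v => (polar Q v.1 y, ⟨⟨prW Q x y v.1, prW_mem h _⟩, prW_rootSet h v.2⟩)
      invFun := fun p => ⟨p.2.1.1 + p.1 • x, (rootSet H x).add_mem p.2.2 (line_mem_rootSet H h.qx _)⟩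
      left_inv := fun v => Subtype.ext ?_
      right_inv := fun p => ?_ }
  · have := decompW (Q := Q) (x := x) (y := y) v.1
    rwa [polar_comm Q v.1 x, v.2.1, zero_smul, add_zero] at this
  · obtain ⟨h1, h2⟩ := mem_pairPerp.1 p.2.1.2
    have e1 : polar Q (p.2.1.1 + p.1 • x) y = p.1 := by
      rw [polar_add_left, polar_smul_left', h.xy, polar_comm Q _ y, h2]; ring
    refine Prod.ext e1 (Subtype.ext (Subtype.ext ?_))
    show prW Q x y _ = _
    rw [prW_apply, e1, polar_add_left, polar_smul_left', h.xx, polar_comm Q _ x, h1]; simp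

theorem es_w_mul (v w : pairPerp Q x y) : es Q x v.1 * es Q x w.1 = es Q x (v + w).1 :=
  es_mul x (mem_pairPerp.1 v.2).1 (mem_pairPerp.1 w.2).1

/-- A coset representative map from the parabolic. -/
noncomputable def parMap (H : Subgroup (SG Q)) (h : IsPair Q x y) :
    (pairPerp Q x y ⧸ wSet H x y) × (Mstab Q x y ⧸ liftM H h) → SG Q :=
  fun p => p.2.out.1 * es Q x p.1.out.1

theorem parMap_x (H : Subgroup (SG Q)) (h : IsPair Q x y) (p) : ∃ c : F, (parMap H h p).1 x = c • x := by
  obtain ⟨c, hc⟩ := p.2.out.2.1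
  refine ⟨c, ?_⟩
  rw [parMap, sg_mul, es_apply h.qx (mem_pairPerp.1 p.1.out.2).1, h.xx, (mem_pairPerp.1 p.1.out.2).1]
  simpa using hc

theorem parMap_injective (H : Subgroup (SG Q)) (h : IsPair Q x y) :
    Function.Injective (fun p => (QuotientGroup.mk (parMap H h p) : SG Q ⧸ H)) := by
  rintro ⟨a, g⟩ ⟨b, k⟩ hab
  rw [QuotientGroup.eq, parMap, parMap] at hab
  set u := g.out⁻¹ * k.out with hu
  obtain ⟨c, hc⟩ := u.2.1
  have hmem : es Q x (-a.out.1 + c • u.1.1 b.out.1) * u.1 ∈ H := by
    rw [← es_mul x (by rw [polar_neg_right, (mem_pairPerp.1 a.out.2).1, neg_zero])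
      (mem_pairPerp.1 (Submodule.smul_mem _ c (Mstab_W h u.2 b.out.2))).1, ← es_inv,
      ← Mstab_conj hc h.qx (mem_pairPerp.1 b.out.2).1 (scale_ne h hc)]
    convert hab using 1
    show (es Q x a.out.1)⁻¹ * (u.1 * es Q x b.out.1 * u.1⁻¹) * u.1 = _
    rw [hu]
    push_cast
    group
  have hgk : g = k := by
    have h1 : u ∈ liftM H h :=
      ⟨_, add_mem (neg_mem a.out.2) (Submodule.smul_mem _ _ (Mstab_W h u.2 b.out.2)), hmem⟩
    rw [hu, ← QuotientGroup.eq, QuotientGroup.out_eq', QuotientGroup.out_eq'] at h1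
    exact h1
  subst hgk
  rw [mul_inv_rev, mul_assoc, inv_mul_cancel_left, es_inv,
    show -a.out.1 = (-a.out).1 from rfl, es_w_mul] at hab
  have h2 : -a.out + b.out ∈ wSet H x y :=
    mem_wSet.2 (mem_rootSet.2 ⟨(mem_pairPerp.1 (-a.out + b.out).2).1, hab⟩)
  rw [← QuotientAddGroup.eq, QuotientAddGroup.out_eq', QuotientAddGroup.out_eq'] at h2
  exact Prod.ext h2 rfl

theorem finite_sg [Finite V] : Finite (SG Q) :=
  Finite.of_injective (fun g => (g.1 : V → V)) fun a b hab => sg_ext (congrFun hab)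

/-- The index is at least the index in the parabolic. -/
theorem index_ge [Finite V] (H : Subgroup (SG Q)) (h : IsPair Q x y) :
    (wSet H x y).index * (liftM H h).index ≤ H.index := by
  haveI : Finite (SG Q) := finite_sg
  rw [AddSubgroup.index, Subgroup.index, ← Nat.card_prod, Subgroup.index]
  exact Nat.card_le_card_of_injective _ (parMap_injective H h)

theorem map_conj_index' {G : Type*} [Group G] (H : Subgroup G) (g : G) :
    (H.map (MulAut.conj g).toMonoidHom).index = H.index :=
  H.index_map_equiv (MulAut.conj g)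

/-- The conjugate subgroup. -/
noncomputable abbrev cj (H : Subgroup (SG Q)) (g : SG Q) : Subgroup (SG Q) := H.map (MulAut.conj g).toMonoidHom

theorem mem_cj {H : Subgroup (SG Q)} {g k : SG Q} : k ∈ cj H g ↔ g⁻¹ * k * g ∈ H := by
  constructor
  · rintro ⟨a, ha, rfl⟩; simpa [mul_assoc] using ha
  · intro hk; exact ⟨_, hk, by simp [mul_assoc]⟩

theorem rootSet_cj (H : Subgroup (SG Q)) (g : SG Q) (z v : V) :
    g.1 v ∈ rootSet (cj H g) (g.1 z) ↔ v ∈ rootSet H z := by
  rw [mem_rootSet, mem_rootSet, sg_polar, mem_cj, ← es_conj]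
  simp [mul_assoc]

/-- Two points in different orbits of `H` give two disjoint sets of cosets. -/
theorem index_ge_two [Finite V] (H : Subgroup (SG Q)) (h : IsPair Q x y) {e : V} {g₀ : SG Q} (hg₀ : g₀.1 e = x)
    (hne : ∀ k ∈ H, ∀ c : F, k.1 e ≠ c • x) :
    (wSet H x y).index * (liftM H h).index + (wSet (cj H g₀) x y).index * (liftM (cj H g₀) h).index ≤ H.index := by
  haveI : Finite (SG Q) := finite_sg
  simp only [AddSubgroup.index, Subgroup.index, ← Nat.card_prod]
  rw [← Nat.card_sum]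
  refine Nat.card_le_card_of_injective
    (Sum.elim (fun p => (QuotientGroup.mk (parMap H h p) : SG Q ⧸ H))
      (fun p => QuotientGroup.mk (parMap (cj H g₀) h p * g₀))) ?_
  refine Function.Injective.sumElim (parMap_injective H h) (fun p r hpr => parMap_injective (cj H g₀) h ?_) ?_
  · rw [QuotientGroup.eq] at hpr ⊢
    rw [mem_cj]
    simpa [mul_assoc] using hpr
  · intro p r hpr
    rw [QuotientGroup.eq] at hpr
    obtain ⟨c, hc⟩ := parMap_x (cj H g₀) h r
    obtain ⟨d, hd⟩ := parMap_x H h p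
    have hd0 := scale_ne h hd
    refine hne _ hpr (c * d⁻¹) ?_
    rw [sg_mul, sg_mul, hg₀, hc, map_smul, mul_smul]
    congr 1
    rw [eq_inv_smul_iff₀ hd0, ← map_smul, ← hd, sg_inv]

end CfsgLib.MinIdx.Orth
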