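import Cfsg.Agent.Lib.MinIdx.OrthZero

/-!
# A trivial root set over a field of prime order

A lift of a long root element of the Levi part is conjugate to a root element, so some other point
has a non-trivial root set.
-/

set_option autoImplicit false

namespace CfsgLib.MinIdx.Orth

open QuadraticMap CfsgLib.Geometry
open scoped commutatorElement

variable {F V : Type*} [Field F] [AddCommGroup V] [Module F V] [FiniteDimensional F V] [Finite F]
  {Q : QuadraticForm F V} {x y : V}

/-- Outside two orthogonal pairs every non-zero vector is moved. -/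
theorem exists_move (hQ : (polarBilin Q).Nondegenerate) (hn : 6 ≤ Module.finrank F V) {z z' : V}
    (hz : IsPair Q z z') {w w' : pairPerp Q z z'} (hw : IsPair (QW Q z z') w w')
    (haniso : Module.finrank F V = 6 → ∀ u : pairPerp (QW Q z z') w w', Q u.1.1 = 0 → u = 0)
    {t : pairPerp (QW Q z z') w w'} (ht : t ≠ 0) :
    ∃ k : SG Q, (∀ p, p = z ∨ p = z' ∨ p = w.1 ∨ p = w'.1 → k.1 p = p) ∧ k.1 t.1.1 ≠ t.1.1 := by
  classical
  set Q3 := QW (QW Q z z') w w' with hQ3
  have hN3 : (polarBilin Q3).Nondegenerate := nondeg_QW hw (nondeg_QW hz hQ)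
  have hd : Module.finrank F (pairPerp (QW Q z z') w w') + 4 = Module.finrank F V := by
    have := finrank_W hz
    have := finrank_W hw
    omega
  have hperp : ∀ p, p = z ∨ p = z' ∨ p = w.1 ∨ p = w'.1 →
      ∀ u : pairPerp (QW Q z z') w w', polar Q p u.1.1 = 0 := by
    rintro p (rfl | rfl | rfl | rfl) u
    · exact (mem_pairPerp.1 u.1.2).1
    · exact (mem_pairPerp.1 u.1.2).2
    · exact (mem_pairPerp.1 u.2).1
    · exact (mem_pairPerp.1 u.2).2
  obtain ⟨a, -, hta⟩ := exists_polar hN3 ⊥ (x := t) (by simpa using ht) 1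
  rw [polar_comm] at hta
  by_cases hsing : ∃ e : pairPerp (QW Q z z') w w', Q3 e = 0 ∧ polar Q3 t e ≠ 0
  · obtain ⟨e, he, hte⟩ := hsing
    have he0 : e ≠ 0 := fun h0 => hte (by rw [h0, QuadraticMap.polar_zero_right])
    have hd3 : 3 ≤ Module.finrank F (pairPerp (QW Q z z') w w') := by
      by_contra hlt
      exact he0 (haniso (by omega) e he)
    obtain ⟨f, hef⟩ := exists_isPair hN3 he0 he
    haveI : Nontrivial (pairPerp Q3 e f) := Module.nontrivial_of_finrank_pos (R := F) (by
      have := finrank_W hef; omega)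
    obtain ⟨u, hu0⟩ := exists_ne (0 : pairPerp Q3 e f)
    obtain ⟨hu1, hu2⟩ := mem_pairPerp.1 u.2
    refine ⟨es Q e.1.1 u.1.1.1, fun p hp => ?_, fun hk => ?_⟩
    · rw [es_apply (show Q e.1.1 = 0 from he) (show polar Q e.1.1 u.1.1.1 = 0 from hu1), hperp p hp e,
        hperp p hp u.1]
      simp
    · rw [es_apply (show Q e.1.1 = 0 from he) (show polar Q e.1.1 u.1.1.1 = 0 from hu1)] at hk
      have hk' : polar Q3 t e • u.1 - polar Q3 t u.1 • e - (Q3 u.1 * polar Q3 t e) • e = 0 :=
        Subtype.ext (Subtype.ext (by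
          show polar Q t.1.1 e.1.1 • u.1.1.1 - polar Q t.1.1 u.1.1.1 • e.1.1 -
            (Q u.1.1.1 * polar Q t.1.1 e.1.1) • e.1.1 = 0
          linear_combination (norm := module) hk))
      have h1 := congrArg (prW Q3 e f) hk'
      have he1 : prW Q3 e f e = 0 := by rw [prW_apply, hef.xy, hef.xx]; simp
      simp only [map_sub, map_smul, map_zero, he1, smul_zero, sub_zero, prW_of_mem u.2] at h1
      exact hu0 (Subtype.ext ((smul_eq_zero.1 h1).resolve_left hte))
  · push Not at hsing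
    have hd2 : Module.finrank F (pairPerp (QW Q z z') w w') = 2 := by
      by_contra hne
      have h0 : ∀ v, polar Q3 t v = 0 := singular_induction hN3 (by omega) hsing
        (fun u v hu hv => by rw [polar_add_right, hu, hv, add_zero])
      exact one_ne_zero (hta ▸ h0 a)
    have hani := haniso (by omega)
    obtain ⟨d, hd'⟩ : ∃ d, d ∉ Submodule.span F {t} := by
      by_contra hall
      push Not at hall
      have := finrank_span_singleton (K := F) ht
      rw [show Submodule.span F {t} = ⊤ from eq_top_iff.2 fun v _ => hall v, finrank_top] at this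
      omega
    obtain ⟨c, hc, htc⟩ : ∃ c, c ∉ Submodule.span F {t} ∧ polar Q3 t c ≠ 0 := by
      by_cases haS : a ∈ Submodule.span F {t}
      · by_cases htd : polar Q3 t d = 0
        · refine ⟨a + d, fun h => hd' ((Submodule.add_mem_iff_right _ haS).1 h), ?_⟩
          rw [polar_add_right, hta, htd, add_zero]
          exact one_ne_zero
        · exact ⟨d, hd', htd⟩
      · exact ⟨a, haS, by rw [hta]; exact one_ne_zero⟩
    have hqt : Q t.1.1 ≠ 0 := fun h => ht (hani t h)
    have hqc : Q c.1.1 ≠ 0 := fun h => hc (by rw [hani c h]; exact zero_mem _)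
    let r₁ : orth Q := ⟨refl Q t.1.1 hqt, refl_mem_orth _ _ _⟩
    let r₂ : orth Q := ⟨refl Q c.1.1 hqc, refl_mem_orth _ _ _⟩
    have hmem : ((⁅r₁, r₂⁆ : orth Q) : V ≃ₗ[F] V) ∈ siegelGroup Q := by
      have h1 : ⁅r₁, r₂⁆ ∈ commutator (orth Q) :=
        Subgroup.commutator_mem_commutator (Subgroup.mem_top _) (Subgroup.mem_top _)
      rw [commutator_eq_siegel hQ (by omega) (splitSingular_of hQ (Or.inl (by omega)))
        (reflGroup_eq_orth hQ (Or.inl (show Module.finrank F V ≠ 4 by omega)))] at h1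
      exact h1
    have hi : ∀ (b : V) (hb : Q b ≠ 0), (refl Q b hb)⁻¹ = refl Q b hb := fun b hb =>
      inv_eq_of_mul_eq_one_right (refl_mul_self Q b hb)
    have hval : ∀ v, (⟨_, hmem⟩ : SG Q).1 v =
        refl Q t.1.1 hqt (refl Q c.1.1 hqc (refl Q t.1.1 hqt (refl Q c.1.1 hqc v))) := fun v => by
      show ((r₁ * r₂ * r₁⁻¹ * r₂⁻¹ : orth Q) : V ≃ₗ[F] V) v = _
      simp only [Subgroup.coe_mul, Subgroup.coe_inv, r₁, r₂, hi]
      rfl
    refine ⟨⟨_, hmem⟩, fun p hp => ?_, fun hk => ?_⟩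
    · rw [hval]; simp [refl_eq_self, hperp p hp t, hperp p hp c]
    · rw [hval] at hk
      set α := (Q c.1.1)⁻¹ * polar Q t.1.1 c.1.1 with hα
      set β := (Q t.1.1)⁻¹ * polar Q t.1.1 c.1.1 with hβ
      have hα0 : α ≠ 0 := mul_ne_zero (inv_ne_zero hqc) htc
      have hβ0 : β ≠ 0 := mul_ne_zero (inv_ne_zero hqt) htc
      have e1 : ∀ r s : F, refl Q t.1.1 hqt (r • t.1.1 + s • c.1.1) = (-r - s * β) • t.1.1 + s • c.1.1 := fun r s => by
        rw [map_add, map_smul, map_smul, refl_self, refl_apply Q t.1.1 hqt c.1.1, polar_comm Q c.1.1, ← hβ]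
        module
      have e2 : ∀ r s : F, refl Q c.1.1 hqc (r • t.1.1 + s • c.1.1) = r • t.1.1 + (-s - r * α) • c.1.1 := fun r s => by
        rw [map_add, map_smul, map_smul, refl_self, refl_apply Q c.1.1 hqc t.1.1, ← hα]
        module
      have e0 : t.1.1 = (1 : F) • t.1.1 + (0 : F) • c.1.1 := by module
      have e3 := e2 1 0
      rw [← e0] at e3
      rw [e3, e1, e2, e1] at hk
      have h1 : (α * β * (α * β - 3)) • t + (α * (2 - α * β)) • c = 0 := Subtype.ext (Subtype.ext (by
        show (α * β * (α * β - 3)) • t.1.1 + (α * (2 - α * β)) • c.1.1 = 0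
        linear_combination (norm := module) hk))
      by_cases h2 : α * (2 - α * β) = 0
      · have hab : α * β = 2 := (sub_eq_zero.1 ((mul_eq_zero.1 h2).resolve_left hα0)).symm
        rw [h2, zero_smul, add_zero, smul_eq_zero, or_iff_left ht, hab] at h1
        exact mul_ne_zero hα0 hβ0 (hab.trans (by linear_combination -h1))
      · refine hc (Submodule.mem_span_singleton.2 ⟨-((α * (2 - α * β))⁻¹ * (α * β * (α * β - 3))), ?_⟩)
        rw [← inv_smul_smul₀ h2 c, eq_neg_of_add_eq_zero_right h1]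
        module

omit [Finite F] in
theorem es_fix {a b v : V} (ha : Q a = 0) (hab : polar Q a b = 0) (h1 : polar Q v a = 0) (h2 : polar Q v b = 0) :
    (es Q a b).1 v = v := by rw [es_apply ha hab, h1, h2]; simp

/-- A trivial root set with full Levi part gives another point with a non-trivial root set. -/
theorem exists_root_of_bot (hQ : (polarBilin Q).Nondegenerate) (hn : 8 ≤ Module.finrank F V)
    (haniso : Module.finrank F V = 8 → ∀ S : Submodule F V, (∀ s ∈ S, Q s = 0) → Module.finrank F S ≤ 3)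
    (H : Subgroup (SG Q)) (h : IsPair Q x y) (hw : wSet H x y = ⊥) (htop : liftL H h = ⊤) :
    ∃ z₁ w₁ : V, z₁ ≠ 0 ∧ Q z₁ = 0 ∧ polar Q x z₁ = 0 ∧ (∀ c : F, z₁ ≠ c • x) ∧ w₁ ∈ rootSet H z₁ ∧
      ∀ c : F, w₁ ≠ c • z₁ := by
  classical
  set Q1 := QW Q x y with hQ1def
  have hQ1 : (polarBilin Q1).Nondegenerate := nondeg_QW h hQ
  have hd := finrank_W h
  -- lifts
  have hex : ∀ g : SG (QW Q x y), ∃ v : pairPerp Q x y, es Q x v.1 * ext h g ∈ H := fun g => by
    obtain ⟨v, hv, hmem⟩ := mem_liftL.1 (htop ▸ Subgroup.mem_top g)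
    exact ⟨⟨v, hv⟩, hmem⟩
  choose φ hφ using hex
  have huniq : ∀ g v, es Q x v.1 * ext h g ∈ H → v = φ g := fun g v hv => by
    have h1 := H.mul_mem hv (H.inv_mem (hφ g))
    rw [mul_inv_rev, mul_assoc, mul_inv_cancel_left, es_inv,
      show -(φ g).1 = (-φ g).1 from rfl, es_w_mul] at h1
    have h2 : v + -φ g ∈ wSet H x y := ⟨(mem_pairPerp.1 (v + -φ g).2).1, h1⟩
    rw [hw, AddSubgroup.mem_bot, add_neg_eq_zero] at h2
    exact h2
  have hmul : ∀ g k, φ (g * k) = φ g + g.1 (φ k) := fun g k => by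
    refine (huniq _ _ ?_).symm
    have e : ext h g * es Q x (φ k).1 * (ext h g)⁻¹ = es Q x (g.1 (φ k)).1 := by
      rw [es_conj, ext_x, ext_W]
    have h1 := H.mul_mem (hφ g) (hφ k)
    rw [show es Q x (φ g).1 * ext h g * (es Q x (φ k).1 * ext h k) =
        es Q x (φ g).1 * (ext h g * es Q x (φ k).1 * (ext h g)⁻¹) * (ext h g * ext h k) by group,
      e, ← map_mul, es_w_mul] at h1
    exact h1
  -- two orthogonal pairs in the complement
  obtain ⟨z, hz0, hzq⟩ := exists_singular hQ1 (by omega)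
  obtain ⟨z', hz⟩ := exists_isPair hQ1 hz0 hzq
  have hd1 := finrank_W hz
  obtain ⟨w, hw0, hwq⟩ := exists_singular (nondeg_QW hz hQ1) (by omega)
  obtain ⟨w', hwp⟩ := exists_isPair (nondeg_QW hz hQ1) hw0 hwq
  obtain ⟨hzw, hz'w⟩ := mem_pairPerp.1 w.2
  obtain ⟨hzw', hz'w'⟩ := mem_pairPerp.1 w'.2
  obtain ⟨g, hg⟩ : ∃ g, g = es Q1 z w.1 := ⟨_, rfl⟩
  obtain ⟨v, hv⟩ : ∃ v, v = φ g := ⟨_, rfl⟩
  have hgap : ∀ p, g.1 p = p + polar Q1 p z • w.1 - polar Q1 p w.1 • z := fun p => by
    rw [hg, es_apply hzq hzw, show Q1 w.1 = 0 from hwq]; simp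
  have hcomm : ∀ k : SG Q1, k.1 z = z → k.1 w.1 = w.1 → ∃ α β : F, k.1 v - v = α • w.1 - β • z := by
    intro k hk1 hk2
    have e : k * g = g * k := by
      have := es_conj k z w.1
      rw [hk1, hk2, ← hg] at this
      calc k * g = k * g * k⁻¹ * k := by group
        _ = g * k := by rw [this]
    have h1 := congrArg φ e
    rw [hmul, hmul, hgap] at h1
    refine ⟨polar Q1 (φ k) z, polar Q1 (φ k) w.1, ?_⟩
    rw [hv]
    linear_combination (norm := module) h1
  have hd2 := finrank_W hwp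
  haveI : Nontrivial (pairPerp (QW Q1 z z') w w') := Module.nontrivial_of_finrank_pos (R := F) (by omega)
  obtain ⟨u, hu0⟩ := exists_ne (0 : pairPerp (QW Q1 z z') w w')
  obtain ⟨a, -, hau⟩ := exists_polar (nondeg_QW hwp (nondeg_QW hz hQ1)) ⊥ (x := u) (by simpa using hu0) 1
  have hau' : polar Q1 u.1.1 a.1.1 = 1 := by rw [polar_comm]; exact hau
  obtain ⟨ha1, ha1'⟩ := mem_pairPerp.1 a.1.2
  obtain ⟨ha2, ha2'⟩ := mem_pairPerp.1 a.2
  obtain ⟨hu1, hu1'⟩ := mem_pairPerp.1 u.1.2
  obtain ⟨hu2, hu2'⟩ := mem_pairPerp.1 u.2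
  have hu2 : polar Q1 w.1 u.1.1 = 0 := hu2
  have ha2 : polar Q1 w.1 a.1.1 = 0 := ha2
  have hww : polar Q1 w.1 w.1 = 0 := hwp.xx
  have hvz : polar Q1 v z = 0 := by
    obtain ⟨α, β, hab⟩ := hcomm (es Q1 z u.1.1) (es_fix hzq hu1 hz.xx hu1)
      (es_fix hzq hu1 (by rw [polar_comm]; exact hzw) hu2)
    rw [es_apply hzq hu1] at hab
    have h1 := congrArg (fun p => polar Q1 p a.1.1) hab
    simpa [polar_sub_left, polar_add_left, polar_smul_left', hau', ha1, ha2] using h1
  have hvw : polar Q1 v w.1 = 0 := by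
    obtain ⟨α, β, hab⟩ := hcomm (es Q1 w.1 u.1.1) (es_fix hwq hu2 hzw hu1) (es_fix hwq hu2 hww hu2)
    rw [es_apply (show Q1 w.1 = 0 from hwq) hu2] at hab
    have h1 := congrArg (fun p => polar Q1 p a.1.1) hab
    simpa [polar_sub_left, polar_add_left, polar_smul_left', hau', ha1, ha2] using h1
  -- the middle component vanishes
  let p₁ : pairPerp Q1 z z' := ⟨prW Q1 z z' v, prW_mem hz v⟩
  let t : pairPerp (QW Q1 z z') w w' := ⟨prW (QW Q1 z z') w w' p₁, prW_mem hwp p₁⟩
  set c₁ := polar Q1 v z'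
  set c₂ := polar (QW Q1 z z') p₁ w'
  have hdec : v = t.1.1 + c₂ • w.1 + c₁ • z := by
    have e1 := decompW (Q := Q1) (x := z) (y := z') v
    have e2 := congrArg Subtype.val (decompW (Q := QW Q1 z z') (x := w) (y := w') p₁)
    have e3 : polar (QW Q1 z z') p₁ w = 0 := by
      show polar Q1 (prW Q1 z z' v) w.1 = 0
      rw [polar_prW v w.2, hvw]
    rw [hvz, zero_smul, add_zero] at e1
    rw [e3, zero_smul, add_zero] at e2
    rw [← e1]
    show prW Q1 z z' v + c₁ • z = _
    rw [show prW Q1 z z' v = p₁.1 from rfl, ← e2]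
    rfl
  have ht : t = 0 := by
    by_contra ht
    obtain ⟨k, hk, hkt⟩ := exists_move hQ1 (by omega) hz hwp (fun h6 u hu => by
      by_contra hu0
      obtain ⟨hu1, hu1'⟩ := mem_pairPerp.1 u.1.2
      obtain ⟨hu2, hu2'⟩ := mem_pairPerp.1 u.2
      let e : Fin 4 → V := ![x, z.1, w.1.1, u.1.1.1]
      have hxz := (mem_pairPerp.1 z.2)
      have hxw := (mem_pairPerp.1 w.1.2)
      have hxu := (mem_pairPerp.1 u.1.1.2)
      have hxz' := (mem_pairPerp.1 z'.2)
      have hxw' := (mem_pairPerp.1 w'.1.2)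
      have hli : LinearIndependent F e := by
        refine Fintype.linearIndependent_iff.2 fun c hc => ?_
        rw [Fin.sum_univ_four] at hc
        simp only [e, Matrix.cons_val_zero, Matrix.cons_val_one, Matrix.cons_val_two, Matrix.cons_val_three,
          Matrix.head_cons, Matrix.tail_cons] at hc
        have k0 := congrArg (fun p => polar Q p y) hc
        simp [polar_add_left, polar_smul_left', h.xy, polar_comm Q _ y, h.yx, hxz.2, hxw.2, hxu.2] at k0
        rw [k0, zero_smul, zero_add] at hc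
        have hc' : c 1 • z + c 2 • w.1 + c 3 • u.1.1 = 0 := Subtype.ext hc
        have k1 := congrArg (fun p => polar Q1 p z') hc'
        simp [polar_add_left, polar_smul_left', hz.xy, polar_comm Q1 _ z', hz.yx, hz'w, hu1'] at k1
        rw [k1, zero_smul, zero_add] at hc'
        have k2 := congrArg (fun p => polar Q1 p w'.1) hc'
        simp [polar_add_left, polar_smul_left', show polar Q1 w.1 w'.1 = 1 from hwp.xy,
          polar_comm Q1 u.1.1 w'.1, show polar Q1 w'.1 u.1.1 = 0 from hu2'] at k2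
        rw [k2, zero_smul, zero_add, smul_eq_zero] at hc'
        have k3 : c 3 = 0 := hc'.resolve_right fun h0 => hu0 (Subtype.ext (Subtype.ext h0))
        intro i
        fin_cases i <;> assumption
      have h4 := finrank_span_eq_card hli
      have := haniso (by omega) (Submodule.span F (Set.range e)) fun s hs => by
        obtain ⟨c, rfl⟩ := (Submodule.mem_span_range_iff_exists_fun F).1 hs
        rw [Fin.sum_univ_four]
        simp [e, map_add', map_smul', polar_add_left, polar_smul_left', polar_smul_right', h.qx,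
          show Q z.1 = 0 from hzq, show Q w.1.1 = 0 from hwq, show Q u.1.1.1 = 0 from hu, hxz.1, hxw.1, hxu.1,
          show polar Q z.1 w.1.1 = 0 from hzw, show polar Q z.1 u.1.1.1 = 0 from hu1,
          show polar Q w.1.1 u.1.1.1 = 0 from hu2]
      rw [h4, Fintype.card_fin] at this
      omega) ht
    obtain ⟨α, β, hab⟩ := hcomm k (hk z (by simp)) (hk w.1 (by simp))
    rw [hdec, map_add, map_add, map_smul, map_smul, hk z (by simp), hk w.1 (by simp)] at hab
    have hab' : k.1 t.1.1 - t.1.1 = α • w.1 - β • z := by rw [← hab]; module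
    obtain ⟨ht1, ht1'⟩ := mem_pairPerp.1 t.1.2
    obtain ⟨ht2, ht2'⟩ := mem_pairPerp.1 t.2
    have hkp : ∀ p, k.1 p = p → polar Q1 (k.1 t.1.1 - t.1.1) p = 0 := fun p hp => by
      rw [polar_sub_left]
      conv_lhs => arg 1; rw [← hp, sg_polar]
      rw [sub_self]
    have hb : β = 0 := by
      have := hkp z' (hk z' (by simp))
      simpa [hab', polar_sub_left, polar_smul_left', hz.xy, polar_comm Q1 w.1 z', hz'w] using this
    have ha : α = 0 := by
      have := hkp w'.1 (hk w'.1 (by simp))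
      simpa [hab', hb, polar_smul_left', show polar Q1 w.1 w'.1 = 1 from hwp.xy] using this
    rw [ha, hb, zero_smul, zero_smul, sub_zero, sub_eq_zero] at hab'
    exact hkt hab'
  rw [ht] at hdec
  -- a conjugate of the lift is a root element
  set s := c₂ • z' - c₁ • w'.1 with hs
  have hgs : g.1 s - s = v := by
    rw [hdec, hgap, hs]
    simp [polar_sub_left, polar_smul_left', hz.yx, polar_comm Q1 z' w.1, polar_comm Q1 w'.1 z,
      show polar Q1 w.1 z' = 0 by rw [polar_comm]; exact hz'w, hzw',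
      show polar Q1 w'.1 w.1 = 1 from hwp.yx]
    module
  set k₀ := es Q x (-s).1
  have hk₀ : k₀ * ext h g * k₀⁻¹ ∈ H := by
    have e : ext h g * es Q x s.1 * (ext h g)⁻¹ = es Q x (g.1 s).1 := by rw [es_conj, ext_x, ext_W]
    have e2 : es Q x v.1 * ext h g = es Q x (-s).1 * es Q x (g.1 s).1 * ext h g := by
      rw [es_w_mul, ← hgs]; congr 2; abel
    have := hφ g
    rw [← hv, e2, ← e] at this
    convert this using 1
    show es Q x (-s).1 * ext h g * (es Q x (-s).1)⁻¹ = _
    rw [es_inv, show -(-s).1 = s.1 from by simp]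
    group
  have hzwV : polar Q z.1 w.1.1 = 0 := hzw
  have hgV : ext h g = es Q z.1 w.1.1 := by rw [hg]; exact ext_es h (e := z) (w := w.1) hzq hzwV
  rw [hgV, es_conj] at hk₀
  have hx0 : k₀.1 x = x := by
    rw [es_apply h.qx (mem_pairPerp.1 (-s).2).1, h.xx, (mem_pairPerp.1 (-s).2).1]
    simp
  have hinj : Function.Injective k₀.1 := k₀.1.injective
  refine ⟨k₀.1 z.1, k₀.1 w.1.1, sg_ne_zero _ fun h0 => hz0 (Subtype.ext h0), by rw [sg_Q]; exact hzq, ?_,
    fun c hc => hz0 ?_, ⟨by rw [sg_polar]; exact hzwV, hk₀⟩, fun c hc => hw0 ?_⟩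
  · have h1 := sg_polar k₀ x z.1
    rw [hx0] at h1
    rw [h1]
    exact (mem_pairPerp.1 z.2).1
  · have h1 : z.1 = c • x := hinj (by rw [hc, map_smul, hx0])
    have h2 := prW_of_mem z.2
    rw [h1, map_smul, prW_apply, h.xy, h.xx] at h2
    refine Subtype.ext ?_
    rw [h1, ← h2]
    simp
  · have h1 : w.1 = c • z := Subtype.ext (hinj (by rw [hc, ← map_smul]; rfl))
    have h2 := prW_of_mem w.2
    rw [h1, map_smul, prW_apply, hz.xy, hz.xx] at h2
    refine Subtype.ext ?_
    rw [h1, ← h2]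
    simp

end CfsgLib.MinIdx.Orth
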