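import Cfsg.Agent.Lib.MinIdx.OrthMain
import Cfsg.Agent.Lib.MinIdx.OrthPrime

/-!
# The induction step over a field of prime order
-/

set_option autoImplicit false

namespace CfsgLib.MinIdx.Orth

open QuadraticMap CfsgLib.Geometry

variable {F V : Type*} [Field F] [AddCommGroup V] [Module F V] [FiniteDimensional F V] [Finite F]
  {Q : QuadraticForm F V} {x y : V}

/-- With trivial root set and full Levi part the line stabiliser has `|W|` cosets of `H`. -/
theorem relIndex_lineStab (H : Subgroup (SG Q)) (h : IsPair Q x y) (hw : wSet H x y = ⊥)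
    (htop : liftM H h = ⊤) : H.relIndex (lineStab Q x) = Nat.card (pairPerp Q x y) := by
  have hfix : ∀ w : pairPerp Q x y, es Q x w.1 ∈ lineStab Q x := fun w =>
    ⟨1, one_ne_zero, by rw [es_apply h.qx (mem_pairPerp.1 w.2).1, h.xx, (mem_pairPerp.1 w.2).1]; simp⟩
  refine (Nat.card_eq_of_bijective (fun w => (QuotientGroup.mk ⟨es Q x w.1, hfix w⟩ :
    lineStab Q x ⧸ H.subgroupOf (lineStab Q x))) ⟨fun v w hvw => ?_, fun c => ?_⟩).symm
  · have h1 := QuotientGroup.eq.1 hvw
    rw [Subgroup.mem_subgroupOf] at h1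
    change (es Q x v.1)⁻¹ * es Q x w.1 ∈ H at h1
    rw [es_inv, show -v.1 = (-v).1 from rfl, es_w_mul] at h1
    have h2 : -v + w ∈ wSet H x y := ⟨(mem_pairPerp.1 (-v + w).2).1, h1⟩
    rw [hw, AddSubgroup.mem_bot, neg_add_eq_zero] at h2
    exact h2
  · obtain ⟨⟨s, d, hd, hs⟩, rfl⟩ := QuotientGroup.mk_surjective c
    set y' := d • s.1 y with hy'
    have hy'x : polar Q y' x = 1 := by
      have h1 := sg_polar s x y
      rw [hs, h.xy, polar_smul_left'] at h1
      rw [hy', polar_smul_left', polar_comm, h1]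
    set u : pairPerp Q x y := ⟨prW Q x y y', prW_mem h y'⟩
    have hu : (es Q x u.1).1 y = y' := by
      obtain ⟨h1, h2⟩ := mem_pairPerp.1 u.2
      rw [es_apply h.qx h1, h.yx, h2]
      have hdec := decompW (Q := Q) (x := x) (y := y) y'
      rw [hy'x, one_smul] at hdec
      have hq : Q y' = 0 := by rw [hy', map_smul', sg_Q, h.qy, mul_zero]
      rw [← hdec] at hq
      simp only [map_add', map_smul', h.qx, h.qy, polar_add_left, polar_smul_left', polar_smul_right', h.xy,
        polar_comm Q (prW Q x y y'), (mem_pairPerp.1 (prW_mem h y')).1, (mem_pairPerp.1 (prW_mem h y')).2] at hq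
      simp at hq
      conv_rhs => rw [← hdec, show polar Q y' y = -Q u.1 by linear_combination hq]
      simp only [one_smul, mul_one, u]
      module
    obtain ⟨g, hg⟩ : ∃ g, g = (es Q x u.1)⁻¹ * s := ⟨_, rfl⟩
    have hgM : g ∈ Mstab Q x y := by
      refine ⟨⟨d, ?_⟩, ⟨d⁻¹, ?_⟩⟩
      · rw [hg, sg_mul, hs, map_smul, es_inv, es_apply h.qx (by rw [polar_neg_right, (mem_pairPerp.1 u.2).1, neg_zero]),
          h.xx, polar_neg_right, (mem_pairPerp.1 u.2).1]
        simp
      · rw [hg, sg_mul, eq_inv_smul_iff₀ hd, ← map_smul, ← hy', ← hu, sg_inv]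
    obtain ⟨v, hv, hmem⟩ : (⟨g, hgM⟩ : Mstab Q x y) ∈ liftM H h := htop ▸ Subgroup.mem_top _
    refine ⟨u - ⟨v, hv⟩, QuotientGroup.eq.2 ?_⟩
    rw [Subgroup.mem_subgroupOf]
    show (es Q x (u - ⟨v, hv⟩ : pairPerp Q x y).1)⁻¹ * s ∈ H
    convert hmem using 1
    show (es Q x (u - ⟨v, hv⟩ : pairPerp Q x y).1)⁻¹ * s = es Q x v * g
    rw [es_inv, show -((u - ⟨v, hv⟩ : pairPerp Q x y)).1 = ((⟨v, hv⟩ : pairPerp Q x y) + -u).1 by
      simp [sub_eq_add_neg, add_comm], ← es_w_mul, show (-u).1 = -u.1 from rfl, ← es_inv, hg, mul_assoc]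

/-- Over a field of prime order no point has a trivial root set. -/
theorem not_zero_prime (hQ : (polarBilin Q).Nondegenerate) (hn : 8 ≤ Module.finrank F V)
    (hp : (Nat.card F).Prime)
    (haniso : Module.finrank F V = 8 → ∀ S : Submodule F V, (∀ s ∈ S, Q s = 0) → Module.finrank F S ≤ 3)
    {B : ℕ} (hB : ∀ x y : V, IsPair Q x y → Bound (QW Q x y) B) (hB0 : 0 < B)
    (hrec : sing Q ≤ Nat.card F ^ (Module.finrank F V - 2) * (Nat.card F - 1) + Nat.card F * B + (Nat.card F - 1))
    (hS2 : sing Q < 2 * (Nat.card F - 1) * Nat.card F ^ (Module.finrank F V - 2))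
    (H : Subgroup (SG Q)) (h : IsPair Q x y)
    (hH : H.index * (Nat.card F - 1) < sing Q) : wSet H x y ≠ ⊥ := by
  classical
  intro hw
  haveI : Finite V := Module.finite_of_finite F
  haveI : Finite (SG Q) := finite_sg
  haveI : Finite (Mstab Q x y) := finite_mstab
  set q := Nat.card F with hqdef
  set c := q ^ (Module.finrank F V - 2)
  have hq2 : 2 ≤ q := hp.two_le
  have hc : Nat.card (pairPerp Q x y) = c := by
    rw [Module.natCard_eq_pow_finrank (K := F),
      show Module.finrank F (pairPerp Q x y) = Module.finrank F V - 2 by have := finrank_W h; omega]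
  have hidx : (wSet H x y).index = c := by rw [hw, AddSubgroup.index_bot, hc]
  have htop : liftM H h = ⊤ := by
    refine Subgroup.index_eq_one.1 ?_
    have h1 := index_ge H h
    rw [hidx] at h1
    have h0 : 0 < (liftM H h).index := Nat.pos_of_ne_zero Subgroup.index_ne_zero_of_finite
    by_contra hne
    have h2 : 2 ≤ (liftM H h).index := by omega
    have := calc 2 * (q - 1) * c = (c * 2) * (q - 1) := by ring
      _ ≤ (c * (liftM H h).index) * (q - 1) := Nat.mul_le_mul_right _ (Nat.mul_le_mul_left _ h2)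
      _ ≤ H.index * (q - 1) := Nat.mul_le_mul_right _ h1
    omega
  obtain ⟨z, w, hz0, hz, hxz, hzx, hwz, hwne⟩ := exists_root_of_bot hQ hn haniso H h hw
    (eq_top_iff.2 fun g _ => show extM h g ∈ liftM H h from htop ▸ Subgroup.mem_top _)
  obtain ⟨s, hs, hsx⟩ := siegel_trans_singular hQ (by omega) hz0 h.x_ne hz h.qx
  obtain ⟨g₀, hg₀def⟩ : ∃ g₀ : SG Q, g₀ = ⟨s, hs⟩ := ⟨_, rfl⟩
  have hg₀ : g₀.1 z = x := by rw [hg₀def]; exact hsx
  set H' := cj H g₀
  have hne : wSet H' x y ≠ ⊥ := by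
    intro h0
    have h1 : g₀.1 w ∈ rootSet H' x := hg₀ ▸ (rootSet_cj H g₀ z w).2 hwz
    have h2 : (⟨_, prW_mem h (g₀.1 w)⟩ : pairPerp Q x y) ∈ wSet H' x y := prW_rootSet h h1
    rw [h0, AddSubgroup.mem_bot] at h2
    have h3 : prW Q x y (g₀.1 w) = 0 := congrArg Subtype.val h2
    have h4 := decompW (Q := Q) (x := x) (y := y) (g₀.1 w)
    rw [h3, polar_comm Q _ x, h1.1, zero_smul, add_zero, zero_add, ← hg₀, ← map_smul] at h4
    exact hwne _ (g₀.1.injective h4).symm
  have hnt : wSet H' x y ≠ ⊤ := by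
    intro h0
    have hall : ∀ v, polar Q z v = 0 → v ∈ rootSet H z := fun v hv => by
      rw [← rootSet_cj H g₀, hg₀]
      have h1 : polar Q x (g₀.1 v) = 0 := by rw [← hg₀, sg_polar, hv]
      rw [← decompW (Q := Q) (x := x) (y := y) (g₀.1 v), polar_comm Q (g₀.1 v) x, h1, zero_smul, add_zero]
      exact (rootSet H' x).add_mem (show (⟨_, prW_mem h (g₀.1 v)⟩ : pairPerp Q x y) ∈ wSet H' x y from
        h0 ▸ AddSubgroup.mem_top _) (line_mem_rootSet H' h.qx _)
    have h1 := hall x (by rw [polar_comm, hxz])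
    have h2 : -z ∈ rootSet H x := by
      refine ⟨by rw [polar_neg_right, hxz, neg_zero], ?_⟩
      rw [show -z = -(1 : F) • z by module, ← es_swap hz h.qx (by rw [polar_comm, hxz]), one_smul]
      exact h1.2
    have h3 : (⟨_, prW_mem h (-z)⟩ : pairPerp Q x y) ∈ wSet H x y := prW_rootSet h h2
    rw [hw, AddSubgroup.mem_bot] at h3
    have h3' : prW Q x y (-z) = 0 := congrArg Subtype.val h3
    have h4 := decompW (Q := Q) (x := x) (y := y) z
    rw [map_neg, neg_eq_zero] at h3'
    rw [h3', polar_comm Q z x, hxz, zero_smul, add_zero, zero_add] at h4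
    exact hzx _ h4.symm
  have hdiff : ∀ k ∈ H, ∀ d : F, k.1 z ≠ d • x := by
    intro k hk d hd
    have hd0 : d ≠ 0 := fun h0 => sg_ne_zero k hz0 (by rw [hd, h0, zero_smul])
    have h1 := rootSet_map hk hwz
    rw [hd] at h1
    have h2 := prW_rootSet h ((rootSet_smul h.qx hd0).1 h1)
    have h3 : (⟨_, prW_mem h (d • k.1 w)⟩ : pairPerp Q x y) ∈ wSet H x y := h2
    rw [hw, AddSubgroup.mem_bot] at h3
    have h4 : prW Q x y (d • k.1 w) = 0 := congrArg Subtype.val h3
    have h5 := decompW (Q := Q) (x := x) (y := y) (d • k.1 w)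
    rw [h4, polar_comm Q _ x, ((rootSet_smul h.qx hd0).1 h1).1, zero_smul, add_zero, zero_add] at h5
    set e := polar Q (d • k.1 w) y
    refine hwne (d⁻¹ * (e * d⁻¹)) (k.1.injective ?_)
    rw [map_smul, hd, smul_smul, show d⁻¹ * (e * d⁻¹) * d = d⁻¹ * e by field_simp, mul_smul, h5, inv_smul_smul₀ hd0]
  have hL : liftL H' h ≠ ⊤ := fun h0 => (wSet_cases hQ h (by omega) h0).elim hne hnt
  have hX : q ≤ (wSet H' x y).index := by
    have h1 : (wSet H' x y).index ∣ c := hc ▸ AddSubgroup.index_dvd_card _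
    obtain ⟨i, -, hi⟩ := (Nat.dvd_prime_pow hp).1 h1
    rcases Nat.eq_zero_or_pos i with rfl | hi0
    · exact absurd (AddSubgroup.index_eq_one.1 hi) hnt
    · rw [hi]; exact Nat.le_self_pow hi0.ne' q
  have hl : B ≤ (liftM H' h).index * (q - 1) :=
    (hB x y h _ hL).trans (Nat.mul_le_mul_right _ (liftL_index_le H' h))
  have hsum := index_ge_two H h hg₀ hdiff
  rw [hidx, htop, Subgroup.index_top, mul_one] at hsum
  have h1 : c * (q - 1) + q * B ≤ H.index * (q - 1) :=
    calc c * (q - 1) + q * B ≤ c * (q - 1) + (wSet H' x y).index * ((liftM H' h).index * (q - 1)) :=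
          Nat.add_le_add_left (Nat.mul_le_mul hX hl) _
      _ = (c + (wSet H' x y).index * (liftM H' h).index) * (q - 1) := by ring
      _ ≤ _ := Nat.mul_le_mul_right _ hsum
  -- the number of points is one more than the index
  set P := (lineStab Q x).index
  have hP : P * (q - 1) = sing Q := index_lineStab hQ (by omega) h.x_ne h.qx
  have hP1 : P = H.index + 1 := by
    have h2 : H.index < P := Nat.lt_of_mul_lt_mul_right (hP.symm ▸ hH)
    have h3 : P * (q - 1) ≤ (H.index + 1) * (q - 1) := by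
      rw [hP, add_mul, one_mul]
      omega
    have := Nat.le_of_mul_le_mul_right h3 (by omega)
    omega
  have hdvd : H.index ∣ c * P := by
    rw [← hc, ← relIndex_lineStab H h hw htop, ← Subgroup.inf_relIndex_right,
      Subgroup.relIndex_mul_index inf_le_right]
    exact Subgroup.index_dvd_of_le inf_le_left
  have hdvd' : H.index ∣ c := by
    refine Nat.Coprime.dvd_of_dvd_mul_right ?_ hdvd
    rw [hP1]
    simp
  have hcN : H.index ≤ c := Nat.le_of_dvd (Nat.pow_pos (by omega)) hdvd'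
  have h4 := Nat.mul_le_mul_right (q - 1) hcN
  have h5 : 0 < q * B := Nat.mul_pos (by omega) hB0
  omega

/-- The induction step over a field of prime order. -/
theorem bound_step_prime (hQ : (polarBilin Q).Nondegenerate) (hn : 8 ≤ Module.finrank F V)
    (hp : (Nat.card F).Prime)
    (haniso : Module.finrank F V = 8 → ∀ S : Submodule F V, (∀ s ∈ S, Q s = 0) → Module.finrank F S ≤ 3)
    {B : ℕ} (hB : ∀ x y : V, IsPair Q x y → Bound (QW Q x y) B) (hB0 : 0 < B)
    (hrec : sing Q ≤ Nat.card F ^ (Module.finrank F V - 2) * (Nat.card F - 1) + Nat.card F * B + (Nat.card F - 1))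
    (hS2 : sing Q < 2 * (Nat.card F - 1) * Nat.card F ^ (Module.finrank F V - 2))
    (hnum : sing Q ≤ 2 * Nat.card F ^ 2 * B) : Bound Q (sing Q) :=
  bound_of_rootSets hQ
    (fun H _ _ h hH => rootSet_ge_of_not_zero hQ (by omega) hB hS2 hnum H h hH fun _ =>
      not_zero_prime hQ hn hp haniso hB hB0 hrec hS2 H h hH)
    fun H hbig => eq_top_of_big hQ hn H hbig

end CfsgLib.MinIdx.Orth
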