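import Cfsg.Agent.Lib.MinIdx.OrthPrimeStep
import Cfsg.Agent.Lib.MinIdx.OrthBound

/-!
# Values of a quadratic form split along a hyperbolic pair, and subgroups of small index
-/

set_option autoImplicit false

namespace CfsgLib.MinIdx.Orth

open QuadraticMap CfsgLib.Geometry

variable {F V : Type*} [Field F] [AddCommGroup V] [Module F V] [FiniteDimensional F V] [Finite F]
  {Q : QuadraticForm F V} {x y : V}

omit [Finite F] in
theorem Q_split (h : IsPair Q x y) (a b : F) (w : pairPerp Q x y) :
    Q (w.1 + a • x + b • y) = QW Q x y w + a * b := by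
  obtain ⟨h1, h1'⟩ := mem_pairPerp.1 w.2
  simp only [map_add', map_smul', h.qx, h.qy, polar_add_left, polar_smul_left', polar_smul_right', h.xy,
    polar_comm Q w.1, h1, h1']
  show _ = Q w.1 + a * b
  ring

/-- The number of vectors with a given value, from that of a complement. -/
theorem value_split (h : IsPair Q x y) (c : F) :
    Nat.card {v : V // Q v = c} = Nat.card F * Nat.card {w : pairPerp Q x y // QW Q x y w = c} +
      (Nat.card F - 1) * Nat.card F ^ (Module.finrank F V - 2) := by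
  classical
  haveI : Finite V := Module.finite_of_finite F
  have hd : Module.finrank F (pairPerp Q x y) = Module.finrank F V - 2 := by have := finrank_W h; omega
  rw [← hd, ← Module.natCard_eq_pow_finrank, ← Nat.card_units, ← Nat.card_prod, ← Nat.card_prod, ← Nat.card_sum]
  have e1 : {v : V // Q v = c} ≃ {p : F × F × pairPerp Q x y // QW Q x y p.2.2 + p.1 * p.2.1 = c} :=
    Equiv.subtypeEquiv (splitEquiv h) fun v => by
      rw [← Q_split h]
      show _ ↔ Q ((splitEquiv h).symm ((splitEquiv h) v)) = c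
      rw [Equiv.symm_apply_apply]
  refine Nat.card_congr (e1.trans
    { toFun := fun p => if h0 : p.1.1 = 0 then .inl (p.1.2.1, ⟨p.1.2.2, by simpa [h0] using p.2⟩)
        else .inr (Units.mk0 p.1.1 h0, p.1.2.2)
      invFun := Sum.elim (fun r => ⟨(0, r.1, r.2.1), by simpa using r.2.2⟩)
        (fun r => ⟨((r.1 : F), (c - QW Q x y r.2) / (r.1 : F), r.2), by
          show QW Q x y r.2 + (r.1 : F) * ((c - QW Q x y r.2) / (r.1 : F)) = c
          rw [mul_div_cancel₀ _ r.1.ne_zero]; ring⟩)
      left_inv := fun p => ?_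
      right_inv := fun r => ?_ })
  · by_cases h0 : p.1.1 = 0
    · simp only [h0, dite_true, Sum.elim_inl]
      exact Subtype.ext (Prod.ext h0.symm rfl)
    · simp only [h0, dite_false, Sum.elim_inr]
      refine Subtype.ext (Prod.ext rfl (Prod.ext ?_ rfl))
      show (c - QW Q x y p.1.2.2) / p.1.1 = p.1.2.1
      have e2 := p.2
      rw [div_eq_iff h0]
      linear_combination -e2
  · rcases r with r | r
    · dsimp only [Sum.elim_inl]
      rw [dif_pos rfl]
    · dsimp only [Sum.elim_inr]
      rw [dif_neg r.1.ne_zero]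
      exact congrArg Sum.inr (Prod.ext (Units.ext rfl) rfl)

/-- The general step: a point with trivial root set and a second one. -/
theorem small_step (hQ : (polarBilin Q).Nondegenerate) (hn : 7 ≤ Module.finrank F V) {B0 : ℕ}
    (hone : B0 ≤ 2 * (Nat.card F - 1) * Nat.card F ^ (Module.finrank F V - 2))
    (htop : ∀ H : Subgroup (SG Q), (∀ x : V, x ≠ 0 → Q x = 0 →
      Nat.card F ^ (Module.finrank F V - 3) ≤ Nat.card (rootSet H x)) → H = ⊤)
    (hroot : ∀ H : Subgroup (SG Q), (∀ {x y : V} (h : IsPair Q x y), wSet H x y = ⊥ → liftL H h = ⊤) →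
      ∀ {x y : V} (h : IsPair Q x y), wSet H x y = ⊥ →
      ∃ z₁ w₁ : V, z₁ ≠ 0 ∧ Q z₁ = 0 ∧ polar Q x z₁ = 0 ∧ (∀ c : F, z₁ ≠ c • x) ∧ w₁ ∈ rootSet H z₁ ∧
        ∀ c : F, w₁ ≠ c • z₁)
    (hcase : ∀ (H : Subgroup (SG Q)) {x y : V} (h : IsPair Q x y), wSet H x y ≠ ⊥ → wSet H x y ≠ ⊤ →
      B0 ≤ (Nat.card F - 1) * Nat.card F ^ (Module.finrank F V - 2) +
          (wSet H x y).index * (liftM H h).index * (Nat.card F - 1) ∧
        (Nat.card F ^ 2 < (wSet H x y).index →
          B0 ≤ (wSet H x y).index * (liftM H h).index * (Nat.card F - 1))) :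
    Bound Q B0 := by
  classical
  intro H hH
  by_contra hlt
  push Not at hlt
  haveI : Finite V := Module.finite_of_finite F
  haveI : Finite (SG Q) := finite_sg
  haveI : ∀ a b : V, Finite (Mstab Q a b) := fun a b => finite_mstab
  set q := Nat.card F with hqdef
  have hq : 2 ≤ q := Finite.one_lt_card
  obtain ⟨c, hcdef⟩ : ∃ c, c = q ^ (Module.finrank F V - 2) := ⟨_, rfl⟩
  rw [← hcdef] at hone hcase
  have hW : ∀ {x y : V}, IsPair Q x y → Nat.card (pairPerp Q x y) = c := fun {x y} h => by
    rw [Module.natCard_eq_pow_finrank (K := F), hcdef, ← hqdef,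
      show Module.finrank F (pairPerp Q x y) = Module.finrank F V - 2 by have := finrank_W h; omega]
  have hbot : ∀ {x y : V} (h : IsPair Q x y), wSet H x y = ⊥ →
      (wSet H x y).index = c ∧ liftM H h = ⊤ ∧ liftL H h = ⊤ := by
    intro x y h hw
    have hidx : (wSet H x y).index = c := by rw [hw, AddSubgroup.index_bot, hW h]
    have htop : liftM H h = ⊤ := by
      refine Subgroup.index_eq_one.1 ?_
      have h1 := index_ge H h
      rw [hidx] at h1
      have h0 : 0 < (liftM H h).index := Nat.pos_of_ne_zero Subgroup.index_ne_zero_of_finite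
      by_contra hne
      refine absurd hlt (not_lt.2 (hone.trans ?_))
      calc 2 * (q - 1) * c = c * 2 * (q - 1) := by ring
        _ ≤ c * (liftM H h).index * (q - 1) :=
          Nat.mul_le_mul_right _ (Nat.mul_le_mul_left _ (show 2 ≤ (liftM H h).index by omega))
        _ ≤ _ := Nat.mul_le_mul_right _ h1
    exact ⟨hidx, htop, eq_top_iff.2 fun g _ => show extM h g ∈ liftM H h from htop ▸ Subgroup.mem_top _⟩
  have hne : ∀ {x y : V}, IsPair Q x y → wSet H x y ≠ ⊥ := by
    intro x y h hw
    obtain ⟨hidx, htop, htopL⟩ := hbot h hw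
    obtain ⟨z, w, hz0, hz, hxz, hzx, hwz, hwne⟩ := hroot H (fun {a b} hab hw' => (hbot hab hw').2.2) h hw
    obtain ⟨s, hs, hsx⟩ := siegel_trans_singular hQ (by omega) hz0 h.x_ne hz h.qx
    obtain ⟨g₀, hg₀def⟩ : ∃ g₀ : SG Q, g₀ = ⟨s, hs⟩ := ⟨_, rfl⟩
    have hg₀ : g₀.1 z = x := by rw [hg₀def]; exact hsx
    set H' := cj H g₀
    have hne : wSet H' x y ≠ ⊥ := by
      intro h0
      have h1 : g₀.1 w ∈ rootSet H' x := hg₀ ▸ (rootSet_cj H g₀ z w).2 hwz
      have h2 : (⟨_, prW_mem h (g₀.1 w)⟩ : pairPerp Q x y) ∈ wSet H' x y := prW_rootSet h h1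
      rw [h0, AddSubgroup.mem_bot] at h2
      have h3 : prW Q x y (g₀.1 w) = 0 := congrArg Subtype.val h2
      have h4 := decompW (Q := Q) (x := x) (y := y) (g₀.1 w)
      rw [h3, polar_comm Q _ x, h1.1, zero_smul, add_zero, zero_add, ← hg₀, ← map_smul] at h4
      exact hwne _ (g₀.1.injective h4).symm
    have hnt : wSet H' x y ≠ ⊤ := by
      intro h0
      have hall : ∀ v, polar Q z v = 0 → v ∈ rootSet H z := fun v hv => by
        rw [← rootSet_cj H g₀, hg₀]
        have h1 : polar Q x (g₀.1 v) = 0 := by rw [← hg₀, sg_polar, hv]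
        rw [← decompW (Q := Q) (x := x) (y := y) (g₀.1 v), polar_comm Q (g₀.1 v) x, h1, zero_smul, add_zero]
        exact (rootSet H' x).add_mem (show (⟨_, prW_mem h (g₀.1 v)⟩ : pairPerp Q x y) ∈ wSet H' x y from
          h0 ▸ AddSubgroup.mem_top _) (line_mem_rootSet H' h.qx _)
      have h1 := hall x (by rw [polar_comm, hxz])
      have h2 : -z ∈ rootSet H x := by
        refine ⟨by rw [polar_neg_right, hxz, neg_zero], ?_⟩
        rw [show -z = -(1 : F) • z by module, ← es_swap hz h.qx (by rw [polar_comm, hxz]), one_smul]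
        exact h1.2
      have h3 : (⟨_, prW_mem h (-z)⟩ : pairPerp Q x y) ∈ wSet H x y := prW_rootSet h h2
      rw [hw, AddSubgroup.mem_bot] at h3
      have h3' : prW Q x y (-z) = 0 := congrArg Subtype.val h3
      have h4 := decompW (Q := Q) (x := x) (y := y) z
      rw [map_neg, neg_eq_zero] at h3'
      rw [h3', polar_comm Q z x, hxz, zero_smul, add_zero, zero_add] at h4
      exact hzx _ h4.symm
    have hdiff : ∀ k ∈ H, ∀ d : F, k.1 z ≠ d • x := by
      intro k hk d hd
      have hd0 : d ≠ 0 := fun h0 => sg_ne_zero k hz0 (by rw [hd, h0, zero_smul])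
      have h1 := rootSet_map hk hwz
      rw [hd] at h1
      have h2 := prW_rootSet h ((rootSet_smul h.qx hd0).1 h1)
      have h3 : (⟨_, prW_mem h (d • k.1 w)⟩ : pairPerp Q x y) ∈ wSet H x y := h2
      rw [hw, AddSubgroup.mem_bot] at h3
      have h4 : prW Q x y (d • k.1 w) = 0 := congrArg Subtype.val h3
      have h5 := decompW (Q := Q) (x := x) (y := y) (d • k.1 w)
      rw [h4, polar_comm Q _ x, ((rootSet_smul h.qx hd0).1 h1).1, zero_smul, add_zero, zero_add] at h5
      set e := polar Q (d • k.1 w) y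
      refine hwne (d⁻¹ * (e * d⁻¹)) (k.1.injective ?_)
      rw [map_smul, hd, smul_smul, show d⁻¹ * (e * d⁻¹) * d = d⁻¹ * e by field_simp, mul_smul, h5,
        inv_smul_smul₀ hd0]
    have hl := (hcase H' h hne hnt).1
    have hsum := index_ge_two H h hg₀ hdiff
    rw [hidx, htop, Subgroup.index_top, mul_one] at hsum
    refine absurd hlt (not_lt.2 (hl.trans ?_))
    rw [mul_comm (q - 1) c, ← add_mul]
    exact Nat.mul_le_mul_right _ hsum
  refine hH (htop H fun x hx0 hx => ?_)
  obtain ⟨y, h⟩ := exists_isPair hQ hx0 hx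
  have hX : (wSet H x y).index ≤ q ^ 2 := by
    by_cases htop : wSet H x y = ⊤
    · rw [htop, AddSubgroup.index_top]; exact Nat.one_le_pow _ _ (by omega)
    by_contra h4
    push Not at h4
    exact absurd hlt (not_lt.2 (((hcase H h (hne h) htop).2 h4).trans (Nat.mul_le_mul_right _ (index_ge H h))))
  have h3 := (wSet H x y).index_mul_card
  rw [hW h] at h3
  rw [card_rootSet H h, ← hqdef]
  refine Nat.le_of_mul_le_mul_left (c := q ^ 2) ?_ (Nat.pow_pos (by omega))
  calc q ^ 2 * q ^ (Module.finrank F V - 3) = q * c := by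
        rw [hcdef, ← pow_succ', ← pow_add]; congr 1; omega
    _ = (wSet H x y).index * (q * Nat.card (wSet H x y)) := by rw [← h3]; ring
    _ ≤ _ := Nat.mul_le_mul_right _ hX

/-- The value counts of the standard odd form. -/
theorem value_step (h2 : (2 : F) ≠ 0) (m : ℕ) (c : F) :
    Nat.card {v // matQuad (oddMat (m + 1) F) v = c} = Nat.card F * Nat.card {v // matQuad (oddMat m F) v = c} +
      (Nat.card F - 1) * Nat.card F ^ (2 * m + 1) := by
  classical
  have hxy : IsPair (matQuad (oddMat (m + 1) F)) (Pi.single (.inr (.inl 0)) 1) (Pi.single (.inr (.inr 0)) 1) := by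
    refine ⟨?_, ?_, ?_⟩
    · simp [coe_matQuad_odd, Cfsg.quadFormOdd, Pi.single_apply]
    · simp [coe_matQuad_odd, Cfsg.quadFormOdd, Pi.single_apply]
    · simp [QuadraticMap.polar, coe_matQuad_odd, Cfsg.quadFormOdd, Pi.single_apply, Fin.sum_univ_succ]
  have hd : Module.finrank F (Unit ⊕ (Fin (m + 1) ⊕ Fin (m + 1)) → F) = 2 * m + 3 := by simp; ring
  have hdW := finrank_W hxy
  rw [value_split hxy c, hd, show 2 * m + 3 - 2 = 2 * m + 1 by omega]
  congr 2
  let e : (Unit ⊕ (Fin m ⊕ Fin m) → F) →ₗ[F] pairPerp (matQuad (oddMat (m + 1) F))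
      (Pi.single (.inr (.inl 0)) 1) (Pi.single (.inr (.inr 0)) 1) :=
    (oddEmb m F).codRestrict _ fun w => mem_pairPerp.2 (by
      constructor <;>
        simp [QuadraticMap.polar, coe_matQuad_odd, Cfsg.quadFormOdd, oddEmb, plusEmb, Pi.single_apply,
          Fin.sum_univ_succ])
  have he : Function.Injective e := fun a b hab => by
    have h1 := congrArg Subtype.val hab
    change oddEmb m F a = oddEmb m F b at h1
    ext (i | i | i)
    · simpa [oddEmb] using congrFun h1 (.inl i)
    · simpa [oddEmb, plusEmb] using congrFun h1 (.inr (.inl i.succ))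
    · simpa [oddEmb, plusEmb] using congrFun h1 (.inr (.inr i.succ))
  refine (Nat.card_congr (Equiv.subtypeEquiv (e.linearEquivOfInjective he (by simp at hd hdW ⊢; omega)).toEquiv
    fun w => ?_)).symm
  show _ ↔ matQuad (oddMat (m + 1) F) (oddEmb m F w) = c
  rw [show matQuad (oddMat (m + 1) F) (oddEmb m F w) = matQuad (oddMat m F) w by
    simp [coe_matQuad_odd, Cfsg.quadFormOdd, oddEmb, plusEmb, Fin.sum_univ_succ]]

end CfsgLib.MinIdx.Orth
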