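import Cfsg.Agent.Lib.MinIdx.SpMain

/-!
# Subgroups of `Sp` over two elements seen from a point
-/

set_option autoImplicit false

namespace CfsgLib.MinIdx.SpF2

open Matrix CfsgLib.Classical CfsgLib.KnownA.SpGen

variable {F : Type*} [Field F] [Finite F] {m n : ℕ}

theorem cases2 (h2 : Nat.card F = 2) (a : F) : a = 0 ∨ a = 1 := by
  classical
  haveI := Fintype.ofFinite F
  by_contra hc
  push Not at hc
  have h := Finset.card_le_univ ({a, 0, 1} : Finset F)
  rw [Finset.card_insert_of_notMem (by simp [hc.1, hc.2]), Finset.card_pair zero_ne_one,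
    ← Nat.card_eq_fintype_card, h2] at h
  omega

theorem two_eq_zero (h2 : Nat.card F = 2) : (2 : F) = 0 := by
  rcases cases2 h2 (2 : F) with h | h
  · exact h
  · exact absurd (show (1 : F) = 0 by linear_combination h) one_ne_zero

theorem units_eq_one (h2 : Nat.card F = 2) (a : Fˣ) : a = 1 :=
  Units.ext ((cases2 h2 a.1).resolve_left a.ne_zero)

theorem neg_eq (h2 : Nat.card F = 2) (a : F) : -a = a := by
  linear_combination (-a) * two_eq_zero h2

theorem sbil_symm (h2 : Nat.card F = 2) (u v : Fin m ⊕ Fin m → F) : sbil u v = sbil v u := by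
  rw [sbil_swap v u, neg_eq h2]

theorem vneg_eq (h2 : Nat.card F = 2) (v : Fin m ⊕ Fin m → F) : -v = v := funext fun i => neg_eq h2 (v i)

theorem add_eq_zero_iff' (h2 : Nat.card F = 2) {u v : Fin m ⊕ Fin m → F} : u + v = 0 ↔ u = v := by
  rw [add_eq_zero_iff_eq_neg, vneg_eq h2]

theorem stv_mulVec_one (h2 : Nat.card F = 2) {u v : Fin m ⊕ Fin m → F} (h : sbil u v = 1) :
    (stv 1 u).1 *ᵥ v = v + u := by
  rw [stv_mulVec, h, one_mul, one_smul]

/-- The stabiliser of a vector. -/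
def fixS (x : Fin m ⊕ Fin m → F) : Subgroup (Matrix.symplecticGroup (Fin m) F) where
  carrier := {g | g.1 *ᵥ x = x}
  one_mem' := sp_one_mulVec x
  mul_mem' := by
    intro g k hg hk
    show (g * k).1 *ᵥ x = x
    rw [sp_mul_mulVec, show k.1 *ᵥ x = x from hk]
    exact hg
  inv_mem' := by
    intro g hg
    show (g⁻¹).1 *ᵥ x = x
    conv_lhs => arg 2; rw [← show g.1 *ᵥ x = x from hg]
    exact sp_inv_mulVec g x

omit [Finite F] in
theorem mem_fixS {x : Fin m ⊕ Fin m → F} {g : Matrix.symplecticGroup (Fin m) F} :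
    g ∈ fixS x ↔ g.1 *ᵥ x = x := Iff.rfl

theorem index_fixS (h2 : Nat.card F = 2) {x : Fin m ⊕ Fin m → F} (hx : x ≠ 0) :
    (fixS x).index = 2 ^ (2 * m) - 1 := by
  have e : fixS x = pointStab x hx := by
    ext g
    rw [mem_fixS, mem_pointStab]
    refine ⟨fun h => ⟨1, by rw [one_smul, h]⟩, fun ⟨a, ha⟩ => ?_⟩
    rcases cases2 h2 a with rfl | rfl
    · exact absurd (by rw [← ha, zero_smul]) (sp_mulVec_ne_zero g hx)
    · rw [← ha, one_smul]
  rw [e, index_pointStab, h2]
  simp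

/-- The orbit of `x`. -/
def orbS (H : Subgroup (Matrix.symplecticGroup (Fin m) F)) (x : Fin m ⊕ Fin m → F) :
    Set (Fin m ⊕ Fin m → F) := {v | ∃ g ∈ H, g.1 *ᵥ x = v}

omit [Finite F] in
theorem card_orbS (H : Subgroup (Matrix.symplecticGroup (Fin m) F)) (x : Fin m ⊕ Fin m → F) :
    Nat.card (orbS H x) = (fixS x).relIndex H := by
  let f : H ⧸ (fixS x).subgroupOf H → orbS H x :=
    Quotient.lift (fun g => ⟨g.1.1 *ᵥ x, g.1, g.2, rfl⟩) fun a b hab => by
      replace hab : (a⁻¹ * b).1.1 *ᵥ x = x := QuotientGroup.leftRel_apply.mp hab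
      refine Subtype.ext ?_
      show a.1.1 *ᵥ x = b.1.1 *ᵥ x
      conv_lhs => arg 2; rw [← hab]
      rw [← sp_mul_mulVec]
      simp [mul_inv_cancel_left]
  refine (Nat.card_congr (Equiv.ofBijective f ⟨fun a b => ?_, ?_⟩)).symm
  · induction a using QuotientGroup.induction_on with | _ a => ?_
    induction b using QuotientGroup.induction_on with | _ b => ?_
    intro hab
    replace hab : a.1.1 *ᵥ x = b.1.1 *ᵥ x := congrArg Subtype.val hab
    refine QuotientGroup.eq.2 ?_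
    show ((a⁻¹ * b : H).1).1 *ᵥ x = x
    rw [show ((a⁻¹ * b : H).1) = a.1⁻¹ * b.1 from rfl, sp_mul_mulVec, ← hab, sp_inv_mulVec]
  · rintro ⟨_, g, hg, rfl⟩
    exact ⟨QuotientGroup.mk ⟨g, hg⟩, rfl⟩

omit [Finite F] in
theorem orb_mul (H : Subgroup (Matrix.symplecticGroup (Fin m) F)) (x : Fin m ⊕ Fin m → F) :
    Nat.card (orbS H x) * H.index = H.relIndex (fixS x) * (fixS x).index := by
  rw [card_orbS, ← Subgroup.inf_relIndex_right (fixS x) H, ← Subgroup.inf_relIndex_right H (fixS x),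
    Subgroup.relIndex_mul_index inf_le_right, Subgroup.relIndex_mul_index inf_le_right, inf_comm]

/-- Two orbits share the cosets. -/
theorem relIndex_add_le (h2 : Nat.card F = 2) (H : Subgroup (Matrix.symplecticGroup (Fin m) F))
    {x z : Fin m ⊕ Fin m → F} (hx : x ≠ 0) (hz : z ≠ 0) (hd : z ∉ orbS H x) :
    H.relIndex (fixS x) + H.relIndex (fixS z) ≤ H.index := by
  classical
  have hne : ∀ {w}, w ≠ 0 → orbS H w ⊆ {v | v ≠ 0} := by
    rintro w hw _ ⟨g, -, rfl⟩
    exact sp_mulVec_ne_zero g hw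
  have hsum : Nat.card (orbS H x) + Nat.card (orbS H z) ≤ 2 ^ (2 * m) - 1 := by
    have e : Nat.card {v : Fin m ⊕ Fin m → F // v ≠ 0} = 2 ^ (2 * m) - 1 := by
      haveI := Fintype.ofFinite (Fin m ⊕ Fin m → F)
      rw [show 2 ^ (2 * m) = Nat.card F ^ (2 * m) by rw [h2], ← card_vec (F := F) (m := m), Nat.card_eq_fintype_card, Nat.card_eq_fintype_card,
        Fintype.card_subtype_compl, Fintype.card_subtype_eq]
    rw [← e, ← Nat.card_sum]
    refine Nat.card_le_card_of_injective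
      (Sum.elim (fun v => ⟨v.1, hne hx v.2⟩) (fun v => ⟨v.1, hne hz v.2⟩)) ?_
    refine Function.Injective.sumElim (fun a b hab => Subtype.ext (Subtype.mk.inj hab))
      (fun a b hab => Subtype.ext (Subtype.mk.inj hab)) fun a b hab => hd ?_
    have e : a.1 = b.1 := Subtype.mk.inj hab
    obtain ⟨k, hk, ha⟩ := a.2
    obtain ⟨k', hk', hb⟩ := b.2
    exact ⟨k'⁻¹ * k, H.mul_mem (H.inv_mem hk') hk, by rw [sp_mul_mulVec, ha, e, ← hb, sp_inv_mulVec]⟩
  have hpos : 0 < 2 ^ (2 * m) - 1 := by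
    rw [← index_fixS h2 hx]
    exact Nat.pos_of_ne_zero Subgroup.index_ne_zero_of_finite
  have hx' := orb_mul H x
  have hz' := orb_mul H z
  rw [index_fixS h2 hx] at hx'
  rw [index_fixS h2 hz] at hz'
  refine Nat.le_of_mul_le_mul_right ?_ hpos
  calc (H.relIndex (fixS x) + H.relIndex (fixS z)) * (2 ^ (2 * m) - 1)
      = (Nat.card (orbS H x) + Nat.card (orbS H z)) * H.index := by rw [add_mul, add_mul, hx', hz']
    _ ≤ (2 ^ (2 * m) - 1) * H.index := Nat.mul_le_mul_right _ hsum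
    _ = _ := mul_comm _ _

omit [Finite F] in
theorem relIndex_le (H : Subgroup (Matrix.symplecticGroup (Fin m) F)) [Finite (Matrix.symplecticGroup (Fin m) F)]
    (S : Subgroup (Matrix.symplecticGroup (Fin m) F)) : H.relIndex S ≤ H.index := by
  rw [← Subgroup.relIndex_top_right H]
  exact Subgroup.relIndex_le_of_le_right le_top (by rw [Subgroup.relIndex_top_right]; exact Subgroup.index_ne_zero_of_finite)

/-- The parabolic intersection at any point, moved to the first basis vector. -/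
theorem exists_local (h2 : Nat.card F = 2) (H : Subgroup (Matrix.symplecticGroup (Fin (n + 1)) F))
    {x : Fin (n + 1) ⊕ Fin (n + 1) → F} (hx : x ≠ 0) :
    ∃ K : Subgroup (HP F n), K.index ≤ H.relIndex (fixS x) ∧ ((⟨1, 1, 0, 1⟩ : HP F n) ∈ K ↔ stv 1 x ∈ H) ∧
      Nat.card F * Nat.card (vecImage K) ≤ Nat.card (rootSet H x) := by
  obtain ⟨g, hg⟩ := sp_transitive (e₀_ne (F := F) (n := n)) hx
  let c := MulAut.conj g⁻¹
  let H' := H.map c.toMonoidHom
  have hmem : ∀ k, k ∈ H' ↔ g * k * g⁻¹ ∈ H := fun k => by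
    show k ∈ H.map c.toMonoidHom ↔ _
    rw [Subgroup.mem_map_equiv]
    simp [c, mul_assoc]
  let K := H'.comap (toSp F n)
  have hfix : (fixS x).map c.toMonoidHom = fixS (e₀ F n) := by
    ext k
    rw [Subgroup.mem_map_equiv, mem_fixS, mem_fixS]
    simp only [c, MulAut.conj_symm_apply, inv_inv, ← hg]
    rw [← sp_mul_mulVec, inv_mul_cancel_right, sp_mul_mulVec]
    exact (act_injective g).eq_iff
  have hK : K.index ≤ H.relIndex (fixS x) := by
    rw [← Subgroup.relIndex_map_map_of_injective (f := c.toMonoidHom) H (fixS x) c.injective, hfix,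
      Subgroup.index_comap]
    refine Subgroup.relIndex_le_of_le_right ?_ Subgroup.index_ne_zero_of_finite
    rintro _ ⟨k, rfl⟩
    show (heis k.v k.c * levi F n (k.a, k.g)).1 *ᵥ e₀ F n = e₀ F n
    rw [sp_mul_mulVec, e₀, levi_mulVec, units_eq_one h2 k.a]
    simp only [Units.val_one, inv_one, mul_one, mul_zero, mulVec_zero]
    show (heis k.v k.c).1 *ᵥ e₀ F n = e₀ F n
    rw [heis, sroot_mulVec, sbil_swap (e₀ F n), sbil_e₀_emb, sbil_self]
    simp
  refine ⟨K, hK, ?_, ?_⟩
  · rw [← hg, ← stv_conj, ← hmem]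
    show toSp F n ⟨1, 1, 0, 1⟩ ∈ H' ↔ _
    rw [toSp_center]
  · have hmap : ∀ p : F × vecImage K, g.1 *ᵥ jn p.1 0 p.2.1 ∈ rootSet H x := by
      rintro ⟨α, v, c, hc⟩
      have h2 : α • e₀ F n + jn 0 0 v = jn α 0 v := by
        rw [e₀, jn_smul, jn_add]; simp
      have h3 : α • e₀ F n ∈ rootSet H' (e₀ F n) := line_mem_rootSet _ _ _
      have h4 : jn 0 0 v ∈ rootSet H' (e₀ F n) := by
        refine ⟨sbil_e₀_emb v, c, ?_⟩
        have : toSp F n ⟨1, 1, v, c⟩ ∈ H' := hc
        rwa [show toSp F n ⟨1, 1, v, c⟩ = heis v c * levi F n 1 from rfl, map_one, mul_one] at this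
      obtain ⟨h5, d, hd⟩ := h2 ▸ (rootSet H' (e₀ F n)).add_mem h3 h4
      refine ⟨by rw [← hg, sbil_mulVec, h5], d, ?_⟩
      have h6 := (hmem _).1 hd
      rw [sroot_conj] at h6
      convert h6 using 2
      exact hg.symm
    rw [← Nat.card_prod]
    refine Nat.card_le_card_of_injective (fun p => (⟨_, hmap p⟩ : rootSet H x)) fun p r hpr => ?_
    obtain ⟨ha, -, hv⟩ := jn_inj (act_injective g (congrArg Subtype.val hpr))
    exact Prod.ext ha (Subtype.ext hv)

end CfsgLib.MinIdx.SpF2
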