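import Cfsg.Agent.Lib.MinIdx.OrthPrimeStep
import Cfsg.Agent.Lib.MinIdx.SpTwoPoint

/-!
# Subgroups with invariant subsets in six-dimensional orthogonal groups over two elements
-/

set_option autoImplicit false

namespace CfsgLib.MinIdx.Orth

open QuadraticMap CfsgLib.Geometry
open CfsgLib.MinIdx.SpF2 (cases2 two_eq_zero)

/-- An invariant subset of a transitive set: the size of the whole set divides the index times the size of the subset. -/
theorem card_dvd_index_mul {G α : Type*} [Group G] [Finite G] [Finite α] (ρ : G → α → α)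
    (hone : ∀ a, ρ 1 a = a) (hmul : ∀ g k a, ρ (g * k) a = ρ g (ρ k a)) (X T : Set α) (hTX : T ⊆ X)
    (hX : ∀ g, ∀ a ∈ X, ρ g a ∈ X) (htrans : ∀ a ∈ X, ∀ b ∈ X, ∃ g, ρ g a = b) (L : Subgroup G)
    (hT : ∀ l ∈ L, ∀ a ∈ T, ρ l a ∈ T) : Nat.card X ∣ L.index * Nat.card T := by
  classical
  rcases X.eq_empty_or_nonempty with h | ⟨a₀, ha₀⟩
  · have : T = ∅ := Set.subset_empty_iff.1 (h ▸ hTX)
    subst this
    simp
  have hinv : ∀ g a, ρ g⁻¹ (ρ g a) = a := fun g a => by rw [← hmul, inv_mul_cancel, hone]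
  have hinv' : ∀ g a, ρ g (ρ g⁻¹ a) = a := fun g a => by rw [← hmul, mul_inv_cancel, hone]
  let R : G ⧸ L → α → Prop := fun c a => ρ c.out⁻¹ a ∈ T
  have hR : ∀ g a, R (QuotientGroup.mk g) a ↔ ρ g⁻¹ a ∈ T := by
    intro g a
    obtain ⟨k, hk⟩ := QuotientGroup.mk_out_eq_mul L g
    show ρ _ a ∈ T ↔ _
    rw [hk, _root_.mul_inv_rev, hmul]
    refine ⟨fun h => ?_, hT _ (L.inv_mem k.2) _⟩
    have := hT _ k.2 _ h
    rwa [hinv'] at this
  let P := {p : (G ⧸ L) × α // R p.1 p.2}
  have h1 : Nat.card P = L.index * Nat.card T := by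
    rw [Subgroup.index, ← Nat.card_prod]
    exact Nat.card_congr
      { toFun := fun p => (p.1.1, ⟨ρ p.1.1.out⁻¹ p.1.2, p.2⟩)
        invFun := fun p => ⟨(p.1, ρ p.1.out p.2.1), by show ρ _ _ ∈ T; rw [hinv]; exact p.2.2⟩
        left_inv := fun p => Subtype.ext (Prod.ext rfl (hinv' _ _))
        right_inv := fun p => Prod.ext rfl (Subtype.ext (hinv _ _)) }
  have hXP : ∀ p : P, p.1.2 ∈ X := fun p => by
    have := hX p.1.1.out _ (hTX p.2)
    rwa [hinv'] at this
  choose g hg using fun a : X => htrans a₀ ha₀ a.1 a.2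
  have h2 : Nat.card P = Nat.card X * Nat.card {c : G ⧸ L // R c a₀} := by
    rw [← Nat.card_prod]
    refine Nat.card_congr
      { toFun := fun p => (⟨p.1.2, hXP p⟩, ⟨QuotientGroup.mk ((g ⟨p.1.2, hXP p⟩)⁻¹ * p.1.1.out), ?_⟩)
        invFun := fun p => ⟨(QuotientGroup.mk (g p.1 * p.2.1.out), p.1.1), ?_⟩
        left_inv := fun p => Subtype.ext (Prod.ext ?_ rfl)
        right_inv := fun p => Prod.ext rfl (Subtype.ext ?_) }
    · rw [hR, _root_.mul_inv_rev, inv_inv, hmul, hg]
      exact p.2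
    · show R _ _
      rw [hR, _root_.mul_inv_rev, hmul]
      conv => arg 2; arg 2; rw [← hg p.1]
      rw [hinv]
      exact p.2.2
    · show QuotientGroup.mk _ = p.1.1
      obtain ⟨k, hk⟩ := QuotientGroup.mk_out_eq_mul L ((g ⟨p.1.2, hXP p⟩)⁻¹ * p.1.1.out)
      rw [hk]
      conv_rhs => rw [← QuotientGroup.out_eq' p.1.1]
      exact QuotientGroup.eq.2 (by simp [mul_assoc])
    · show QuotientGroup.mk _ = p.2.1
      obtain ⟨k, hk⟩ := QuotientGroup.mk_out_eq_mul L (g p.1 * p.2.1.out)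
      conv_rhs => rw [← QuotientGroup.out_eq' p.2.1]
      simp only [hk]
      exact QuotientGroup.eq.2 (by simp [mul_assoc])
  exact ⟨_, h1.symm.trans h2⟩

variable {F V : Type*} [Field F] [AddCommGroup V] [Module F V] [FiniteDimensional F V] [Finite F]
  {Q : QuadraticForm F V} {x y : V}

omit [FiniteDimensional F V] in
theorem smul_two (h2 : Nat.card F = 2) (v : V) : v + v = 0 := by
  rw [← two_smul F v, two_eq_zero h2, zero_smul]

/-- The number of singular vectors from that of a complement. -/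
theorem sing_split (h2 : Nat.card F = 2) (h : IsPair Q x y) :
    sing Q + 1 = 2 * (sing (QW Q x y) + 1) + 2 ^ (Module.finrank F V - 2) := by
  classical
  haveI : Finite V := Module.finite_of_finite F
  haveI := Fintype.ofFinite F
  haveI := Fintype.ofFinite (pairPerp Q x y)
  have hd : Module.finrank F (pairPerp Q x y) = Module.finrank F V - 2 := by have := finrank_W h; omega
  rw [sing_add_one, sing_add_one]
  have hQv : ∀ v, Q v = Q (prW Q x y v) + polar Q v y * polar Q v x := fun v => by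
    have h3 := congrArg Q (decompW (Q := Q) (x := x) (y := y) v)
    obtain ⟨h1, h1'⟩ := mem_pairPerp.1 (prW_mem h v)
    simp only [map_add', map_smul', h.qx, h.qy, polar_add_left, polar_smul_left', polar_smul_right', h.xy,
      polar_comm Q (prW Q x y v), h1, h1'] at h3
    linear_combination -h3
  have e : {v : V // Q v = 0} ≃ Σ p : F × F, {w : pairPerp Q x y // QW Q x y w = p.1 * p.2} :=
    { toFun := fun v => ⟨(polar Q v.1 y, polar Q v.1 x), ⟨prW Q x y v.1, prW_mem h v.1⟩, by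
        have h3 := hQv v.1
        rw [v.2] at h3
        show Q (prW Q x y v.1) = _
        linear_combination -h3 - (polar Q v.1 y * polar Q v.1 x) * two_eq_zero h2⟩
      invFun := fun p => ⟨(splitEquiv h).symm (p.1.1, p.1.2, p.2.1), by
        have h4 := (splitEquiv h).apply_symm_apply (p.1.1, p.1.2, p.2.1)
        have h5 := hQv ((splitEquiv h).symm (p.1.1, p.1.2, p.2.1))
        rw [show polar Q ((splitEquiv h).symm (p.1.1, p.1.2, p.2.1)) y = p.1.1 from congrArg Prod.fst h4,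
          show polar Q ((splitEquiv h).symm (p.1.1, p.1.2, p.2.1)) x = p.1.2 from congrArg (fun a => a.2.1) h4,
          show prW Q x y ((splitEquiv h).symm (p.1.1, p.1.2, p.2.1)) = p.2.1.1 from
            congrArg (fun a => a.2.2.1) h4] at h5
        rw [h5, show Q p.2.1.1 = QW Q x y p.2.1 from rfl, p.2.2]
        linear_combination (p.1.1 * p.1.2) * two_eq_zero h2⟩
      left_inv := fun v => Subtype.ext ((splitEquiv h).symm_apply_apply v.1)
      right_inv := fun p => by
        obtain ⟨⟨a, b⟩, w, hw⟩ := p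
        have h4 := (splitEquiv h).apply_symm_apply (a, b, w)
        exact Sigma.subtype_ext (Prod.ext (congrArg (fun a : F × F × pairPerp Q x y => a.1) h4) (congrArg (fun a : F × F × pairPerp Q x y => a.2.1) h4))
          (congrArg (fun a : F × F × pairPerp Q x y => a.2.2) h4) }
  have hone : Nat.card {w : pairPerp Q x y // QW Q x y w = 1} + Nat.card {w : pairPerp Q x y // QW Q x y w = 0} =
      2 ^ (Module.finrank F V - 2) := by
    rw [← hd, ← h2, ← Module.natCard_eq_pow_finrank, ← Nat.card_sum]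
    refine Nat.card_congr ((Equiv.sumCongr (Equiv.refl _) (Equiv.subtypeEquivRight fun w => ?_)).trans
      (Equiv.sumCompl _))
    refine ⟨fun h0 h1 => zero_ne_one (h0.symm.trans h1), fun h0 => (cases2 h2 _).resolve_right h0⟩
  rw [Nat.card_congr e, Nat.card_sigma, Fintype.sum_prod_type,
    show (Finset.univ : Finset F) = {0, 1} from (Finset.eq_univ_iff_forall.2 fun a => by
      rcases cases2 h2 a with rfl | rfl <;> simp).symm,
    Finset.sum_pair zero_ne_one, Finset.sum_pair zero_ne_one, Finset.sum_pair zero_ne_one]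
  simp only [mul_zero, zero_mul, one_mul]
  omega

theorem card_nonsing (h2 : Nat.card F = 2) :
    Nat.card {v : V // Q v = 1} + sing Q + 1 = 2 ^ Module.finrank F V := by
  classical
  haveI : Finite V := Module.finite_of_finite F
  rw [add_assoc, sing_add_one, ← h2, ← Module.natCard_eq_pow_finrank, ← Nat.card_sum]
  refine Nat.card_congr ((Equiv.sumCongr (Equiv.refl _) (Equiv.subtypeEquivRight fun w => ?_)).trans
    (Equiv.sumCompl _))
  exact ⟨fun h0 h1 => zero_ne_one (h0.symm.trans h1), fun h0 => (cases2 h2 _).resolve_right h0⟩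

/-- Divisibility at singular vectors. -/
theorem sing_dvd (hQ : (polarBilin Q).Nondegenerate) (hn : 4 ≤ Module.finrank F V) (L : Subgroup (SG Q))
    (T : Set V) (hT0 : ∀ v ∈ T, v ≠ 0 ∧ Q v = 0) (hT : ∀ l ∈ L, ∀ v ∈ T, l.1 v ∈ T) :
    sing Q ∣ L.index * Nat.card T := by
  haveI : Finite V := Module.finite_of_finite F
  haveI : Finite (SG Q) := finite_sg
  refine card_dvd_index_mul (fun g v => g.1 v) (fun _ => rfl) (fun _ _ _ => rfl) {v : V | v ≠ 0 ∧ Q v = 0} T hT0
    (fun g v hv => ⟨sg_ne_zero g hv.1, by rw [sg_Q, hv.2]⟩) (fun a ha b hb => ?_) L hT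
  obtain ⟨s, hs, hsa⟩ := siegel_trans_singular hQ hn ha.1 hb.1 ha.2 hb.2
  exact ⟨⟨s, hs⟩, hsa⟩

/-- Divisibility at non-singular vectors. -/
theorem nonsing_dvd (hQ : (polarBilin Q).Nondegenerate) (hn : 4 ≤ Module.finrank F V) (L : Subgroup (SG Q))
    (T : Set V) (hT0 : ∀ v ∈ T, Q v = 1) (hT : ∀ l ∈ L, ∀ v ∈ T, l.1 v ∈ T) :
    Nat.card {v : V // Q v = 1} ∣ L.index * Nat.card T := by
  haveI : Finite V := Module.finite_of_finite F
  haveI : Finite (SG Q) := finite_sg
  refine card_dvd_index_mul (fun g v => g.1 v) (fun _ => rfl) (fun _ _ _ => rfl) {v : V | Q v = 1} T hT0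
    (fun g v hv => show Q (g.1 v) = 1 by rw [sg_Q]; exact hv) (fun a ha b hb => ?_) L hT
  obtain ⟨s, hs, hsa⟩ := siegel_trans_norm hQ hn (show Q a ≠ 0 from fun h0 => zero_ne_one (h0.symm.trans ha))
    (show Q b = Q a from hb.trans ha.symm)
  exact ⟨⟨s, hs⟩, hsa⟩

section Six

variable (hQ : (polarBilin Q).Nondegenerate) (h2 : Nat.card F = 2) (hn : Module.finrank F V = 6)
  (hS : sing Q = 35)

include hQ h2 hn hS

theorem card_nonsing_six : Nat.card {v : V // Q v = 1} = 28 := by
  have := card_nonsing (Q := Q) h2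
  rw [hn, hS] at this
  omega

/-- A fixed vector gives index at least `28`. -/
theorem six_fixed (L : Subgroup (SG Q)) {v : V} (hv : v ≠ 0) (hfix : ∀ l ∈ L, l.1 v = v) : 28 ≤ L.index := by
  haveI : Finite V := Module.finite_of_finite F
  haveI : Finite (SG Q) := finite_sg
  have h0 : 0 < L.index := Nat.pos_of_ne_zero Subgroup.index_ne_zero_of_finite
  have hone : Nat.card ({v} : Set V) = 1 := Nat.card_unique
  have hTinv : ∀ l ∈ L, ∀ u ∈ ({v} : Set V), l.1 u ∈ ({v} : Set V) := fun l hl u hu => by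
    rw [Set.mem_singleton_iff] at hu ⊢
    rw [hu, hfix l hl]
  rcases cases2 h2 (Q v) with hq | hq
  · have h1 := sing_dvd hQ (by omega) L {v} (fun u hu => by rw [Set.mem_singleton_iff.1 hu]; exact ⟨hv, hq⟩) hTinv
    rw [hS, hone, mul_one] at h1
    have := Nat.le_of_dvd h0 h1
    omega
  · have h1 := nonsing_dvd hQ (by omega) L {v} (fun u hu => by rw [Set.mem_singleton_iff.1 hu]; exact hq) hTinv
    rw [card_nonsing_six hQ h2 hn hS, hone, mul_one] at h1
    exact Nat.le_of_dvd h0 h1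

/-- Invariant subgroups with two or four elements. -/
theorem six_small (L : Subgroup (SG Q)) (U : AddSubgroup V) (hU : ∀ l ∈ L, ∀ v ∈ U, l.1 v ∈ U) (hbot : U ≠ ⊥)
    (hcard : Nat.card U ≤ 4) : 15 ≤ L.index := by
  classical
  haveI : Finite V := Module.finite_of_finite F
  haveI : Finite (SG Q) := finite_sg
  by_contra hlt
  push Not at hlt
  have h0 : 0 < L.index := Nat.pos_of_ne_zero Subgroup.index_ne_zero_of_finite
  obtain ⟨s, hs⟩ : ∃ s, Nat.card {v : V | v ∈ U ∧ v ≠ 0 ∧ Q v = 0} = s := ⟨_, rfl⟩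
  obtain ⟨t, ht⟩ : ∃ t, Nat.card {v : V | v ∈ U ∧ Q v = 1} = t := ⟨_, rfl⟩
  have h1 := sing_dvd hQ (by omega) L _ (fun v (hv : v ∈ {v : V | v ∈ U ∧ v ≠ 0 ∧ Q v = 0}) => hv.2)
    fun l hl v hv => ⟨hU l hl v hv.1, sg_ne_zero l hv.2.1, by rw [sg_Q, hv.2.2]⟩
  have h3 := nonsing_dvd hQ (by omega) L _ (fun v (hv : v ∈ {v : V | v ∈ U ∧ Q v = 1}) => hv.2)
    fun l hl v hv => ⟨hU l hl v hv.1, by rw [sg_Q, hv.2]⟩
  rw [hS, hs] at h1
  rw [card_nonsing_six hQ h2 hn hS, ht] at h3
  have hst : s + t + 1 = Nat.card U := by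
    rw [← hs, ← ht, ← Nat.card_unique (α := ({0} : Set V)), ← Nat.card_sum, ← Nat.card_sum]
    refine Nat.card_congr (Equiv.ofBijective
      (Sum.elim (Sum.elim (fun v => (⟨v.1, v.2.1⟩ : U)) fun v => ⟨v.1, v.2.1⟩) fun _ => 0) ⟨?_, ?_⟩)
    · refine Function.Injective.sumElim (Function.Injective.sumElim (fun a b h => Subtype.ext (Subtype.mk.inj h))
        (fun a b h => Subtype.ext (Subtype.mk.inj h)) fun a b h => ?_) (fun a b _ => Subsingleton.elim a b) ?_
      · have := a.2.2.2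
        rw [show a.1 = b.1 from Subtype.mk.inj h, b.2.2] at this
        exact one_ne_zero this
      · rintro (a | a) b h
        · exact a.2.2.1 (congrArg Subtype.val h)
        · have := a.2.2
          rw [show a.1 = 0 from congrArg Subtype.val h, QuadraticMap.map_zero] at this
          exact zero_ne_one this
    · rintro ⟨v, hv⟩
      rcases eq_or_ne v 0 with rfl | hv0
      · exact ⟨.inr ⟨0, rfl⟩, rfl⟩
      rcases cases2 h2 (Q v) with hq | hq
      · exact ⟨.inl (.inl ⟨v, hv, hv0, hq⟩), rfl⟩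
      · exact ⟨.inl (.inr ⟨v, hv, hq⟩), rfl⟩
  have hU1 : 1 < Nat.card U := (AddSubgroup.one_lt_card_iff_ne_bot U).2 hbot
  have hdvd : Nat.card U ∣ 64 := by
    have := U.card_addSubgroup_dvd_card
    rwa [Module.natCard_eq_pow_finrank (K := F) (V := V), h2, hn] at this
  have hs3 : s ≤ 3 := by omega
  have ht3 : t ≤ 3 := by omega
  interval_cases s <;> interval_cases t <;> first | omega | (rw [← hst] at hdvd; norm_num at hdvd)

theorem six_sing_pair {a : V} (ha : a ≠ 0) (hqa : Q a = 0) :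
    Nat.card {b : V // Q b = 0 ∧ polar Q a b = 0 ∧ b ≠ 0 ∧ b ≠ a} = 18 := by
  classical
  haveI : Finite V := Module.finite_of_finite F
  haveI := Fintype.ofFinite F
  obtain ⟨y, h⟩ := exists_isPair hQ ha hqa
  have hW : sing (QW Q a y) = 9 := by
    have := sing_split h2 h
    rw [hn, hS] at this
    omega
  rw [show (18 : ℕ) = Nat.card F * sing (QW Q a y) by rw [h2, hW], sing, ← Nat.card_prod]
  have hb : ∀ b : V, polar Q a b = 0 → prW Q a y b + polar Q b y • a = b := fun b hb => by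
    conv_rhs => rw [← decompW (Q := Q) (x := a) (y := y) b, polar_comm Q b a, hb, zero_smul, add_zero]
  refine Nat.card_congr
    { toFun := fun b => (polar Q b.1 y, ⟨⟨prW Q a y b.1, prW_mem h b.1⟩, ?_, ?_⟩)
      invFun := fun p => ⟨p.2.1.1 + p.1 • a, ?_, ?_, ?_, ?_⟩
      left_inv := fun b => Subtype.ext (hb b.1 b.2.2.1)
      right_inv := fun p => ?_ }
  · intro h0
    have h3 := hb b.1 b.2.2.1
    rw [show prW Q a y b.1 = 0 from congrArg Subtype.val h0, zero_add] at h3
    rcases cases2 h2 (polar Q b.1 y) with h4 | h4 <;> rw [h4] at h3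
    · exact b.2.2.2.1 (by rw [← h3, zero_smul])
    · exact b.2.2.2.2 (by rw [← h3, one_smul])
  · show Q (prW Q a y b.1) = 0
    have h3 := congrArg Q (hb b.1 b.2.2.1)
    rwa [b.2.1, map_add', map_smul', h.qx, polar_smul_right', polar_comm Q _ a, (mem_pairPerp.1 (prW_mem h b.1)).1,
      mul_zero, mul_zero, add_zero, add_zero] at h3
  · rw [map_add', map_smul', h.qx, polar_smul_right', polar_comm Q _ a, (mem_pairPerp.1 p.2.1.2).1,
      show Q p.2.1.1 = 0 from p.2.2.2]
    ring
  · rw [polar_add_right, polar_smul_right', h.xx, (mem_pairPerp.1 p.2.1.2).1]; ring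
  · intro h0
    have h3 := congrArg (prW Q a y) h0
    rw [map_add, map_smul, map_zero, prW_of_mem p.2.1.2, prW_apply a, h.xy, h.xx] at h3
    exact p.2.2.1 (Subtype.ext (by simpa using h3))
  · intro h0
    have h3 := congrArg (prW Q a y) h0
    rw [map_add, map_smul, prW_of_mem p.2.1.2, prW_apply a, h.xy, h.xx] at h3
    exact p.2.2.1 (Subtype.ext (by simpa using h3))
  · obtain ⟨c, ⟨w, hw⟩, hw'⟩ := p
    refine Prod.ext ?_ (Subtype.ext (Subtype.ext ?_))
    · show polar Q (w + c • a) y = c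
      rw [polar_add_left, polar_smul_left', h.xy, polar_comm Q w y, (mem_pairPerp.1 hw).2]; ring
    · show prW Q a y (w + c • a) = w
      rw [map_add, map_smul, prW_of_mem hw, prW_apply a, h.xy, h.xx]; simp

/-- A totally singular invariant subgroup with eight elements. -/
theorem six_plane (L : Subgroup (SG Q)) (U : AddSubgroup V) (hU : ∀ l ∈ L, ∀ v ∈ U, l.1 v ∈ U)
    (hcard : Nat.card U = 8) (hsing : ∀ v ∈ U, Q v = 0) : 15 ≤ L.index := by
  classical
  haveI : Finite V := Module.finite_of_finite F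
  haveI : Finite (SG Q) := finite_sg
  haveI := Fintype.ofFinite V
  let X : Set (V × V) := {p | p.1 ≠ 0 ∧ Q p.1 = 0 ∧ Q p.2 = 0 ∧ polar Q p.1 p.2 = 0 ∧ p.2 ≠ 0 ∧ p.2 ≠ p.1}
  let T : Set (V × V) := {p | p.1 ∈ U ∧ p.2 ∈ U ∧ p.1 ≠ 0 ∧ p.2 ≠ 0 ∧ p.2 ≠ p.1}
  have hpol : ∀ u ∈ U, ∀ v ∈ U, polar Q u v = 0 := fun u hu v hv => by
    rw [QuadraticMap.polar, hsing _ (U.add_mem hu hv), hsing u hu, hsing v hv]; simp
  have hspan : ∀ {a b : V}, b ≠ 0 → b ≠ a → b ∉ Submodule.span F {a} := fun hb hba hm => by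
    obtain ⟨c, rfl⟩ := Submodule.mem_span_singleton.1 hm
    rcases cases2 h2 c with rfl | rfl
    · exact hb (zero_smul _ _)
    · exact hba (one_smul _ _)
  have hdvd := card_dvd_index_mul (fun (g : SG Q) (p : V × V) => (g.1 p.1, g.1 p.2)) (fun _ => rfl)
    (fun _ _ _ => rfl) X T
    (fun p hp => ⟨hp.2.2.1, hsing _ hp.1, hsing _ hp.2.1, hpol _ hp.1 _ hp.2.1, hp.2.2.2.1, hp.2.2.2.2⟩)
    (fun g p hp => ⟨sg_ne_zero g hp.1, by rw [sg_Q, hp.2.1], by rw [sg_Q, hp.2.2.1], by rw [sg_polar, hp.2.2.2.1],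
      sg_ne_zero g hp.2.2.2.2.1, fun h => hp.2.2.2.2.2 (g.1.injective h)⟩)
    (fun p hp r hr => by
      obtain ⟨s, hs, hsa, c, hc, hsb⟩ := siegel_trans_orth hQ (by omega) hp.1 hr.1 hp.2.1 hp.2.2.1 hr.2.1 hr.2.2.1
        hp.2.2.2.1 hr.2.2.2.1 (hspan hp.2.2.2.2.1 hp.2.2.2.2.2) (hspan hr.2.2.2.2.1 hr.2.2.2.2.2)
      rw [(cases2 h2 c).resolve_left hc, one_smul] at hsb
      exact ⟨⟨s, hs⟩, Prod.ext hsa hsb⟩)
    L fun l hl p hp => ⟨hU l hl _ hp.1, hU l hl _ hp.2.1, sg_ne_zero l hp.2.2.1, sg_ne_zero l hp.2.2.2.1,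
      fun h => hp.2.2.2.2 (l.1.injective h)⟩
  have hX : Nat.card X = 35 * 18 := by
    have e : X ≃ Σ a : {v : V // v ≠ 0 ∧ Q v = 0}, {b : V // Q b = 0 ∧ polar Q a.1 b = 0 ∧ b ≠ 0 ∧ b ≠ a.1} :=
      { toFun := fun p => ⟨⟨p.1.1, p.2.1, p.2.2.1⟩, p.1.2, p.2.2.2⟩
        invFun := fun p => ⟨(p.1.1, p.2.1), p.1.2.1, p.1.2.2, p.2.2⟩
        left_inv := fun _ => rfl
        right_inv := fun _ => rfl }
    rw [Nat.card_congr e, Nat.card_sigma, Finset.sum_congr rfl fun a _ => six_sing_pair hQ h2 hn hS a.2.1 a.2.2,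
      Finset.sum_const, smul_eq_mul, Finset.card_univ, ← Nat.card_eq_fintype_card, ← sing, hS]
  have hT : Nat.card T = 7 * 6 := by
    have e : T ≃ Σ a : {a : U // a ≠ 0}, {b : {b : U // b ≠ 0} // b ≠ a} :=
      { toFun := fun p => ⟨⟨⟨p.1.1, p.2.1⟩, fun h => p.2.2.2.1 (congrArg Subtype.val h)⟩,
          ⟨⟨p.1.2, p.2.2.1⟩, fun h => p.2.2.2.2.1 (congrArg Subtype.val h)⟩,
          fun h => p.2.2.2.2.2 (congrArg (fun b => b.1.1) h)⟩
        invFun := fun p => ⟨(p.1.1.1, p.2.1.1.1), p.1.1.2, p.2.1.1.2, fun h => p.1.2 (Subtype.ext h),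
          fun h => p.2.1.2 (Subtype.ext h), fun h => p.2.2 (Subtype.ext (Subtype.ext h))⟩
        left_inv := fun _ => rfl
        right_inv := fun _ => rfl }
    have h7 : Fintype.card {a : U // a ≠ 0} = 7 := by
      rw [Fintype.card_subtype_compl, Fintype.card_subtype_eq, ← Nat.card_eq_fintype_card, hcard]
    rw [Nat.card_congr e, Nat.card_sigma,
      Finset.sum_congr rfl fun a _ => show Nat.card {b : {b : U // b ≠ 0} // b ≠ a} = 6 by
        rw [Nat.card_eq_fintype_card, Fintype.card_subtype_compl, Fintype.card_subtype_eq, h7],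
      Finset.sum_const, smul_eq_mul, Finset.card_univ, h7]
  rw [hX, hT] at hdvd
  have h0 : 0 < L.index := Nat.pos_of_ne_zero Subgroup.index_ne_zero_of_finite
  omega

/-- A non-trivial invariant subgroup gives index at least `15`. -/
theorem six_invariant (L : Subgroup (SG Q)) (U : AddSubgroup V) (hU : ∀ l ∈ L, ∀ v ∈ U, l.1 v ∈ U)
    (hbot : U ≠ ⊥) (htop : U ≠ ⊤) : 15 ≤ L.index := by
  classical
  haveI : Finite V := Module.finite_of_finite F
  haveI : Finite (SG Q) := finite_sg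
  by_contra hlt
  have hsmall : ∀ U : AddSubgroup V, (∀ l ∈ L, ∀ v ∈ U, l.1 v ∈ U) → Nat.card U ≤ 4 → U = ⊥ :=
    fun U' hU' hc => by_contra fun hb => hlt (six_small hQ h2 hn hS L U' hU' hb hc)
  let W : Submodule F V :=
    { U with
      smul_mem' := fun c v hv => by
        rcases cases2 h2 c with rfl | rfl
        · rw [zero_smul]; exact U.zero_mem
        · rwa [one_smul] }
  let P := LinearMap.BilinForm.orthogonal (polarBilin Q) W
  have hmemP : ∀ {v}, v ∈ P ↔ ∀ u ∈ U, polar Q u v = 0 := Iff.rfl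
  have hdim : Module.finrank F P = 6 - Module.finrank F W := by
    rw [LinearMap.BilinForm.finrank_orthogonal hQ W, hn]
  have hcardP : ∀ S : Submodule F V, Nat.card S.toAddSubgroup = 2 ^ Module.finrank F S := fun S => by
    show Nat.card S = _
    rw [← h2]; exact Module.natCard_eq_pow_finrank
  have hinvP : ∀ l ∈ L, ∀ v ∈ P.toAddSubgroup, l.1 v ∈ P.toAddSubgroup := fun l hl v hv => hmemP.2 fun u hu => by
    rw [← sg_inv' l u, sg_polar]
    exact hmemP.1 hv _ (hU _ (L.inv_mem hl) u hu)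
  have hd3 : Module.finrank F W = 3 := by
    rcases lt_trichotomy (Module.finrank F W) 3 with hd | hd | hd
    · exfalso
      refine hbot (hsmall U hU ?_)
      rw [show Nat.card U = 2 ^ Module.finrank F W from hcardP W]
      exact (Nat.pow_le_pow_right two_pos (by omega : Module.finrank F W ≤ 2))
    · exact hd
    · exfalso
      have hP0 : P.toAddSubgroup = ⊥ := hsmall _ hinvP (by
        rw [hcardP]
        exact Nat.pow_le_pow_right two_pos (by omega : Module.finrank F P ≤ 2))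
      have h6 : Module.finrank F P = 0 := by
        rw [show P = ⊥ from (Submodule.eq_bot_iff P).2 fun v hv => (AddSubgroup.eq_bot_iff_forall _).1 hP0 v hv, finrank_bot]
      have hW : W = ⊤ := Submodule.eq_top_of_finrank_eq (by
        have := Submodule.finrank_le W
        omega)
      exact htop (congrArg Submodule.toAddSubgroup hW)
  have hinvR : ∀ l ∈ L, ∀ v ∈ (W ⊓ P).toAddSubgroup, l.1 v ∈ (W ⊓ P).toAddSubgroup :=
    fun l hl v hv => ⟨hU l hl v hv.1, hinvP l hl v hv.2⟩
  by_cases hR : Module.finrank F ↥(W ⊓ P) = 3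
  · have hWP : W ≤ P := by
      have h3 := Submodule.eq_of_le_of_finrank_eq (inf_le_left : W ⊓ P ≤ W) (hR.trans hd3.symm)
      exact h3 ▸ inf_le_right
    let φ : U →+ F :=
      { toFun := fun u => Q u.1
        map_zero' := QuadraticMap.map_zero Q
        map_add' := fun u v => by
          show Q (u.1 + v.1) = _
          rw [map_add', hmemP.1 (hWP v.2) u.1 u.2, add_zero] }
    let U₀ : AddSubgroup V := φ.ker.map U.subtype
    have hinv0 : ∀ l ∈ L, ∀ v ∈ U₀, l.1 v ∈ U₀ := by
      rintro l hl _ ⟨⟨u, hu⟩, hu0, rfl⟩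
      exact ⟨⟨l.1 u, hU l hl u hu⟩, show Q (l.1 u) = 0 from (sg_Q l u).trans hu0, rfl⟩
    have hc0 : Nat.card U₀ = Nat.card φ.ker := AddSubgroup.card_map_of_injective U.subtype_injective
    have h8 : Nat.card U = 8 := by rw [show Nat.card U = 2 ^ Module.finrank F W from hcardP W, hd3]; norm_num
    have hker := φ.ker.index_mul_card
    rw [h8, AddSubgroup.index_ker] at hker
    have hr : Nat.card φ.range ≤ 2 := h2 ▸ Nat.card_le_card_of_injective _ Subtype.val_injective
    rcases Nat.lt_or_ge (Nat.card φ.range) 2 with hlt2 | hge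
    · refine hlt (six_plane hQ h2 hn hS L U hU h8 fun v hv => ?_)
      have hsub : Subsingleton φ.range := Finite.card_le_one_iff_subsingleton.1 (by omega)
      exact congrArg Subtype.val (Subsingleton.elim (α := φ.range) ⟨φ ⟨v, hv⟩, ⟨v, hv⟩, rfl⟩ 0)
    · rw [show Nat.card φ.range = 2 by omega] at hker
      have h4 := hsmall U₀ hinv0 (by omega)
      rw [h4, AddSubgroup.card_bot] at hc0
      omega
  · have hle : Module.finrank F ↥(W ⊓ P) ≤ 2 := by
      have := Submodule.finrank_mono (inf_le_left : W ⊓ P ≤ W)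
      omega
    have hR0 := hsmall _ hinvR (by rw [hcardP]; exact Nat.pow_le_pow_right two_pos hle)
    let bs := Module.finBasisOfFinrankEq F W hd3
    obtain ⟨r, hr⟩ : ∃ r : W, r = polar Q (bs 1).1 (bs 2).1 • bs 0 + polar Q (bs 0).1 (bs 2).1 • bs 1 +
        polar Q (bs 0).1 (bs 1).1 • bs 2 := ⟨_, rfl⟩
    have hself : ∀ u : V, polar Q u u = 0 := fun u => by rw [polar_self', two_eq_zero h2, zero_mul]
    have hb : ∀ i, polar Q r.1 (bs i).1 = 0 := by
      intro i
      rw [hr]
      simp only [Submodule.coe_add, Submodule.coe_smul, polar_add_left, polar_smul_left']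
      fin_cases i <;>
        simp [hself, polar_comm Q (bs 1).1 (bs 0).1, polar_comm Q (bs 2).1 (bs 0).1, polar_comm Q (bs 2).1 (bs 1).1] <;>
        first
          | linear_combination (polar Q (bs 0).1 (bs 2).1 * polar Q (bs 0).1 (bs 1).1) * two_eq_zero h2
          | linear_combination (polar Q (bs 1).1 (bs 2).1 * polar Q (bs 0).1 (bs 1).1) * two_eq_zero h2
          | linear_combination (polar Q (bs 1).1 (bs 2).1 * polar Q (bs 0).1 (bs 2).1) * two_eq_zero h2
    have hrP : r.1 ∈ P := hmemP.2 fun u hu => by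
      have hu' := bs.sum_repr ⟨u, hu⟩
      have : u = ∑ i, bs.repr ⟨u, hu⟩ i • (bs i).1 := by
        simpa only [AddSubmonoidClass.coe_finsetSum, Submodule.coe_smul] using (congrArg Subtype.val hu').symm
      rw [this, Fin.sum_univ_three]
      simp only [polar_add_left, polar_smul_left', polar_add_right, polar_smul_right', polar_comm Q _ r.1, hb]
      ring
    have hr0 : r = 0 := Subtype.ext ((AddSubgroup.eq_bot_iff_forall _).1 hR0 r.1 ⟨r.2, hrP⟩)
    rw [hr0] at hr
    have hli := Fintype.linearIndependent_iff.1 bs.linearIndependent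
      ![polar Q (bs 1).1 (bs 2).1, polar Q (bs 0).1 (bs 2).1, polar Q (bs 0).1 (bs 1).1]
      (by rw [Fin.sum_univ_three]; simpa using hr.symm)
    have h01 : polar Q (bs 0).1 (bs 1).1 = 0 := hli 2
    have h02 : polar Q (bs 0).1 (bs 2).1 = 0 := hli 1
    have h0P : (bs 0).1 ∈ P := hmemP.2 fun u hu => by
      have hu' := bs.sum_repr ⟨u, hu⟩
      have : u = ∑ i, bs.repr ⟨u, hu⟩ i • (bs i).1 := by
        simpa only [AddSubmonoidClass.coe_finsetSum, Submodule.coe_smul] using (congrArg Subtype.val hu').symm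
      rw [this, Fin.sum_univ_three]
      simp only [polar_add_left, polar_smul_left', polar_add_right, polar_smul_right', hself,
        polar_comm Q _ (bs 0).1, h01, h02]
      ring
    exact bs.ne_zero 0 (Subtype.ext ((AddSubgroup.eq_bot_iff_forall _).1 hR0 _ ⟨(bs 0).2, h0P⟩))

end Six

end CfsgLib.MinIdx.Orth
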