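import Cfsg.Agent.Lib.MinIdx.OrthThreeCount
import Cfsg.Agent.Lib.MinIdx.OrthTwoInv

/-!
# Invariant subgroups in five-dimensional orthogonal groups over three elements
-/

set_option autoImplicit false

namespace CfsgLib.MinIdx.Orth

open QuadraticMap CfsgLib.Geometry

variable {F V : Type*} [Field F] [AddCommGroup V] [Module F V] [FiniteDimensional F V] [Finite F]
  {Q : QuadraticForm F V} {x y : V}

theorem cases3 (h3 : Nat.card F = 3) (a : F) : a = 0 ∨ a = 1 ∨ a = -1 := by
  classical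
  haveI := Fintype.ofFinite F
  have h2 : (2 : F) ≠ 0 := CfsgLib.Classical.two_ne_zero_of_odd_card (by rw [h3]; decide)
  by_contra hc
  push Not at hc
  have h := Finset.card_le_univ ({a, 0, 1, -1} : Finset F)
  have h01 : (1 : F) ≠ -1 := fun h => h2 (by linear_combination h)
  rw [Finset.card_insert_of_notMem (by simp [hc.1, hc.2.1, hc.2.2]),
    Finset.card_insert_of_notMem (by simp), Finset.card_pair h01, ← Nat.card_eq_fintype_card, h3] at h
  omega

/-- Singular vectors among the others. -/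
theorem sing_three {k : ℕ} (hk : Nat.card {v : V // Q v = 0} = k + 1) : sing Q = k := by
  haveI : Finite V := Module.finite_of_finite F
  have := sing_add_one Q
  omega

section Five

variable (hQ : (polarBilin Q).Nondegenerate) (h3 : Nat.card F = 3) (hn : Module.finrank F V = 5)
  (h0 : Nat.card {v : V // Q v = 0} = 81) (hp : Nat.card {v : V // Q v = 1} = 90)
  (hm : Nat.card {v : V // Q v = -1} = 72)

include hQ h3 hn h0 hp hm

/-- The three divisibilities. -/
theorem five_dvd (L : Subgroup (SG Q)) (U : AddSubgroup V) (hU : ∀ l ∈ L, ∀ v ∈ U, l.1 v ∈ U) :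
    80 ∣ L.index * Nat.card {v : U // v.1 ≠ 0 ∧ Q v.1 = 0} ∧ 90 ∣ L.index * Nat.card {v : U // Q v.1 = 1} ∧
      72 ∣ L.index * Nat.card {v : U // Q v.1 = -1} ∧
      Nat.card {v : U // v.1 ≠ 0 ∧ Q v.1 = 0} + Nat.card {v : U // Q v.1 = 1} + Nat.card {v : U // Q v.1 = -1} + 1 =
        Nat.card U := by
  classical
  haveI : Finite V := Module.finite_of_finite F
  haveI : Finite (SG Q) := finite_sg
  have h2 : (2 : F) ≠ 0 := CfsgLib.Classical.two_ne_zero_of_odd_card (by rw [h3]; decide)
  have e : ∀ p : V → Prop, Nat.card {v : U // p v.1} = Nat.card {v : V | v ∈ U ∧ p v} := fun p =>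
    Nat.card_congr { toFun := fun v => ⟨v.1.1, v.1.2, v.2⟩, invFun := fun v => ⟨⟨v.1, v.2.1⟩, v.2.2⟩,
                     left_inv := fun _ => rfl, right_inv := fun _ => rfl }
  have htr : ∀ c : F, c ≠ 0 → Nat.card {v : V // Q v = c} ∣ L.index * Nat.card {v : U // Q v.1 = c} := by
    intro c hc
    rw [e fun v => Q v = c]
    refine card_dvd_index_mul (fun g v => g.1 v) (fun _ => rfl) (fun _ _ _ => rfl) {v : V | Q v = c}
      {v : V | v ∈ U ∧ Q v = c} (fun v hv => hv.2)
      (fun g v hv => show Q (g.1 v) = c by rw [sg_Q]; exact hv) (fun a ha b hb => ?_) L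
      fun l hl v hv => ⟨hU l hl v hv.1, by rw [sg_Q, hv.2]⟩
    obtain ⟨s, hs, hsa⟩ := siegel_trans_norm hQ (by omega) (show Q a ≠ 0 from fun h0 => hc (ha.symm.trans h0))
      (show Q b = Q a from hb.trans ha.symm)
    exact ⟨⟨s, hs⟩, hsa⟩
  refine ⟨?_, hp ▸ htr 1 one_ne_zero, hm ▸ htr (-1) (neg_ne_zero.2 one_ne_zero), ?_⟩
  · rw [e fun v => v ≠ 0 ∧ Q v = 0, ← sing_three (Q := Q) (k := 80) h0]
    exact sing_dvd hQ (by omega) L _ (fun v hv => hv.2)
      fun l hl v hv => ⟨hU l hl v hv.1, sg_ne_zero l hv.2.1, by rw [sg_Q, hv.2.2]⟩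
  · rw [← Nat.card_unique (α := {v : U // v = 0}), ← Nat.card_sum, ← Nat.card_sum, ← Nat.card_sum]
    refine Nat.card_congr (Equiv.ofBijective (Sum.elim (Sum.elim (Sum.elim Subtype.val Subtype.val) Subtype.val)
      Subtype.val) ⟨?_, fun v => ?_⟩)
    · refine Function.Injective.sumElim (Function.Injective.sumElim
        (Function.Injective.sumElim Subtype.val_injective Subtype.val_injective fun a b h => ?_)
        Subtype.val_injective ?_) Subtype.val_injective ?_
      · have := b.2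
        rw [← h, a.2.2] at this
        exact zero_ne_one this
      · rintro (a | a) b h
        · have := b.2
          rw [← show a.1 = b.1 from h, a.2.2] at this
          exact one_ne_zero (neg_eq_zero.1 this.symm)
        · have := b.2
          rw [← show a.1 = b.1 from h, a.2] at this
          exact h2 (by linear_combination this)
      · rintro ((a | a) | a) b h
        · exact a.2.1 (by rw [show a.1 = b.1 from h, b.2]; rfl)
        · have := a.2
          rw [show a.1 = b.1 from h, b.2] at this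
          exact one_ne_zero ((QuadraticMap.map_zero Q).symm.trans this).symm
        · have := a.2
          rw [show a.1 = b.1 from h, b.2] at this
          exact one_ne_zero (neg_eq_zero.1 ((QuadraticMap.map_zero Q).symm.trans this).symm)
    · rcases eq_or_ne v 0 with rfl | hv0
      · exact ⟨.inr ⟨0, rfl⟩, rfl⟩
      rcases cases3 h3 (Q v.1) with h | h | h
      · exact ⟨.inl (.inl (.inl ⟨v, fun h' => hv0 (Subtype.ext h'), h⟩)), rfl⟩
      · exact ⟨.inl (.inl (.inr ⟨v, h⟩)), rfl⟩
      · exact ⟨.inl (.inr ⟨v, h⟩), rfl⟩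

theorem five_three (L : Subgroup (SG Q)) (U : AddSubgroup V) (hU : ∀ l ∈ L, ∀ v ∈ U, l.1 v ∈ U)
    (hcard : Nat.card U = 3) : 36 ≤ L.index := by
  haveI : Finite V := Module.finite_of_finite F
  haveI : Finite (SG Q) := finite_sg
  obtain ⟨d1, d2, d3, hsum⟩ := five_dvd hQ h3 hn h0 hp hm L U hU
  have hk : 0 < L.index := Nat.pos_of_ne_zero Subgroup.index_ne_zero_of_finite
  rw [hcard] at hsum
  by_contra hlt
  push Not at hlt
  generalize Nat.card {v : U // v.1 ≠ 0 ∧ Q v.1 = 0} = s at *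
  generalize Nat.card {v : U // Q v.1 = 1} = t at *
  generalize Nat.card {v : U // Q v.1 = -1} = r at *
  have hs : s ≤ 2 := by omega
  have ht : t ≤ 2 := by omega
  have hr : r ≤ 2 := by omega
  interval_cases s <;> interval_cases t <;> interval_cases r <;> omega

theorem five_pair {a : V} (ha : a ≠ 0) (hqa : Q a = 0) :
    24 ≤ Nat.card {b : V // Q b = 0 ∧ polar Q a b = 0 ∧ b ∉ Submodule.span F {a}} := by
  haveI : Finite V := Module.finite_of_finite F
  obtain ⟨y, h⟩ := exists_isPair hQ ha hqa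
  have hW : Nat.card {w : pairPerp Q a y // QW Q a y w = 0} = 9 := by
    have := value_split h (0 : F)
    rw [h0, h3, hn, show (3 - 1) * 3 ^ (5 - 2) = 54 by norm_num] at this
    omega
  have hs := sing_three (V := pairPerp Q a y) (Q := QW Q a y) (k := 8) hW
  rw [show 24 = Nat.card F * sing (QW Q a y) by rw [h3, hs], sing, ← Nat.card_prod]
  have hmem : ∀ p : F × {w : pairPerp Q a y // w ≠ 0 ∧ QW Q a y w = 0},
      Q (p.2.1.1 + p.1 • a) = 0 ∧ polar Q a (p.2.1.1 + p.1 • a) = 0 ∧
        p.2.1.1 + p.1 • a ∉ Submodule.span F {a} := by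
    intro p
    refine ⟨?_, ?_, fun hmem => p.2.2.1 ?_⟩
    · rw [map_add', map_smul', h.qx, polar_smul_right', polar_comm Q _ a, (mem_pairPerp.1 p.2.1.2).1,
        show Q p.2.1.1 = 0 from p.2.2.2]
      ring
    · rw [polar_add_right, polar_smul_right', h.xx, (mem_pairPerp.1 p.2.1.2).1]; ring
    · obtain ⟨c, hc⟩ := Submodule.mem_span_singleton.1 hmem
      have h4 := congrArg (prW Q a y) hc
      rw [map_add, map_smul, map_smul, prW_of_mem p.2.1.2, prW_apply a, h.xy, h.xx] at h4
      exact Subtype.ext (by simpa using h4.symm)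
  refine Nat.card_le_card_of_injective (fun p => (⟨_, hmem p⟩ :
    {b : V // Q b = 0 ∧ polar Q a b = 0 ∧ b ∉ Submodule.span F {a}})) fun p r hpr => ?_
  have h4 : p.2.1.1 + p.1 • a = r.2.1.1 + r.1 • a := congrArg Subtype.val hpr
  have h5 := congrArg (fun v => polar Q v y) h4
  simp only [polar_add_left, polar_smul_left', h.xy, polar_comm Q p.2.1.1 y, polar_comm Q r.2.1.1 y,
    (mem_pairPerp.1 p.2.1.2).2, (mem_pairPerp.1 r.2.1.2).2, zero_add, mul_one] at h5
  rw [h5] at h4
  exact Prod.ext h5 (Subtype.ext (Subtype.ext (add_right_cancel h4)))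

set_option maxHeartbeats 800000 in
theorem five_nine (L : Subgroup (SG Q)) (U : AddSubgroup V) (hU : ∀ l ∈ L, ∀ v ∈ U, l.1 v ∈ U)
    (hcard : Nat.card U = 9) : 13 ≤ L.index := by
  classical
  haveI : Finite V := Module.finite_of_finite F
  haveI : Finite (SG Q) := finite_sg
  have h2 : (2 : F) ≠ 0 := CfsgLib.Classical.two_ne_zero_of_odd_card (by rw [h3]; decide)
  obtain ⟨d1, d2, d3, hsum⟩ := five_dvd hQ h3 hn h0 hp hm L U hU
  have hk : 0 < L.index := Nat.pos_of_ne_zero Subgroup.index_ne_zero_of_finite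
  rw [hcard] at hsum
  by_contra hlt
  push Not at hlt
  have hspan : ∀ a b : V, a ∈ U → b ∈ Submodule.span F {a} → b ∈ ({0, a, -a} : Set V) := fun a b _ hb => by
    obtain ⟨c, rfl⟩ := Submodule.mem_span_singleton.1 hb
    rcases cases3 h3 c with rfl | rfl | rfl <;> simp
  obtain ⟨u, hu, hu0⟩ : ∃ u ∈ U, u ≠ 0 := by
    by_contra hc
    push Not at hc
    rw [(AddSubgroup.eq_bot_iff_forall U).2 hc, AddSubgroup.card_bot] at hcard
    omega
  obtain ⟨v, hv, hvu⟩ : ∃ v ∈ U, v ∉ ({0, u, -u} : Set V) := by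
    by_contra hc
    push Not at hc
    have h1 : Nat.card U ≤ Nat.card ({0, u, -u} : Set V) :=
      Nat.card_le_card_of_injective (fun w => (⟨w.1, hc w.1 w.2⟩ : ({0, u, -u} : Set V))) fun a b hab =>
        Subtype.ext (Subtype.mk.inj hab)
    rw [Nat.card_coe_set_eq ({0, u, -u} : Set V), hcard] at h1
    have := (Set.ncard_insert_le (0 : V) {u, -u}).trans (Nat.add_le_add_right (Set.ncard_insert_le u {-u}) 1)
    rw [Set.ncard_singleton] at this
    omega
  simp only [Set.mem_insert_iff, Set.mem_singleton_iff, not_or] at hvu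
  have hk12 : L.index ≤ 12 := by omega
  have hcases : Nat.card {v : U // Q v.1 = -1} = 8 ∨ Nat.card {v : U // v.1 ≠ 0 ∧ Q v.1 = 0} = 8 := by
    have a1 : ∀ k ≤ 12, ∀ s ≤ 8, 0 < k → 80 ∣ k * s → s = 0 ∨ s = 8 := by decide
    have a2 : ∀ k ≤ 12, ∀ s ≤ 8, 0 < k → 90 ∣ k * s → s = 0 := by decide
    have a3 : ∀ k ≤ 12, ∀ s ≤ 8, 0 < k → 72 ∣ k * s → s = 0 ∨ s = 6 ∨ s = 8 := by decide
    have b1 := a1 _ hk12 _ (by omega) hk d1
    have b2 := a2 _ hk12 _ (by omega) hk d2
    have b3 := a3 _ hk12 _ (by omega) hk d3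
    omega
  have hone : ∀ p : V → Prop, (∀ w : U, p w.1 → w.1 ≠ 0) → Nat.card {v : U // p v.1} = 8 →
      ∀ w ∈ U, w ≠ 0 → p w := by
    intro p hp0 h8 w hw hw0
    let f : {v : U // p v.1} → {v : U // v.1 ≠ 0} := fun v => ⟨v.1, hp0 v.1 v.2⟩
    have hf : Function.Injective f := fun a b h => Subtype.ext (congrArg (fun z : {v : U // v.1 ≠ 0} => z.1) h)
    haveI := Fintype.ofFinite U
    have hne : Nat.card {v : U // v.1 ≠ 0} = 8 := by
      rw [Nat.card_eq_fintype_card, Fintype.card_congr (Equiv.subtypeEquivRight fun v : U =>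
        (show v.1 ≠ 0 ↔ ¬ v = 0 from not_congr ⟨fun h => Subtype.ext h, fun h => by rw [h]; rfl⟩)),
        Fintype.card_subtype_compl, Fintype.card_subtype_eq, ← Nat.card_eq_fintype_card, hcard]
    obtain ⟨z, hz⟩ := ((Nat.bijective_iff_injective_and_card f).2 ⟨hf, h8.trans hne.symm⟩).2 ⟨⟨w, hw⟩, hw0⟩
    rw [show w = z.1.1 from (congrArg (fun z : {v : U // v.1 ≠ 0} => z.1.1) hz).symm]
    exact z.2
  rcases hcases with hr | hs
  · -- an anisotropic plane represents both classes
    have hall := hone (fun v => Q v = -1) (fun w hw h0 => by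
      rw [h0, QuadraticMap.map_zero] at hw; exact one_ne_zero (neg_eq_zero.1 hw.symm)) hr
    have e1 := hall (u + v) (U.add_mem hu hv) fun h => hvu.2.2 (eq_neg_of_add_eq_zero_right h)
    have e2 := hall (u + -v) (U.add_mem hu (U.neg_mem hv)) fun h => hvu.2.1 (by
      rw [add_neg_eq_zero] at h; exact h.symm)
    rw [map_add', hall u hu hu0] at e1 e2
    rw [hall v hv hvu.1] at e1
    rw [QuadraticMap.map_neg, polar_neg_right, hall v hv hvu.1] at e2
    exact one_ne_zero (show (1 : F) = 0 by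
      have h4 : (2 : F) * -1 = 0 := by linear_combination e1 + e2
      simp [h2] at h4)
  · have hall : ∀ w ∈ U, Q w = 0 := fun w hw => by
      rcases eq_or_ne w 0 with rfl | hw0
      · exact QuadraticMap.map_zero Q
      exact (hone (fun v => v ≠ 0 ∧ Q v = 0) (fun w hw => hw.1) hs w hw hw0).2
    have hpol : ∀ a ∈ U, ∀ b ∈ U, polar Q a b = 0 := fun a ha b hb => by
      rw [QuadraticMap.polar, hall _ (U.add_mem ha hb), hall a ha, hall b hb]; simp
    have hvspan : v ∉ Submodule.span F {u} := fun h => by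
      have := hspan u v hu h
      simp only [Set.mem_insert_iff, Set.mem_singleton_iff] at this
      tauto
    let X : Set (V × V) := Set.range fun g : SG Q => (g.1 u, g.1 v)
    let T : Set (V × V) := {p | p ∈ X ∧ p.1 ∈ U ∧ p.2 ∈ U}
    have hdvd := card_dvd_index_mul (fun (g : SG Q) (p : V × V) => (g.1 p.1, g.1 p.2)) (fun _ => rfl)
      (fun _ _ _ => rfl) X T (fun p hp => hp.1) (by rintro g _ ⟨k, rfl⟩; exact ⟨g * k, rfl⟩)
      (by
        rintro _ ⟨g, rfl⟩ _ ⟨k, rfl⟩
        exact ⟨k * g⁻¹, by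
          show ((k * g⁻¹).1 (g.1 u), (k * g⁻¹).1 (g.1 v)) = (k.1 u, k.1 v)
          rw [sg_mul, sg_mul, sg_inv, sg_inv]⟩)
      L (by
        rintro l hl p ⟨⟨k, hk⟩, h1, h2⟩
        exact ⟨⟨l * k, by rw [← hk]; rfl⟩, hU l hl _ h1, hU l hl _ h2⟩)
    have hT0 : 0 < Nat.card T := by
      haveI : Nonempty T := ⟨⟨(u, v), ⟨1, rfl⟩, hu, hv⟩⟩
      exact Nat.card_pos
    have hT : Nat.card T ≤ 64 := by
      have hne : ∀ p : T, p.1.1 ≠ 0 ∧ p.1.2 ≠ 0 := by
        rintro ⟨_, ⟨g, rfl⟩, -, -⟩
        exact ⟨sg_ne_zero g hu0, sg_ne_zero g hvu.1⟩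
      haveI := Fintype.ofFinite U
      have h8 : Nat.card {w : U // w ≠ 0} = 8 := by
        rw [Nat.card_eq_fintype_card, Fintype.card_subtype_compl, Fintype.card_subtype_eq,
          ← Nat.card_eq_fintype_card, hcard]
      rw [show 64 = Nat.card ({w : U // w ≠ 0} × {w : U // w ≠ 0}) by rw [Nat.card_prod, h8]]
      refine Nat.card_le_card_of_injective (fun p => (⟨⟨p.1.1, p.2.2.1⟩, fun h => (hne p).1 (congrArg Subtype.val h)⟩,
        ⟨⟨p.1.2, p.2.2.2⟩, fun h => (hne p).2 (congrArg Subtype.val h)⟩)) fun p r hpr => ?_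
      exact Subtype.ext (Prod.ext (congrArg (fun z : {w : U // w ≠ 0} × {w : U // w ≠ 0} => z.1.1.1) hpr)
        (congrArg (fun z : {w : U // w ≠ 0} × {w : U // w ≠ 0} => z.2.1.1) hpr))
    have hX : 80 * 24 ≤ 2 * Nat.card X := by
      haveI := Fintype.ofFinite {a : V // a ≠ 0 ∧ Q a = 0}
      calc 80 * 24 = ∑ _a : {a : V // a ≠ 0 ∧ Q a = 0}, 24 := by
            rw [Finset.sum_const, smul_eq_mul, Finset.card_univ, ← Nat.card_eq_fintype_card, ← sing,
              sing_three (Q := Q) (k := 80) h0]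
        _ ≤ ∑ a : {a : V // a ≠ 0 ∧ Q a = 0},
            Nat.card {b : V // Q b = 0 ∧ polar Q a.1 b = 0 ∧ b ∉ Submodule.span F {a.1}} :=
          Finset.sum_le_sum fun a _ => five_pair hQ h3 hn h0 hp hm a.2.1 a.2.2
        _ = Nat.card (Σ a : {a : V // a ≠ 0 ∧ Q a = 0},
            {b : V // Q b = 0 ∧ polar Q a.1 b = 0 ∧ b ∉ Submodule.span F {a.1}}) := (Nat.card_sigma).symm
        _ ≤ Nat.card (X ⊕ X) := by
          have hsurj : ∀ (a b : V), a ≠ 0 → Q a = 0 → Q b = 0 → polar Q a b = 0 → b ∉ Submodule.span F {a} →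
              (a, b) ∈ X ∨ (a, -b) ∈ X := by
            intro a b ha hqa hqb hab hspan
            obtain ⟨s, hs, hsa, c, hc, hsb⟩ := siegel_trans_orth hQ (by omega) hu0 ha (hall u hu) (hall v hv) hqa hqb
              (hpol u hu v hv) hab hvspan hspan
            rcases cases3 h3 c with rfl | rfl | rfl
            · exact absurd rfl hc
            · exact Or.inl ⟨⟨s, hs⟩, Prod.ext hsa (by rw [one_smul] at hsb; exact hsb)⟩
            · exact Or.inr ⟨⟨s, hs⟩, Prod.ext hsa (by rw [neg_one_smul] at hsb; exact hsb)⟩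
          refine Nat.card_le_card_of_injective (fun p => if hp : (p.1.1, p.2.1) ∈ X then .inl ⟨_, hp⟩
            else .inr ⟨(p.1.1, -p.2.1), (hsurj p.1.1 p.2.1 p.1.2.1 p.1.2.2 p.2.2.1 p.2.2.2.1 p.2.2.2.2).resolve_left hp⟩)
            fun p r hpr => ?_
          dsimp only at hpr
          split_ifs at hpr with hp hr
          · have h4 := congrArg Subtype.val (Sum.inl.inj hpr)
            exact Sigma.subtype_ext (Subtype.ext (congrArg Prod.fst h4)) (congrArg Prod.snd h4)
          · have h4 := congrArg Subtype.val (Sum.inr.inj hpr)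
            exact Sigma.subtype_ext (Subtype.ext (congrArg Prod.fst h4)) (neg_injective (congrArg Prod.snd h4))
        _ = 2 * Nat.card X := by rw [Nat.card_sum, two_mul]
    have h4 := Nat.le_of_dvd (Nat.mul_pos hk hT0) hdvd
    have h5 : L.index * Nat.card T ≤ 12 * 64 := Nat.mul_le_mul hk12 hT
    omega

/-- Invariant subgroups. -/
theorem five_invariant (L : Subgroup (SG Q)) (U : AddSubgroup V) (hU : ∀ l ∈ L, ∀ v ∈ U, l.1 v ∈ U)
    (hbot : U ≠ ⊥) (htop : U ≠ ⊤) : 13 ≤ L.index ∧ (U.index = 3 → 36 ≤ L.index) := by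
  classical
  haveI : Finite V := Module.finite_of_finite F
  let W : Submodule F V :=
    { U with
      smul_mem' := fun c v hv => by
        rcases cases3 h3 c with rfl | rfl | rfl
        · rw [zero_smul]; exact U.zero_mem
        · rwa [one_smul]
        · rw [neg_one_smul]; exact U.neg_mem hv }
  let P := LinearMap.BilinForm.orthogonal (polarBilin Q) W
  have hinvP : ∀ l ∈ L, ∀ v ∈ P.toAddSubgroup, l.1 v ∈ P.toAddSubgroup := fun l hl v hv u hu => by
    show polar Q u (l.1 v) = 0
    rw [← sg_inv' l u, sg_polar]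
    exact hv _ (hU _ (L.inv_mem hl) u hu)
  have hcW : Nat.card U = 3 ^ Module.finrank F W := by
    show Nat.card W = _
    rw [← h3]; exact Module.natCard_eq_pow_finrank
  have hcP : Nat.card P.toAddSubgroup = 3 ^ Module.finrank F P := by
    show Nat.card P = _
    rw [← h3]; exact Module.natCard_eq_pow_finrank
  have hdP : Module.finrank F P = 5 - Module.finrank F W := by
    rw [LinearMap.BilinForm.finrank_orthogonal hQ W, hn]
  have hd5 : Module.finrank F W ≤ 5 := hn ▸ Submodule.finrank_le W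
  have hd0 : Module.finrank F W ≠ 0 := fun h => hbot (AddSubgroup.card_eq_one.1 (by rw [hcW, h, pow_zero]))
  have hV : Nat.card V = 3 ^ 5 := by rw [Module.natCard_eq_pow_finrank (K := F), h3, hn]
  have hdtop : Module.finrank F W ≠ 5 := fun h => htop (AddSubgroup.eq_top_of_card_eq _ (by rw [hcW, h, hV]))
  have hidx : U.index = 3 → Module.finrank F W = 4 := fun h => by
    have h1 := U.index_mul_card
    rw [h, hcW, hV, ← pow_succ'] at h1
    have := Nat.pow_right_injective (show 2 ≤ 3 by norm_num) h1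
    omega
  rcases (show Module.finrank F W = 1 ∨ Module.finrank F W = 2 ∨ Module.finrank F W = 3 ∨ Module.finrank F W = 4 by
    omega) with hd | hd | hd | hd <;> rw [hd] at hdP hcW <;> norm_num at hdP hcW
  · exact ⟨by have := five_three hQ h3 hn h0 hp hm L U hU hcW; omega,
      fun h => absurd (hidx h) (by omega)⟩
  · exact ⟨five_nine hQ h3 hn h0 hp hm L U hU hcW, fun h => absurd (hidx h) (by omega)⟩
  · exact ⟨five_nine hQ h3 hn h0 hp hm L _ hinvP (by rw [hcP, hdP]; norm_num), fun h => absurd (hidx h) (by omega)⟩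
  · have := five_three hQ h3 hn h0 hp hm L _ hinvP (by rw [hcP, hdP]; norm_num)
    exact ⟨by omega, fun _ => this⟩

end Five

end CfsgLib.MinIdx.Orth
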