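import Cfsg.Agent.Lib.MinIdx.OrthPrimeStep

/-!
# A trivial root set in seven dimensions gives a root element elsewhere
-/

set_option autoImplicit false

namespace CfsgLib.MinIdx.Orth

open QuadraticMap CfsgLib.Geometry

variable {F V : Type*} [Field F] [AddCommGroup V] [Module F V] [FiniteDimensional F V] [Finite F]
  {Q : QuadraticForm F V} {x y : V}

/-- Two reflections in vectors with the same value. -/
theorem refl_pair_mem (hQ : (polarBilin Q).Nondegenerate) (hn : 4 ≤ Module.finrank F V) {u v : V} (hu : Q u ≠ 0)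
    (hv : Q v ≠ 0) (he : Q v = Q u) : refl Q v hv * refl Q u hu ∈ siegelGroup Q := by
  obtain ⟨s, hs, hsu⟩ := siegel_trans_norm hQ hn hu he
  subst hsu
  rw [← refl_conj Q (siegelGroup_le_orth hs) u hu, mul_assoc, mul_assoc]
  refine Subgroup.mul_mem _ hs ?_
  have h1 := siegelGroup_normal (refl_mem_orth Q u hu) ((siegelGroup Q).inv_mem hs)
  rw [show (refl Q u hu)⁻¹ = refl Q u hu from inv_eq_of_mul_eq_one_right (refl_mul_self Q u hu), mul_assoc] at h1
  exact h1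

/-- Lifts at a point with trivial root set. -/
theorem exists_lifts (H : Subgroup (SG Q)) (h : IsPair Q x y) (hw : wSet H x y = ⊥) (htop : liftL H h = ⊤) :
    ∃ φ : SG (QW Q x y) → pairPerp Q x y, (∀ g, es Q x (φ g).1 * ext h g ∈ H) ∧
      (∀ g v, es Q x v.1 * ext h g ∈ H → v = φ g) ∧ ∀ g k, φ (g * k) = φ g + g.1 (φ k) := by
  have hex : ∀ g : SG (QW Q x y), ∃ v : pairPerp Q x y, es Q x v.1 * ext h g ∈ H := fun g => by
    obtain ⟨v, hv, hmem⟩ := mem_liftL.1 (htop ▸ Subgroup.mem_top g)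
    exact ⟨⟨v, hv⟩, hmem⟩
  choose φ hφ using hex
  have huniq : ∀ g v, es Q x v.1 * ext h g ∈ H → v = φ g := fun g v hv => by
    have h1 := H.mul_mem hv (H.inv_mem (hφ g))
    rw [mul_inv_rev, mul_assoc, mul_inv_cancel_left, es_inv,
      show -(φ g).1 = (-φ g).1 from rfl, es_w_mul] at h1
    have h2 : v + -φ g ∈ wSet H x y := ⟨(mem_pairPerp.1 (v + -φ g).2).1, h1⟩
    rw [hw, AddSubgroup.mem_bot, add_neg_eq_zero] at h2
    exact h2
  refine ⟨φ, hφ, huniq, fun g k => (huniq _ _ ?_).symm⟩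
  have e : ext h g * es Q x (φ k).1 * (ext h g)⁻¹ = es Q x (g.1 (φ k)).1 := by
    rw [es_conj, ext_x, ext_W]
  have h1 := H.mul_mem (hφ g) (hφ k)
  rw [show es Q x (φ g).1 * ext h g * (es Q x (φ k).1 * ext h k) =
      es Q x (φ g).1 * (ext h g * es Q x (φ k).1 * (ext h g)⁻¹) * (ext h g * ext h k) by group,
    e, ← map_mul, es_w_mul] at h1
  exact h1

/-- A mixed element contradicts a trivial root set at its second point. -/
theorem mixed_false (hQ : (polarBilin Q).Nondegenerate) (hn : 6 ≤ Module.finrank F V) (H : Subgroup (SG Q))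
    {X Y Z Z' W W' D : V} (hX : IsPair Q X Y) (hZ : IsPair Q Z Z') (hW : IsPair Q W W')
    (hXm : X ∈ pairPerp Q Z Z') (hYm : Y ∈ pairPerp Q Z Z') (hWm : W ∈ pairPerp Q Z Z')
    (hW'm : W' ∈ pairPerp Q Z Z') (hDm : D ∈ pairPerp Q Z Z')
    (hWX : W ∈ pairPerp Q X Y) (hW'X : W' ∈ pairPerp Q X Y) (hDX : D ∈ pairPerp Q X Y) (hDW : D ∈ pairPerp Q W W')
    (hD : Q D ≠ 0) (hmem : es Q X D * es Q Z W ∈ H) (hw : wSet H Z Z' = ⊥) (htop : liftL H hZ = ⊤) : False := by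
  classical
  set Q1 := QW Q Z Z' with hQ1def
  have hQ1 : (polarBilin Q1).Nondegenerate := nondeg_QW hZ hQ
  have hd := finrank_W hZ
  obtain ⟨φ, hφ, huniq, hmul⟩ := exists_lifts H hZ hw htop
  obtain ⟨ε, hε⟩ : ∃ ε, ε = Q D := ⟨_, rfl⟩
  have hε0 : ε ≠ 0 := hε ▸ hD
  let x₁ : pairPerp Q Z Z' := ⟨X, hXm⟩
  let y₁ : pairPerp Q Z Z' := ⟨Y, hYm⟩
  let w₁ : pairPerp Q Z Z' := ⟨W, hWm⟩
  let w₂ : pairPerp Q Z Z' := ⟨W', hW'm⟩
  let d₁ : pairPerp Q Z Z' := ⟨D, hDm⟩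
  have hpxy : polar Q1 x₁ y₁ = 1 := hX.xy
  have hpyx : polar Q1 y₁ x₁ = 1 := hX.yx
  have hpxx : polar Q1 x₁ x₁ = 0 := hX.xx
  have hpyy : polar Q1 y₁ y₁ = 0 := hX.yy
  have hpww : polar Q1 w₁ w₂ = 1 := hW.xy
  have hpww' : polar Q1 w₂ w₁ = 1 := hW.yx
  have hpw1 : polar Q1 w₁ w₁ = 0 := hW.xx
  have hpw2 : polar Q1 w₂ w₂ = 0 := hW.yy
  have hxw : polar Q1 x₁ w₁ = 0 := (mem_pairPerp.1 hWX).1
  have hyw : polar Q1 y₁ w₁ = 0 := (mem_pairPerp.1 hWX).2
  have hxw' : polar Q1 x₁ w₂ = 0 := (mem_pairPerp.1 hW'X).1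
  have hyw' : polar Q1 y₁ w₂ = 0 := (mem_pairPerp.1 hW'X).2
  have hxd : polar Q1 x₁ d₁ = 0 := (mem_pairPerp.1 hDX).1
  have hyd : polar Q1 y₁ d₁ = 0 := (mem_pairPerp.1 hDX).2
  have hwd : polar Q1 w₁ d₁ = 0 := (mem_pairPerp.1 hDW).1
  have hwd' : polar Q1 w₂ d₁ = 0 := (mem_pairPerp.1 hDW).2
  have hQd : Q1 d₁ = ε := hε.symm
  have hQx : Q1 x₁ = 0 := hX.qx
  -- the element and its lift
  obtain ⟨g, hg⟩ : ∃ g, g = es Q1 x₁ d₁ := ⟨_, rfl⟩
  have hgV : ext hZ g = es Q X D := by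
    rw [hg]
    exact ext_es hZ (e := x₁) (w := d₁) hX.qx hxd
  have hφg : φ g = w₁ := by
    refine (huniq g w₁ ?_).symm
    rw [hgV]
    have e : es Q X D * es Q Z W * (es Q X D)⁻¹ = es Q Z W := by
      rw [es_conj, es_apply hX.qx hxd, es_apply hX.qx hxd,
        show polar Q Z X = 0 from (mem_pairPerp.1 hXm).1, show polar Q Z D = 0 from (mem_pairPerp.1 hDm).1,
        show polar Q W X = 0 by rw [polar_comm]; exact hxw, show polar Q W D = 0 from hwd]
      simp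
    rwa [show es Q X D * es Q Z W = es Q Z W * es Q X D by
      conv_rhs => rw [← e]
      group] at hmem
  -- the commuting element
  obtain ⟨a₁, ha₁⟩ : ∃ a, a = x₁ + ε • y₁ := ⟨_, rfl⟩
  obtain ⟨a₂, ha₂⟩ : ∃ a, a = x₁ - ε • y₁ := ⟨_, rfl⟩
  obtain ⟨r, hr⟩ : ∃ a, a = w₁ - ε • w₂ := ⟨_, rfl⟩
  have hq1 : Q1 a₁ = ε := by
    rw [ha₁, map_add', map_smul', show Q1 y₁ = 0 from hX.qy, polar_smul_right', hpxy, hQx]; ring
  have hq2 : Q1 a₂ = -ε := by
    rw [ha₂, CfsgLib.Geometry.map_sub', map_smul', show Q1 y₁ = 0 from hX.qy, polar_smul_right', hpxy, hQx]; ring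
  have hqr : Q1 r = -ε := by
    rw [hr, CfsgLib.Geometry.map_sub', map_smul', show Q1 w₂ = 0 from hW.qy, polar_smul_right', hpww, show Q1 w₁ = 0 from hW.qx]
    ring
  have n1 : Q1 a₁ ≠ 0 := hq1 ▸ hε0
  have nd : Q1 d₁ ≠ 0 := hQd ▸ hε0
  have n2 : Q1 a₂ ≠ 0 := hq2 ▸ neg_ne_zero.2 hε0
  have nr : Q1 r ≠ 0 := hqr ▸ neg_ne_zero.2 hε0
  obtain ⟨k, hk⟩ : ∃ k : SG Q1, k.1 = refl Q1 a₁ n1 * refl Q1 d₁ nd * (refl Q1 a₂ n2 * refl Q1 r nr) :=
    ⟨⟨_, Subgroup.mul_mem _ (refl_pair_mem hQ1 (by omega) nd n1 (hq1.trans hQd.symm))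
      (refl_pair_mem hQ1 (by omega) nr n2 (hq2.trans hqr.symm))⟩, rfl⟩
  have happ : ∀ v, k.1 v = refl Q1 a₁ n1 (refl Q1 d₁ nd (refl Q1 a₂ n2 (refl Q1 r nr v))) := fun v => by
    rw [hk]; rfl
  have hkx : k.1 x₁ = -x₁ := by
    rw [happ, refl_eq_self Q1 r nr (by rw [hr, polar_sub_right, polar_smul_right', hxw, hxw']; simp),
      refl_apply Q1 a₂ n2 x₁, hq2,
      show polar Q1 x₁ a₂ = -ε by rw [ha₂, polar_sub_right, polar_smul_right', hpxy, hpxx]; ring,
      inv_mul_cancel₀ (neg_ne_zero.2 hε0), one_smul, show x₁ - a₂ = ε • y₁ by rw [ha₂]; abel,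
      refl_eq_self Q1 d₁ nd (by rw [polar_smul_left', hyd, mul_zero]), refl_apply Q1 a₁ n1, hq1,
      show polar Q1 (ε • y₁) a₁ = ε by
        rw [ha₁, polar_smul_left', polar_add_right, polar_smul_right', hpyx, hpyy]; ring,
      inv_mul_cancel₀ hε0, ha₁]
    module
  have hkd : k.1 d₁ = -d₁ := by
    rw [happ, refl_eq_self Q1 r nr (by
        rw [hr, polar_sub_right, polar_smul_right', polar_comm Q1 d₁ w₁, polar_comm Q1 d₁ w₂, hwd, hwd']; simp),
      refl_eq_self Q1 a₂ n2 (by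
        rw [ha₂, polar_sub_right, polar_smul_right', polar_comm Q1 d₁ x₁, polar_comm Q1 d₁ y₁, hxd, hyd]; simp),
      refl_self, refl_eq_self Q1 a₁ n1 (by
        rw [ha₁, polar_neg_left, polar_add_right, polar_smul_right', polar_comm Q1 d₁ x₁, polar_comm Q1 d₁ y₁, hxd,
          hyd]
        simp)]
  have hkw : k.1 w₁ = ε • w₂ := by
    rw [happ, refl_apply Q1 r nr w₁, hqr,
      show polar Q1 w₁ r = -ε by rw [hr, polar_sub_right, polar_smul_right', hpww, hpw1]; ring,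
      inv_mul_cancel₀ (neg_ne_zero.2 hε0), one_smul, show w₁ - r = ε • w₂ by rw [hr]; abel,
      refl_eq_self Q1 a₂ n2 (by
        rw [ha₂, polar_smul_left', polar_sub_right, polar_smul_right', polar_comm Q1 w₂ x₁, polar_comm Q1 w₂ y₁,
          hxw', hyw']
        simp),
      refl_eq_self Q1 d₁ nd (by rw [polar_smul_left', hwd', mul_zero]),
      refl_eq_self Q1 a₁ n1 (by
        rw [ha₁, polar_smul_left', polar_add_right, polar_smul_right', polar_comm Q1 w₂ x₁, polar_comm Q1 w₂ y₁,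
          hxw', hyw']
        simp)]
  have hcomm : k * g = g * k := by
    have h1 := es_conj k x₁ d₁
    rw [hkx, hkd] at h1
    have h2 : es Q1 (-x₁) (-d₁) = es Q1 x₁ d₁ := sg_ext fun z => by
      rw [es_apply hQx hxd, es_apply (by rw [QuadraticMap.map_neg, hQx])
        (by rw [polar_neg_left, polar_neg_right, hxd, neg_zero, neg_zero]), polar_neg_right, polar_neg_right,
        QuadraticMap.map_neg]
      module
    rw [h2, ← hg] at h1
    calc k * g = k * g * k⁻¹ * k := by group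
      _ = g * k := by rw [h1]
  have h1 := congrArg φ hcomm
  rw [hmul, hmul, hφg, hkw, hg, es_apply hQx hxd] at h1
  have h2 := congrArg (fun p => polar Q1 p w₁) h1
  simp only [polar_add_left, polar_sub_left, polar_smul_left', hpww', hpw1, hxw, polar_comm Q1 d₁ w₁, hwd,
    mul_zero, mul_one, add_zero, zero_add, sub_zero] at h2
  exact hε0 (by linear_combination h2)

/-- In seven dimensions a trivial root set gives a root element elsewhere. -/
theorem exists_root_seven (hQ : (polarBilin Q).Nondegenerate) (hn : Module.finrank F V = 7) (h2 : (2 : F) ≠ 0)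
    (H : Subgroup (SG Q)) (hall : ∀ {a b : V} (h : IsPair Q a b), wSet H a b = ⊥ → liftL H h = ⊤)
    (h : IsPair Q x y) (hw : wSet H x y = ⊥) :
    ∃ z₁ w₁ : V, z₁ ≠ 0 ∧ Q z₁ = 0 ∧ polar Q x z₁ = 0 ∧ (∀ c : F, z₁ ≠ c • x) ∧ w₁ ∈ rootSet H z₁ ∧
      ∀ c : F, w₁ ≠ c • z₁ := by
  classical
  haveI : Finite V := Module.finite_of_finite F
  set Q1 := QW Q x y with hQ1def
  have hQ1 : (polarBilin Q1).Nondegenerate := nondeg_QW h hQ
  have hd := finrank_W h
  obtain ⟨φ, hφ, huniq, hmul⟩ := exists_lifts H h hw (hall h hw)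
  -- two orthogonal pairs and a remaining vector
  obtain ⟨z, hz0, hzq⟩ := exists_singular hQ1 (by omega)
  obtain ⟨z', hz⟩ := exists_isPair hQ1 hz0 hzq
  have hd1 := finrank_W hz
  obtain ⟨w, hw0, hwq⟩ := exists_singular (nondeg_QW hz hQ1) (by omega)
  obtain ⟨w', hwp⟩ := exists_isPair (nondeg_QW hz hQ1) hw0 hwq
  obtain ⟨hzw, hz'w⟩ := mem_pairPerp.1 w.2
  obtain ⟨hzw', hz'w'⟩ := mem_pairPerp.1 w'.2
  have hd2 := finrank_W hwp
  obtain ⟨g, hg⟩ : ∃ g, g = es Q1 z w.1 := ⟨_, rfl⟩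
  obtain ⟨v, hv⟩ : ∃ v, v = φ g := ⟨_, rfl⟩
  have hgap : ∀ p, g.1 p = p + polar Q1 p z • w.1 - polar Q1 p w.1 • z := fun p => by
    rw [hg, es_apply hzq hzw, show Q1 w.1 = 0 from hwq]; simp
  have hcomm : ∀ k : SG Q1, k.1 z = z → k.1 w.1 = w.1 → ∃ α β : F, k.1 v - v = α • w.1 - β • z := by
    intro k hk1 hk2
    have e : k * g = g * k := by
      have := es_conj k z w.1
      rw [hk1, hk2, ← hg] at this
      calc k * g = k * g * k⁻¹ * k := by group
        _ = g * k := by rw [this]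
    have h1 := congrArg φ e
    rw [hmul, hmul, hgap] at h1
    refine ⟨polar Q1 (φ k) z, polar Q1 (φ k) w.1, ?_⟩
    rw [hv]
    linear_combination (norm := module) h1
  haveI : Nontrivial (pairPerp (QW Q1 z z') w w') := Module.nontrivial_of_finrank_pos (R := F) (by omega)
  obtain ⟨u, hu0⟩ := exists_ne (0 : pairPerp (QW Q1 z z') w w')
  obtain ⟨hu1, hu1'⟩ := mem_pairPerp.1 u.1.2
  obtain ⟨hu2, hu2'⟩ := mem_pairPerp.1 u.2
  have hu2 : polar Q1 w.1 u.1.1 = 0 := hu2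
  have hww : polar Q1 w.1 w.1 = 0 := hwp.xx
  have hline : ∀ p : pairPerp (QW Q1 z z') w w', ∃ c : F, c • u = p :=
    ((Nat.bijective_iff_injective_and_card (fun c : F => c • u)).2
      ⟨fun c d hcd => by
        by_contra hne
        have h3 : (c - d) • u = 0 := (sub_smul c d u).trans (sub_eq_zero.2 hcd)
        exact hu0 ((smul_eq_zero.1 h3).resolve_left (sub_ne_zero.2 hne)),
      by rw [Module.natCard_eq_pow_finrank (K := F) (V := pairPerp (QW Q1 z z') w w'),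
        show Module.finrank F (pairPerp (QW Q1 z z') w w') = 1 by omega, pow_one]⟩).2
  have huu : polar Q1 u.1.1 u.1.1 ≠ 0 := by
    intro h0
    obtain ⟨a, -, hau⟩ := exists_polar (nondeg_QW hwp (nondeg_QW hz hQ1)) ⊥ (x := u) (by simpa using hu0) 1
    obtain ⟨c, rfl⟩ := hline a
    have h3 : polar Q1 (c • u.1.1) u.1.1 = 1 := hau
    rw [polar_smul_left', h0, mul_zero] at h3
    exact zero_ne_one h3
  have hqu : Q1 u.1.1 ≠ 0 := fun h0 => huu (by rw [polar_self', h0, mul_zero])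
  have hvz : polar Q1 v z = 0 := by
    obtain ⟨α, β, hab⟩ := hcomm (es Q1 z u.1.1) (es_fix hzq hu1 hz.xx hu1)
      (es_fix hzq hu1 (by rw [polar_comm]; exact hzw) hu2)
    rw [es_apply hzq hu1] at hab
    have h1 := congrArg (fun p => polar Q1 p u.1.1) hab
    simpa [polar_sub_left, polar_add_left, polar_smul_left', hu1, hu2, huu, h2, hqu] using h1
  have hvw : polar Q1 v w.1 = 0 := by
    obtain ⟨α, β, hab⟩ := hcomm (es Q1 w.1 u.1.1) (es_fix hwq hu2 hzw hu1) (es_fix hwq hu2 hww hu2)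
    rw [es_apply (show Q1 w.1 = 0 from hwq) hu2] at hab
    have h1 := congrArg (fun p => polar Q1 p u.1.1) hab
    simpa [polar_sub_left, polar_add_left, polar_smul_left', hu1, hu2, huu, h2, hqu] using h1
  let p₁ : pairPerp Q1 z z' := ⟨prW Q1 z z' v, prW_mem hz v⟩
  let t : pairPerp (QW Q1 z z') w w' := ⟨prW (QW Q1 z z') w w' p₁, prW_mem hwp p₁⟩
  set c₁ := polar Q1 v z'
  set c₂ := polar (QW Q1 z z') p₁ w'
  have hdec : v = t.1.1 + c₂ • w.1 + c₁ • z := by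
    have e1 := decompW (Q := Q1) (x := z) (y := z') v
    have e2 := congrArg Subtype.val (decompW (Q := QW Q1 z z') (x := w) (y := w') p₁)
    have e3 : polar (QW Q1 z z') p₁ w = 0 := by
      show polar Q1 (prW Q1 z z' v) w.1 = 0
      rw [polar_prW v w.2, hvw]
    rw [hvz, zero_smul, add_zero] at e1
    rw [e3, zero_smul, add_zero] at e2
    rw [← e1]
    show prW Q1 z z' v + c₁ • z = _
    rw [show prW Q1 z z' v = p₁.1 from rfl, ← e2]
    rfl
  set s := c₂ • z' - c₁ • w'.1 with hs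
  have hgs : t.1.1 + (g.1 s - s) = v := by
    rw [hdec, hgap, hs]
    simp [polar_sub_left, polar_smul_left', hz.yx, polar_comm Q1 z' w.1, polar_comm Q1 w'.1 z,
      show polar Q1 w.1 z' = 0 by rw [polar_comm]; exact hz'w, hzw',
      show polar Q1 w'.1 w.1 = 1 from hwp.yx]
    module
  set k₀ := es Q x (-s).1
  have hzwV : polar Q z.1 w.1.1 = 0 := hzw
  have hk₀ : k₀ * (es Q x t.1.1.1 * ext h g) * k₀⁻¹ ∈ H := by
    have e : ext h g * es Q x s.1 * (ext h g)⁻¹ = es Q x (g.1 s).1 := by rw [es_conj, ext_x, ext_W]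
    have e2 : es Q x v.1 * ext h g = es Q x (-s).1 * es Q x t.1.1.1 * es Q x (g.1 s).1 * ext h g := by
      rw [es_w_mul, es_w_mul, ← hgs]; congr 2; abel
    have := hφ g
    rw [← hv, e2, ← e] at this
    convert this using 1
    show es Q x (-s).1 * (es Q x t.1.1.1 * ext h g) * (es Q x (-s).1)⁻¹ = _
    rw [es_inv, show -(-s).1 = s.1 from by simp]
    group
  have hgV : ext h g = es Q z.1 w.1.1 := by rw [hg]; exact ext_es h (e := z) (w := w.1) hzq hzwV
  have hx0 : k₀.1 x = x := by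
    rw [es_apply h.qx (mem_pairPerp.1 (-s).2).1, h.xx, (mem_pairPerp.1 (-s).2).1]
    simp
  have hinj : Function.Injective k₀.1 := k₀.1.injective
  have hZ : IsPair Q (k₀.1 z.1) (k₀.1 z'.1) := (IsPair.mk hz.qx hz.qy hz.xy : IsPair Q z.1 z'.1).map k₀
  have hz1 : k₀.1 z.1 ≠ 0 := sg_ne_zero _ fun h0 => hz0 (Subtype.ext h0)
  have hxz : polar Q x (k₀.1 z.1) = 0 := by
    have h1 := sg_polar k₀ x z.1
    rw [hx0] at h1
    rw [h1]
    exact (mem_pairPerp.1 z.2).1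
  have hzx : ∀ c : F, k₀.1 z.1 ≠ c • x := fun c hc => by
    have h1 : z.1 = c • x := hinj (by rw [hc, map_smul, hx0])
    have h2 := prW_of_mem z.2
    rw [h1, map_smul, prW_apply, h.xy, h.xx] at h2
    refine hz0 (Subtype.ext ?_)
    rw [h1, ← h2]
    simp
  by_cases hbot : wSet H (k₀.1 z.1) (k₀.1 z'.1) = ⊥
  · rcases eq_or_ne t 0 with ht | ht
    · rw [ht] at hk₀
      rw [show ((0 : pairPerp (QW Q1 z z') w w') : pairPerp Q1 z z').1.1 = 0 from rfl, es_zero, one_mul,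
        hgV, es_conj] at hk₀
      refine ⟨_, k₀.1 w.1.1, hz1, by rw [sg_Q]; exact hzq, hxz, hzx,
        ⟨by rw [sg_polar]; exact hzwV, hk₀⟩, fun c hc => hw0 ?_⟩
      have h1 : w.1 = c • z := Subtype.ext (hinj (by rw [hc, ← map_smul]; rfl))
      have h2 := prW_of_mem w.2
      rw [h1, map_smul, prW_apply, hz.xy, hz.xx] at h2
      refine Subtype.ext ?_
      rw [h1, ← h2]
      simp
    · obtain ⟨ht1, ht1'⟩ := mem_pairPerp.1 t.1.2
      obtain ⟨ht2, ht2'⟩ := mem_pairPerp.1 t.2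
      obtain ⟨c, hc⟩ := hline t
      have hc0 : c ≠ 0 := fun h0 => ht (by rw [← hc, h0, zero_smul])
      have hmap : ∀ {a b c : V}, c ∈ pairPerp Q a b → k₀.1 c ∈ pairPerp Q (k₀.1 a) (k₀.1 b) := fun {a b c} hc =>
        mem_pairPerp.2 ⟨by rw [sg_polar]; exact (mem_pairPerp.1 hc).1, by rw [sg_polar]; exact (mem_pairPerp.1 hc).2⟩
      have hswap : ∀ {a b c : V}, polar Q a c = 0 → polar Q b c = 0 → c ∈ pairPerp Q a b := fun h1 h2 =>
        mem_pairPerp.2 ⟨h1, h2⟩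
      have hmem : es Q (k₀.1 x) (k₀.1 t.1.1.1) * es Q (k₀.1 z.1) (k₀.1 w.1.1) ∈ H := by
        rw [← es_conj, ← es_conj, ← hgV]
        convert hk₀ using 1
        group
      refine (mixed_false hQ (by omega) H (h.map k₀) hZ
        ((IsPair.mk hwp.qx hwp.qy hwp.xy : IsPair Q w.1.1 w'.1.1).map k₀)
        (hmap (hswap (by rw [polar_comm]; exact (mem_pairPerp.1 z.2).1) (by rw [polar_comm]; exact (mem_pairPerp.1 z'.2).1)))
        (hmap (hswap (by rw [polar_comm]; exact (mem_pairPerp.1 z.2).2) (by rw [polar_comm]; exact (mem_pairPerp.1 z'.2).2)))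
        (hmap (hswap hzw hz'w)) (hmap (hswap hzw' hz'w')) (hmap (hswap ht1 ht1'))
        (hmap w.1.2) (hmap w'.1.2) (hmap t.1.1.2) (hmap (hswap ht2 ht2')) ?_ hmem hbot (hall hZ hbot)).elim
      rw [sg_Q]
      show Q1 t.1.1 ≠ 0
      rw [← hc]
      show Q1 (c • u.1.1) ≠ 0
      rw [map_smul']
      exact mul_ne_zero (mul_ne_zero hc0 hc0) hqu
  · obtain ⟨p, hp, hp0⟩ : ∃ p ∈ wSet H (k₀.1 z.1) (k₀.1 z'.1), p ≠ 0 := by
      by_contra hc
      push Not at hc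
      exact hbot ((AddSubgroup.eq_bot_iff_forall _).2 hc)
    refine ⟨_, p.1, hz1, by rw [sg_Q]; exact hzq, hxz, hzx, hp, fun c hc => hp0 ?_⟩
    have h2 := prW_of_mem p.2
    rw [hc, map_smul, prW_apply, hZ.xy, hZ.xx] at h2
    refine Subtype.ext ?_
    rw [hc, ← h2]
    simp

end CfsgLib.MinIdx.Orth
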