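import Cfsg.Agent.Lib.MinIdx.OrthThreeFive
import Cfsg.Agent.Lib.MinIdx.OrthThreeRoot

/-!
# The smallest index of a proper subgroup of `Ω` in odd dimension over three elements
-/

set_option autoImplicit false

namespace CfsgLib.MinIdx.Orth

open QuadraticMap CfsgLib.Geometry

variable {F V : Type*} [Field F] [AddCommGroup V] [Module F V] [FiniteDimensional F V] [Finite F]
  {Q : QuadraticForm F V} {x y : V}

/-- Root sets of index at most nine in dimension seven give the whole group. -/
theorem eq_top_three (hQ : (polarBilin Q).Nondegenerate) (h3 : Nat.card F = 3) (hn : Module.finrank F V = 7)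
    (H : Subgroup (SG Q))
    (hbig : ∀ x : V, x ≠ 0 → Q x = 0 → Nat.card F ^ (Module.finrank F V - 3) ≤ Nat.card (rootSet H x)) : H = ⊤ := by
  haveI : Finite V := Module.finite_of_finite F
  refine eq_top_of_lines hQ (by omega) H fun x y hx0 hx hy hxy hind => ?_
  by_contra hne
  have hy0 : y ≠ 0 := fun h => hind (h ▸ zero_mem _)
  have h1 := (Nat.mul_le_mul (hbig x hx0 hx) (hbig y hy0 hy)).trans (line_count hQ H hx hy hxy hx0 hind hne)
  have h2 := card_lineS_lt hne
  rw [hn, h3] at h1
  rw [h3] at h2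
  have hg : Nat.card (lineS H x y) = 1 := by
    have : 0 < Nat.card (lineS H x y) := Nat.card_pos
    omega
  rw [hg] at h1
  norm_num at h1

/-- The base: dimension seven. -/
theorem three_seven (hQ : (polarBilin Q).Nondegenerate) (h3 : Nat.card F = 3) (hn : Module.finrank F V = 7)
    (h0 : Nat.card {v : V // Q v = 0} = 729) (hp : Nat.card {v : V // Q v = 1} = 756)
    (hm : Nat.card {v : V // Q v = -1} = 702) : Bound Q 702 := by
  have h2 : (2 : F) ≠ 0 := CfsgLib.Classical.two_ne_zero_of_odd_card (by rw [h3]; decide)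
  haveI : Finite V := Module.finite_of_finite F
  refine small_step hQ (by omega) (by rw [h3, hn]; norm_num) (eq_top_three hQ h3 hn)
    (fun H hall {x y} h hw => exists_root_seven hQ hn h2 H hall h hw) fun H {x y} h hne hnt => ?_
  rw [h3, hn]
  have hd := finrank_W h
  have e0 := value_split h (0 : F)
  have e1 := value_split h (1 : F)
  have e2 := value_split h (-1 : F)
  rw [h0, h3, hn] at e0
  rw [hp, h3, hn] at e1
  rw [hm, h3, hn] at e2
  rw [show (3 - 1) * 3 ^ (7 - 2) = 486 by norm_num] at e0 e1 e2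
  have hinv : ∀ l ∈ liftL H h, ∀ v ∈ wSet H x y, l.1 v ∈ wSet H x y := fun l hl v hv => wSet_invariant h hl hv
  obtain ⟨h13, h36⟩ := five_invariant (nondeg_QW h hQ) h3 (by omega) (by omega) (by omega) (by omega)
    (liftL H h) _ hinv hne hnt
  have hl := liftL_index_le H h
  have hcard : Nat.card (pairPerp Q x y) = 3 ^ 5 := by
    rw [Module.natCard_eq_pow_finrank (K := F), h3, show Module.finrank F (pairPerp Q x y) = 5 by omega]
  obtain ⟨i, -, hi⟩ := (Nat.dvd_prime_pow Nat.prime_three).1
    (show (wSet H x y).index ∣ 3 ^ 5 from hcard ▸ AddSubgroup.index_dvd_card _)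
  refine ⟨?_, fun h9 => ?_⟩
  · rcases (show i = 0 ∨ i = 1 ∨ 2 ≤ i by omega) with rfl | rfl | hi2
    · exact absurd (AddSubgroup.index_eq_one.1 hi) hnt
    · have h5 := (h36 hi).trans hl
      rw [hi]
      norm_num
      omega
    · have h5 := Nat.mul_le_mul (show 9 ≤ (wSet H x y).index by
        rw [hi]; exact le_trans (by norm_num) (Nat.pow_le_pow_right (show 0 < 3 by norm_num) hi2)) (h13.trans hl)
      norm_num
      omega
  · have hi3 : 3 ≤ i := by
      by_contra hc
      have := Nat.pow_le_pow_right (show 0 < 3 by norm_num) (show i ≤ 2 by omega)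
      rw [← hi] at this
      omega
    have h5 := Nat.mul_le_mul (show 27 ≤ (wSet H x y).index by
      rw [hi]; exact le_trans (by norm_num) (Nat.pow_le_pow_right (show 0 < 3 by norm_num) hi3)) (h13.trans hl)
    norm_num
    omega

/-- The value counts. -/
theorem value_odd (h3 : Nat.card F = 3) (m : ℕ) :
    Nat.card {v // matQuad (oddMat m F) v = 0} = 3 ^ (2 * m) ∧
      Nat.card {v // matQuad (oddMat m F) v = 1} = 3 ^ (2 * m) + 3 ^ m ∧
      Nat.card {v // matQuad (oddMat m F) v = -1} + 3 ^ m = 3 ^ (2 * m) := by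
  have h2 : (2 : F) ≠ 0 := CfsgLib.Classical.two_ne_zero_of_odd_card (by rw [h3]; decide)
  induction m with
  | zero =>
    have hval : ∀ v, matQuad (oddMat 0 F) v = v (.inl ()) ^ 2 := fun v => by
      simp [coe_matQuad_odd, Cfsg.quadFormOdd]
    have e : ∀ c : F, Nat.card {v // matQuad (oddMat 0 F) v = c} = Nat.card {a : F // a ^ 2 = c} := fun c =>
      Nat.card_congr (Equiv.subtypeEquiv
        { toFun := fun v => v (.inl ())
          invFun := fun a => fun _ => a
          left_inv := fun v => funext fun i => by rcases i with ⟨⟩ | i | i <;> first | rfl | exact i.elim0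
          right_inv := fun a => rfl } fun v => by rw [hval]; rfl)
    simp only [e]
    have hne : (1 : F) ≠ -1 := fun h => h2 (by linear_combination h)
    refine ⟨?_, ?_, ?_⟩
    · rw [show Nat.card {a : F // a ^ 2 = 0} = Nat.card {a : F // a = 0} from
        Nat.card_congr (Equiv.subtypeEquivRight fun a => sq_eq_zero_iff), Nat.card_unique]
      norm_num
    · rw [show Nat.card {a : F // a ^ 2 = 1} = Nat.card ({1, -1} : Set F) from
        Nat.card_congr (Equiv.subtypeEquivRight fun a => by simp [sq_eq_one_iff]), Nat.card_coe_set_eq,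
        Set.ncard_pair hne]
      norm_num
    · haveI : IsEmpty {a : F // a ^ 2 = -1} := ⟨fun ⟨a, ha⟩ => by
        rcases cases3 h3 a with rfl | rfl | rfl <;> norm_num at ha
        · exact hne ha
        · exact hne ha⟩
      simp
  | succ m ih =>
    obtain ⟨i0, i1, i2⟩ := ih
    rw [value_step h2, value_step h2, value_step h2, h3, i0, i1]
    refine ⟨by ring, by ring, ?_⟩
    rw [show (3 - 1) * 3 ^ (2 * m + 1) = 6 * 3 ^ (2 * m) by ring, show 3 ^ (2 * (m + 1)) = 9 * 3 ^ (2 * m) by ring,
      pow_succ' 3 m]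
    omega

/-- The bound in every odd dimension. -/
theorem bound_odd_three (h3 : Nat.card F = 3) (m : ℕ) (hm : 3 ≤ m) :
    Bound (matQuad (oddMat m F)) (3 ^ m * (3 ^ m - 1)) := by
  have h2 : (2 : F) ≠ 0 := CfsgLib.Classical.two_ne_zero_of_odd_card (by rw [h3]; decide)
  induction m, hm using Nat.le_induction with
  | base =>
    obtain ⟨i0, i1, i2⟩ := value_odd (F := F) h3 3
    norm_num at i0 i1 i2
    refine (show (3 : ℕ) ^ 3 * (3 ^ 3 - 1) = 702 by norm_num) ▸
      three_seven (nondegenerate_odd h2 3) h3 (by simp) i0 i1 (by omega)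
  | succ m hm ih =>
    have hQ := nondegenerate_odd (F := F) h2 (m + 1)
    have hd : Module.finrank F (Unit ⊕ (Fin (m + 1) ⊕ Fin (m + 1)) → F) = 2 * m + 3 := by simp; ring
    haveI : Finite (Unit ⊕ (Fin (m + 1) ⊕ Fin (m + 1)) → F) := Pi.finite
    have hP : 27 ≤ 3 ^ m := le_trans (by norm_num) (Nat.pow_le_pow_right (show 0 < 3 by norm_num) hm)
    obtain ⟨P, hPd⟩ : ∃ P, 3 ^ m = P := ⟨_, rfl⟩
    have e1 : 3 ^ (2 * m + 1) = 3 * (P * P) := by rw [← hPd]; ring
    have e2 : 3 ^ (m + 1) * (3 ^ (m + 1) - 1) = 9 * (P * P) - 3 * P := by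
      rw [Nat.mul_sub, mul_one, ← hPd]; congr 1 <;> ring
    have e3 : P * (P - 1) = P * P - P := by rw [Nat.mul_sub, mul_one]
    have hPP : P ≤ P * P := Nat.le_mul_self P
    have hPP2 : 27 * P ≤ P * P := Nat.mul_le_mul_right _ (hPd ▸ hP)
    refine small_step hQ (by omega) ?_ (eq_top_of_big hQ (by omega))
      (fun H hall {x y} h hw => exists_root_of_bot hQ (by omega) (fun h8 => absurd h8 (by omega)) H h hw (hall h hw))
      fun H {x y} h hne hnt => ?_
    · rw [h3, hd, show 2 * m + 3 - 2 = 2 * m + 1 by omega, e1, e2]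
      omega
    rw [h3, hd, show 2 * m + 3 - 2 = 2 * m + 1 by omega, e1, e2]
    have hL : liftL H h ≠ ⊤ := fun h0 => (wSet_cases hQ h (by omega) h0).elim hne hnt
    have hB := (bound_pairs_odd h2 (by omega) ih x y h _ hL).trans (Nat.mul_le_mul_right _ (liftL_index_le H h))
    rw [h3, hPd, e3] at hB
    have hcard : Nat.card (pairPerp (matQuad (oddMat (m + 1) F)) x y) = 3 ^ (2 * m + 1) := by
      have hdW := finrank_W h
      rw [Module.natCard_eq_pow_finrank (K := F), h3]
      congr 1
      omega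
    obtain ⟨i, -, hi⟩ := (Nat.dvd_prime_pow Nat.prime_three).1
      (show (wSet H x y).index ∣ 3 ^ (2 * m + 1) from hcard ▸ AddSubgroup.index_dvd_card _)
    refine ⟨?_, fun h9 => ?_⟩
    · have h3X : 3 ≤ (wSet H x y).index := by
        rcases Nat.eq_zero_or_pos i with rfl | hi0
        · exact absurd (AddSubgroup.index_eq_one.1 hi) hnt
        · rw [hi]; exact Nat.le_self_pow hi0.ne' 3
      have h5 := Nat.mul_le_mul h3X hB
      rw [← mul_assoc] at h5
      omega
    · have hi3 : 3 ≤ i := by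
        by_contra hc
        have := Nat.pow_le_pow_right (show 0 < 3 by norm_num) (show i ≤ 2 by omega)
        rw [← hi] at this
        omega
      have h5 := Nat.mul_le_mul (show 27 ≤ (wSet H x y).index by
        rw [hi]; exact le_trans (by norm_num) (Nat.pow_le_pow_right (show 0 < 3 by norm_num) hi3)) hB
      rw [← mul_assoc] at h5
      omega

/-- The stabiliser of a non-singular line has index half the number of vectors with its value. -/
theorem index_lineStab_three (hQ : (polarBilin Q).Nondegenerate) (h3 : Nat.card F = 3)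
    (hn : 4 ≤ Module.finrank F V) {z : V} {c : F} (hc : c ≠ 0) (hz : Q z = c) :
    (lineStab Q z).index * 2 = Nat.card {v : V // Q v = c} := by
  haveI : Finite V := Module.finite_of_finite F
  have hz0 : z ≠ 0 := fun h => hc (by rw [← hz, h, QuadraticMap.map_zero])
  rw [show 2 = Nat.card Fˣ by rw [Nat.card_units, h3], Subgroup.index, ← Nat.card_prod]
  have hu : ∀ u : Fˣ, (u : F) * u = 1 := fun u => by
    rcases cases3 h3 (u : F) with h | h | h
    · exact absurd h u.ne_zero
    · rw [h]; ring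
    · rw [h]; ring
  refine Nat.card_congr (Equiv.ofBijective
    (fun p => (⟨(p.2 : F) • p.1.out.1 z, by rw [map_smul', sg_Q, hz, hu, one_mul]⟩ : {v : V // Q v = c}))
    ⟨fun a b hab => ?_, fun v => ?_⟩)
  · obtain ⟨g, a⟩ := a
    obtain ⟨k, b⟩ := b
    have h1 : (a : F) • g.out.1 z = (b : F) • k.out.1 z := congrArg Subtype.val hab
    have hgk : g = k := by
      rw [← QuotientGroup.out_eq' g, ← QuotientGroup.out_eq' k]
      refine QuotientGroup.eq.2 ⟨(b : F)⁻¹ * a, mul_ne_zero (inv_ne_zero b.ne_zero) a.ne_zero, ?_⟩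
      rw [sg_mul, mul_smul, eq_inv_smul_iff₀ b.ne_zero, ← map_smul, ← h1, map_smul, sg_inv]
    subst hgk
    refine Prod.ext rfl (Units.ext ?_)
    by_contra hne
    have h2 : ((a : F) - b) • g.out.1 z = 0 := by rw [sub_smul, h1, sub_self]
    exact (smul_ne_zero (sub_ne_zero.2 hne) (sg_ne_zero _ hz0)) h2
  · obtain ⟨s, hs, hsv⟩ := siegel_trans_norm hQ hn (show Q z ≠ 0 by rw [hz]; exact hc)
      (show Q v.1 = Q z by rw [v.2, hz])
    obtain ⟨k, hk⟩ := QuotientGroup.mk_out_eq_mul (lineStab Q z) ⟨s, hs⟩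
    obtain ⟨d, hd, hdz⟩ := k.2
    refine ⟨(QuotientGroup.mk ⟨s, hs⟩, Units.mk0 d⁻¹ (inv_ne_zero hd)), Subtype.ext ?_⟩
    show d⁻¹ • (QuotientGroup.mk (s := lineStab Q z) ⟨s, hs⟩).out.1 z = v.1
    rw [hk, sg_mul, hdz, map_smul, inv_smul_smul₀ hd]
    exact hsv

theorem exists_index_three {ι : Type} [Fintype ι] [DecidableEq ι] {R : QuadraticForm F (ι → F)}
    (hR : (polarBilin R).Nondegenerate) (hn : 5 ≤ Fintype.card ι) (h3 : Nat.card F = 3) {z : ι → F} {c : F}
    (hc : c ≠ 0) (hz : R z = c) :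
    ∃ H : Subgroup (Cfsg.POmega F ⇑R), H.index * 2 = Nat.card {v : ι → F // R v = c} := by
  obtain ⟨π, hπ, hker, -⟩ := exists_proj hR hn
  refine ⟨(lineStab R z).map π, ?_⟩
  rw [Subgroup.index_map_eq _ hπ fun g hg => ?_]
  · exact index_lineStab_three hR h3 (by simp; omega) hc hz
  obtain ⟨t, ht, htg⟩ := hker g hg
  exact ⟨t, ht, htg z⟩

end CfsgLib.MinIdx.Orth
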