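import Cfsg.Agent.Lib.MinIdx.OrthTwoStep

/-!
# The stabiliser of a non-singular vector
-/

set_option autoImplicit false

namespace CfsgLib.MinIdx.Orth

open QuadraticMap CfsgLib.Geometry
open CfsgLib.MinIdx.SpF2 (cases2 two_eq_zero)

variable {F V : Type*} [Field F] [AddCommGroup V] [Module F V] [FiniteDimensional F V] [Finite F]
  {Q : QuadraticForm F V}

/-- The stabiliser of a vector. -/
noncomputable def vecStab (Q : QuadraticForm F V) (z : V) : Subgroup (SG Q) where
  carrier := {g | g.1 z = z}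
  one_mem' := rfl
  mul_mem' := by
    intro a b ha hb
    show (a * b).1 z = z
    rw [sg_mul, show b.1 z = z from hb]
    exact ha
  inv_mem' := by
    intro a ha
    show a⁻¹.1 z = z
    conv_lhs => rw [← show a.1 z = z from ha]
    exact sg_inv a z

theorem index_vecStab (hQ : (polarBilin Q).Nondegenerate) (hn : 4 ≤ Module.finrank F V) {z : V} (hz : Q z = 1) :
    (vecStab Q z).index = Nat.card {v : V // Q v = 1} := by
  refine Nat.card_congr (Equiv.ofBijective
    (fun c => (⟨c.out.1 z, by rw [sg_Q, hz]⟩ : {v : V // Q v = 1})) ⟨fun a b hab => ?_, fun v => ?_⟩)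
  · have h1 : a.out.1 z = b.out.1 z := congrArg Subtype.val hab
    rw [← QuotientGroup.out_eq' a, ← QuotientGroup.out_eq' b]
    refine QuotientGroup.eq.2 ?_
    show (a.out⁻¹ * b.out).1 z = z
    rw [sg_mul, ← h1, sg_inv]
  · obtain ⟨s, hs, hsv⟩ := siegel_trans_norm hQ hn (show Q z ≠ 0 by rw [hz]; exact one_ne_zero)
      (show Q v.1 = Q z by rw [v.2, hz])
    refine ⟨QuotientGroup.mk ⟨s, hs⟩, Subtype.ext ?_⟩
    obtain ⟨k, hk⟩ := QuotientGroup.mk_out_eq_mul (vecStab Q z) ⟨s, hs⟩
    show (QuotientGroup.mk (s := vecStab Q z) ⟨s, hs⟩).out.1 z = v.1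
    rw [hk, sg_mul, show k.1.1 z = z from k.2]
    exact hsv

theorem exists_index_two {ι : Type} [Fintype ι] [DecidableEq ι] {R : QuadraticForm F (ι → F)}
    (hR : (polarBilin R).Nondegenerate) (hn : 5 ≤ Fintype.card ι) (h2 : Nat.card F = 2) {z : ι → F} (hz : R z = 1) :
    ∃ H : Subgroup (Cfsg.POmega F ⇑R), H.index = Nat.card {v : ι → F // R v = 1} := by
  obtain ⟨π, hπ, hker, -⟩ := exists_proj hR hn
  refine ⟨(vecStab R z).map π, ?_⟩
  rw [Subgroup.index_map_eq _ hπ fun g hg => ?_]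
  · exact index_vecStab hR (by simp; omega) hz
  obtain ⟨t, ht, htg⟩ := hker g hg
  show g.1 z = z
  rw [htg, (cases2 h2 t).resolve_left ht, one_smul]

end CfsgLib.MinIdx.Orth
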