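import Cfsg.Agent.Lib.MinIdx.OrthTwoInv

/-!
# A trivial root set in eight dimensions over two elements gives a root element elsewhere
-/

set_option autoImplicit false

namespace CfsgLib.MinIdx.Orth

open QuadraticMap CfsgLib.Geometry
open CfsgLib.MinIdx.SpF2 (cases2 two_eq_zero)

variable {F V : Type*} [Field F] [AddCommGroup V] [Module F V] [FiniteDimensional F V] [Finite F]
  {Q : QuadraticForm F V} {x y : V}

theorem exists_singular_of_pos (hS : 0 < sing Q) : ∃ v, v ≠ 0 ∧ Q v = 0 := by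
  obtain ⟨⟨v, hv⟩⟩ := (Nat.card_pos_iff.1 hS).1
  exact ⟨v, hv⟩

/-- Over two elements in eight dimensions a trivial root set with full Levi part gives a root element elsewhere. -/
theorem exists_root_eight (hQ : (polarBilin Q).Nondegenerate) (h2 : Nat.card F = 2)
    (hn : Module.finrank F V = 8) (hS : sing Q = 135) (H : Subgroup (SG Q)) (h : IsPair Q x y)
    (hw : wSet H x y = ⊥) (htop : liftL H h = ⊤) :
    ∃ z₁ w₁ : V, z₁ ≠ 0 ∧ Q z₁ = 0 ∧ polar Q x z₁ = 0 ∧ (∀ c : F, z₁ ≠ c • x) ∧ w₁ ∈ rootSet H z₁ ∧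
      ∀ c : F, w₁ ≠ c • z₁ := by
  classical
  set Q1 := QW Q x y with hQ1def
  have hQ1 : (polarBilin Q1).Nondegenerate := nondeg_QW h hQ
  have hd := finrank_W h
  -- lifts
  have hex : ∀ g : SG (QW Q x y), ∃ v : pairPerp Q x y, es Q x v.1 * ext h g ∈ H := fun g => by
    obtain ⟨v, hv, hmem⟩ := mem_liftL.1 (htop ▸ Subgroup.mem_top g)
    exact ⟨⟨v, hv⟩, hmem⟩
  choose φ hφ using hex
  have huniq : ∀ g v, es Q x v.1 * ext h g ∈ H → v = φ g := fun g v hv => by
    have h1 := H.mul_mem hv (H.inv_mem (hφ g))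
    rw [mul_inv_rev, mul_assoc, mul_inv_cancel_left, es_inv,
      show -(φ g).1 = (-φ g).1 from rfl, es_w_mul] at h1
    have h2 : v + -φ g ∈ wSet H x y := ⟨(mem_pairPerp.1 (v + -φ g).2).1, h1⟩
    rw [hw, AddSubgroup.mem_bot, add_neg_eq_zero] at h2
    exact h2
  have hmul : ∀ g k, φ (g * k) = φ g + g.1 (φ k) := fun g k => by
    refine (huniq _ _ ?_).symm
    have e : ext h g * es Q x (φ k).1 * (ext h g)⁻¹ = es Q x (g.1 (φ k)).1 := by
      rw [es_conj, ext_x, ext_W]
    have h1 := H.mul_mem (hφ g) (hφ k)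
    rw [show es Q x (φ g).1 * ext h g * (es Q x (φ k).1 * ext h k) =
        es Q x (φ g).1 * (ext h g * es Q x (φ k).1 * (ext h g)⁻¹) * (ext h g * ext h k) by group,
      e, ← map_mul, es_w_mul] at h1
    exact h1
  have hφ1 : φ 1 = 0 := (huniq 1 0 (by simpa [es_zero] using H.one_mem)).symm
  -- three orthogonal pairs in the complement
  have hS1 : sing Q1 = 35 := by
    have := sing_split h2 h
    rw [hS, hn] at this
    norm_num at this
    show sing (QW Q x y) = 35
    omega
  obtain ⟨a, ha0, haq⟩ := exists_singular_of_pos (show 0 < sing (Q1) by omega)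
  obtain ⟨a', ha⟩ := exists_isPair hQ1 ha0 haq
  have hd1 := finrank_W ha
  have hS2 : sing (V := pairPerp Q1 a a') (QW Q1 a a') = 9 := by
    have := sing_split h2 ha
    rw [hS1, show Module.finrank F (pairPerp Q x y) = 6 by omega] at this
    norm_num at this
    omega
  obtain ⟨c, hc0, hcq⟩ := exists_singular_of_pos (show 0 < sing (V := pairPerp Q1 a a') (QW Q1 a a') by omega)
  obtain ⟨c', hcp⟩ := exists_isPair (nondeg_QW ha hQ1) hc0 hcq
  have hd2 := finrank_W hcp
  have hS3 : sing (V := pairPerp (QW Q1 a a') c c') (QW (QW Q1 a a') c c') = 2 := by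
    have := sing_split h2 hcp
    rw [hS2, show Module.finrank F (pairPerp Q1 a a') = 4 by omega] at this
    norm_num at this
    omega
  obtain ⟨e, he0, heq⟩ := exists_singular_of_pos (show 0 < sing (V := pairPerp (QW Q1 a a') c c') (QW (QW Q1 a a') c c') by omega)
  obtain ⟨e', hep⟩ := exists_isPair (nondeg_QW hcp (nondeg_QW ha hQ1)) he0 heq
  obtain ⟨hac, ha'c⟩ := mem_pairPerp.1 c.2
  obtain ⟨hac', ha'c'⟩ := mem_pairPerp.1 c'.2
  obtain ⟨hae, ha'e⟩ := mem_pairPerp.1 e.1.2
  obtain ⟨hae', ha'e'⟩ := mem_pairPerp.1 e'.1.2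
  have hce : polar Q1 c.1 e.1.1 = 0 := (mem_pairPerp.1 e.2).1
  have hc'e : polar Q1 c'.1 e.1.1 = 0 := (mem_pairPerp.1 e.2).2
  have hce' : polar Q1 c.1 e'.1.1 = 0 := (mem_pairPerp.1 e'.2).1
  have hc'e' : polar Q1 c'.1 e'.1.1 = 0 := (mem_pairPerp.1 e'.2).2
  have hee' : polar Q1 e.1.1 e'.1.1 = 1 := hep.xy
  have hself : ∀ u : pairPerp Q x y, polar Q1 u u = 0 := fun u => by rw [polar_self', two_eq_zero h2, zero_mul]
  obtain ⟨b, hb⟩ : ∃ b, b = e.1.1 + e'.1.1 := ⟨_, rfl⟩
  have hbq : Q1 b = 1 := by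
    rw [hb, map_add', show Q1 e.1.1 = 0 from hep.qx, show Q1 e'.1.1 = 0 from hep.qy, hee']; simp
  have hab : polar Q1 a b = 0 := by rw [hb, polar_add_right, hae, hae', add_zero]
  have ha'b : polar Q1 a' b = 0 := by rw [hb, polar_add_right, ha'e, ha'e', add_zero]
  have hcb : polar Q1 c.1 b = 0 := by rw [hb, polar_add_right, hce, hce', add_zero]
  have hc'b : polar Q1 c'.1 b = 0 := by rw [hb, polar_add_right, hc'e, hc'e', add_zero]
  have hbe : polar Q1 b e.1.1 = 1 := by rw [hb, polar_add_left, hself, polar_comm, hee', zero_add]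
  obtain ⟨g, hg⟩ : ∃ g, g = es Q1 a b := ⟨_, rfl⟩
  obtain ⟨v, hv⟩ : ∃ v, v = φ g := ⟨_, rfl⟩
  have hgap : ∀ p, g.1 p = p + polar Q1 p a • b - (polar Q1 p b + polar Q1 p a) • a := fun p => by
    rw [hg, es_apply haq hab, hbq]; module
  have hvfix : g.1 v = v := by
    have h1 := hmul g g
    have hgg : g * g = 1 := by rw [hg, es_mul a hab hab, smul_two h2, es_zero]
    rw [hgg, hφ1, ← hv] at h1
    have h3 : v + v = 0 := smul_two h2 v
    linear_combination (norm := module) -h1 - h3
  have hva : polar Q1 v a = 0 := by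
    have h1 := congrArg (fun p => polar Q1 p e.1.1) hvfix
    simp only [hgap, polar_sub_left, polar_add_left, polar_smul_left', hbe, hae] at h1
    linear_combination h1
  have hvb : polar Q1 v b = 0 := by
    have h1 := congrArg (fun p => polar Q1 p a') hvfix
    simp only [hgap, polar_sub_left, polar_add_left, polar_smul_left', hva, polar_comm Q1 b a', ha'b, ha.xy] at h1
    linear_combination -h1
  have hcomm : ∀ u : pairPerp Q x y, Q1 u = 0 → polar Q1 u b = 0 → polar Q1 u a = 0 →
      ∀ u', polar Q1 u u' = 1 → polar Q1 b u' = 0 → polar Q1 a u' = 0 → polar Q1 v u = 0 := by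
    intro u hu hub hua u' huu' hbu' hau'
    have e : es Q1 u b * g = g * es Q1 u b := by
      have hk1 : (es Q1 u b).1 a = a := es_fix hu hub (by rw [polar_comm]; exact hua) hab
      have hk2 : (es Q1 u b).1 b = b := es_fix hu hub (by rw [polar_comm]; exact hub) (hself b)
      have := es_conj (es Q1 u b) a b
      rw [hk1, hk2, ← hg] at this
      calc es Q1 u b * g = es Q1 u b * g * (es Q1 u b)⁻¹ * es Q1 u b := by group
        _ = g * es Q1 u b := by rw [this]
    have h1 := congrArg φ e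
    rw [hmul, hmul, hgap, es_apply hu hub, ← hv, hvb, hbq] at h1
    have h3 := congrArg (fun p => polar Q1 p u') h1
    simp only [polar_sub_left, polar_add_left, polar_smul_left', huu', hbu', hau'] at h3
    linear_combination -h3
  have hvc : polar Q1 v c.1 = 0 := hcomm c.1 hcq hcb (by rw [polar_comm]; exact hac) c'.1 hcp.xy
    (by rw [polar_comm]; exact hc'b) hac'
  have hvc' : polar Q1 v c'.1 = 0 := hcomm c'.1 hcp.qy hc'b (by rw [polar_comm]; exact hac') c.1 hcp.yx
    (by rw [polar_comm]; exact hcb) hac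
  obtain ⟨c₁, hc₁⟩ : ∃ c₁, c₁ = polar Q1 v a' := ⟨_, rfl⟩
  obtain ⟨l, hl⟩ : ∃ l, l = polar Q1 v e'.1.1 := ⟨_, rfl⟩
  have hdec : v = c₁ • a + l • b := by
    let p₁ : pairPerp Q1 a a' := ⟨prW Q1 a a' v, prW_mem ha v⟩
    let p₂ : pairPerp (QW Q1 a a') c c' := ⟨prW (QW Q1 a a') c c' p₁, prW_mem hcp p₁⟩
    have e1 := decompW (Q := Q1) (x := a) (y := a') v
    rw [hva, zero_smul, add_zero, ← hc₁] at e1
    have e2 : p₂.1.1 = p₁.1 := by
      have := congrArg Subtype.val (decompW (Q := QW Q1 a a') (x := c) (y := c') p₁)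
      rw [show polar (QW Q1 a a') p₁ c = 0 from (polar_prW v c.2).trans hvc,
        show polar (QW Q1 a a') p₁ c' = 0 from (polar_prW v c'.2).trans hvc', zero_smul, zero_smul,
        add_zero, add_zero] at this
      exact this
    have hp2 : prW (QW (QW Q1 a a') c c') e e' p₂ = 0 := by
      have h1 := card_split hep
      have h4 : Nat.card (pairPerp (QW Q1 a a') c c') = 4 := by
        rw [Module.natCard_eq_pow_finrank (K := F), h2,
          show Module.finrank F (pairPerp (QW Q1 a a') c c') = 2 by omega]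
        norm_num
      rw [h4, h2] at h1
      obtain ⟨hsub, -⟩ := Nat.card_eq_one_iff_unique.1
        (show Nat.card (pairPerp (QW (QW Q1 a a') c c') e e') = 1 by omega)
      exact congrArg Subtype.val (hsub.elim ⟨_, prW_mem hep p₂⟩ ⟨0, Submodule.zero_mem _⟩)
    have e3 := decompW (Q := QW (QW Q1 a a') c c') (x := e) (y := e') p₂
    rw [hp2, zero_add] at e3
    have e4 : polar Q1 v e'.1.1 • e.1.1 + polar Q1 v e.1.1 • e'.1.1 = p₂.1.1 := by
      have := congrArg (fun p => p.1.1) e3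
      rw [show polar (QW (QW Q1 a a') c c') p₂ e' = polar Q1 v e'.1.1 from
          (congrArg (fun p => polar Q1 p e'.1.1) e2).trans (polar_prW v e'.1.2),
        show polar (QW (QW Q1 a a') c c') p₂ e = polar Q1 v e.1.1 from
          (congrArg (fun p => polar Q1 p e.1.1) e2).trans (polar_prW v e.1.2)] at this
      exact this
    have hle : polar Q1 v e.1.1 = l := by
      rw [hb, polar_add_right, ← hl] at hvb
      linear_combination hvb - l * two_eq_zero h2
    rw [hle, ← hl, ← smul_add, ← hb, e2] at e4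
    rw [← e1]
    show p₁.1 + _ = _
    rw [← e4, add_comm]
  -- a conjugate of the lift is a root element
  set s := l • a' + (-c₁ - l) • e.1.1 with hs
  have hgs : g.1 s - s = v := by
    rw [hdec, hgap, hs]
    simp only [polar_add_left, polar_smul_left', ha.yx, polar_comm Q1 e.1.1 a, hae, ha'b,
      polar_comm Q1 e.1.1 b, hbe]
    module
  set k₀ := es Q x (-s).1
  have hk₀ : k₀ * ext h g * k₀⁻¹ ∈ H := by
    have e : ext h g * es Q x s.1 * (ext h g)⁻¹ = es Q x (g.1 s).1 := by rw [es_conj, ext_x, ext_W]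
    have e2 : es Q x v.1 * ext h g = es Q x (-s).1 * es Q x (g.1 s).1 * ext h g := by
      rw [es_w_mul, ← hgs]; congr 2; abel
    have := hφ g
    rw [← hv, e2, ← e] at this
    convert this using 1
    show es Q x (-s).1 * ext h g * (es Q x (-s).1)⁻¹ = _
    rw [es_inv, show -(-s).1 = s.1 from by simp]
    group
  have habV : polar Q a.1 b.1 = 0 := hab
  have hgV : ext h g = es Q a.1 b.1 := by rw [hg]; exact ext_es h (e := a) (w := b) haq habV
  rw [hgV, es_conj] at hk₀
  have hx0 : k₀.1 x = x := by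
    rw [es_apply h.qx (mem_pairPerp.1 (-s).2).1, h.xx, (mem_pairPerp.1 (-s).2).1]
    simp
  have hinj : Function.Injective k₀.1 := k₀.1.injective
  refine ⟨k₀.1 a.1, k₀.1 b.1, sg_ne_zero _ fun h0 => ha0 (Subtype.ext h0), by rw [sg_Q]; exact haq, ?_,
    fun d hd => ha0 ?_, ⟨by rw [sg_polar]; exact habV, hk₀⟩, fun d hd => ?_⟩
  · have h1 := sg_polar k₀ x a.1
    rw [hx0] at h1
    rw [h1]
    exact (mem_pairPerp.1 a.2).1
  · have h1 : a.1 = d • x := hinj (by rw [hd, map_smul, hx0])
    have h2 := prW_of_mem a.2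
    rw [h1, map_smul, prW_apply, h.xy, h.xx] at h2
    refine Subtype.ext ?_
    rw [h1, ← h2]
    simp
  · have h1 : b = d • a := Subtype.ext (hinj (by rw [hd, ← map_smul]; rfl))
    rw [h1, map_smul', haq, mul_zero] at hbq
    exact zero_ne_one hbq

end CfsgLib.MinIdx.Orth
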