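import Cfsg.Agent.Lib.MinIdx.OrthTwoRoot
import Cfsg.Agent.Lib.MinIdx.OrthBound

/-!
# The smallest index of a proper subgroup of `Ω⁺` over two elements
-/

set_option autoImplicit false

namespace CfsgLib.MinIdx.Orth

open QuadraticMap CfsgLib.Geometry
open CfsgLib.MinIdx.SpF2 (cases2 two_eq_zero)

variable {F V : Type*} [Field F] [AddCommGroup V] [Module F V] [FiniteDimensional F V] [Finite F]
  {Q : QuadraticForm F V} {x y : V}

/-- An invariant subgroup of index two gives a fixed vector. -/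
theorem six_hyperplane (hQ : (polarBilin Q).Nondegenerate) (h2 : Nat.card F = 2) (hn : Module.finrank F V = 6)
    (hS : sing Q = 35) (L : Subgroup (SG Q)) (U : AddSubgroup V) (hU : ∀ l ∈ L, ∀ v ∈ U, l.1 v ∈ U)
    (hidx : U.index = 2) : 28 ≤ L.index := by
  classical
  haveI : Finite V := Module.finite_of_finite F
  let W : Submodule F V :=
    { U with
      smul_mem' := fun c v hv => by
        rcases cases2 h2 c with rfl | rfl
        · rw [zero_smul]; exact U.zero_mem
        · rwa [one_smul] }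
  let P := LinearMap.BilinForm.orthogonal (polarBilin Q) W
  have hW : Module.finrank F W + 1 = 6 := by
    have h1 := U.index_mul_card
    rw [hidx, show Nat.card U = Nat.card W from rfl, Module.natCard_eq_pow_finrank (K := F) (V := W),
      Module.natCard_eq_pow_finrank (K := F) (V := V), h2, hn, ← pow_succ'] at h1
    exact Nat.pow_right_injective le_rfl h1
  have hP : Nat.card P = 2 := by
    rw [Module.natCard_eq_pow_finrank (K := F), h2,
      show Module.finrank F P = 1 by rw [LinearMap.BilinForm.finrank_orthogonal hQ W, hn]; omega, pow_one]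
  obtain ⟨p, hp, hp0⟩ : ∃ p ∈ P, p ≠ 0 := Submodule.exists_mem_ne_zero_of_ne_bot fun h => by
    rw [h] at hP
    simp at hP
  refine six_fixed hQ h2 hn hS L hp0 fun l hl => ?_
  have hlp : l.1 p ∈ P := fun u hu => by
    show polar Q u (l.1 p) = 0
    rw [← sg_inv' l u, sg_polar]
    exact hp _ (hU _ (L.inv_mem hl) u hu)
  by_contra hne
  haveI := Fintype.ofFinite P
  have h3 := Finset.card_le_univ ({⟨_, hlp⟩, ⟨p, hp⟩, 0} : Finset P)
  rw [Finset.card_insert_of_notMem (by simp [Subtype.ext_iff, hne, sg_ne_zero l hp0]),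
    Finset.card_pair (by simp [Subtype.ext_iff, hp0]), ← Nat.card_eq_fintype_card, hP] at h3
  omega

/-- One step. -/
theorem plus_two_step (hQ : (polarBilin Q).Nondegenerate) (h2 : Nat.card F = 2) {k : ℕ} (hk : 3 ≤ k)
    (hn : Module.finrank F V = 2 * k + 2)
    (hroot : ∀ (H : Subgroup (SG Q)) {x y : V} (h : IsPair Q x y), wSet H x y = ⊥ → liftL H h = ⊤ →
      ∃ z₁ w₁ : V, z₁ ≠ 0 ∧ Q z₁ = 0 ∧ polar Q x z₁ = 0 ∧ (∀ c : F, z₁ ≠ c • x) ∧ w₁ ∈ rootSet H z₁ ∧
        ∀ c : F, w₁ ≠ c • z₁)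
    (hcase : ∀ (H : Subgroup (SG Q)) {x y : V} (h : IsPair Q x y), wSet H x y ≠ ⊥ → wSet H x y ≠ ⊤ →
      2 ^ (2 * k) - 2 ^ k ≤ (wSet H x y).index * (liftM H h).index ∧
        (8 ≤ (wSet H x y).index → 2 ^ k * (2 ^ (k + 1) - 1) ≤ (wSet H x y).index * (liftM H h).index)) :
    Bound Q (2 ^ k * (2 ^ (k + 1) - 1)) := by
  classical
  intro H hH
  rw [h2, show 2 - 1 = 1 from rfl, mul_one]
  by_contra hlt
  push Not at hlt
  haveI : Finite V := Module.finite_of_finite F
  haveI : Finite (SG Q) := finite_sg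
  haveI : ∀ a b : V, Finite (Mstab Q a b) := fun a b => finite_mstab
  have e0 : 2 ^ k * (2 ^ (k + 1) - 1) = 2 ^ (2 * k + 1) - 2 ^ k := by
    rw [Nat.mul_sub, mul_one, ← pow_add]; congr 2; omega
  have hlt' : H.index < 2 ^ (2 * k + 1) - 2 ^ k := e0 ▸ hlt
  have hW : ∀ {x y : V}, IsPair Q x y → Nat.card (pairPerp Q x y) = 2 ^ (2 * k) := fun {x y} h => by
    rw [Module.natCard_eq_pow_finrank (K := F), h2, show Module.finrank F (pairPerp Q x y) = 2 * k by
      have := finrank_W h; omega]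
  have hne : ∀ {x y : V}, IsPair Q x y → wSet H x y ≠ ⊥ := by
    intro x y h hw
    have hidx : (wSet H x y).index = 2 ^ (2 * k) := by rw [hw, AddSubgroup.index_bot, hW h]
    have htop : liftM H h = ⊤ := by
      refine Subgroup.index_eq_one.1 ?_
      have h1 := index_ge H h
      rw [hidx] at h1
      have h0 : 0 < (liftM H h).index := Nat.pos_of_ne_zero Subgroup.index_ne_zero_of_finite
      by_contra hne
      have h3 := (Nat.mul_le_mul_left (2 ^ (2 * k)) (show 2 ≤ (liftM H h).index by omega)).trans h1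
      rw [← pow_succ] at h3
      exact absurd h3 (not_le.2 (hlt'.trans_le (Nat.sub_le _ _)))
    obtain ⟨z, w, hz0, hz, hxz, hzx, hwz, hwne⟩ := hroot H h hw
      (eq_top_iff.2 fun g _ => show extM h g ∈ liftM H h from htop ▸ Subgroup.mem_top _)
    obtain ⟨s, hs, hsx⟩ := siegel_trans_singular hQ (by omega) hz0 h.x_ne hz h.qx
    obtain ⟨g₀, hg₀def⟩ : ∃ g₀ : SG Q, g₀ = ⟨s, hs⟩ := ⟨_, rfl⟩
    have hg₀ : g₀.1 z = x := by rw [hg₀def]; exact hsx
    set H' := cj H g₀
    have hne : wSet H' x y ≠ ⊥ := by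
      intro h0
      have h1 : g₀.1 w ∈ rootSet H' x := hg₀ ▸ (rootSet_cj H g₀ z w).2 hwz
      have h2 : (⟨_, prW_mem h (g₀.1 w)⟩ : pairPerp Q x y) ∈ wSet H' x y := prW_rootSet h h1
      rw [h0, AddSubgroup.mem_bot] at h2
      have h3 : prW Q x y (g₀.1 w) = 0 := congrArg Subtype.val h2
      have h4 := decompW (Q := Q) (x := x) (y := y) (g₀.1 w)
      rw [h3, polar_comm Q _ x, h1.1, zero_smul, add_zero, zero_add, ← hg₀, ← map_smul] at h4
      exact hwne _ (g₀.1.injective h4).symm
    have hnt : wSet H' x y ≠ ⊤ := by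
      intro h0
      have hall : ∀ v, polar Q z v = 0 → v ∈ rootSet H z := fun v hv => by
        rw [← rootSet_cj H g₀, hg₀]
        have h1 : polar Q x (g₀.1 v) = 0 := by rw [← hg₀, sg_polar, hv]
        rw [← decompW (Q := Q) (x := x) (y := y) (g₀.1 v), polar_comm Q (g₀.1 v) x, h1, zero_smul, add_zero]
        exact (rootSet H' x).add_mem (show (⟨_, prW_mem h (g₀.1 v)⟩ : pairPerp Q x y) ∈ wSet H' x y from
          h0 ▸ AddSubgroup.mem_top _) (line_mem_rootSet H' h.qx _)
      have h1 := hall x (by rw [polar_comm, hxz])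
      have h2 : -z ∈ rootSet H x := by
        refine ⟨by rw [polar_neg_right, hxz, neg_zero], ?_⟩
        rw [show -z = -(1 : F) • z by module, ← es_swap hz h.qx (by rw [polar_comm, hxz]), one_smul]
        exact h1.2
      have h3 : (⟨_, prW_mem h (-z)⟩ : pairPerp Q x y) ∈ wSet H x y := prW_rootSet h h2
      rw [hw, AddSubgroup.mem_bot] at h3
      have h3' : prW Q x y (-z) = 0 := congrArg Subtype.val h3
      have h4 := decompW (Q := Q) (x := x) (y := y) z
      rw [map_neg, neg_eq_zero] at h3'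
      rw [h3', polar_comm Q z x, hxz, zero_smul, add_zero, zero_add] at h4
      exact hzx _ h4.symm
    have hdiff : ∀ k ∈ H, ∀ d : F, k.1 z ≠ d • x := by
      intro k hk d hd
      have hd0 : d ≠ 0 := fun h0 => sg_ne_zero k hz0 (by rw [hd, h0, zero_smul])
      have h1 := rootSet_map hk hwz
      rw [hd] at h1
      have h2 := prW_rootSet h ((rootSet_smul h.qx hd0).1 h1)
      have h3 : (⟨_, prW_mem h (d • k.1 w)⟩ : pairPerp Q x y) ∈ wSet H x y := h2
      rw [hw, AddSubgroup.mem_bot] at h3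
      have h4 : prW Q x y (d • k.1 w) = 0 := congrArg Subtype.val h3
      have h5 := decompW (Q := Q) (x := x) (y := y) (d • k.1 w)
      rw [h4, polar_comm Q _ x, ((rootSet_smul h.qx hd0).1 h1).1, zero_smul, add_zero, zero_add] at h5
      set e := polar Q (d • k.1 w) y
      refine hwne (d⁻¹ * (e * d⁻¹)) (k.1.injective ?_)
      rw [map_smul, hd, smul_smul, show d⁻¹ * (e * d⁻¹) * d = d⁻¹ * e by field_simp, mul_smul, h5,
        inv_smul_smul₀ hd0]
    have hl := (hcase H' h hne hnt).1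
    have hsum := index_ge_two H h hg₀ hdiff
    rw [hidx, htop, Subgroup.index_top, mul_one] at hsum
    have h5 : 2 ^ (2 * k + 1) = 2 * 2 ^ (2 * k) := pow_succ' 2 _
    have h6 : 2 ^ k ≤ 2 ^ (2 * k) := Nat.pow_le_pow_right two_pos (by omega)
    have h7 : 2 ^ (2 * k) + (2 ^ (2 * k) - 2 ^ k) ≤ H.index := (Nat.add_le_add_left hl _).trans hsum
    omega
  refine hH (eq_top_of_big hQ (by omega) H fun x hx0 hx => ?_)
  obtain ⟨y, h⟩ := exists_isPair hQ hx0 hx
  rw [card_rootSet H h, h2, show Module.finrank F V - 3 = 2 * k - 1 by omega]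
  have hX : (wSet H x y).index ≤ 4 := by
    by_cases htop : wSet H x y = ⊤
    · rw [htop, AddSubgroup.index_top]; omega
    obtain ⟨i, -, hi⟩ := (Nat.dvd_prime_pow Nat.prime_two).1
      (show (wSet H x y).index ∣ 2 ^ (2 * k) from hW h ▸ AddSubgroup.index_dvd_card _)
    rw [hi]
    by_contra h4
    have hi3 : 3 ≤ i := by
      by_contra hi3
      exact h4 (Nat.pow_le_pow_right two_pos (show i ≤ 2 by omega))
    have := ((hcase H h (hne h) htop).2 (by rw [hi]; exact Nat.pow_le_pow_right two_pos hi3)).trans (index_ge H h)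
    omega
  have h3 := (wSet H x y).index_mul_card
  rw [hW h] at h3
  have h4 : 2 * 2 ^ (2 * k - 1) = 2 ^ (2 * k) := by rw [← pow_succ']; congr 1; omega
  have h5 : (wSet H x y).index * Nat.card (wSet H x y) ≤ 4 * Nat.card (wSet H x y) := Nat.mul_le_mul_right _ hX
  omega

/-- Eight dimensions. -/
theorem plus_two_eight (hQ : (polarBilin Q).Nondegenerate) (h2 : Nat.card F = 2) (hn : Module.finrank F V = 8)
    (hS : sing Q = 135) : Bound Q (2 ^ 3 * (2 ^ (3 + 1) - 1)) := by
  refine plus_two_step hQ h2 le_rfl (by omega)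
    (fun H {x y} h hw htop => exists_root_eight hQ h2 hn hS H h hw htop) fun H {x y} h hne hnt => ?_
  haveI : Finite V := Module.finite_of_finite F
  have hd := finrank_W h
  have hS1 : sing (QW Q x y) = 35 := by
    have := sing_split h2 h
    rw [hS, hn] at this
    norm_num at this
    omega
  have hcard : Nat.card (pairPerp Q x y) = 2 ^ 6 := by
    rw [Module.natCard_eq_pow_finrank (K := F), h2, show Module.finrank F (pairPerp Q x y) = 6 by omega]
  have hinv : ∀ l ∈ liftL H h, ∀ v ∈ wSet H x y, l.1 v ∈ wSet H x y := fun l hl v hv => wSet_invariant h hl hv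
  have h15 : 15 ≤ (liftM H h).index :=
    (six_invariant (nondeg_QW h hQ) h2 (by omega) hS1 _ _ hinv hne hnt).trans (liftL_index_le H h)
  obtain ⟨i, -, hi⟩ := (Nat.dvd_prime_pow Nat.prime_two).1
    (show (wSet H x y).index ∣ 2 ^ 6 from hcard ▸ AddSubgroup.index_dvd_card _)
  refine ⟨?_, fun h8 => le_trans (by norm_num) (Nat.mul_le_mul h8 h15)⟩
  rcases (show i = 0 ∨ i = 1 ∨ 2 ≤ i by omega) with rfl | rfl | hi2
  · exact absurd (AddSubgroup.index_eq_one.1 hi) hnt
  · have h28 := (six_hyperplane (nondeg_QW h hQ) h2 (by omega) hS1 _ _ hinv hi).trans (liftL_index_le H h)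
    rw [hi]
    norm_num
    omega
  · exact le_trans (by norm_num) (Nat.mul_le_mul (hi ▸ Nat.pow_le_pow_right two_pos hi2 : 2 ^ 2 ≤ (wSet H x y).index) h15)

theorem plus_two_bound (h2 : Nat.card F = 2) (k : ℕ) (hk : 3 ≤ k) :
    Bound (matQuad (plusMat (k + 1) F)) (2 ^ k * (2 ^ (k + 1) - 1)) := by
  induction k, hk using Nat.le_induction with
  | base =>
    refine plus_two_eight (nondegenerate_plus _) h2 (by simp) ?_
    rw [sing_plus, h2]
    norm_num
  | succ k hk ih =>
    have hQ := nondegenerate_plus (F := F) (k + 1 + 1)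
    have hd : Module.finrank F (Fin (k + 1 + 1) ⊕ Fin (k + 1 + 1) → F) = 2 * (k + 1) + 2 := by simp; ring
    refine plus_two_step hQ h2 (by omega) hd
      (fun H {x y} h hw htop => exists_root_of_bot hQ (by omega) (fun h8 => absurd h8 (by omega)) H h hw htop)
      fun H {x y} h hne hnt => ?_
    haveI : Finite (Fin (k + 1 + 1) ⊕ Fin (k + 1 + 1) → F) := Pi.finite
    have hL : liftL H h ≠ ⊤ := fun h0 => (wSet_cases hQ h (by omega) h0).elim hne hnt
    have hB := bound_pairs_plus (by omega) ih x y h _ hL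
    rw [h2, show 2 - 1 = 1 from rfl, mul_one] at hB
    replace hB := hB.trans (liftL_index_le H h)
    have e1 : 2 * (2 ^ k * (2 ^ (k + 1) - 1)) = 2 ^ (2 * (k + 1)) - 2 ^ (k + 1) := by
      rw [← mul_assoc, ← pow_succ', Nat.mul_sub, mul_one, ← pow_add, two_mul]
    refine ⟨?_, fun h8 => ?_⟩
    · have h3 : 2 ≤ (wSet H x y).index := by
        have := (AddSubgroup.index_eq_one (H := wSet H x y)).not.2 hnt
        have := AddSubgroup.index_ne_zero_of_finite (H := wSet H x y)
        omega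
      rw [← e1]
      exact Nat.mul_le_mul h3 hB
    · refine le_trans ?_ (Nat.mul_le_mul h8 hB)
      calc 2 ^ (k + 1) * (2 ^ (k + 1 + 1) - 1) ≤ 2 ^ (k + 1) * (4 * (2 ^ (k + 1) - 1)) := by
            refine Nat.mul_le_mul_left _ ?_
            have : 2 ≤ 2 ^ (k + 1) := Nat.le_self_pow (by omega) 2
            rw [pow_succ' 2 (k + 1)]
            omega
        _ = _ := by rw [pow_succ' 2 k]; ring

end CfsgLib.MinIdx.Orth
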