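import Cfsg.Agent.Lib.MinIdx.SpIso
import Cfsg.Agent.Lib.KnownA.SpGen.Closure

/-!
# A proper subgroup of `Sp` containing a full transvection group has large index
-/

set_option autoImplicit false

namespace CfsgLib.MinIdx

open Matrix CfsgLib.Classical CfsgLib.KnownA.SpGen

variable {F : Type*} [Field F] [Finite F] {m : ℕ} {H : Subgroup (Matrix.symplecticGroup (Fin m) F)}

omit [Finite F] in
theorem full_comb {v w : Fin m ⊕ Fin m → F} (hv : Full H v) (hw : Full H w) (h : sbil v w ≠ 0) (a b : F) :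
    Full H (a • v + b • w) := by
  rcases eq_or_ne b 0 with rfl | hb
  · simpa using hv.smul a
  refine ((hw.move (hv (a / b / sbil v w)) (w := w + (a / b) • v) ?_).smul b).cast ?_
  · rw [stv_mulVec, div_mul_cancel₀ _ h]
  · rw [smul_add, smul_smul, mul_div_cancel₀ _ hb, add_comm]

/-- Non-degenerate and consisting of full vectors. -/
def IsFullPart (H : Subgroup (Matrix.symplecticGroup (Fin m) F)) (W : Submodule F (Fin m ⊕ Fin m → F)) : Prop :=
  SNondeg W ∧ W ≠ ⊥ ∧ ∀ v ∈ W, Full H v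

omit [Finite F] in
theorem IsFullPart.map {W : Submodule F (Fin m ⊕ Fin m → F)} (hW : IsFullPart H W)
    {g : Matrix.symplecticGroup (Fin m) F} (hg : g ∈ H) : IsFullPart H (W.map (act g)) := by
  refine ⟨?_, fun h => hW.2.1 ?_, ?_⟩
  · rintro _ ⟨u, hu, rfl⟩ hu0
    obtain ⟨z, hz, huz⟩ := hW.1 u hu (fun h => hu0 (by rw [h, map_zero]))
    exact ⟨_, ⟨z, hz, rfl⟩, by rwa [act_apply, act_apply, sbil_mulVec]⟩
  · exact Submodule.map_injective_of_injective (act_injective g) (h.trans (Submodule.map_bot _).symm)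
  · rintro _ ⟨u, hu, rfl⟩
    exact (hW.2.2 u hu).move hg rfl

omit [Finite F] in
theorem sbil_span_eq_zero {S : Set (Fin m ⊕ Fin m → F)} (hS : Submodule.span F S = ⊤) {p : Fin m ⊕ Fin m → F}
    (h : ∀ z ∈ S, sbil z p = 0) : p = 0 := by
  by_contra h0
  obtain ⟨y, hy⟩ := exists_sbil_eq_one h0
  have : ∀ z ∈ Submodule.span F S, sbil z p = 0 := fun z hz => by
    induction hz using Submodule.span_induction with
    | mem z hz => exact h z hz
    | zero => simp [sbil]
    | add a b _ _ ha hb => rw [sbil_add_left, ha, hb, add_zero]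
    | smul c a _ ha => rw [sbil_smul_left, ha, mul_zero]
  have h1 := this y (hS ▸ Submodule.mem_top)
  rw [sbil_swap p y, hy] at h1
  simp at h1

/-- Full vectors lie in a maximal full part or are orthogonal to it. -/
theorem mem_or_mem_perp (hq : 3 ≤ Nat.card F) (hspan : Submodule.span F {v | Full H v} = ⊤)
    {W : Submodule F (Fin m ⊕ Fin m → F)} (hW : IsFullPart H W)
    (hmax : ∀ W', IsFullPart H W' → Module.finrank F W' ≤ Module.finrank F W)
    {u : Fin m ⊕ Fin m → F} (hu : Full H u) :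
    u ∈ W ∨ u ∈ (CfsgLib.Geometry.sympBilin m F).orthogonal W := by
  classical
  let P := (CfsgLib.Geometry.sympBilin m F).orthogonal W
  obtain ⟨hP, hsup⟩ := snondeg_perp hW.1
  by_contra hcon
  push Not at hcon
  obtain ⟨w, hw, p, hp, rfl⟩ := Submodule.mem_sup.1 (show u ∈ W ⊔ P from hsup ▸ Submodule.mem_top)
  have hWP : ∀ {a b}, a ∈ W → b ∈ P → sbil a b = 0 ∧ sbil b a = 0 := fun {a b} ha hb => by
    have h := mem_perp_iff.1 hb a ha
    exact ⟨h, by rw [sbil_swap a b, h, neg_zero]⟩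
  have hw0 : w ≠ 0 := by rintro rfl; exact hcon.2 (by rwa [zero_add])
  have hp0 : p ≠ 0 := by rintro rfl; exact hcon.1 (by rwa [add_zero])
  obtain ⟨w₁, hw₁, hw₁0, p₁, hp₁, hz, hne⟩ :
      ∃ w₁ ∈ W, w₁ ≠ 0 ∧ ∃ p₁ ∈ P, Full H (w₁ + p₁) ∧ sbil p p₁ ≠ 0 := by
    obtain ⟨z, hzf, hzp⟩ : ∃ z, Full H z ∧ sbil z p ≠ 0 := by
      by_contra hc
      push Not at hc
      exact hp0 (sbil_span_eq_zero hspan hc)
    obtain ⟨w₁, hw₁, p₁, hp₁, rfl⟩ := Submodule.mem_sup.1 (show z ∈ W ⊔ P from hsup ▸ Submodule.mem_top)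
    rw [sbil_add_left, (hWP hw₁ hp).1, zero_add, sbil_swap p p₁, neg_ne_zero] at hzp
    rcases eq_or_ne w₁ 0 with rfl | h0
    · rw [zero_add] at hzf
      refine ⟨w, hw, hw0, p + p₁, P.add_mem hp hp₁, ?_, by rwa [sbil_add_right, sbil_self, zero_add]⟩
      have := full_comb hu hzf (by rwa [sbil_add_left, (hWP hw hp₁).1, zero_add]) 1 1
      rwa [one_smul, one_smul, add_assoc] at this
    · exact ⟨w₁, hw₁, h0, p₁, hp₁, hzf, hzp⟩
  have hA : ∀ {a₀ c : Fin m ⊕ Fin m → F}, a₀ ∈ W → a₀ ≠ 0 → c ∈ P → Full H (a₀ + c) →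
      ∀ b ∈ W, b ≠ 0 → ∀ α : F, Full H (b + α • c) := by
    intro a₀ c ha₀ ha₀0 hc hfull b hb hb0 α
    rcases eq_or_ne α 0 with rfl | hα
    · simpa using hW.2.2 b hb
    have step : ∀ a ∈ W, ∀ b ∈ W, sbil a b ≠ 0 → Full H (a + c) → Full H (b + c) := by
      intro a ha b hb hab hf
      have := full_comb hf (hW.2.2 _ (W.sub_mem hb ha))
        (by rwa [sbil_add_left, (hWP (W.sub_mem hb ha) hc).2, add_zero, sbil_sub_right, sbil_self, sub_zero]) 1 1
      rwa [one_smul, one_smul, add_right_comm, add_sub_cancel] at this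
    have hb' : α⁻¹ • b ∈ W := W.smul_mem _ hb
    have hb'0 : α⁻¹ • b ≠ 0 := smul_ne_zero (inv_ne_zero hα) hb0
    obtain ⟨d, hd, h1, h2⟩ := exists_sbil_ne_zero_both (hW.1 a₀ ha₀ ha₀0) (hW.1 _ hb' hb'0)
    exact ((step d hd _ hb' (by rwa [sbil_swap _ d, neg_ne_zero]) (step a₀ ha₀ d hd h1 hfull)).smul α).cast
      (by rw [smul_add, smul_inv_smul₀ hα])
  haveI := Fintype.ofFinite F
  obtain ⟨t, ht0, ht1⟩ : ∃ t : F, t ≠ 0 ∧ t ≠ 1 := by
    obtain ⟨t, -, ht⟩ := Finset.exists_mem_notMem_of_card_lt_card (s := ({0, 1} : Finset F)) (t := Finset.univ)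
      (by rw [Finset.card_univ, ← Nat.card_eq_fintype_card]; exact lt_of_le_of_lt (Finset.card_le_two) (by omega))
    simp at ht
    exact ⟨t, ht.1, ht.2⟩
  have hB : ∀ b ∈ W, ∀ α β : F, α ≠ 0 → β ≠ 0 → Full H (b + α • p + β • p₁) := by
    intro b hb α β hα hβ
    obtain ⟨a, ha, ha0, hba0, hab⟩ : ∃ a ∈ W, a ≠ 0 ∧ b - a ≠ 0 ∧ sbil a (b - a) = 0 := by
      rcases eq_or_ne b 0 with rfl | hb0
      · exact ⟨w, hw, hw0, by rwa [zero_sub, neg_ne_zero],
          by rw [zero_sub, ← neg_one_smul F w, sbil_smul_right, sbil_self, mul_zero]⟩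
      · refine ⟨t • b, W.smul_mem _ hb, smul_ne_zero ht0 hb0, ?_, by
          rw [sbil_sub_right, sbil_smul_left, sbil_self, sbil_self, mul_zero, sub_zero]⟩
        rw [show b - t • b = (1 - t) • b by rw [sub_smul, one_smul]]
        exact smul_ne_zero (sub_ne_zero.2 ht1.symm) hb0
    have := full_comb (hA hw hw0 hp hu a ha ha0 α) (hA hw₁ hw₁0 hp₁ hz (b - a) (W.sub_mem hb ha) hba0 β)
      (by
        rw [sbil_add_left, sbil_add_right, sbil_add_right, hab, sbil_smul_left, sbil_smul_left, sbil_smul_right,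
          sbil_smul_right, (hWP ha hp₁).1, (hWP (W.sub_mem hb ha) hp).2]
        simp [hne, hα, hβ]) 1 1
    exact this.cast (by module)
  have hall : ∀ b ∈ W, ∀ α β : F, Full H (b + α • p + β • p₁) := by
    intro b hb α β
    rcases eq_or_ne β 0 with rfl | hβ <;> rcases eq_or_ne α 0 with rfl | hα
    · simpa using hW.2.2 b hb
    · rcases eq_or_ne b 0 with rfl | hb0
      · have := full_comb (hB w hw α 1 hα one_ne_zero) (hA hw₁ hw₁0 hp₁ hz (-w) (W.neg_mem hw) (neg_ne_zero.2 hw0) (-1))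
          (by
            rw [← neg_one_smul F w]
            simp only [sbil_add_left, sbil_add_right, sbil_smul_left, sbil_smul_right, sbil_self,
              (hWP hw hp₁).1, (hWP hw hp₁).2, (hWP hw hp).2]
            simp [hne, hα]) 1 1
        exact this.cast (by module)
      · simpa using hA hw hw0 hp hu b hb hb0 α
    · rcases eq_or_ne b 0 with rfl | hb0
      · have := full_comb (hB w hw 1 β one_ne_zero hβ) (hA hw hw0 hp hu (-w) (W.neg_mem hw) (neg_ne_zero.2 hw0) (-1))
          (by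
            rw [← neg_one_smul F w]
            simp only [sbil_add_left, sbil_add_right, sbil_smul_left, sbil_smul_right, sbil_self,
              (hWP hw hp₁).2, (hWP hw hp).1, (hWP hw hp).2, sbil_swap p p₁]
            simp [hne, hβ]) 1 1
        exact this.cast (by module)
      · simpa using hA hw₁ hw₁0 hp₁ hz b hb hb0 β
    · exact hB b hb α β hα hβ
  have hbig : IsFullPart H (W ⊔ Submodule.span F {p, p₁}) := by
    have hform : ∀ x ∈ W ⊔ Submodule.span F {p, p₁}, ∃ b ∈ W, ∃ α β : F, x = b + α • p + β • p₁ := by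
      intro x hx
      obtain ⟨b, hb, y, hy, rfl⟩ := Submodule.mem_sup.1 hx
      obtain ⟨α, β, rfl⟩ := Submodule.mem_span_pair.1 hy
      exact ⟨b, hb, α, β, by rw [add_assoc]⟩
    refine ⟨fun x hx hx0 => ?_, fun h => hW.2.1 (le_bot_iff.1 (h ▸ le_sup_left)), fun x hx => ?_⟩
    · obtain ⟨b, hb, α, β, rfl⟩ := hform x hx
      rcases eq_or_ne b 0 with rfl | hb0
      · rcases eq_or_ne α 0 with rfl | hα
        · refine ⟨p, Submodule.mem_sup_right (Submodule.subset_span (by simp)), ?_⟩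
          simp only [zero_smul, add_zero, zero_add, sbil_smul_left, sbil_swap p p₁]
          exact mul_ne_zero (fun h => hx0 (by simp [h])) (neg_ne_zero.2 hne)
        · refine ⟨p₁, Submodule.mem_sup_right (Submodule.subset_span (by simp)), ?_⟩
          simp only [zero_add, sbil_add_left, sbil_smul_left, sbil_self, mul_zero, add_zero]
          exact mul_ne_zero hα hne
      · obtain ⟨z, hzW, hbz⟩ := hW.1 b hb hb0
        refine ⟨z, Submodule.mem_sup_left hzW, ?_⟩
        simpa [sbil_add_left, sbil_smul_left, (hWP hzW hp).2, (hWP hzW hp₁).2] using hbz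
    · obtain ⟨b, hb, α, β, rfl⟩ := hform x hx
      exact hall b hb α β
  have hpW : p ∉ W := fun h => hp0 ((Submodule.disjoint_def.1 (snondeg_disjoint hW.1)) p h hp)
  have hlt : W < W ⊔ Submodule.span F {p, p₁} :=
    lt_of_le_of_ne le_sup_left fun h => hpW (h.symm ▸ Submodule.mem_sup_right (Submodule.subset_span (by simp)))
  exact absurd (hmax _ hbig) (not_le.2 (Submodule.finrank_lt_finrank_of_lt hlt))

/-- The index of a proper subgroup containing a full transvection group. -/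
theorem bound_of_full (hq : 3 ≤ Nat.card F) (hne : H ≠ ⊤) {v : Fin m ⊕ Fin m → F} (hv0 : v ≠ 0)
    (hv : Full H v) : Nat.card F ^ (2 * m) - 1 ≤ H.index * (Nat.card F - 1) := by
  classical
  let S := Submodule.span F {w | Full H w}
  by_cases hS : S = ⊤
  swap
  · refine bound_of_subspace hq (fun h => hv0 ?_) hS fun g hg x hx => ?_
    · exact (Submodule.mem_bot F).1 (h ▸ Submodule.subset_span hv)
    · have hle : S ≤ S.comap (act g) := Submodule.span_le.2 fun w hw =>
        Submodule.subset_span (Full.move hg hw rfl)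
      exact hle hx
  obtain ⟨w, hw, hvw⟩ : ∃ w, Full H w ∧ sbil w v ≠ 0 := by
    by_contra hc
    push Not at hc
    exact hv0 (sbil_span_eq_zero hS hc)
  have h₀ : IsFullPart H (Submodule.span F {w, v}) := by
    refine ⟨fun x hx hx0 => ?_, fun h => hv0 ((Submodule.mem_bot F).1 (h ▸ Submodule.subset_span (by simp))),
      fun x hx => ?_⟩
    · obtain ⟨a, b, rfl⟩ := Submodule.mem_span_pair.1 hx
      rcases eq_or_ne a 0 with rfl | ha
      · refine ⟨w, Submodule.subset_span (by simp), ?_⟩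
        simp only [zero_smul, zero_add, sbil_smul_left, sbil_swap w v]
        exact mul_ne_zero (fun h => hx0 (by simp [h])) (neg_ne_zero.2 hvw)
      · refine ⟨v, Submodule.subset_span (by simp), ?_⟩
        simp only [sbil_add_left, sbil_smul_left, sbil_self, mul_zero, add_zero]
        exact mul_ne_zero ha hvw
    · obtain ⟨a, b, rfl⟩ := Submodule.mem_span_pair.1 hx
      exact full_comb hw hv hvw a b
  haveI : Finite (Submodule F (Fin m ⊕ Fin m → F)) := Finite.of_injective _ SetLike.coe_injective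
  obtain ⟨W, hW, hmax⟩ := Set.exists_max_image {W | IsFullPart H W} (fun W => Module.finrank F W)
    (Set.toFinite _) ⟨_, h₀⟩
  have hWtop : W ≠ ⊤ := fun h => hne (sp_eq_top_of_stv_mem H fun a x => hW.2.2 x (h ▸ Submodule.mem_top) a)
  let D : Set (Submodule F (Fin m ⊕ Fin m → F)) := (fun g => W.map (act g)) '' (H : Set _)
  have hdim : ∀ X ∈ D, Module.finrank F X = Module.finrank F W := by
    rintro _ ⟨g, -, rfl⟩
    exact (Submodule.equivMapOfInjective _ (act_injective g) W).finrank_eq.symm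
  have hfp : ∀ X ∈ D, IsFullPart H X := by rintro _ ⟨g, hg, rfl⟩; exact hW.map hg
  have hparts : OrthParts D := by
    refine ⟨fun X hX => (hfp X hX).1, fun X hX => (hfp X hX).2.1, ?_⟩
    intro X hX Y hY hXY u hu z hz
    have key := fun y (hy : y ∈ Y) => mem_or_mem_perp hq hS (hfp X hX)
      (fun W' h' => (hdim X hX).symm ▸ hmax W' h') ((hfp Y hY).2.2 y hy)
    have hYP : Y ≤ (CfsgLib.Geometry.sympBilin m F).orthogonal X := by
      by_contra hYP
      obtain ⟨y₀, hy₀, hy₀P⟩ := SetLike.not_le_iff_exists.1 hYP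
      have hy₀X := (key y₀ hy₀).resolve_right hy₀P
      refine hXY (Submodule.eq_of_le_of_finrank_eq ?_ (by rw [hdim X hX, hdim Y hY])).symm
      intro y hy
      by_contra hyX
      rcases key (y + y₀) (add_mem hy hy₀) with h | h
      · exact hyX (by simpa using sub_mem h hy₀X)
      · exact hy₀P (by simpa using sub_mem h ((key y hy).resolve_left hyX))
    exact mem_perp_iff.1 (hYP hz) u hu
  have hinv : ∀ g ∈ H, (Submodule.map (act g)) '' D = D := by
    intro g hg
    refine Set.eq_of_subset_of_subset ?_ ?_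
    · rintro _ ⟨_, ⟨k, hk, rfl⟩, rfl⟩
      exact ⟨g * k, mul_mem hg hk, map_act_mul g k W⟩
    · rintro _ ⟨k, hk, rfl⟩
      exact ⟨W.map (act (g⁻¹ * k)), ⟨_, mul_mem (inv_mem hg) hk, rfl⟩, by rw [← map_act_mul, mul_inv_cancel_left]⟩
  by_cases hfix : ∀ g ∈ H, W.map (act g) = W
  · exact bound_of_subspace hq hW.2.1 hWtop fun g hg x hx => hfix g hg ▸ ⟨x, hx, rfl⟩
  · push Not at hfix
    obtain ⟨g, hg, hgW⟩ := hfix
    have hWD : W ∈ D := ⟨1, H.one_mem, by
      show W.map (act 1) = W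
      rw [show act (1 : Matrix.symplecticGroup (Fin m) F) = LinearMap.id from
        LinearMap.ext fun x => sp_one_mulVec x, Submodule.map_id]⟩
    exact bound_of_equal_parts hq hparts hinv hdim (show W.map (act g) ∈ D from ⟨g, hg, rfl⟩) hWD hgW

end CfsgLib.MinIdx
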