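import Cfsg.Agent.Lib.MinIdx.SpStruct

/-!
# Subgroups of `Sp` fixing a proper subspace have large index
-/

set_option autoImplicit false

namespace CfsgLib.MinIdx

open Matrix CfsgLib.Classical

variable {F : Type*} [Field F] [Finite F] {m : ℕ}

theorem iso_arith {q : ℕ} (hq : 2 ≤ q) : ∀ j : ℕ, q ^ (j + 1) - 1 ≤ (q + 1) ^ j * (q - 1) := by
  intro j
  induction j with
  | zero => simp
  | succ j ih =>
    have h1 : q ≤ q ^ (j + 1) := Nat.le_self_pow (by omega) _
    calc q ^ (j + 1 + 1) - 1 ≤ (q + 1) * (q ^ (j + 1) - 1) := by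
          rw [Nat.mul_sub, add_mul, one_mul, mul_one, pow_succ' q (j + 1)]; omega
      _ ≤ (q + 1) * ((q + 1) ^ j * (q - 1)) := Nat.mul_le_mul_left _ ih
      _ = _ := by rw [pow_succ' (q + 1) j, mul_assoc]

/-- The point of the projective line inside the `i`-th coordinate plane. -/
def linePt (i : Fin m) : Option F → (Fin m ⊕ Fin m → F)
  | some a => Pi.single (.inl i) 1 + a • Pi.single (.inr i) 1
  | none => Pi.single (.inr i) 1

omit [Finite F] in
theorem linePt_other {i j : Fin m} (h : j ≠ i) (o : Option F) :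
    linePt i o (.inl j) = 0 ∧ linePt i o (.inr j) = 0 := by
  cases o <;> simp [linePt, h]

omit [Finite F] in
theorem linePt_self_ne (i : Fin m) (o : Option F) : linePt i o (.inl i) ≠ 0 ∨ linePt i o (.inr i) ≠ 0 := by
  cases o <;> simp [linePt]

omit [Finite F] in
theorem linePt_inj (i : Fin m) {o o' : Option F} (c : F)
    (h₁ : linePt i o (.inl i) = c * linePt i o' (.inl i)) (h₂ : linePt i o (.inr i) = c * linePt i o' (.inr i)) :
    o = o' := by
  cases o <;> cases o' <;> simp [linePt] at h₁ h₂ ⊢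
  · subst h₁; simp at h₂
  · subst h₁; simpa using h₂

omit [Finite F] in
theorem linePt_orth {n : ℕ} (σ : Fin n → Fin m) (hσ : Function.Injective σ) (o : Fin n → Option F)
    (a b : Fin n) : Cfsg.sympForm m F (linePt (σ a) (o a)) (linePt (σ b) (o b)) = 0 := by
  rw [CfsgLib.Geometry.sympForm_eq]
  refine Finset.sum_eq_zero fun i _ => ?_
  by_cases ha : i = σ a
  · by_cases hb : i = σ b
    · have := hσ (ha.symm.trans hb)
      subst this
      ring
    · simp [(linePt_other hb (o b)).1, (linePt_other hb (o b)).2]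
  · simp [(linePt_other ha (o a)).1, (linePt_other ha (o a)).2]

omit [Finite F] in
theorem sum_linePt_apply {n : ℕ} (σ : Fin n → Fin m) (hσ : Function.Injective σ) (o : Fin n → Option F)
    (c : Fin n → F) (j : Fin n) :
    (∑ i, c i • linePt (σ i) (o i)) (.inl (σ j)) = c j * linePt (σ j) (o j) (.inl (σ j)) ∧
      (∑ i, c i • linePt (σ i) (o i)) (.inr (σ j)) = c j * linePt (σ j) (o j) (.inr (σ j)) := by
  constructor <;>
  · rw [Finset.sum_apply, Finset.sum_eq_single j (fun i _ hij => ?_) (by simp)]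
    · simp
    · simp [(linePt_other (fun h => hij (hσ h).symm) (o i)).1, (linePt_other (fun h => hij (hσ h).symm) (o i)).2]

omit [Finite F] in
theorem linePt_indep {n : ℕ} (σ : Fin n → Fin m) (hσ : Function.Injective σ) (o : Fin n → Option F) :
    LinearIndependent F fun i => linePt (σ i) (o i) := by
  rw [Fintype.linearIndependent_iff]
  intro c hc j
  obtain ⟨h1, h2⟩ := sum_linePt_apply σ hσ o c j
  rw [hc] at h1 h2
  rcases linePt_self_ne (σ j) (o j) with h | h
  · exact (mul_eq_zero.1 h1.symm).resolve_right h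
  · exact (mul_eq_zero.1 h2.symm).resolve_right h

/-- Stabilisers of non-zero totally isotropic subspaces. -/
theorem bound_of_isotropic {H : Subgroup (Matrix.symplecticGroup (Fin m) F)}
    {W : Submodule F (Fin m ⊕ Fin m → F)} (hW : ∀ u ∈ W, ∀ v ∈ W, sbil u v = 0) (hbot : W ≠ ⊥)
    (hH : ∀ g ∈ H, W.map (act g) = W) :
    Nat.card F ^ (2 * m) - 1 ≤ H.index * (Nat.card F - 1) := by
  classical
  let q := Nat.card F
  have hq : 2 ≤ q := Finite.one_lt_card
  obtain ⟨j, hj⟩ : ∃ j, Module.finrank F W = j + 1 :=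
    ⟨Module.finrank F W - 1, by have := Submodule.one_le_finrank_iff.2 hbot; omega⟩
  have hkm : j + 1 ≤ m := by
    have h1 : W ≤ (CfsgLib.Geometry.sympBilin m F).orthogonal W := fun u hu => mem_perp_iff.2 fun w hw => hW w hw u hu
    have h2 := Submodule.finrank_mono h1
    have := finrank_perp W
    omega
  let bs := Module.finBasisOfFinrankEq F W hj
  let σ : Fin (j + 1) → Fin m := Fin.castLE hkm
  have hσ : Function.Injective σ := Fin.castLE_injective _
  let f : Matrix.symplecticGroup (Fin m) F → Submodule F (Fin m ⊕ Fin m → F) := fun g => W.map (act g)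
  have hidx : Nat.card (Set.range f) ≤ H.index := card_range_le_index H f fun g h hh => by
    show W.map (act (g * h)) = W.map (act g)
    rw [map_act_mul, hH h hh]
  haveI : Finite (Submodule F (Fin m ⊕ Fin m → F)) := Finite.of_injective _ SetLike.coe_injective
  let R : Set.range f → {v : Fin m ⊕ Fin m → F // v ≠ 0} → Prop := fun E v => v.1 ∈ E.1
  have key := double_count R (q ^ (j + 1) - 1) ((q + 1) ^ j) ?_ ?_
  · rw [show Nat.card {v : Fin m ⊕ Fin m → F // v ≠ 0} = q ^ (2 * m) - 1 by
      haveI := Fintype.ofFinite (Fin m ⊕ Fin m → F)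
      rw [← card_vec (F := F) (m := m), Nat.card_eq_fintype_card, Nat.card_eq_fintype_card,
        Fintype.card_subtype_compl, Fintype.card_subtype_eq]] at key
    refine Nat.le_of_mul_le_mul_right (c := (q + 1) ^ j) ?_ (pow_pos (by omega) j)
    calc (q ^ (2 * m) - 1) * (q + 1) ^ j ≤ Nat.card (Set.range f) * (q ^ (j + 1) - 1) := key
      _ ≤ H.index * ((q + 1) ^ j * (q - 1)) := Nat.mul_le_mul hidx (iso_arith hq j)
      _ = H.index * (q - 1) * (q + 1) ^ j := by ring
  · rintro ⟨_, g, rfl⟩
    show Nat.card {v : {v : Fin m ⊕ Fin m → F // v ≠ 0} // v.1 ∈ W.map (act g)} ≤ _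
    rw [card_ne_zero_sub, ← (Submodule.equivMapOfInjective _ (act_injective g) W).finrank_eq, hj]
  · rintro ⟨v, hv⟩
    let o : (Fin j → Option F) → Fin (j + 1) → Option F := fun c => Fin.cons (some 0) c
    let w : (Fin j → Option F) → Fin (j + 1) → (Fin m ⊕ Fin m → F) := fun c i => linePt (σ i) (o c i)
    have hx : linePt (σ 0) (some (0 : F)) ≠ 0 := fun h => by
      rcases linePt_self_ne (σ 0) (some (0 : F)) with h' | h' <;> exact h' (by rw [h]; rfl)
    obtain ⟨g, hg⟩ := exists_sp_map hx hv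
    have hbs : LinearIndependent F fun i => ((bs i : W) : Fin m ⊕ Fin m → F) :=
      bs.linearIndependent.map' W.subtype W.ker_subtype
    choose k hk using fun c => CfsgLib.Geometry.sp_extend m F (fun i => ((bs i : W) : Fin m ⊕ Fin m → F)) (w c)
      hbs (linePt_indep σ hσ (o c)) (fun a b => by
        rw [linePt_orth σ hσ (o c) a b]
        exact hW _ (bs a).2 _ (bs b).2)
    let F₁ : (Fin j → Option F) → {E : Set.range f // R E ⟨v, hv⟩} := fun c =>
      ⟨⟨f (g * k c), _, rfl⟩, (bs 0).1, (bs 0).2, by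
        rw [act_apply, sp_mul_mulVec, hk c 0]
        exact hg⟩
    have hspan : ∀ c, ∀ x ∈ W.map (act (k c)), ∃ a : Fin (j + 1) → F, ∑ i, a i • w c i = x := by
      rintro c _ ⟨y, hy, rfl⟩
      refine ⟨fun i => bs.repr ⟨y, hy⟩ i, ?_⟩
      have h0 := congrArg (Submodule.subtype W) (bs.sum_repr ⟨y, hy⟩)
      rw [map_sum] at h0
      simp only [Submodule.subtype_apply, Submodule.coe_smul] at h0
      conv_rhs => rw [← h0, map_sum]
      exact Finset.sum_congr rfl fun i _ => by rw [map_smul, act_apply, hk c i]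
    have hF₁ : Function.Injective F₁ := by
      intro c c' he
      have he' : W.map (act (k c)) = W.map (act (k c')) := by
        have h := congrArg (fun E => E.1.1) he
        change W.map (act (g * k c)) = W.map (act (g * k c')) at h
        rw [map_act_mul, map_act_mul] at h
        exact Submodule.map_injective_of_injective (act_injective g) h
      funext i
      obtain ⟨a, ha⟩ := hspan c' (w c i.succ) (he' ▸ ⟨(bs i.succ).1, (bs i.succ).2, hk c i.succ⟩)
      obtain ⟨h1, h2⟩ := sum_linePt_apply σ hσ (o c') a i.succ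
      rw [ha] at h1 h2
      have := linePt_inj (σ i.succ) (a i.succ) h1 h2
      simpa [o] using this
    refine le_trans (le_of_eq ?_) (Nat.card_le_card_of_injective F₁ hF₁)
    rw [Nat.card_fun, Nat.card_fin, Finite.card_option]

/-- Stabilisers of proper non-zero subspaces. -/
theorem bound_of_subspace (hq : 3 ≤ Nat.card F) {H : Subgroup (Matrix.symplecticGroup (Fin m) F)}
    {S : Submodule F (Fin m ⊕ Fin m → F)} (hbot : S ≠ ⊥) (htop : S ≠ ⊤)
    (hH : ∀ g ∈ H, ∀ v ∈ S, g.1 *ᵥ v ∈ S) :
    Nat.card F ^ (2 * m) - 1 ≤ H.index * (Nat.card F - 1) := by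
  have hS : ∀ g ∈ H, S.map (act g) = S := fun g hg =>
    Submodule.eq_of_le_of_finrank_eq (by rintro _ ⟨v, hv, rfl⟩; exact hH g hg v hv)
      (Submodule.equivMapOfInjective _ (act_injective g) S).finrank_eq.symm
  let R : Submodule F (Fin m ⊕ Fin m → F) := S ⊓ (CfsgLib.Geometry.sympBilin m F).orthogonal S
  by_cases hR : R = ⊥
  · refine bound_of_nondeg hq (fun u hu hu0 => ?_) hbot htop hS
    by_contra hcon
    push Not at hcon
    exact hu0 ((Submodule.eq_bot_iff _).1 hR u ⟨hu, mem_perp_iff.2 fun w hw => by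
      rw [sbil_swap u w, hcon w hw, neg_zero]⟩)
  · refine bound_of_isotropic (W := R) (fun u hu v hv => mem_perp_iff.1 hv.2 u hu.1) hR fun g hg =>
      Submodule.eq_of_le_of_finrank_eq ?_ (Submodule.equivMapOfInjective _ (act_injective g) R).finrank_eq.symm
    rintro _ ⟨v, hv, rfl⟩
    replace hv : v ∈ S ∧ v ∈ (CfsgLib.Geometry.sympBilin m F).orthogonal S := Submodule.mem_inf.1 hv
    refine ⟨hH g hg v hv.1, mem_perp_iff.2 fun w hw => ?_⟩
    obtain ⟨z, hz, rfl⟩ : w ∈ S.map (act g) := (hS g hg).symm ▸ hw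
    rw [act_apply, act_apply, sbil_mulVec]
    exact mem_perp_iff.1 hv.2 z hz

end CfsgLib.MinIdx
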