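import Cfsg.Agent.Lib.MinIdx.SpParab
import Cfsg.Agent.Lib.MinIdx.SpIso
import Cfsg.Agent.Lib.MinIdx.OrthCount
import Cfsg.Agent.Lib.KnownA.SpGen.Closure
import Cfsg.Agent.Lib.Classical.SympSimple

/-!
# Either a root group, or large Heisenberg intersections
-/

set_option autoImplicit false

namespace CfsgLib.MinIdx

open Matrix CfsgLib.Classical CfsgLib.KnownA.SpGen

variable {F : Type*} [Field F] [Finite F] {n : ℕ}

/-- `K` contains a full root group. -/
def RootIn (K : Subgroup (HP F n)) : Prop :=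
  (∀ c, (⟨1, 1, 0, c⟩ : HP F n) ∈ K) ∨
    ∃ (u : HP F n) (w : Fin n ⊕ Fin n → F), w ≠ 0 ∧ ∀ c, u⁻¹ * ⟨1, stv c w, 0, 0⟩ * u ∈ K

omit [Finite F] in
theorem jn_zero : jn (0 : F) 0 (0 : Fin n ⊕ Fin n → F) = 0 := by
  funext i; rcases i with i | i <;> refine Fin.cases ?_ (fun j => ?_) i <;> rfl

omit [Finite F] in
theorem toSp_center (c : F) : toSp F n ⟨1, 1, 0, c⟩ = stv c (e₀ F n) := by
  show heis 0 c * levi F n 1 = _
  rw [map_one, mul_one, heis, sroot_congr _ jn_zero rfl, sroot_zero]

omit [Finite F] in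
theorem levi_stv (c : F) (w : Fin n ⊕ Fin n → F) :
    toSp F n ⟨1, stv c w, 0, 0⟩ = stv c (jn 0 0 w) := by
  show heis 0 0 * levi F n (1, stv c w) = _
  rw [show heis (0 : Fin n ⊕ Fin n → F) 0 = 1 by rw [heis, sroot_congr _ jn_zero rfl, sroot_one], one_mul]
  refine sp_ext fun x => ?_
  rw [← jn_pr x, levi_mulVec, stv_mulVec, stv_mulVec, sbil_jn, jn_smul, jn_add]
  simp

omit [Finite F] in
theorem full_of_rootIn {H : Subgroup (Matrix.symplecticGroup (Fin (n + 1)) F)}
    (h : RootIn (H.comap (toSp F n))) : ∃ v ≠ 0, Full H v := by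
  rcases h with h | ⟨u, w, hw, hu⟩
  · exact ⟨e₀ F n, e₀_ne, fun c => toSp_center c ▸ h c⟩
  · refine ⟨((toSp F n u)⁻¹).1 *ᵥ jn 0 0 w, sp_mulVec_ne_zero _ fun h0 => ?_, fun c => ?_⟩
    · have h1 := congrArg pr h0
      rw [pr_jn] at h1
      exact hw (h1.trans (by funext i; rcases i with i | i <;> rfl))
    · have h1 := hu c
      rw [Subgroup.mem_comap, map_mul, map_mul, map_inv, levi_stv] at h1
      rw [← stv_conj]
      simpa using h1

theorem sp_card_pos : 2 ≤ Nat.card F := Finite.one_lt_card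

theorem card_hyperplane_index (A : AddSubgroup (Fin n ⊕ Fin n → F)) :
    A.index * Nat.card A = Nat.card F ^ (2 * n) := by
  rw [A.index_mul_card, card_vec]

/-- With a trivial Heisenberg part there is a root group. -/
theorem rootIn_of_vecImage_bot (hq : 3 ≤ Nat.card F) (hn : 1 ≤ n)
    (hperf : commutator (Matrix.symplecticGroup (Fin n) F) = ⊤) (K : Subgroup (HP F n))
    (hidx : K.index * (Nat.card F - 1) < Nat.card F ^ (2 * n + 2) - 1) (hvec : vecImage K = ⊥) : RootIn K := by
  classical
  by_cases hcen : cenImage K = ⊤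
  · exact Or.inl fun c => (mem_cenImage K).1 (hcen ▸ AddSubgroup.mem_top c)
  let q := Nat.card F
  have hV : (vecImage K).index = q ^ (2 * n) := by
    have := card_hyperplane_index (vecImage K)
    rwa [hvec, AddSubgroup.card_bot, mul_one, ← hvec] at this
  have hφ := card_le_index_mul (torImage K) (cenImage K) hcen (fun a ha z hz => cenImage_sq K ha hz) 2
    card_sqrt_one_le.1
  change q ≤ _ at hφ
  -- `ι φ (q - 1) < q ^ 2`
  have hmain : (levImage K).index * ((torImage K).index * (cenImage K).index) * (q - 1) < q ^ 2 := by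
    refine Nat.lt_of_mul_lt_mul_right (a := q ^ (2 * n)) ?_
    calc (levImage K).index * ((torImage K).index * (cenImage K).index) * (q - 1) * q ^ (2 * n)
        = K.index * (q - 1) := by rw [index_eq, hV]; ring
      _ < q ^ (2 * n + 2) - 1 := hidx
      _ ≤ q ^ (2 * n + 2) := Nat.sub_le _ _
      _ = q ^ 2 * q ^ (2 * n) := by rw [← pow_add, add_comm]
  have hlev : levImage K = ⊤ := by
    have h2 : (levImage K).index ≤ 2 := by
      by_contra h3
      push Not at h3
      have : 3 * q * (q - 1) ≤ 2 * ((levImage K).index * ((torImage K).index * (cenImage K).index) * (q - 1)) := by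
        calc 3 * q * (q - 1) ≤ (levImage K).index * (2 * ((torImage K).index * (cenImage K).index)) * (q - 1) :=
              Nat.mul_le_mul_right _ (Nat.mul_le_mul h3 hφ)
          _ = _ := by ring
      obtain ⟨s, hs⟩ : ∃ s, q = s + 3 := ⟨q - 3, by omega⟩
      rw [hs] at this hmain
      simp only [Nat.add_succ_sub_one] at this hmain
      nlinarith
    rcases Nat.lt_or_ge (levImage K).index 2 with h1 | h1
    · refine Subgroup.index_eq_one.1 ?_
      have := (levImage K).index_ne_zero_of_finite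
      omega
    · have hnorm : (levImage K).Normal := Subgroup.normal_of_index_eq_two (le_antisymm h2 h1)
      have hle : commutator _ ≤ levImage K := by
        haveI := hnorm
        haveI : IsCyclic (Matrix.symplecticGroup (Fin n) F ⧸ levImage K) :=
          isCyclic_of_prime_card (p := 2) (le_antisymm h2 h1)
        exact Subgroup.Normal.quotient_commutative_iff_commutator_le.1 ⟨⟨fun a b => IsCyclic.commGroup.mul_comm a b⟩⟩
      exact top_le_iff.1 (hperf ▸ hle)
  obtain ⟨a, ha, ha1⟩ : ∃ a ∈ torImage K, a ≠ 1 := by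
    by_contra hc
    push Not at hc
    have hbot : torImage K = ⊥ := (Subgroup.eq_bot_iff_forall _).2 hc
    rw [hlev, Subgroup.index_top, one_mul, hbot, Subgroup.index_bot, Nat.card_units] at hmain
    change (q - 1) * _ * (q - 1) < q ^ 2 at hmain
    have hci : 2 ≤ (cenImage K).index := by
      rcases Nat.lt_or_ge (cenImage K).index 2 with h | h
      · have := (cenImage K).index_ne_zero_of_finite
        exact absurd (AddSubgroup.index_eq_one.1 (by omega)) hcen
      · exact h
    rcases Nat.lt_or_ge 3 q with h4 | h4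
    · obtain ⟨s, hs⟩ : ∃ s, q = s + 4 := ⟨q - 4, by omega⟩
      rw [hs] at hmain
      simp only [Nat.add_succ_sub_one] at hmain
      have h5 : (s + 3) * 2 * (s + 3) ≤ (s + 3) * (cenImage K).index * (s + 3) :=
        Nat.mul_le_mul_right _ (Nat.mul_le_mul_left _ hci)
      nlinarith
    · have hq3 : q = 3 := by omega
      have hci3 : (cenImage K).index = 3 := by
        have hd : (cenImage K).index ∣ 3 := hq3 ▸ (cenImage K).index_dvd_card
        rcases (Nat.dvd_prime (by norm_num)).1 hd with h | h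
        · omega
        · exact h
      rw [hq3, hci3] at hmain
      omega
  obtain ⟨u, hu⟩ := levi_le_of_vecImage_bot K hperf hlev hvec ha ha1
  exact Or.inr ⟨u, Pi.single (.inl ⟨0, hn⟩) 1, fun h => one_ne_zero
    (((Pi.single_eq_same _ _).symm.trans (congrFun h _)) : (1 : F) = 0), fun c => hu _⟩

/-- A full Levi image forces the whole vector part, when non-zero. -/
theorem vecImage_eq_top (hperf : commutator (Matrix.symplecticGroup (Fin n) F) = ⊤) (K : Subgroup (HP F n))
    (hlev : levImage K = ⊤) (hvec : vecImage K ≠ ⊥) : vecImage K = ⊤ := by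
  obtain ⟨v, hv, hv0⟩ : ∃ v ∈ vecImage K, v ≠ 0 := by
    by_contra hc
    push Not at hc
    exact hvec ((AddSubgroup.eq_bot_iff_forall _).2 hc)
  rw [eq_top_iff]
  intro w _
  rcases eq_or_ne w 0 with rfl | hw
  · exact (vecImage K).zero_mem
  obtain ⟨g, hg⟩ := sp_transitive hv0 hw
  have h1 : ⁅K, K⁆.map (HP.projG F n) = ⊤ := by
    rw [Subgroup.map_commutator, show K.map (HP.projG F n) = ⊤ from hlev, ← commutator_def, hperf]
  obtain ⟨k, hk, rfl⟩ : g ∈ ⁅K, K⁆.map (HP.projG F n) := h1 ▸ Subgroup.mem_top g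
  have h3 : HP.projA F n k = 1 := by
    have h4 : (⁅K, K⁆).map (HP.projA F n) ≤ ⊥ := by
      rw [Subgroup.map_commutator, le_bot_iff, Subgroup.commutator_eq_bot_iff_le_centralizer]
      exact fun x _ y _ => mul_comm y x
    exact Subgroup.mem_bot.1 (h4 ⟨k, hk, rfl⟩)
  have := vecImage_conj K (Subgroup.commutator_le_self K hk) hv
  rwa [show k.a = 1 from h3, Units.val_one, one_smul, show k.g.1 *ᵥ v = w from hg] at this

/-- The dichotomy for `n ≥ 2`. -/
theorem rootIn_or_vecImage_large (hq : 3 ≤ Nat.card F) (hn : 2 ≤ n) (K : Subgroup (HP F n))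
    (hsmall : ∀ L : Subgroup (Matrix.symplecticGroup (Fin n) F), L ≠ ⊤ → ¬ (n = 2 ∧ Nat.card F = 3) →
      Nat.card F ^ (2 * n) - 1 ≤ L.index * (Nat.card F - 1))
    (hidx : K.index * (Nat.card F - 1) < Nat.card F ^ (2 * n + 2) - 1) :
    RootIn K ∨ Nat.card F ^ (2 * n) ≤ Nat.card F * Nat.card (vecImage K) := by
  classical
  have hperf : commutator (Matrix.symplecticGroup (Fin n) F) = ⊤ :=
    sp_commutator_eq_top' (Or.inr (Or.inl ⟨by simpa using hn, hq⟩))
  by_cases hvec : vecImage K = ⊥
  · exact Or.inl (rootIn_of_vecImage_bot hq (by omega) hperf K hidx hvec)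
  by_cases hcen : cenImage K = ⊤
  · exact Or.inl (Or.inl fun c => (mem_cenImage K).1 (hcen ▸ AddSubgroup.mem_top c))
  by_cases hlev : levImage K = ⊤
  · right
    rw [vecImage_eq_top hperf K hlev hvec, AddSubgroup.card_top, card_vec]
    exact Nat.le_mul_of_pos_left _ Nat.card_pos
  -- now the Levi image has large index
  right
  by_contra hcon
  push Not at hcon
  let q := Nat.card F
  haveI := Fintype.ofFinite F
  obtain ⟨p, hpchar⟩ := CharP.exists F
  haveI := hpchar
  obtain ⟨⟨e, he⟩, hp, hF⟩ := FiniteField.card F p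
  dsimp at hF
  rw [← Nat.card_eq_fintype_card] at hF
  change q = p ^ e at hF
  haveI : Fact p.Prime := ⟨hp⟩
  set X := (vecImage K).index with hX
  have hXq : q < X := by
    refine Nat.lt_of_mul_lt_mul_right (a := Nat.card (vecImage K)) ?_
    rw [hX, card_hyperplane_index]
    exact hcon
  have hXp : p * q ≤ X := by
    obtain ⟨i, -, hi⟩ : ∃ i ≤ e * (2 * n), X = p ^ i := by
      refine (Nat.dvd_prime_pow hp).1 ?_
      rw [pow_mul, ← hF, ← card_hyperplane_index (vecImage K)]
      exact dvd_mul_right _ _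
    rw [hi, hF, ← pow_succ']
    refine Nat.pow_le_pow_right hp.pos ?_
    by_contra hc
    push Not at hc
    rw [hi, hF] at hXq
    exact absurd hXq (not_lt.2 (Nat.pow_le_pow_right hp.pos (by omega)))
  have h2 : (torImage K).index * (cenImage K).index * X * 2 ≥ 3 * q ^ 2 := by
    rcases hp.eq_two_or_odd with hp2 | hpodd
    · have h20 : (2 : F) = 0 := by
        have := CharP.cast_eq_zero F p
        rw [hp2] at this
        exact_mod_cast this
      have hφ := card_le_index_mul (torImage K) (cenImage K) hcen (fun a ha z hz => cenImage_sq K ha hz) 1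
        (card_sqrt_one_le.2 h20)
      rw [one_mul] at hφ
      calc 3 * q ^ 2 ≤ q * (2 * q) * 2 := by nlinarith
        _ ≤ (torImage K).index * (cenImage K).index * X * 2 :=
            Nat.mul_le_mul_right _ (Nat.mul_le_mul hφ (hp2 ▸ hXp))
    · have hφ := card_le_index_mul (torImage K) (cenImage K) hcen (fun a ha z hz => cenImage_sq K ha hz) 2
        card_sqrt_one_le.1
      have hp3 : 3 ≤ p := by have := hp.two_le; omega
      calc 3 * q ^ 2 = q * (3 * q) := by ring
        _ ≤ 2 * ((torImage K).index * (cenImage K).index) * X :=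
            Nat.mul_le_mul hφ ((Nat.mul_le_mul_right _ hp3).trans hXp)
        _ = _ := by ring
  have hidx' : (levImage K).index * ((torImage K).index * (cenImage K).index * X) * (q - 1) < q ^ (2 * n + 2) - 1 := by
    refine lt_of_eq_of_lt ?_ hidx
    rw [index_eq]; ring
  have hbig : ∀ B : ℕ, B ≤ (levImage K).index * (q - 1) → 3 * q ^ 2 * B < 2 * (q ^ (2 * n + 2) - 1) := by
    intro B hB
    calc 3 * q ^ 2 * B ≤ ((torImage K).index * (cenImage K).index * X * 2) * ((levImage K).index * (q - 1)) :=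
          Nat.mul_le_mul h2 hB
      _ = 2 * ((levImage K).index * ((torImage K).index * (cenImage K).index * X) * (q - 1)) := by ring
      _ < _ := (Nat.mul_lt_mul_left two_pos).2 hidx'
  by_cases hex : n = 2 ∧ q = 3
  swap
  · have h := hbig _ (hsmall _ hlev hex)
    rw [pow_add, Nat.mul_sub, mul_one] at h
    have h9 : 9 * 9 ≤ q ^ (2 * n) := by
      calc 9 * 9 = 3 ^ 4 := by norm_num
        _ ≤ q ^ 4 := Nat.pow_le_pow_left hq 4
        _ ≤ _ := Nat.pow_le_pow_right (by omega) (by omega)
    have h1 : 81 * q ^ 2 ≤ q ^ (2 * n) * q ^ 2 := Nat.mul_le_mul_right _ h9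
    change 3 * q ^ 2 * q ^ (2 * n) - 3 * q ^ 2 < 2 * (q ^ (2 * n) * q ^ 2 - 1) at h
    rw [mul_assoc, mul_comm (q ^ 2) (q ^ (2 * n))] at h
    omega
  · -- `Sp₄(3)`: the vectors span a totally isotropic space
    obtain ⟨rfl, hq3⟩ := hex
    change Nat.card F = 3 at hq3
    haveI : Fact (Nat.card F).Prime := ⟨by rw [hq3]; norm_num⟩
    have hcb : cenImage K = ⊥ := (cenImage K).eq_bot_or_eq_top_of_prime_card.resolve_right hcen
    have h20 : (2 : F) ≠ 0 := by
      intro h0
      have h3 : (3 : F) = 0 := by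
        have h := FiniteField.cast_card_eq_zero F
        rw [← Nat.card_eq_fintype_card, hq3] at h
        exact_mod_cast h
      exact one_ne_zero (show (1 : F) = 0 by linear_combination h3 - h0)
    -- scalars are integers
    have hscal : ∀ c : F, ∀ v ∈ vecImage K, c • v ∈ vecImage K := by
      intro c v hv
      obtain ⟨k, rfl⟩ : c ∈ AddSubgroup.zmultiples (1 : F) := by
        rw [((AddSubgroup.zmultiples (1 : F)).eq_bot_or_eq_top_of_prime_card).resolve_left fun h =>
          one_ne_zero ((AddSubgroup.eq_bot_iff_forall _).1 h 1 (AddSubgroup.mem_zmultiples 1))]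
        exact AddSubgroup.mem_top c
      simp only [zsmul_one, Int.cast_smul_eq_zsmul]
      exact (vecImage K).zsmul_mem hv k
    have hiso : ∀ u ∈ vecImage K, ∀ v ∈ vecImage K, sbil u v = 0 := by
      rintro u ⟨c, hc⟩ v ⟨d, hd⟩
      have hmem := K.mul_mem (K.mul_mem hc hd) (K.inv_mem (K.mul_mem hd hc))
      have he : (⟨1, 1, u, c⟩ : HP F 2) * ⟨1, 1, v, d⟩ * ((⟨1, 1, v, d⟩ : HP F 2) * ⟨1, 1, u, c⟩)⁻¹ =
          ⟨1, 1, 0, 2 * sbil u v⟩ := by
        rw [mul_inv_eq_iff_eq_mul, HP.mul_def, HP.mul_def, HP.mul_def]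
        refine HP.ext (by simp) (by simp) ?_ ?_
        · simp [add_comm]
        · simp only [Units.val_one, one_pow, one_mul, mul_one, one_smul, sp_one_mulVec, sbil_swap u v]
          simp [sbil]
          ring
      rw [he, ← mem_cenImage, hcb, AddSubgroup.mem_bot] at hmem
      exact (mul_eq_zero.1 hmem).resolve_left h20
    let W : Submodule F (Fin 2 ⊕ Fin 2 → F) := { vecImage K with smul_mem' := fun c v hv => hscal c v hv }
    have hWbot : W ≠ ⊥ := fun h => hvec ((AddSubgroup.eq_bot_iff_forall _).2 fun v hv => (Submodule.eq_bot_iff _).1 h v hv)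
    have hι := bound_of_isotropic (H := levImage K) (W := W) hiso hWbot (by
      rintro g ⟨k, hk, rfl⟩
      refine Submodule.eq_of_le_of_finrank_eq ?_ (Submodule.equivMapOfInjective _ (act_injective _) W).finrank_eq.symm
      rintro _ ⟨v, hv, rfl⟩
      have := W.smul_mem ((k.a : F))⁻¹ (show (k.a : F) • (k.g.1 *ᵥ v) ∈ W from vecImage_conj K hk hv)
      rwa [inv_smul_smul₀ k.a.ne_zero] at this)
    have := hbig _ hι
    change 3 * Nat.card F ^ 2 * (Nat.card F ^ (2 * 2) - 1) < 2 * (Nat.card F ^ (2 * 2 + 2) - 1) at this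
    rw [hq3] at this
    norm_num at this

end CfsgLib.MinIdx
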