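import Cfsg.Agent.Lib.MinIdx.SpFourTrace

/-!
# A large vector part without an invariant line
-/

set_option autoImplicit false

namespace CfsgLib.MinIdx

open Matrix CfsgLib.Classical CfsgLib.KnownA.SpGen

variable {F : Type*} [Field F]

/-- `g` has `e` as an eigenvector. -/
def Eig (g : Matrix.symplecticGroup (Fin 1) F) (e : Fin 1 ⊕ Fin 1 → F) : Prop := ∃ c : F, c • e = g.1 *ᵥ e

theorem Eig.smul {g : Matrix.symplecticGroup (Fin 1) F} {e : Fin 1 ⊕ Fin 1 → F} (h : Eig g e) (a : F) :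
    Eig g (a • e) := by
  obtain ⟨c, hc⟩ := h
  exact ⟨c, by rw [mulVec_smul, ← hc, smul_comm]⟩

theorem Eig.of_smul {g : Matrix.symplecticGroup (Fin 1) F} {e : Fin 1 ⊕ Fin 1 → F} {a : F} (ha : a ≠ 0)
    (h : Eig g (a • e)) : Eig g e := by
  have := h.smul a⁻¹
  rwa [inv_smul_smul₀ ha] at this

/-- A non-scalar element has at most two eigenlines. -/
theorem eig_cases {g : Matrix.symplecticGroup (Fin 1) F} {e₁ e₂ : Fin 1 ⊕ Fin 1 → F} (h₁ : Eig g e₁) (h₂ : Eig g e₂)
    (hind : sbil e₁ e₂ ≠ 0) (hns : ∃ v, ¬ Eig g v) {e : Fin 1 ⊕ Fin 1 → F} (he : Eig g e) :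
    sbil e₁ e = 0 ∨ sbil e₂ e = 0 := by
  by_contra hcon
  push Not at hcon
  obtain ⟨c₁, hc₁⟩ := h₁
  obtain ⟨c₂, hc₂⟩ := h₂
  obtain ⟨c, hc⟩ := he
  obtain ⟨v, hv⟩ := hns
  have hd := decomp₂ e₁ e₂ e
  have hgd := congrArg (g.1 *ᵥ ·) hd
  simp only [mulVec_add, mulVec_smul] at hgd
  rw [← hc, ← hc₁, ← hc₂] at hgd
  have k₁ := congrArg (sbil e₁ ·) hgd
  have k₂ := congrArg (sbil e₂ ·) hgd
  simp only [sbil_add_right, sbil_smul_right, sbil_self, mul_zero, zero_add, add_zero] at k₁ k₂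
  have e21 : sbil e₂ e₁ = -sbil e₁ e₂ := sbil_swap e₁ e₂
  have hc2 : c = c₂ := mul_left_cancel₀ (mul_ne_zero hind hcon.1) (by linear_combination k₁)
  have hc1 : c = c₁ := mul_left_cancel₀ (mul_ne_zero hind hcon.2) (by
    have hs : sbil e e₂ = -sbil e₂ e := sbil_swap e₂ e
    linear_combination k₂ + c₁ * sbil e e₂ * e21 - c₁ * sbil e₁ e₂ * hs)
  refine hv ⟨c, smul_right_injective _ hind ?_⟩
  have hgv := congrArg (g.1 *ᵥ ·) (decomp₂ e₁ e₂ v)
  simp only [mulVec_add, mulVec_smul] at hgv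
  show sbil e₁ e₂ • (c • v) = sbil e₁ e₂ • (g.1 *ᵥ v)
  rw [hgv, ← hc₁, ← hc₂, ← hc1, ← hc2, smul_comm, decomp₂ e₁ e₂ v, smul_add, smul_comm c, smul_comm c]

/-- An element moving both eigenlines of a non-scalar one. -/
theorem exists_no_common_eig {L : Subgroup (Matrix.symplecticGroup (Fin 1) F)}
    (hline : ∀ e : Fin 1 ⊕ Fin 1 → F, e ≠ 0 → ∃ k ∈ L, ¬ Eig k e)
    {g : Matrix.symplecticGroup (Fin 1) F} (hns : ∃ v, ¬ Eig g v) (hnc : ∃ h ∈ L, g * h ≠ h * g) :
    ∃ h ∈ L, g * h ≠ h * g ∧ ∀ e : Fin 1 ⊕ Fin 1 → F, e ≠ 0 → Eig g e → ¬ Eig h e := by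
  by_cases hone : ∃ e : Fin 1 ⊕ Fin 1 → F, e ≠ 0 ∧ Eig g e
  swap
  · push Not at hone
    obtain ⟨h, hh, hne⟩ := hnc
    exact ⟨h, hh, hne, fun e he hge => absurd hge (hone e he)⟩
  obtain ⟨e₁, he₁, hg₁⟩ := hone
  -- all eigenvectors lie on `e₁` or `e₂`
  obtain ⟨e₂, he₂, hg₂, hall⟩ : ∃ e₂ : Fin 1 ⊕ Fin 1 → F, e₂ ≠ 0 ∧ Eig g e₂ ∧
      ∀ e, Eig g e → (∃ a : F, a • e₁ = e) ∨ ∃ a : F, a • e₂ = e := by
    by_cases hsec : ∃ e₂, Eig g e₂ ∧ sbil e₁ e₂ ≠ 0
    · obtain ⟨e₂, hg₂, hind⟩ := hsec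
      have he₂ : e₂ ≠ 0 := fun h => hind (by rw [h]; simp [sbil])
      exact ⟨e₂, he₂, hg₂, fun e he => (eig_cases hg₁ hg₂ hind hns he).imp (exists_smul_of_perp he₁) (exists_smul_of_perp he₂)⟩
    · push Not at hsec
      exact ⟨e₁, he₁, hg₁, fun e he => Or.inl (exists_smul_of_perp he₁ (hsec e he))⟩
  obtain ⟨k₁, hk₁, hk₁e⟩ := hline e₁ he₁
  obtain ⟨k₂, hk₂, hk₂e⟩ := hline e₂ he₂
  have hmul : ∀ {a b : Matrix.symplecticGroup (Fin 1) F} {e : Fin 1 ⊕ Fin 1 → F},
      Eig b e → ¬ Eig a e → e ≠ 0 → ¬ Eig (a * b) e := by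
    rintro a b e ⟨c, hc⟩ ha he ⟨d, hd⟩
    rw [sp_mul_mulVec, ← hc, mulVec_smul] at hd
    have hc0 : c ≠ 0 := fun h0 => sp_mulVec_ne_zero b he (by rw [← hc, h0, zero_smul])
    exact ha ⟨c⁻¹ * d, by rw [mul_smul, hd, inv_smul_smul₀ hc0]⟩
  obtain ⟨h, hh, hh₁, hh₂⟩ : ∃ h ∈ L, ¬ Eig h e₁ ∧ ¬ Eig h e₂ := by
    by_cases h12 : Eig k₁ e₂
    swap
    · exact ⟨k₁, hk₁, hk₁e, h12⟩
    by_cases h21 : Eig k₂ e₁
    swap
    · exact ⟨k₂, hk₂, h21, hk₂e⟩
    refine ⟨k₁ * k₂, L.mul_mem hk₁ hk₂, hmul h21 hk₁e he₁, ?_⟩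
    rintro ⟨d, hd⟩
    obtain ⟨c, hc⟩ := h12
    have hc0 : c ≠ 0 := fun h0 => sp_mulVec_ne_zero k₁ he₂ (by rw [← hc, h0, zero_smul])
    refine hk₂e ⟨d / c, ?_⟩
    refine act_injective k₁ ?_
    rw [act_apply, act_apply, mulVec_smul, ← hc, smul_smul, div_mul_cancel₀ _ hc0, hd, sp_mul_mulVec]
  refine ⟨h, hh, ?_, fun e he hge hhe => ?_⟩
  · intro hcomm
    -- `h` would permute the eigenlines with equal eigenvalues
    obtain ⟨c₁, hc₁⟩ := hg₁
    have himg : g.1 *ᵥ (h.1 *ᵥ e₁) = c₁ • (h.1 *ᵥ e₁) := by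
      rw [← sp_mul_mulVec, hcomm, sp_mul_mulVec, ← hc₁, mulVec_smul]
    obtain ⟨v, hv⟩ := hns
    have hind : sbil e₁ (h.1 *ᵥ e₁) ≠ 0 := fun h0 => hh₁ (exists_smul_of_perp he₁ h0)
    refine hv ⟨c₁, smul_right_injective _ hind ?_⟩
    have hgv := congrArg (g.1 *ᵥ ·) (decomp₂ e₁ (h.1 *ᵥ e₁) v)
    simp only [mulVec_add, mulVec_smul] at hgv
    show sbil e₁ (h.1 *ᵥ e₁) • (c₁ • v) = sbil e₁ (h.1 *ᵥ e₁) • (g.1 *ᵥ v)
    rw [hgv, himg, ← hc₁, smul_comm, decomp₂ e₁ (h.1 *ᵥ e₁) v, smul_add, smul_comm c₁, smul_comm c₁]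
  · rcases hall e hge with ⟨a, rfl⟩ | ⟨a, rfl⟩
    · exact hh₁ (hhe.of_smul (fun h0 => he (by rw [h0, zero_smul])))
    · exact hh₂ (hhe.of_smul (fun h0 => he (by rw [h0, zero_smul])))

/-- Two such elements span all matrices. -/
theorem span_eq_top {g h : Matrix.symplecticGroup (Fin 1) F} (hns : ∃ v, ¬ Eig g v) (hne : g * h ≠ h * g)
    (hcommon : ∀ e : Fin 1 ⊕ Fin 1 → F, e ≠ 0 → Eig g e → ¬ Eig h e) :
    Submodule.span F (Set.range ![(1 : Matrix (Fin 1 ⊕ Fin 1) (Fin 1 ⊕ Fin 1) F), g.1, h.1, h.1 * g.1]) = ⊤ := by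
  have hli : LinearIndependent F ![(1 : Matrix (Fin 1 ⊕ Fin 1) (Fin 1 ⊕ Fin 1) F), g.1, h.1, h.1 * g.1] := by
    rw [Fintype.linearIndependent_iff]
    intro x hx
    rw [Fin.sum_univ_four] at hx
    simp only [Matrix.cons_val_zero, Matrix.cons_val_one, Matrix.cons_val] at hx
    have hv : ∀ v, x 0 • v + x 1 • (g.1 *ᵥ v) + x 2 • (h.1 *ᵥ v) + x 3 • (h.1 *ᵥ (g.1 *ᵥ v)) = 0 := fun v => by
      have := congrArg (fun M => M *ᵥ v) hx
      simpa [add_mulVec, smul_mulVec, mulVec_mulVec] using this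
    obtain ⟨v₀, hv₀⟩ := hns
    have hfirst : x 2 = 0 → x 3 = 0 → ∀ i, x i = 0 := by
      intro h2 h3
      have h := hv v₀
      simp only [h2, h3, zero_smul, add_zero] at h
      have h1 : x 1 = 0 := by
        by_contra h1
        refine hv₀ ⟨-(x 0) / x 1, ?_⟩
        rw [div_eq_inv_mul, mul_smul, neg_smul, neg_eq_of_add_eq_zero_right h, inv_smul_smul₀ h1]
      have hv0 : v₀ ≠ 0 := fun h0 => hv₀ ⟨0, by rw [h0]; simp⟩
      rw [h1, zero_smul, add_zero, smul_eq_zero] at h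
      intro i; fin_cases i
      exacts [h.resolve_right hv0, h1, h2, h3]
    by_cases hker : ∃ e : Fin 1 ⊕ Fin 1 → F, e ≠ 0 ∧ x 2 • e + x 3 • (g.1 *ᵥ e) = 0
    · obtain ⟨e, he, hke⟩ := hker
      by_cases h3 : x 3 = 0
      · rw [h3, zero_smul, add_zero, smul_eq_zero] at hke
        exact hfirst (hke.resolve_right he) h3
      exfalso
      set μ := -(x 2) / x 3
      have hμ : g.1 *ᵥ e = μ • e := by
        show g.1 *ᵥ e = (-(x 2) / x 3) • e
        rw [div_eq_inv_mul, mul_smul, neg_smul, neg_eq_of_add_eq_zero_right hke, inv_smul_smul₀ h3]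
      have h01 : x 0 + x 1 * μ = 0 := by
        have h := hv e
        rw [hμ, mulVec_smul, smul_smul, smul_smul, add_assoc (x 0 • e + _), ← add_smul, ← add_smul,
          show x 2 + x 3 * μ = 0 by simp only [μ]; field_simp; ring, zero_smul, add_zero, smul_eq_zero] at h
        exact h.resolve_right he
      set f := g.1 *ᵥ v₀ - μ • v₀ with hf
      have hf0 : f ≠ 0 := fun h0 => hv₀ ⟨μ, (sub_eq_zero.1 h0).symm⟩
      have hhf : h.1 *ᵥ f = (-(x 1) / x 3) • f := by
        have hv0' := hv v₀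
        have h' : x 3 • (h.1 *ᵥ f) = (-(x 1)) • f := by
          rw [hf, mulVec_sub, mulVec_smul]
          rw [show x 2 = -(x 3 * μ) by simp only [μ]; field_simp, show x 0 = -(x 1 * μ) by linear_combination h01] at hv0'
          linear_combination (norm := module) hv0'
        rw [div_eq_inv_mul, mul_smul, ← h', inv_smul_smul₀ h3]
      have hgf : g.1 *ᵥ f = (g.1.trace - μ) • f := by
        have hinv : (g⁻¹).1 *ᵥ e = μ⁻¹ • e := by
          have hμ0 : μ ≠ 0 := fun h0 => sp_mulVec_ne_zero g he (by rw [hμ, h0, zero_smul])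
          conv_lhs => rw [show e = μ⁻¹ • (g.1 *ᵥ e) by rw [hμ, inv_smul_smul₀ hμ0]]
          rw [mulVec_smul, sp_inv_mulVec]
        have htr := mulVec_add_inv g e
        rw [hμ, hinv, ← add_smul] at htr
        have htr' : μ + μ⁻¹ = g.1.trace := smul_left_injective F he htr
        have hsq : ∀ v, g.1 *ᵥ (g.1 *ᵥ v) = g.1.trace • (g.1 *ᵥ v) - v := fun v => by
          have h := mulVec_add_inv g (g.1 *ᵥ v)
          rw [sp_inv_mulVec] at h
          exact eq_sub_of_add_eq h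
        rw [hf, mulVec_sub, mulVec_smul, hsq]
        have hμ0 : μ ≠ 0 := fun h0 => sp_mulVec_ne_zero g he (by rw [hμ, h0, zero_smul])
        rw [← htr']
        match_scalars <;> field_simp <;> ring
      exact hcommon f hf0 ⟨_, hgf.symm⟩ ⟨_, hhf.symm⟩
    · push Not at hker
      by_cases h23 : x 2 = 0 ∧ x 3 = 0
      · exact hfirst h23.1 h23.2
      exfalso
      let M : (Fin 1 ⊕ Fin 1 → F) →ₗ[F] (Fin 1 ⊕ Fin 1 → F) := x 2 • LinearMap.id + x 3 • act g
      have hMv : ∀ v, M v = x 2 • v + x 3 • (g.1 *ᵥ v) := fun v => rfl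
      have hsurj : Function.Surjective M := LinearMap.surjective_of_injective (by
        rw [← LinearMap.ker_eq_bot, LinearMap.ker_eq_bot']
        intro v hv
        by_contra h0
        exact hker v h0 hv)
      refine hne (sp_ext fun w => ?_)
      obtain ⟨v, rfl⟩ := hsurj w
      rw [sp_mul_mulVec, sp_mul_mulVec]
      have e1 : ∀ u, h.1 *ᵥ M u = -(x 0 • u + x 1 • (g.1 *ᵥ u)) := fun u => by
        rw [hMv, mulVec_add, mulVec_smul, mulVec_smul]
        exact eq_neg_of_add_eq_zero_right (by rw [← hv u]; abel)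
      have e2 : g.1 *ᵥ M v = M (g.1 *ᵥ v) := by rw [hMv, hMv, mulVec_add, mulVec_smul, mulVec_smul]
      rw [e1, e2, e1, mulVec_neg, mulVec_add, mulVec_smul, mulVec_smul]
  refine hli.span_eq_top_of_card_eq_finrank ?_
  rw [Fintype.card_fin, Module.finrank_matrix, Fintype.card_sum, Fintype.card_fin, Module.finrank_self]

theorem neg_eq_self_of_two' (h2 : (2 : F) = 0) : (-1 : F) = 1 := by linear_combination -h2

variable [Finite F]

/-- A large vector part has an invariant line, unless it is everything. -/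
theorem exists_line_of_large (hq : 4 ≤ Nat.card F) (K : Subgroup (HP F 1)) (h2 : (2 : F) = 0)
    (hidx : K.index * (Nat.card F - 1) < Nat.card F ^ 4 - 1) (hcen : cenImage K ≠ ⊤)
    (hlarge : Nat.card F < Nat.card (vecImage K)) (htr : traceField K ≠ ⊤) (hW : vecImage K ≠ ⊤) :
    ∃ e : Fin 1 ⊕ Fin 1 → F, e ≠ 0 ∧ ∀ g ∈ levKer K, Eig g e := by
  classical
  by_contra hline
  push Not at hline
  let q := Nat.card F
  obtain ⟨⟨d, hd⟩, hrr, hrX⟩ := traceField_bounds K h2 htr hW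
  set R := traceField K
  set r := Nat.card R with hr
  have hr2 : 2 ≤ r := Finite.one_lt_card
  have hmain := levKer_bound_two K h2 hcen hidx
  have hXq : (vecImage K).index < q := by
    refine Nat.lt_of_mul_lt_mul_right (a := q) ?_
    calc (vecImage K).index * q < (vecImage K).index * Nat.card (vecImage K) :=
          Nat.mul_lt_mul_of_pos_left hlarge (Nat.pos_of_ne_zero AddSubgroup.index_ne_zero_of_finite)
      _ = q * q := by rw [card_hyperplane_index]; ring
  obtain ⟨g, hg, hns⟩ : ∃ g ∈ levKer K, ∃ v, ¬ Eig g v := by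
    by_contra hc
    push Not at hc
    obtain ⟨k, hk, hke⟩ := hline (Pi.single (.inl 0) 1) (fun h => one_ne_zero
      (((Pi.single_eq_same _ _).symm.trans (congrFun h _)) : (1 : F) = 0))
    exact hke (hc k hk _)
  by_cases hcomm : ∀ h ∈ levKer K, g * h = h * g
  · -- everything commutes with `g`
    obtain ⟨e, hge⟩ := hns
    have he : e ≠ 0 := fun h0 => hge ⟨0, by rw [h0]; simp⟩
    have hδ : sbil e (g.1 *ᵥ e) ≠ 0 := fun h0 => hge (exists_smul_of_perp he h0)
    set δ := sbil e (g.1 *ᵥ e)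
    set τ := g.1.trace with hτ
    have hgg : ∀ v, g.1 *ᵥ (g.1 *ᵥ v) = τ • (g.1 *ᵥ v) - v := fun v => by
      have h := mulVec_add_inv g (g.1 *ᵥ v)
      rw [sp_inv_mulVec] at h
      exact eq_sub_of_add_eq h
    have hτ0 : τ ≠ 0 := by
      intro h0
      -- then `g` is an involution with a single fixed line
      set f := g.1 *ᵥ e + e with hf
      have hgf : g.1 *ᵥ f = f := by
        rw [hf, mulVec_add, hgg, h0, zero_smul, zero_sub, ← neg_one_smul F e, neg_eq_self_of_two' h2, one_smul, add_comm]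
      have hf0 : f ≠ 0 := fun h => hge ⟨-1, by rw [neg_one_smul, eq_neg_of_add_eq_zero_left h]⟩
      obtain ⟨k, hk, hkf⟩ := hline f hf0
      have hkfix : g.1 *ᵥ (k.1 *ᵥ f) = k.1 *ᵥ f := by rw [← sp_mul_mulVec, hcomm k hk, sp_mul_mulVec, hgf]
      obtain ⟨s, hs⟩ := eq_stv_of_fix hf0 hgf
      rw [hs, stv_mulVec, add_eq_left, smul_eq_zero, or_iff_left hf0, mul_eq_zero] at hkfix
      rcases hkfix with h | h
      · exact hge ⟨1, by rw [one_smul, hs, h, CfsgLib.Classical.stv_zero, sp_one_mulVec]⟩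
      · exact hkf (exists_smul_of_perp hf0 h)
    have hcoef : ∀ h : levKer K, ∃ ab : R × R, h.1.1 *ᵥ e = (ab.1 : F) • e + (ab.2 : F) • (g.1 *ᵥ e) := by
      rintro ⟨h, hh⟩
      set α := sbil (h.1 *ᵥ e) (g.1 *ᵥ e) / δ
      set β := sbil e (h.1 *ᵥ e) / δ
      have hhe : h.1 *ᵥ e = α • e + β • (g.1 *ᵥ e) := by
        refine smul_right_injective _ hδ ?_
        show δ • (h.1 *ᵥ e) = δ • (α • e + β • (g.1 *ᵥ e))
        rw [smul_add, smul_smul, smul_smul, mul_div_cancel₀ _ hδ, mul_div_cancel₀ _ hδ, decomp₂]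
      have hhge : h.1 *ᵥ (g.1 *ᵥ e) = α • (g.1 *ᵥ e) + β • (τ • (g.1 *ᵥ e) - e) := by
        rw [← sp_mul_mulVec, ← hcomm h hh, sp_mul_mulVec, hhe, mulVec_add, mulVec_smul, mulVec_smul, hgg]
      have htrace : ∀ k : Matrix.symplecticGroup (Fin 1) F,
          k.1.trace * δ = sbil (k.1 *ᵥ e) (g.1 *ᵥ e) + sbil e (k.1 *ᵥ (g.1 *ᵥ e)) := fun k => by
        have h := congrArg (sbil · (g.1 *ᵥ e)) (mulVec_add_inv k e)
        simp only [sbil_add_left, sbil_smul_left] at h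
        rw [← h]
        congr 1
        conv_rhs => rw [← sbil_mulVec k⁻¹, sp_inv_mulVec]
      have t1 : h.1.trace = β * τ := by
        refine mul_right_cancel₀ hδ ?_
        rw [htrace, hhge, hhe, sbil_add_left, sbil_add_right, sbil_smul_left, sbil_smul_left, sbil_smul_right,
          sbil_smul_right, sbil_sub_right, sbil_smul_right, sbil_self, sbil_self]
        linear_combination (α * δ) * h2
      have t2 : (h * g).1.trace = α * τ + β * τ * τ := by
        refine mul_right_cancel₀ hδ ?_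
        rw [htrace, sp_mul_mulVec, sp_mul_mulVec, hgg, mulVec_sub, mulVec_smul, hhge, hhe]
        simp only [sbil_add_left, sbil_add_right, sbil_sub_left, sbil_sub_right, sbil_smul_left, sbil_smul_right,
          sbil_self, sbil_swap e (g.1 *ᵥ e)]
        linear_combination (-(β * δ)) * h2
      have hτR : τ ∈ R := trace_mem K hg
      have hβ : β ∈ R := by
        rw [show β = h.1.trace / τ by rw [t1, mul_div_cancel_right₀ _ hτ0]]
        exact R.div_mem (trace_mem K hh) hτR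
      have hα : α ∈ R := by
        rw [show α = (h * g).1.trace / τ - β * τ by rw [t2]; field_simp; ring]
        exact R.sub_mem (R.div_mem (trace_mem K ((levKer K).mul_mem hh hg)) hτR) (R.mul_mem hβ hτR)
      exact ⟨(⟨α, hα⟩, ⟨β, hβ⟩), hhe⟩
    choose ab hab using hcoef
    have hB : Nat.card (levKer K) ≤ r * r := by
      rw [hr, ← Nat.card_prod]
      refine Nat.card_le_card_of_injective ab fun a b h => Subtype.ext (sp_ext fun v => ?_)
      have he' : a.1.1 *ᵥ e = b.1.1 *ᵥ e := by rw [hab a, hab b, h]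
      have hge' : a.1.1 *ᵥ (g.1 *ᵥ e) = b.1.1 *ᵥ (g.1 *ᵥ e) := by
        rw [← sp_mul_mulVec, ← hcomm _ a.2, sp_mul_mulVec, he', ← sp_mul_mulVec, hcomm _ b.2, sp_mul_mulVec]
      refine smul_right_injective _ hδ ?_
      show δ • (a.1.1 *ᵥ v) = δ • (b.1.1 *ᵥ v)
      rw [← mulVec_smul, ← mulVec_smul, decomp₂, mulVec_add, mulVec_add, mulVec_smul, mulVec_smul, mulVec_smul,
        mulVec_smul, he', hge']
    have h := arith_levKer (levKer_card K) hB hmain
    have h' : q ^ 2 * r * (q - 1) < (q ^ 2 + 1) * (r * r) :=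
      lt_of_le_of_lt (Nat.mul_le_mul_right _ (Nat.mul_le_mul_left _ hrX)) h
    have h'' : q ^ 2 * (q - 1) < (q ^ 2 + 1) * r := Nat.lt_of_mul_lt_mul_left (a := r) (by
      calc r * (q ^ 2 * (q - 1)) = q ^ 2 * r * (q - 1) := by ring
        _ < _ := h'
        _ = _ := by ring)
    have h4 : 2 * r ≤ q := (Nat.mul_le_mul_right r hr2).trans hrr
    have h5 : 2 * (q ^ 2 * (q - 1)) < (q ^ 2 + 1) * q := by
      calc 2 * (q ^ 2 * (q - 1)) < 2 * ((q ^ 2 + 1) * r) := (Nat.mul_lt_mul_left two_pos).2 h''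
        _ = (q ^ 2 + 1) * (2 * r) := by ring
        _ ≤ _ := Nat.mul_le_mul_left _ h4
    obtain ⟨s, hs⟩ : ∃ s, q = s + 4 := ⟨q - 4, by omega⟩
    rw [hs] at h5
    simp only [Nat.add_succ_sub_one] at h5
    nlinarith
  · push Not at hcomm
    obtain ⟨h, hh, hne, hcommon⟩ := exists_no_common_eig hline hns hcomm
    have hspan := span_eq_top hns hne hcommon
    -- elements are determined by four traces
    have hB : Nat.card (levKer K) ≤ r * r * (r * r) := by
      rw [hr, ← Nat.card_prod, ← Nat.card_prod]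
      refine Nat.card_le_card_of_injective (fun k : levKer K =>
        (((⟨_, trace_mem K k.2⟩ : R), (⟨_, trace_mem K ((levKer K).mul_mem k.2 hg)⟩ : R)),
         ((⟨_, trace_mem K ((levKer K).mul_mem k.2 hh)⟩ : R),
          (⟨_, trace_mem K ((levKer K).mul_mem k.2 ((levKer K).mul_mem hh hg))⟩ : R)))) fun a b heq => ?_
      simp only [Prod.mk.injEq, Subtype.mk.injEq] at heq
      obtain ⟨⟨q1, q2⟩, q3, q4⟩ := heq
      let T : Matrix (Fin 1 ⊕ Fin 1) (Fin 1 ⊕ Fin 1) F →ₗ[F] F :=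
        (Matrix.traceLinearMap (Fin 1 ⊕ Fin 1) F F).comp (LinearMap.mulLeft F (a.1.1 - b.1.1))
      have hT : T = 0 := by
        refine LinearMap.ext_on_range hspan fun i => ?_
        show Matrix.trace ((a.1.1 - b.1.1) * _) = (0 : F)
        rw [sub_mul, Matrix.trace_sub, sub_eq_zero]
        fin_cases i
        · simpa using q1
        · simpa using q2
        · simpa using q3
        · simpa using q4
      refine Subtype.ext (Subtype.ext (sub_eq_zero.1 (Matrix.ext fun i j => ?_)))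
      have := LinearMap.congr_fun hT (Matrix.single j i 1)
      change Matrix.trace ((a.1.1 - b.1.1) * Matrix.single j i 1) = 0 at this
      simpa [Matrix.trace_mul_single] using this
    -- the quotient by the vectors has at least `r ^ 2` elements
    obtain ⟨v, k, hk, hvk⟩ : ∃ v, ∃ k ∈ levKer K, ∀ γ ∈ R, k.1 *ᵥ v - γ • v ∉ vecImage K := by
      by_contra hc
      push Not at hc
      -- commutators act trivially modulo the vectors
      have hmod : ∀ a ∈ levKer K, ∀ b ∈ levKer K, ∀ v, (a * b * a⁻¹ * b⁻¹).1 *ᵥ v - v ∈ vecImage K := by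
        intro a ha b hb v
        obtain ⟨γa, hγa, hka⟩ := hc v a⁻¹ ((levKer K).inv_mem ha)
        obtain ⟨γa', hγa', hka'⟩ := hc v a ha
        obtain ⟨γb, hγb, hkb⟩ := hc v b⁻¹ ((levKer K).inv_mem hb)
        obtain ⟨γb', hγb', hkb'⟩ := hc v b hb
        by_cases hv : v ∈ vecImage K
        · exact (vecImage K).sub_mem (vecImage_levKer K ((levKer K).mul_mem ((levKer K).mul_mem
            ((levKer K).mul_mem ha hb) ((levKer K).inv_mem ha)) ((levKer K).inv_mem hb)) hv) hv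
        have hinvγ : ∀ c γ γ' : _, c ∈ levKer K → γ ∈ R → γ' ∈ R → c.1 *ᵥ v - γ' • v ∈ vecImage K →
            (c⁻¹).1 *ᵥ v - γ • v ∈ vecImage K → (γ * γ' : F) = 1 := by
          intro c γ γ' hc' hγ hγ' h1 h2'
          by_contra hne1
          refine hv ?_
          have h3 := vecImage_levKer K ((levKer K).inv_mem hc') h1
          rw [mulVec_sub, mulVec_smul, sp_inv_mulVec] at h3
          have h4 := (vecImage K).add_mem h3 (traceField_smul K hγ' h2')
          rw [show v - γ' • ((c⁻¹).1 *ᵥ v) + γ' • ((c⁻¹).1 *ᵥ v - γ • v) = (1 - γ * γ') • v by module] at h4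
          have h5 := traceField_smul K (R.inv_mem (R.sub_mem R.one_mem (R.mul_mem hγ hγ'))) h4
          rwa [inv_smul_smul₀ (sub_ne_zero.2 (Ne.symm hne1))] at h5
        have hab1 := hinvγ a γa γa' ha hγa hγa' hka' hka
        have hbb1 := hinvγ b γb γb' hb hγb hγb' hkb' hkb
        -- push the four congruences through
        have push : ∀ (c : Matrix.symplecticGroup (Fin 1) F) (u : Fin 1 ⊕ Fin 1 → F) (γ δ : F),
            c ∈ levKer K → δ ∈ R → u - δ • v ∈ vecImage K → c.1 *ᵥ v - γ • v ∈ vecImage K →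
            c.1 *ᵥ u - (δ * γ) • v ∈ vecImage K := by
          intro c u γ δ hc' hδ h1 h2'
          have h4 := (vecImage K).add_mem (vecImage_levKer K hc' h1) (traceField_smul K hδ h2')
          rwa [mulVec_sub, mulVec_smul, show c.1 *ᵥ u - δ • (c.1 *ᵥ v) + δ • (c.1 *ᵥ v - γ • v) =
            c.1 *ᵥ u - (δ * γ) • v by module] at h4
        have s2 := push a⁻¹ _ γa γb ((levKer K).inv_mem ha) hγb hkb hka
        have s3 := push b _ γb' _ hb (R.mul_mem hγb hγa) s2 hkb'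
        have s4 := push a _ γa' _ ha (R.mul_mem (R.mul_mem hγb hγa) hγb') s3 hka'
        rw [show γb * γa * γb' * γa' = 1 by linear_combination (γb * γb') * hab1 + hbb1, one_smul] at s4
        simpa [sp_mul_mulVec, mulVec_mulVec, mul_assoc] using s4
      have hline_sub : ∀ c : Matrix.symplecticGroup (Fin 1) F, c ≠ 1 → (∀ v, c.1 *ᵥ v - v ∈ vecImage K) →
          ∃ e : Fin 1 ⊕ Fin 1 → F, e ≠ 0 ∧ ∀ a : F, a • e ∈ vecImage K := by
        intro c hc1 hcm
        by_cases hinj : ∃ e : Fin 1 ⊕ Fin 1 → F, e ≠ 0 ∧ c.1 *ᵥ e = e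
        · obtain ⟨e, he, hce⟩ := hinj
          obtain ⟨s, rfl⟩ := eq_stv_of_fix he hce
          have hs0 : s ≠ 0 := fun h0 => hc1 (by rw [h0, CfsgLib.Classical.stv_zero])
          obtain ⟨f, hf⟩ := exists_sbil_eq_one he
          refine ⟨e, he, fun a => ?_⟩
          have h := hcm ((a / s) • f)
          rwa [stv_mulVec, add_sub_cancel_left, sbil_smul_right, hf, mul_one, mul_div_cancel₀ _ hs0] at h
        · push Not at hinj
          exfalso
          refine hW (eq_top_iff.2 fun x _ => ?_)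
          let φ : (Fin 1 ⊕ Fin 1 → F) →ₗ[F] (Fin 1 ⊕ Fin 1 → F) := act c - LinearMap.id
          obtain ⟨y, rfl⟩ := LinearMap.surjective_of_injective (f := φ) (by
            rw [← LinearMap.ker_eq_bot, LinearMap.ker_eq_bot']
            intro v hv
            by_contra h0
            exact hinj v h0 (sub_eq_zero.1 hv)) x
          exact hcm y
      have hc1 : g * h * g⁻¹ * h⁻¹ ≠ 1 := fun h1 => hne (by
        rw [mul_inv_eq_one, mul_inv_eq_iff_eq_mul] at h1; exact h1)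
      obtain ⟨e, he, hline'⟩ := hline_sub _ hc1 (hmod g hg h hh)
      obtain ⟨k, hk, hke⟩ := hline e he
      refine hW (eq_top_iff.2 fun x _ => ?_)
      have hδ : sbil e (k.1 *ᵥ e) ≠ 0 := fun h0 => hke (exists_smul_of_perp he h0)
      have hx := decomp₂ e (k.1 *ᵥ e) x
      rw [← inv_smul_smul₀ hδ x, hx, smul_add, smul_smul, smul_smul, ← mulVec_smul]
      exact (vecImage K).add_mem (hline' _) (vecImage_levKer K hk (hline' _))
    have hX : r * r ≤ (vecImage K).index := by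
      rw [AddSubgroup.index_eq_card, hr, ← Nat.card_prod]
      refine Nat.card_le_card_of_injective (fun p : R × R =>
        ((QuotientAddGroup.mk ((p.1 : F) • v + (p.2 : F) • (k.1 *ᵥ v))) : _ ⧸ vecImage K)) fun a b hab => ?_
      have h1 := (QuotientAddGroup.eq).1 hab
      by_contra hne'
      by_cases h2' : a.2 = b.2
      · have h3 : a.1 ≠ b.1 := fun h => hne' (Prod.ext h h2')
        rw [h2', show -((a.1 : F) • v + (b.2 : F) • (k.1 *ᵥ v)) + ((b.1 : F) • v + (b.2 : F) • (k.1 *ᵥ v)) =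
          ((b.1 : F) - a.1) • v by module] at h1
        have hne3 : (b.1 : F) - a.1 ≠ 0 := sub_ne_zero.2 fun h => h3 (Subtype.ext h.symm)
        have h4 := traceField_smul K (R.inv_mem (R.sub_mem b.1.2 a.1.2)) h1
        rw [inv_smul_smul₀ hne3] at h4
        refine hvk 0 R.zero_mem ?_
        rw [zero_smul, sub_zero]
        exact vecImage_levKer K hk h4
      · have hne3 : (b.2 : F) - a.2 ≠ 0 := sub_ne_zero.2 fun h => h2' (Subtype.ext h.symm)
        have h4 := traceField_smul K (R.inv_mem (R.sub_mem b.2.2 a.2.2)) h1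
        refine hvk (((a.1 : F) - b.1) / ((b.2 : F) - a.2)) (R.div_mem (R.sub_mem a.1.2 b.1.2) (R.sub_mem b.2.2 a.2.2)) ?_
        convert h4 using 1
        match_scalars <;> field_simp <;> ring
    have h := arith_levKer (levKer_card K) hB hmain
    obtain ⟨p, hp, -, ⟨ee, hqe⟩, hp0, -⟩ := exists_prime (F := F)
    haveI : CharP F 2 := CharTwo.of_one_ne_zero_of_two_eq_zero one_ne_zero h2
    have hp2 : p = 2 := ((Nat.prime_dvd_prime_iff_eq Nat.prime_two hp).1 ((CharP.cast_eq_zero_iff F 2 p).1 hp0)).symm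
    subst hp2
    have h2r : 2 * (r * r) ≤ q := by
      have hlt : 2 ^ (d + d) < 2 ^ ee := by
        rw [pow_add, ← hd, ← hqe]
        exact lt_of_le_of_lt hX hXq
      show 2 * (r * r) ≤ Nat.card F
      rw [hd, hqe, ← pow_add, ← pow_succ']
      exact Nat.pow_le_pow_right two_pos ((Nat.pow_lt_pow_iff_right one_lt_two).1 hlt)
    have h' : q ^ 2 * (r * r) * (q - 1) < (q ^ 2 + 1) * (r * r * (r * r)) :=
      lt_of_le_of_lt (Nat.mul_le_mul_right _ (Nat.mul_le_mul_left _ hX)) h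
    have h'' : q ^ 2 * (q - 1) < (q ^ 2 + 1) * (r * r) := Nat.lt_of_mul_lt_mul_left (a := r * r) (by
      calc r * r * (q ^ 2 * (q - 1)) = q ^ 2 * (r * r) * (q - 1) := by ring
        _ < _ := h'
        _ = _ := by ring)
    have h5 : 2 * (q ^ 2 * (q - 1)) < (q ^ 2 + 1) * q := by
      calc 2 * (q ^ 2 * (q - 1)) < 2 * ((q ^ 2 + 1) * (r * r)) := (Nat.mul_lt_mul_left two_pos).2 h''
        _ = (q ^ 2 + 1) * (2 * (r * r)) := by ring
        _ ≤ _ := Nat.mul_le_mul_left _ h2r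
    obtain ⟨s, hs⟩ : ∃ s, q = s + 4 := ⟨q - 4, by omega⟩
    rw [hs] at h5
    simp only [Nat.add_succ_sub_one] at h5
    nlinarith

end CfsgLib.MinIdx
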