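import Cfsg.Agent.Lib.MinIdx.SpPoint

/-!
# Root elements at every point of every perp give a root group in characteristic two
-/

set_option autoImplicit false

namespace CfsgLib.MinIdx

open Matrix CfsgLib.Classical CfsgLib.KnownA.SpGen

variable {F : Type*} [Field F] {m : ℕ}

theorem sroot_congr' {x x' v v' : Fin m ⊕ Fin m → F} (h : sbil x v = 0) (ex : x = x') (ev : v = v') (c : F) :
    sroot x v h c = sroot x' v' (ex ▸ ev ▸ h) c := by subst ex; subst ev; rfl

/-- Conjugating a root element at `y` moves it to one at `x`. -/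
theorem push_root {H : Subgroup (Matrix.symplecticGroup (Fin m) F)} (h2 : (2 : F) = 0)
    {x y w : Fin m ⊕ Fin m → F} {α c : F} (hyx : sbil y (α • x) = 0) (hxy : sbil x y = 0)
    (hmem : sroot y (α • x) hyx c ∈ H) (hw : w ∈ rootSet H x) :
    ∃ h : sbil x ((c * sbil w y) • y) = 0, sroot x ((c * sbil w y) • y) h (c * sbil w y ^ 2) ∈ H := by
  obtain ⟨hxw, d, hl⟩ := hw
  refine ⟨by rw [sbil_smul_right, hxy, mul_zero], ?_⟩
  have hLy : (sroot x w hxw d).1 *ᵥ y = y + sbil w y • x := by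
    rw [sroot_mulVec, hxy]; simp
  have hLx : (sroot x w hxw d).1 *ᵥ (α • x) = α • x := by
    rw [sroot_mulVec, sbil_smul_right, sbil_smul_right, sbil_swap x w, hxw, sbil_self]; simp
  have := H.mul_mem hmem (H.mul_mem (H.mul_mem hl hmem) (H.inv_mem hl))
  rw [sroot_conj, sroot_congr' _ hLy hLx] at this
  convert this using 1
  refine sp_ext fun z => ?_
  simp only [sp_mul_mulVec, sroot_mulVec, sbil_add_left, sbil_add_right, sbil_smul_left,
    sbil_smul_right, sbil_self, hxy, sbil_swap x y]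
  match_scalars <;> ring_nf <;> simp [h2]

variable [Finite F]

/-- A vector orthogonal to `a` and not to `b`. -/
theorem exists_perp_nonperp {a b : Fin m ⊕ Fin m → F} (h : b ∉ Submodule.span F {a}) :
    ∃ w, sbil a w = 0 ∧ sbil w b = 1 := by
  by_contra hc
  push Not at hc
  refine h ?_
  rw [← LinearMap.BilinForm.orthogonal_orthogonal (CfsgLib.Geometry.sympBilin_nondegenerate m F)
    (CfsgLib.Geometry.sympBilin_isAlt m F).isRefl (Submodule.span F {a})]
  refine mem_perp_iff.2 fun w hw => ?_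
  by_contra hne
  refine hc ((sbil w b)⁻¹ • w) ?_ (by rw [sbil_smul_left, inv_mul_cancel₀ hne])
  rw [sbil_smul_right, mem_perp_iff.1 hw a (Submodule.mem_span_singleton_self a), mul_zero]

/-- Root elements at every point of every perp give a root group. -/
theorem full_of_hyperplanes {H : Subgroup (Matrix.symplecticGroup (Fin m) F)} (hq : 3 ≤ Nat.card F)
    (h2 : (2 : F) = 0) (hm : 2 ≤ m)
    (hall : ∀ x : Fin m ⊕ Fin m → F, x ≠ 0 → ∀ v, sbil x v = 0 → v ∈ rootSet H x)
    {y : Fin m ⊕ Fin m → F} (hy : y ≠ 0) : Full H y := by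
  classical
  by_contra hnot
  refine hnot (full_of_zero_roots hm hy fun v hv hspan h => ?_)
  obtain ⟨h', c, hmem⟩ := hall y hy v hv
  suffices hc : c = 0 by subst hc; exact hmem
  by_contra hc
  refine hnot ?_
  have hv0 : v ≠ 0 := fun h0 => hspan (h0 ▸ zero_mem _)
  have hvy : sbil v y = 0 := by rw [sbil_swap y v, hv, neg_zero]
  have hyspan : y ∉ Submodule.span F {v} := fun h0 => by
    obtain ⟨a, ha⟩ := Submodule.mem_span_singleton.1 h0
    have ha0 : a ≠ 0 := by rintro rfl; exact hy (by rw [← ha, zero_smul])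
    exact hspan (Submodule.mem_span_singleton.2 ⟨a⁻¹, by rw [← ha, inv_smul_smul₀ ha0]⟩)
  obtain ⟨w₁, hw₁, hw₁y⟩ := exists_perp_nonperp hyspan
  obtain ⟨w₂, hw₂, hw₂v⟩ := exists_perp_nonperp hspan
  haveI : CharP F 2 := CharTwo.of_one_ne_zero_of_two_eq_zero one_ne_zero h2
  have key : ∀ β s : F, s ≠ 0 → ∃ h'' : sbil y (β • v) = 0, sroot y (β • v) h'' (β * s) ∈ H := by
    intro β s hs
    obtain ⟨t, ht⟩ : ∃ t : F, c * t ^ 2 = β / s := by
      obtain ⟨t, ht⟩ := (frobeniusEquiv F 2).surjective (β / s / c)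
      refine ⟨t, ?_⟩
      rw [show t ^ 2 = β / s / c from ht, mul_div_cancel₀ _ hc]
    obtain ⟨h1, hm1⟩ := push_root h2 (α := (1 : F)) (by rwa [one_smul]) hvy
      (sroot_congr h' (one_smul F v).symm rfl ▸ hmem)
      (hall v hv0 (t • w₁) (by rw [sbil_smul_right, hw₁, mul_zero]))
    rw! [sbil_smul_left, hw₁y, mul_one] at hm1
    obtain ⟨h3, hm3⟩ := push_root h2 _ hv hm1
      (hall y hy (s • w₂) (by rw [sbil_smul_right, hw₂, mul_zero]))
    have e1 : c * t ^ 2 * sbil (s • w₂) v = β := by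
      rw [sbil_smul_left, hw₂v, mul_one, ht, div_mul_cancel₀ _ hs]
    refine ⟨by rw [sbil_smul_right, hv, mul_zero], ?_⟩
    rw [sq (sbil (s • w₂) v), ← mul_assoc] at hm3
    convert hm3 using 1
    exact sroot_congr _ (by rw [e1]) (by rw [e1, sbil_smul_left, hw₂v, mul_one])
  haveI := Fintype.ofFinite F
  obtain ⟨a, -, ha⟩ := Finset.exists_mem_notMem_of_card_lt_card (s := ({0, 1} : Finset F)) (t := Finset.univ)
    (by rw [Finset.card_univ, ← Nat.card_eq_fintype_card]; exact lt_of_le_of_lt Finset.card_le_two (by omega))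
  simp only [Finset.mem_insert, Finset.mem_singleton, not_or] at ha
  have ha1 : (1 : F) + a ≠ 0 := fun h0 => ha.2 (by rw [← CharTwo.add_eq_zero.1 h0])
  intro d
  obtain ⟨i1, k1⟩ := key (d / (1 + a)) 1 one_ne_zero
  obtain ⟨i2, k2⟩ := key (d / (1 + a)) a ha.1
  have := H.mul_mem k1 k2
  rw [sroot_mul, sroot_congr _ (show (d / (1 + a)) • v + (d / (1 + a)) • v = 0 by
      rw [← add_smul, CharTwo.add_self_eq_zero, zero_smul]) rfl, sroot_zero, sbil_self, add_zero] at this
  rwa [← mul_add, div_mul_cancel₀ _ ha1] at this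

end CfsgLib.MinIdx
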