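import Cfsg.Agent.Lib.MinIdx.SpFourTrace

/-!
# A large vector part with an invariant line
-/

set_option autoImplicit false

namespace CfsgLib.MinIdx

open Matrix CfsgLib.Classical CfsgLib.KnownA.SpGen

variable {F : Type*} [Field F] [Finite F]

omit [Finite F] in
theorem neg_eq_self_of_two (h2 : (2 : F) = 0) (x : F) : -x = x := by linear_combination -x * h2

/-- With the full unipotent group of a line, the vector part meets few lines. -/
theorem sigma_small (K : Subgroup (HP F 1)) (h2 : (2 : F) = 0) (hcen : cenImage K ≠ ⊤)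
    {e : Fin 1 ⊕ Fin 1 → F} (hU : ∀ s : F, stv s e ∈ levKer K) {v v' : Fin 1 ⊕ Fin 1 → F}
    (hv : v ∈ vecImage K) (hv' : v' ∈ vecImage K) (hσ : sbil e v ≠ 0) (hσ' : sbil e v' ≠ 0) :
    sbil e v = sbil e v' := by
  by_contra hne
  refine hcen (eq_top_iff.2 fun z _ => ?_)
  -- root elements `(α e, α σ)` for every `α`
  have key : ∀ w ∈ vecImage K, ∀ s : F, (⟨1, 1, (s * sbil e w) • e, s * sbil e w * sbil e w⟩ : HP F 1) ∈ K := by
    intro w ⟨c, hc⟩ s
    obtain ⟨v₁, c₁, hs⟩ := (mem_levKer K).1 (hU s)
    have hmem := K.mul_mem (K.mul_mem (K.mul_mem hs hc) (K.inv_mem hs)) hc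
    have h1 : (⟨1, stv s e, v₁, c₁⟩ : HP F 1) * ⟨1, 1, w, c⟩ * (⟨1, stv s e, v₁, c₁⟩ : HP F 1)⁻¹ =
        ⟨1, 1, (stv s e).1 *ᵥ w, c⟩ := by
      rw [mul_inv_eq_iff_eq_mul, HP.mul_def, HP.mul_def]
      refine HP.ext (by simp) (by simp) ?_ ?_
      · simp [add_comm]
      · simp only [Units.val_one, one_pow, one_mul, one_smul, sp_one_mulVec]
        rw [sbil_swap v₁ ((stv s e).1 *ᵥ w), neg_eq_self_of_two h2]
        ring
    rw [h1, HP.mul_def] at hmem
    convert hmem using 1
    refine HP.ext (by simp) (by simp) ?_ ?_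
    · show _ = (stv s e).1 *ᵥ w + ((1 : Fˣ) : F) • ((1 : Matrix.symplecticGroup (Fin 1) F).1 *ᵥ w)
      rw [Units.val_one, one_smul, sp_one_mulVec, stv_mulVec, add_comm w, add_assoc,
        show w + w = (2 : F) • w by rw [two_smul], h2, zero_smul, add_zero]
    · simp only [Units.val_one, one_pow, one_mul, one_smul, sp_one_mulVec, stv_mulVec, sbil_add_left,
        sbil_self, sbil_smul_left, zero_add]
      linear_combination (-c) * h2
  set σ := sbil e v
  set σ' := sbil e v'
  have hd : σ + σ' ≠ 0 := fun h => hne (by rw [eq_neg_of_add_eq_zero_left h, neg_eq_self_of_two h2])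
  let α := z / (σ + σ')
  have hm := K.mul_mem (key v hv (α / σ)) (key v' hv' (α / σ'))
  rw [div_mul_cancel₀ _ hσ, div_mul_cancel₀ _ hσ', HP.mul_def] at hm
  rw [mem_cenImage]
  convert hm using 1
  refine HP.ext (by simp) (by simp) ?_ ?_
  · simp only [Units.val_one, one_smul, sp_one_mulVec]
    rw [show α • e + α • e = (2 * α) • e by rw [two_mul, add_smul], h2, zero_mul, zero_smul]
  · simp only [Units.val_one, one_pow, one_mul, one_smul, sp_one_mulVec, sbil_smul_left, sbil_smul_right,
      sbil_self, mul_zero, add_zero]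
    rw [← mul_add, div_mul_cancel₀ z hd]

omit [Finite F] in
theorem arith_red {q r X B : ℕ} (hq : 8 ≤ q) (hr : 2 ≤ r) (hX : r ≤ X) (hB : 2 * B ≤ (r + 1) * q)
    (h : q ^ 2 * X * (q - 1) < (q ^ 2 + 1) * B) : False := by
  have h1 : 2 * (q ^ 2 * r * (q - 1)) < (q ^ 2 + 1) * ((r + 1) * q) := by
    calc 2 * (q ^ 2 * r * (q - 1)) ≤ 2 * (q ^ 2 * X * (q - 1)) :=
          Nat.mul_le_mul_left _ (Nat.mul_le_mul_right _ (Nat.mul_le_mul_left _ hX))
      _ < 2 * ((q ^ 2 + 1) * B) := (Nat.mul_lt_mul_left two_pos).2 h
      _ = (q ^ 2 + 1) * (2 * B) := by ring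
      _ ≤ _ := Nat.mul_le_mul_left _ hB
  have h2 : 2 * q * r * (q - 1) < (q ^ 2 + 1) * (r + 1) := Nat.lt_of_mul_lt_mul_left (a := q) (by
    calc q * (2 * q * r * (q - 1)) = 2 * (q ^ 2 * r * (q - 1)) := by ring
      _ < _ := h1
      _ = _ := by ring)
  obtain ⟨s, rfl⟩ : ∃ s, q = s + 8 := ⟨q - 8, by omega⟩
  obtain ⟨t, rfl⟩ : ∃ t, r = t + 2 := ⟨r - 2, by omega⟩
  simp only [Nat.add_succ_sub_one] at h2
  nlinarith

/-- A large vector part with an invariant line is impossible, unless it is everything. -/
theorem no_line_of_large (hq : 4 ≤ Nat.card F) (K : Subgroup (HP F 1)) (h2 : (2 : F) = 0)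
    (hidx : K.index * (Nat.card F - 1) < Nat.card F ^ 4 - 1) (hcen : cenImage K ≠ ⊤)
    (hlarge : Nat.card F < Nat.card (vecImage K)) (htr : traceField K ≠ ⊤) (hW : vecImage K ≠ ⊤)
    {e : Fin 1 ⊕ Fin 1 → F} (he : e ≠ 0) : ∃ g ∈ levKer K, ∀ c : F, c • e ≠ g.1 *ᵥ e := by
  classical
  by_contra hcon
  push Not at hcon
  choose lam hlam using fun g : levKer K => hcon g.1 g.2
  have hlne : ∀ g, lam g ≠ 0 := fun g h0 => sp_mulVec_ne_zero g.1 he (by rw [← hlam g, h0, zero_smul])
  let φ : levKer K →* Fˣ :=
    { toFun := fun g => Units.mk0 (lam g) (hlne g)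
      map_one' := Units.ext (smul_left_injective F he (by
        show lam 1 • e = ((1 : Fˣ) : F) • e
        rw [hlam 1, Units.val_one, one_smul]; exact sp_one_mulVec e))
      map_mul' := fun g h => Units.ext (smul_left_injective F he (by
        show lam (g * h) • e = (lam g * lam h) • e
        rw [hlam (g * h), Subgroup.coe_mul, sp_mul_mulVec, ← hlam h, mulVec_smul, ← hlam g, smul_smul, mul_comm])) }
  let q := Nat.card F
  set R := traceField K
  obtain ⟨⟨d, hd⟩, hrr, hrX⟩ := traceField_bounds K h2 htr hW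
  set r := Nat.card R with hr
  have hr2 : 2 ≤ r := Finite.one_lt_card
  -- the eigenvalues are killed by `r - 1` or `r + 1`
  haveI : CharP F 2 := CharTwo.of_one_ne_zero_of_two_eq_zero one_ne_zero h2
  have hroot : ∀ g, φ g ^ (r - 1) = 1 ∨ φ g ^ (r + 1) = 1 := by
    intro g
    set x : F := lam g with hx
    have hx0 : x ≠ 0 := hlne g
    have htrace : g.1.1.trace = x + x⁻¹ := by
      have h := mulVec_add_inv g.1 e
      have hinv : (g.1⁻¹).1 *ᵥ e = x⁻¹ • e := by
        conv_lhs => rw [show e = x⁻¹ • (g.1.1 *ᵥ e) by rw [← hlam g, inv_smul_smul₀ hx0]]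
        rw [mulVec_smul, sp_inv_mulVec]
      rw [← hlam g, hinv, ← add_smul] at h
      exact (smul_left_injective F he h).symm
    have hpow : g.1.1.trace ^ r = g.1.1.trace := by
      haveI := Fintype.ofFinite R
      have h := FiniteField.pow_card (K := R) ⟨_, trace_mem K g.2⟩
      rw [hr, Nat.card_eq_fintype_card]
      exact congrArg Subtype.val h
    rw [htrace, hd, add_pow_char_pow, ← hd, inv_pow] at hpow
    have hxr : x ^ r ≠ 0 := pow_ne_zero _ hx0
    have hfac : (x ^ r - x) * (x ^ r * x - 1) = 0 := by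
      have h := congrArg (· * (x ^ r * x)) hpow
      field_simp at h
      linear_combination h
    rcases mul_eq_zero.1 hfac with h | h
    · refine Or.inl (Units.ext ?_)
      show x ^ (r - 1) = 1
      refine mul_right_cancel₀ hx0 ?_
      rw [← pow_succ, Nat.sub_add_cancel (by omega), one_mul]
      exact sub_eq_zero.1 h
    · refine Or.inr (Units.ext ?_)
      show x ^ (r + 1) = 1
      rw [pow_succ]; exact sub_eq_zero.1 h
  have hrange : Nat.card φ.range ≤ r + 1 ∧ Nat.card φ.range ≤ q - 1 := by
    refine ⟨?_, ?_⟩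
    · haveI : IsCyclic Fˣ := inferInstance
      haveI : IsCyclic φ.range := inferInstance
      obtain ⟨⟨u, ⟨g, rfl⟩⟩, hu⟩ := IsCyclic.exists_generator (α := φ.range)
      rw [← orderOf_eq_card_of_forall_mem_zpowers hu, ← Subgroup.orderOf_coe]
      rcases hroot g with h | h
      · exact (Nat.le_of_dvd (by omega) (orderOf_dvd_of_pow_eq_one h)).trans (by omega)
      · exact Nat.le_of_dvd (by omega) (orderOf_dvd_of_pow_eq_one h)
    · exact (Nat.card_le_card_of_injective _ Subtype.val_injective).trans_eq (Nat.card_units F)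
  -- the unipotent part
  let U : AddSubgroup F :=
    { carrier := {s | stv s e ∈ levKer K}
      zero_mem' := by
        show stv 0 e ∈ levKer K
        rw [CfsgLib.Classical.stv_zero]; exact (levKer K).one_mem
      add_mem' := fun {a b} ha hb => by
        show stv (a + b) e ∈ levKer K
        rw [← stv_mul]; exact (levKer K).mul_mem ha hb
      neg_mem' := fun {a} ha => by
        show stv (-a) e ∈ levKer K
        rw [← stv_inv]; exact (levKer K).inv_mem ha }
  have hker : Nat.card φ.ker = Nat.card U := by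
    refine (Nat.card_congr (Equiv.ofBijective (fun s : U => (⟨⟨stv s.1 e, s.2⟩, ?_⟩ : φ.ker)) ⟨?_, ?_⟩)).symm
    · refine Units.ext (smul_left_injective F he ?_)
      show lam _ • e = ((1 : Fˣ) : F) • e
      rw [hlam, Units.val_one, one_smul, stv_mulVec, sbil_self, mul_zero, zero_smul, add_zero]
    · intro s t h
      obtain ⟨f, hf⟩ := exists_sbil_eq_one he
      have h' := congrArg (fun g => g.1.1.1 *ᵥ f) h
      simp only [stv_mulVec, hf, mul_one] at h'
      exact Subtype.ext (smul_left_injective F he (add_left_cancel h'))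
    · rintro ⟨g, hg⟩
      have h1 : g.1.1 *ᵥ e = e := by
        rw [← hlam g, show lam g = 1 from congrArg Units.val hg, one_smul]
      obtain ⟨s, hs⟩ := eq_stv_of_fix he h1
      exact ⟨⟨s, show stv s e ∈ levKer K from hs ▸ g.2⟩, Subtype.ext (Subtype.ext hs.symm)⟩
  have hcardK : Nat.card (levKer K) = Nat.card φ.range * Nat.card U := by
    rw [Subgroup.card_eq_card_quotient_mul_card_subgroup φ.ker,
      Nat.card_congr (QuotientGroup.quotientKerEquivRange φ).toEquiv, hker]
  have hmain := levKer_bound_two K h2 hcen hidx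
  obtain ⟨w₀, hw₀, hσ₀⟩ : ∃ w ∈ vecImage K, sbil e w ≠ 0 := by
    by_contra hc
    push Not at hc
    refine absurd hlarge (not_lt.2 ?_)
    choose f hf using fun x : vecImage K => exists_smul_of_perp he (hc x.1 x.2)
    exact Nat.card_le_card_of_injective f fun a b h => Subtype.ext (by rw [← hf a, ← hf b, h])
  -- conjugation acts on the unipotent part by squares
  have hconj : ∀ g : levKer K, ∀ s ∈ U, s * lam g ^ 2 ∈ U := by
    intro g s hs
    show stv (s * lam g ^ 2) e ∈ levKer K
    rw [← stv_smul, hlam g, ← stv_conj]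
    exact (levKer K).mul_mem ((levKer K).mul_mem g.2 hs) ((levKer K).inv_mem g.2)
  by_cases hU : U = ⊤
  · -- the whole unipotent group
    have hUall : ∀ s : F, stv s e ∈ levKer K := fun s => (hU ▸ AddSubgroup.mem_top s : s ∈ U)
    have hsig : ∀ w ∈ vecImage K, sbil e w ≠ 0 → sbil e w = sbil e w₀ := fun w hw hne =>
      sigma_small K h2 hcen hUall hw hw₀ hne hσ₀
    have hWle : Nat.card (vecImage K) ≤ 2 * q := by
      have h : ∀ x : vecImage K, sbil e (if sbil e x.1 = 0 then x.1 else x.1 - w₀) = 0 := fun x => by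
        by_cases h0 : sbil e x.1 = 0
        · rw [if_pos h0]; exact h0
        · rw [if_neg h0, sbil_sub_right, hsig x.1 x.2 h0, sub_self]
      choose f hf using fun x : vecImage K => exists_smul_of_perp he (h x)
      rw [show 2 * q = Nat.card (Bool × F) by rw [Nat.card_prod]; simp [q]]
      refine Nat.card_le_card_of_injective (fun x => (decide (sbil e x.1 = 0), f x)) fun a b hab => ?_
      obtain ⟨h1, h3⟩ := Prod.mk.inj hab
      have h4 := hf a
      rw [h3, hf b] at h4
      by_cases ha : sbil e a.1 = 0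
      · have hb : sbil e b.1 = 0 := by simpa [ha] using h1.symm
        rw [if_pos ha, if_pos hb] at h4
        exact Subtype.ext h4.symm
      · have hb : ¬ sbil e b.1 = 0 := by simpa [ha] using h1.symm
        rw [if_neg ha, if_neg hb] at h4
        exact Subtype.ext (sub_left_injective h4).symm
    have hX : q ≤ 2 * (vecImage K).index := by
      refine Nat.le_of_mul_le_mul_right (c := q) ?_ (by omega)
      calc q * q = (vecImage K).index * Nat.card (vecImage K) := by
            rw [card_hyperplane_index]; ring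
        _ ≤ (vecImage K).index * (2 * q) := Nat.mul_le_mul_left _ hWle
        _ = _ := by ring
    have htriv : Nat.card φ.range ≤ 1 := by
      refine Finite.card_le_one_iff_subsingleton.2 ⟨fun a b => ?_⟩
      have key : ∀ g, φ g = 1 := by
        intro g
        have hm := vecImage_levKer K g.2 hw₀
        have h1 : lam g * sbil e (g.1.1 *ᵥ w₀) = sbil e w₀ := by
          rw [← sbil_smul_left, hlam g, sbil_mulVec]
        have hne : sbil e (g.1.1 *ᵥ w₀) ≠ 0 := fun h0 => hσ₀ (by rw [← h1, h0, mul_zero])
        rw [hsig _ hm hne] at h1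
        exact Units.ext ((mul_eq_right₀ hσ₀).1 h1)
      obtain ⟨_, g, rfl⟩ := a
      obtain ⟨_, g', rfl⟩ := b
      exact Subtype.ext ((key g).trans (key g').symm)
    have hB : Nat.card (levKer K) ≤ q := by
      rw [hcardK, hU, AddSubgroup.card_top]
      calc Nat.card φ.range * q ≤ 1 * q := Nat.mul_le_mul_right _ htriv
        _ = q := one_mul q
    have h := arith_levKer (levKer_card K) hB hmain
    have h3 : q ^ 2 * q * (q - 1) < 2 * ((q ^ 2 + 1) * q) := by
      calc q ^ 2 * q * (q - 1) ≤ q ^ 2 * (2 * (vecImage K).index) * (q - 1) :=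
            Nat.mul_le_mul_right _ (Nat.mul_le_mul_left _ hX)
        _ = 2 * (q ^ 2 * (vecImage K).index * (q - 1)) := by ring
        _ < _ := (Nat.mul_lt_mul_left two_pos).2 h
    have h4 : q ^ 2 * (q - 1) < 2 * (q ^ 2 + 1) := Nat.lt_of_mul_lt_mul_left (a := q) (by
      calc q * (q ^ 2 * (q - 1)) = q ^ 2 * q * (q - 1) := by ring
        _ < _ := h3
        _ = _ := by ring)
    have h5 : q ^ 2 * 3 ≤ q ^ 2 * (q - 1) := Nat.mul_le_mul_left _ (by omega)
    have h6 : 16 ≤ q ^ 2 := Nat.pow_le_pow_left hq 2
    omega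
  · -- a proper unipotent part
    obtain ⟨p, hp, -, ⟨ee, hqe⟩, hp0, hpZ⟩ := exists_prime (F := F)
    have hp2 : p = 2 := by
      have hc : (2 : ℕ) ∣ p := (CharP.cast_eq_zero_iff F 2 p).1 hp0
      exact ((Nat.prime_dvd_prime_iff_eq Nat.prime_two hp).1 hc).symm
    have hU2 : 2 * Nat.card U ≤ q := by
      show 2 * Nat.card U ≤ Nat.card F
      rw [← U.index_mul_card]
      exact Nat.mul_le_mul_right _ (hp2 ▸ hpZ U hU)
    rcases Nat.lt_or_ge q 8 with h8 | h8
    · have hq4 : q = 4 := by
        have hqe' : q = 2 ^ ee := hp2 ▸ hqe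
        rcases (show ee ≤ 2 ∨ 3 ≤ ee by omega) with h | h
        · interval_cases ee <;> simp at hqe' <;> omega
        · have := Nat.pow_le_pow_right two_pos h
          omega
      have hU1 : Nat.card U = 1 ∨ Nat.card U = 2 := by
        have h0 : 0 < Nat.card U := Nat.card_pos
        omega
      have hB : Nat.card (levKer K) ≤ 3 := by
        rw [hcardK]
        rcases hU1 with h | h
        · rw [h, mul_one]; have := hrange.2; omega
        · haveI : Nontrivial U := Finite.one_lt_card_iff_nontrivial.1 (by omega)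
          obtain ⟨⟨s, hs⟩, hs0⟩ := exists_ne (0 : U)
          have hs0' : s ≠ 0 := fun h0 => hs0 (Subtype.ext h0)
          have key : ∀ g, φ g = 1 := by
            intro g
            by_contra hne
            have h1 := hconj g s hs
            have hcases : s * lam g ^ 2 = 0 ∨ s * lam g ^ 2 = s := by
              by_contra hc
              push Not at hc
              haveI := Fintype.ofFinite U
              have := Finset.card_le_univ ({0, ⟨s, hs⟩, ⟨_, h1⟩} : Finset U)
              rw [Finset.card_insert_of_notMem (by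
                  simp only [Finset.mem_insert, Finset.mem_singleton, not_or]
                  exact ⟨fun h => hs0 h.symm, fun h => hc.1 (congrArg Subtype.val h).symm⟩),
                Finset.card_pair (fun h => hc.2 (congrArg Subtype.val h).symm),
                ← Nat.card_eq_fintype_card, h] at this
              omega
            rcases hcases with h' | h'
            · exact mul_ne_zero hs0' (pow_ne_zero 2 (hlne g)) h'
            · refine hne (Units.ext ?_)
              show lam g = 1
              have h'' : lam g ^ 2 = 1 := (mul_eq_left₀ hs0').1 h'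
              rcases sq_eq_one_iff.1 h'' with e1 | e1
              · exact e1
              · rw [e1, neg_eq_self_of_two h2]
          have htriv : Nat.card φ.range ≤ 1 := Finite.card_le_one_iff_subsingleton.2
            ⟨fun a b => by
              obtain ⟨_, g, rfl⟩ := a
              obtain ⟨_, g', rfl⟩ := b
              exact Subtype.ext ((key g).trans (key g').symm)⟩
          rw [h]; omega
      have h := arith_levKer (levKer_card K) hB hmain
      have hX2 : 2 ≤ (vecImage K).index := hr2.trans hrX
      change q ^ 2 * _ * (q - 1) < (q ^ 2 + 1) * 3 at h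
      rw [hq4] at h
      norm_num at h
      omega
    · refine arith_red h8 hr2 hrX ?_ (arith_levKer (levKer_card K) le_rfl hmain)
      rw [hcardK]
      calc 2 * (Nat.card φ.range * Nat.card U) = Nat.card φ.range * (2 * Nat.card U) := by ring
        _ ≤ _ := Nat.mul_le_mul hrange.1 hU2

end CfsgLib.MinIdx
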