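import Cfsg.Agent.Lib.MinIdx.SpFourBase
import Cfsg.Agent.Lib.Classical.SympOrder

/-!
# Subgroups of the point parabolic of `Sp₄` with a small vector part
-/

set_option autoImplicit false

namespace CfsgLib.MinIdx

open Matrix CfsgLib.Classical CfsgLib.KnownA.SpGen

variable {F : Type*} [Field F]

/-- The order of a two-dimensional symplectic group. -/
theorem card_sp_two (F : Type*) [Field F] [Finite F] :
    Nat.card (Matrix.symplecticGroup (Fin 1) F) = Nat.card F * (Nat.card F ^ 2 - 1) := by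
  rw [card_symplecticGroup, Fintype.card_fin]
  simp

/-- A torus element and a full unipotent group over it give a root group. -/
theorem rootIn_of_torus (K : Subgroup (HP F 1)) [Finite F] {a : Fˣ} (ha : a ∈ torImage K)
    (ha2 : (a : F) ^ 2 ≠ 1) {e : Fin 1 ⊕ Fin 1 → F} (he : e ≠ 0) (hU : ∀ c : F, stv c e ∈ levKer K) :
    RootIn K := by
  classical
  obtain ⟨v₀, c₀, hk⟩ := (torImage_mem K).1 ha
  have hne : (a : F) - 1 ≠ 0 := sub_ne_zero.2 fun h => ha2 (by rw [h, one_pow])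
  have hne2 : (a : F) ^ 2 - 1 ≠ 0 := sub_ne_zero.2 ha2
  let W := vecImage K
  -- `W` is stable under `(a - 1)⁻¹`
  have hdiv : ∀ v, ((a : F) - 1) • v ∈ W → v ∈ W := by
    intro v hv
    let φ : W → W := fun w => ⟨((a : F) - 1) • w.1, by
      rw [sub_smul, one_smul]
      refine W.sub_mem ?_ w.2
      simpa using vecImage_conj K hk w.2⟩
    obtain ⟨w, hw⟩ := (Finite.injective_iff_surjective.1 (fun w w' h =>
      Subtype.ext (smul_right_injective _ hne (congrArg Subtype.val h :))) : Function.Surjective φ) ⟨_, hv⟩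
    rw [← smul_right_injective _ hne (congrArg Subtype.val hw :)]
    exact w.2
  let w₀ : Fin 1 ⊕ Fin 1 → F := ((a : F) - 1)⁻¹ • v₀
  let u : HP F 1 := ⟨1, 1, w₀, 0⟩
  let K' : Subgroup (HP F 1) := K.map (MulAut.conj u).toMonoidHom
  have hK' : ∀ k, k ∈ K → u * k * u⁻¹ ∈ K' := fun k hk => ⟨k, hk, rfl⟩
  -- the torus element becomes exact
  have hA : ∃ c, (⟨a, 1, 0, c⟩ : HP F 1) ∈ K' := by
    refine ⟨(u * ⟨a, 1, v₀, c₀⟩ * u⁻¹).c, ?_⟩
    convert hK' _ hk using 1
    refine HP.ext (by simp [u, HP.mul_def, HP.inv_def]) (by simp [u, HP.mul_def, HP.inv_def]) ?_ rfl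
    simp only [u, w₀, HP.mul_def, HP.inv_def, inv_one, one_mul, Units.val_one, one_smul, sp_one_mulVec, mulVec_neg, smul_neg]
    refine (smul_eq_zero.1 (show ((a : F) - 1) • (((a : F) - 1)⁻¹ • v₀ + v₀ + -((a : F) • ((a : F) - 1)⁻¹ • v₀)) = 0 from
      ?_)).resolve_left hne |>.symm
    rw [smul_add, smul_add, smul_neg, smul_comm ((a : F) - 1) (a : F), smul_inv_smul₀ hne]
    module
  -- vectors of `K` survive
  have hvec : ∀ v ∈ W, ∃ c, (⟨1, 1, v, c⟩ : HP F 1) ∈ K' := by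
    rintro v ⟨c, hc⟩
    refine ⟨(u * ⟨1, 1, v, c⟩ * u⁻¹).c, ?_⟩
    convert hK' _ hc using 1
    exact HP.ext (by simp [u, HP.mul_def, HP.inv_def]) (by simp [u, HP.mul_def, HP.inv_def])
      (by simp [u, HP.mul_def, HP.inv_def]) rfl
  have hfixu : ∀ z : F, u * ⟨1, 1, 0, z⟩ * u⁻¹ = ⟨1, 1, 0, z⟩ := by
    intro z
    rw [mul_inv_eq_iff_eq_mul]
    simp [u, HP.mul_def, sbil, add_comm]
  have hcen : ∀ z, (⟨1, 1, 0, z⟩ : HP F 1) ∈ K' → z ∈ cenImage K := by
    rintro z ⟨k, hk', hke⟩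
    have hk2 : k = ⟨1, 1, 0, z⟩ := (MulAut.conj u).injective (hke.trans (hfixu z).symm)
    exact (mem_cenImage K).2 (hk2 ▸ hk')
  obtain ⟨cA, hA⟩ := hA
  refine Or.inr ⟨u, e, he, fun s => ?_⟩
  obtain ⟨v, d, hs⟩ := (mem_levKer K).1 (hU s)
  -- remove the vector of the lift
  have hv' : ((a : F) - 1) • (u * ⟨1, stv s e, v, d⟩ * u⁻¹).v ∈ W := by
    have hmem := K.mul_mem (K.mul_mem hk hs) (K.inv_mem (K.mul_mem hs hk))
    refine ⟨((⟨a, 1, v₀, c₀⟩ : HP F 1) * ⟨1, stv s e, v, d⟩ * ((⟨1, stv s e, v, d⟩ : HP F 1) * ⟨a, 1, v₀, c₀⟩)⁻¹).c, ?_⟩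
    convert hmem using 1
    refine HP.ext (by simp [HP.mul_def, HP.inv_def]) (by simp [HP.mul_def, HP.inv_def]) ?_ rfl
    simp only [u, w₀, HP.mul_def, HP.inv_def, inv_one, one_mul, mul_one, Units.val_one, one_smul, sp_one_mulVec,
      mulVec_neg, smul_neg, mulVec_smul, mulVec_add, smul_add]
    simp only [smul_smul, Units.mul_inv, one_smul, sp_mulVec_inv]
    rw [mul_inv_cancel₀ hne, one_smul, one_smul]
    module
  obtain ⟨M, hM⟩ : ∃ M, M = u * ⟨1, stv s e, v, d⟩ * u⁻¹ := ⟨_, rfl⟩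
  rw [← hM] at hv'
  obtain ⟨c', hc'⟩ := hvec _ (W.neg_mem (hdiv _ hv'))
  have hS : ∃ d', (⟨1, stv s e, 0, d'⟩ : HP F 1) ∈ K' := by
    refine ⟨((⟨1, 1, -M.v, c'⟩ : HP F 1) * M).c, ?_⟩
    convert K'.mul_mem hc' (hM ▸ hK' _ hs) using 1
    refine HP.ext (by simp [hM, u, HP.mul_def, HP.inv_def]) (by simp [hM, u, HP.mul_def, HP.inv_def]) ?_ rfl
    show (0 : Fin 1 ⊕ Fin 1 → F) = -M.v + ((1 : Fˣ) : F) • ((1 : Matrix.symplecticGroup (Fin 1) F).1 *ᵥ M.v)
    simp
  obtain ⟨d', hd'⟩ := hS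
  have hz : ((a : F) ^ 2 - 1) * d' ∈ cenImage K := by
    refine hcen _ ?_
    convert K'.mul_mem (K'.mul_mem hA hd') (K'.inv_mem (K'.mul_mem hd' hA)) using 1
    rw [eq_mul_inv_iff_mul_eq]
    simp only [HP.mul_def, smul_zero, mulVec_zero, add_zero, sbil, zero_dotProduct, one_mul, mul_one,
      Units.val_one, one_pow, one_smul]
    exact HP.ext rfl rfl rfl (by ring)
  have hd0 : d' ∈ cenImage K := by
    let φ : cenImage K → cenImage K := fun z => ⟨((a : F) ^ 2 - 1) * z.1, by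
      rw [sub_mul, one_mul]
      exact (cenImage K).sub_mem (cenImage_sq K ha z.2) z.2⟩
    obtain ⟨z, hz'⟩ := (Finite.injective_iff_surjective.1 (fun z z' h =>
      Subtype.ext (mul_left_cancel₀ hne2 (congrArg Subtype.val h :))) : Function.Surjective φ) ⟨_, hz⟩
    rw [← mul_left_cancel₀ hne2 (congrArg Subtype.val hz' :)]
    exact z.2
  have hfinal : (⟨1, stv s e, 0, 0⟩ : HP F 1) ∈ K' := by
    have hz' : (⟨1, 1, 0, -d'⟩ : HP F 1) ∈ K' := by
      exact ⟨_, (mem_cenImage K).1 ((cenImage K).neg_mem hd0), hfixu _⟩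
    convert K'.mul_mem hz' hd' using 1
    simp [HP.mul_def, sbil]
  obtain ⟨k, hk', hke⟩ := hfinal
  rw [← hke]
  simpa [mul_assoc] using hk'

variable [Finite F]

omit [Finite F] in
theorem four_pow (q : ℕ) : q ^ 4 - 1 = (q ^ 2 + 1) * (q ^ 2 - 1) := by
  rw [show q ^ 4 - 1 = (q ^ 2) ^ 2 - 1 ^ 2 by ring_nf, Nat.sq_sub_sq]

omit [Finite F] in
theorem arith_line {g q i ι : ℕ} (hg : g = 1 ∨ g = 2) (hq : 4 ≤ q) (hi : g < i) (hι : q ^ 2 - 1 ≤ ι * (q - 1))
    (h : i * ι * (q ^ 2 * (q - 1)) < g * (q ^ 4 - 1)) : False := by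
  have h1 : (g + 1) * ((q ^ 2 - 1) * q ^ 2) < g * ((q ^ 2 + 1) * (q ^ 2 - 1)) := by
    rw [← four_pow]
    refine lt_of_le_of_lt ?_ h
    calc (g + 1) * ((q ^ 2 - 1) * q ^ 2) ≤ i * (ι * (q - 1) * q ^ 2) := Nat.mul_le_mul hi (Nat.mul_le_mul_right _ hι)
      _ = _ := by ring
  have h16 : 16 ≤ q ^ 2 := Nat.pow_le_pow_left hq 2
  rcases hg with rfl | rfl <;> nlinarith [h1, h16, (show 1 ≤ q ^ 2 - 1 by omega)]

omit [Finite F] in
theorem arith_torus {g q : ℕ} (hg : g = 1 ∨ g = 2) (hq : 4 ≤ q)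
    (h : (q ^ 2 - 1) * ((q - 1) * ((g + 1) * q)) < g * (q ^ 4 - 1)) : False := by
  rw [four_pow] at h
  obtain ⟨s, rfl⟩ : ∃ s, q = s + 4 := ⟨q - 4, by omega⟩
  have h16 : 16 ≤ (s + 4) ^ 2 := Nat.pow_le_pow_left (by omega) 2
  simp only [Nat.add_succ_sub_one] at h
  obtain ⟨r, hr⟩ : ∃ r, (s + 4) ^ 2 - 1 = r := ⟨_, rfl⟩
  have hr0 : 0 < r := by omega
  rw [hr] at h
  have h2 : (s + 3) * ((g + 1) * (s + 4)) < g * ((s + 4) ^ 2 + 1) :=
    Nat.lt_of_mul_lt_mul_left (a := r) (by linarith)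
  rcases hg with rfl | rfl <;> nlinarith

omit [Finite F] in
theorem arith_noline {g q σ : ℕ} (hg : g = 1 ∨ g = 2) (hq : 4 ≤ q) (hq5 : g = 2 → 5 ≤ q) (hσ : σ * σ ≤ q)
    (h : q * (q ^ 2 - 1) * (q ^ 2 * (q - 1)) < g * (q ^ 4 - 1) * ((q - 1) * σ)) : False := by
  rw [four_pow] at h
  have h' : q ^ 3 < g * (q ^ 2 + 1) * σ := by
    refine Nat.lt_of_mul_lt_mul_left (a := (q ^ 2 - 1) * (q - 1)) ?_
    calc (q ^ 2 - 1) * (q - 1) * q ^ 3 = q * (q ^ 2 - 1) * (q ^ 2 * (q - 1)) := by ring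
      _ < _ := h
      _ = _ := by ring
  have h2 := Nat.mul_self_lt_mul_self h'
  have h3 : g * (q ^ 2 + 1) * σ * (g * (q ^ 2 + 1) * σ) ≤ g * g * (q ^ 2 + 1) ^ 2 * q := by
    calc g * (q ^ 2 + 1) * σ * (g * (q ^ 2 + 1) * σ) = g * g * (q ^ 2 + 1) ^ 2 * (σ * σ) := by ring
      _ ≤ _ := Nat.mul_le_mul_left _ hσ
  have h4 : q ^ 5 < g * g * (q ^ 2 + 1) ^ 2 := by
    refine Nat.lt_of_mul_lt_mul_right (a := q) ?_
    calc q ^ 5 * q = q ^ 3 * q ^ 3 := by ring
      _ < _ := h2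
      _ ≤ _ := h3
  have h16 : (q ^ 2 + 1) ^ 2 * 256 ≤ 289 * (q ^ 4) := by
    have : 16 ≤ q ^ 2 := Nat.pow_le_pow_left hq 2
    calc (q ^ 2 + 1) ^ 2 * 256 = (16 * q ^ 2 + 16) ^ 2 := by ring
      _ ≤ (17 * q ^ 2) ^ 2 := Nat.pow_le_pow_left (by omega) 2
      _ = _ := by ring
  have h5 : q ^ 5 * 256 < g * g * 289 * q ^ 4 := by
    calc q ^ 5 * 256 < g * g * (q ^ 2 + 1) ^ 2 * 256 := (Nat.mul_lt_mul_right (by norm_num)).2 h4
      _ = g * g * ((q ^ 2 + 1) ^ 2 * 256) := by ring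
      _ ≤ g * g * (289 * q ^ 4) := Nat.mul_le_mul_left _ h16
      _ = _ := by ring
  have h6 : q * 256 < g * g * 289 := Nat.lt_of_mul_lt_mul_right (a := q ^ 4) (by
    calc q * 256 * q ^ 4 = q ^ 5 * 256 := by ring
      _ < _ := h5)
  rcases hg with rfl | rfl
  · omega
  · have := hq5 rfl
    omega

omit [Finite F] in
theorem gchar_two_five [Finite F] (h : gchar F = 2) (hq : 4 ≤ Nat.card F) : 5 ≤ Nat.card F := by
  by_contra h5
  have hq44 : Nat.card F = 2 * 2 := by omega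
  haveI := Fintype.ofFinite F
  have h' := FiniteField.cast_card_eq_zero F
  rw [← Nat.card_eq_fintype_card, hq44, Nat.cast_mul, Nat.cast_ofNat] at h'
  rw [gchar_one (mul_self_eq_zero.1 h')] at h
  omega

/-- The smallest index for the line stabilisers. -/
theorem index_of_fixed_line (hq : 3 ≤ Nat.card F) {L : Subgroup (Matrix.symplecticGroup (Fin 1) F)}
    {e : Fin 1 ⊕ Fin 1 → F} (he : e ≠ 0) (hL : ∀ g ∈ L, ∃ c : F, c • e = g.1 *ᵥ e) :
    Nat.card F ^ 2 - 1 ≤ L.index * (Nat.card F - 1) := by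
  refine bound_of_subspace (m := 1) hq (S := Submodule.span F {e}) ?_ ?_ ?_
  · exact fun h => he ((Submodule.span_singleton_eq_bot).1 h)
  · intro h
    have h1 := finrank_span_singleton (K := F) he
    rw [h, finrank_top, Module.finrank_fintype_fun_eq_card, Fintype.card_sum, Fintype.card_fin] at h1
    omega
  · intro g hg v hv
    obtain ⟨b, rfl⟩ := Submodule.mem_span_singleton.1 hv
    obtain ⟨c, hc⟩ := hL g hg
    rw [mulVec_smul, ← hc, smul_smul]
    exact Submodule.mem_span_singleton.2 ⟨_, rfl⟩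

/-- The stabiliser of the line through `e`. -/
def lineStab (e : Fin 1 ⊕ Fin 1 → F) : Subgroup (Matrix.symplecticGroup (Fin 1) F) where
  carrier := {g | ∃ c : F, c ≠ 0 ∧ c • e = g.1 *ᵥ e}
  one_mem' := ⟨1, one_ne_zero, by rw [one_smul, sp_one_mulVec]⟩
  mul_mem' := by
    rintro g h ⟨c, hc0, hc⟩ ⟨d, hd0, hd⟩
    exact ⟨d * c, mul_ne_zero hd0 hc0, by rw [sp_mul_mulVec, ← hd, mulVec_smul, ← hc, smul_smul]⟩
  inv_mem' := by
    rintro g ⟨c, hc0, hc⟩
    refine ⟨c⁻¹, inv_ne_zero hc0, ?_⟩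
    conv_rhs => rw [show e = c⁻¹ • (g.1 *ᵥ e) by rw [← hc, inv_smul_smul₀ hc0]]
    rw [mulVec_smul, sp_inv_mulVec]

/-- The mass bound for a small vector part. -/
theorem levKer_bound (K : Subgroup (HP F 1)) (hcen : cenImage K ≠ ⊤)
    (hidx : K.index * (Nat.card F - 1) < Nat.card F ^ 4 - 1) (hsmall : Nat.card (vecImage K) ≤ Nat.card F) :
    Nat.card F ≤ (vecImage K).index ∧
      (levKer K).index * (Nat.card F ^ 2 * (Nat.card F - 1)) < gchar F * (Nat.card F ^ 4 - 1) := by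
  let q := Nat.card F
  have hφ := card_le_index_mul (torProj K) (cenImage K) hcen
    (fun a ha z hz => by
      obtain ⟨k, hk, rfl⟩ := ha
      exact cenImage_sq' K hk hz) (gchar F) sqrt_le_gchar
  change q ≤ _ at hφ
  have hX : q ≤ (vecImage K).index := by
    refine Nat.le_of_mul_le_mul_right (c := Nat.card (vecImage K)) ?_ Nat.card_pos
    rw [card_hyperplane_index]
    calc q * Nat.card (vecImage K) ≤ q * q := Nat.mul_le_mul_left _ hsmall
      _ = q ^ (2 * 1) := by ring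
  have hmain : (levKer K).index * (q ^ 2 * (q - 1)) < gchar F * (q ^ 4 - 1) := by
    have hg0 : 0 < gchar F := by rcases gchar_cases (F := F) with h | h <;> omega
    calc (levKer K).index * (q ^ 2 * (q - 1)) = (levKer K).index * (q * q) * (q - 1) := by ring
      _ ≤ (levKer K).index * ((gchar F * ((torProj K).index * (cenImage K).index)) * (vecImage K).index) * (q - 1) :=
          Nat.mul_le_mul_right _ (Nat.mul_le_mul_left _ (Nat.mul_le_mul hφ hX))
      _ = gchar F * (K.index * (q - 1)) := by rw [index_eq']; ring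
      _ < gchar F * (q ^ 4 - 1) := (Nat.mul_lt_mul_left hg0).2 hidx
  exact ⟨hX, hmain⟩

/-- Small vector parts with an invariant line give root groups. -/
theorem rootIn_of_line (hq : 4 ≤ Nat.card F) (K : Subgroup (HP F 1))
    (hidx : K.index * (Nat.card F - 1) < Nat.card F ^ 4 - 1) (hcen : cenImage K ≠ ⊤)
    (hsmall : Nat.card (vecImage K) ≤ Nat.card F) {e : Fin 1 ⊕ Fin 1 → F} (he : e ≠ 0)
    (hfix : ∀ g ∈ levKer K, ∃ c : F, c • e = g.1 *ᵥ e) : RootIn K := by
  classical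
  let q := Nat.card F
  obtain ⟨p, hp, hgp, -, hp0, hpZ⟩ := exists_prime (F := F)
  obtain ⟨hX, hmain⟩ := levKer_bound K hcen hidx hsmall
  have hle : levKer K ≤ lineStab e := fun g hg => by
    obtain ⟨c, hc⟩ := hfix g hg
    exact ⟨c, fun h0 => sp_mulVec_ne_zero g he (by rw [← hc, h0, zero_smul]), hc⟩
  have hst := index_of_fixed_line (by omega) he (L := lineStab e) (fun g ⟨c, _, hc⟩ => ⟨c, hc⟩)
  have hmul := Subgroup.relIndex_mul_index hle
  set i := (levKer K).relIndex (lineStab e) with hi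
  have hig : i ≤ gchar F := by
    by_contra hlt
    push Not at hlt
    exact arith_line gchar_cases hq hlt hst (hmul.symm ▸ hmain)
  -- the whole unipotent group of the line
  have hU : ∀ c : F, stv c e ∈ levKer K := by
    intro c
    have hmem : stv c e ∈ lineStab e := ⟨1, one_ne_zero, by rw [one_smul, stv_mulVec, sbil_self]; simp⟩
    have hzle : Subgroup.zpowers (stv c e) ≤ lineStab e := Subgroup.zpowers_le.2 hmem
    have hpow : ∀ k : ℕ, stv c e ^ k = stv ((k : F) * c) e := by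
      intro k
      induction k with
      | zero => simp
      | succ k ih => rw [pow_succ, ih, stv_mul]; push_cast; ring_nf
    have h1 : (levKer K).relIndex (Subgroup.zpowers (stv c e)) = 1 := by
      have h2 : (levKer K).relIndex (Subgroup.zpowers (stv c e)) ≤ i :=
        Subgroup.relIndex_le_of_le_right hzle (hi ▸ Subgroup.index_ne_zero_of_finite)
      have h3 : (levKer K).relIndex (Subgroup.zpowers (stv c e)) ∣ p := by
        refine (Subgroup.index_dvd_card _).trans ?_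
        rw [Nat.card_zpowers]
        exact orderOf_dvd_of_pow_eq_one (by rw [hpow, hp0, zero_mul, CfsgLib.Classical.stv_zero])
      rcases (Nat.dvd_prime hp).1 h3 with h | h
      · exact h
      · omega
    exact Subgroup.relIndex_eq_one.1 h1 (Subgroup.mem_zpowers _)
  by_contra hroot
  have htor : ∀ a ∈ torImage K, (a : F) ^ 2 = 1 := by
    intro a ha
    by_contra ha2
    exact hroot (rootIn_of_torus K ha ha2 he hU)
  have htc : Nat.card (torImage K) ≤ gchar F := by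
    refine le_trans ?_ sqrt_le_gchar
    exact Nat.card_le_card_of_injective (fun a => (⟨a.1, Units.ext (by simpa using htor a.1 a.2)⟩ : {a : Fˣ // a ^ 2 = 1}))
      fun a b h => Subtype.ext (congrArg Subtype.val h :)
  -- the whole Levi image fixes the line
  have hlev : ∀ g ∈ levImage K, ∃ c : F, c • e = g.1 *ᵥ e := by
    rintro _ ⟨k, hk, rfl⟩
    have h1 := levKer_conj K hk (hU 1)
    rw [stv_conj] at h1
    obtain ⟨c, hc⟩ := hfix _ h1
    rw [stv_mulVec] at hc
    show ∃ c : F, c • e = k.g.1 *ᵥ e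
    by_cases h0 : sbil (k.g.1 *ᵥ e) e = 0
    · refine exists_smul_of_perp he ?_
      rw [sbil_swap (k.g.1 *ᵥ e) e, h0, neg_zero]
    · refine ⟨(c - 1) / (1 * sbil (k.g.1 *ᵥ e) e), ?_⟩
      rw [div_eq_inv_mul, mul_smul, sub_smul, one_smul, hc, add_sub_cancel_left, inv_smul_smul₀ (by simpa using h0)]
  have hι := index_of_fixed_line (by omega) he hlev
  have hD : (q - 1) ≤ gchar F * (torImage K).index := by
    rw [← Nat.card_units F, ← (torImage K).index_mul_card, mul_comm (gchar F)]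
    exact Nat.mul_le_mul_left _ htc
  have hfin : (q ^ 2 - 1) * ((q - 1) * ((gchar F + 1) * q)) < gchar F * (q ^ 4 - 1) := by
    have hg0 : 0 < gchar F := by rcases gchar_cases (F := F) with h | h <;> omega
    calc (q ^ 2 - 1) * ((q - 1) * ((gchar F + 1) * q))
        ≤ ((levImage K).index * (q - 1)) * ((gchar F * (torImage K).index) * ((cenImage K).index * (vecImage K).index)) :=
          Nat.mul_le_mul hι (Nat.mul_le_mul hD (Nat.mul_le_mul (hgp.trans_le (hpZ _ hcen)) hX))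
      _ = gchar F * (K.index * (q - 1)) := by rw [index_eq]; ring
      _ < _ := (Nat.mul_lt_mul_left hg0).2 hidx
  exact arith_torus gchar_cases hq hfin

/-- Small non-zero vector parts always have an invariant line. -/
theorem exists_line_of_small (hq : 4 ≤ Nat.card F) (K : Subgroup (HP F 1))
    (hidx : K.index * (Nat.card F - 1) < Nat.card F ^ 4 - 1) (hcen : cenImage K ≠ ⊤)
    (hvec : vecImage K ≠ ⊥) (hsmall : Nat.card (vecImage K) ≤ Nat.card F) :
    ∃ e : Fin 1 ⊕ Fin 1 → F, e ≠ 0 ∧ ∀ g ∈ levKer K, ∃ c : F, c • e = g.1 *ᵥ e := by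
  classical
  by_contra hline
  push Not at hline
  let q := Nat.card F
  obtain ⟨-, hmain⟩ := levKer_bound K hcen hidx hsmall
  obtain ⟨w, hw, hw0⟩ : ∃ w ∈ vecImage K, w ≠ 0 := by
    by_contra hc
    push Not at hc
    exact hvec ((AddSubgroup.eq_bot_iff_forall _).2 hc)
  obtain ⟨g₀, hg₀, hmove⟩ := hline w hw0
  set f := g₀.1 *ᵥ w with hf
  let S : Subgroup (Matrix.symplecticGroup (Fin 1) F) :=
    { carrier := {g | g ∈ levKer K ∧ g.1 *ᵥ w = w}
      one_mem' := ⟨(levKer K).one_mem, sp_one_mulVec w⟩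
      mul_mem' := fun hg hh => ⟨(levKer K).mul_mem hg.1 hh.1, by rw [sp_mul_mulVec, hh.2, hg.2]⟩
      inv_mem' := fun {g} hg => ⟨(levKer K).inv_mem hg.1, by
        conv_lhs => rw [← hg.2, sp_inv_mulVec]⟩ }
  have hwf : sbil w f ≠ 0 := by
    intro h0
    obtain ⟨c, hc⟩ := exists_smul_of_perp hw0 h0
    exact hmove c hc
  have hfW : f ∈ vecImage K := vecImage_levKer K hg₀ hw
  have hS : ∀ s : S, ∃ c : F, (s.1 = stv c w) := fun s => eq_stv_of_fix hw0 s.2.2
  choose cs hcs using hS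
  have hcinj : Function.Injective cs := fun a b h => Subtype.ext (by rw [hcs a, hcs b, h])
  have hline_mem : ∀ s : S, (cs s * sbil w f) • w ∈ vecImage K ∧ (cs s * sbil w f) • f ∈ vecImage K := by
    intro s
    have hA : (cs s * sbil w f) • w ∈ vecImage K := by
      have h := (vecImage K).sub_mem (vecImage_levKer K s.2.1 hfW) hfW
      rwa [hcs s, stv_mulVec, add_sub_cancel_left] at h
    refine ⟨hA, ?_⟩
    have h := vecImage_levKer K hg₀ hA
    rwa [mulVec_smul] at h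
  have hS2 : Nat.card S * Nat.card S ≤ Nat.card (vecImage K) := by
    rw [← Nat.card_prod]
    refine Nat.card_le_card_of_injective (fun st => (⟨_, (vecImage K).add_mem (hline_mem st.1).1 (hline_mem st.2).2⟩ :
      vecImage K)) fun a b h => ?_
    have h' := congrArg Subtype.val h
    dsimp only at h'
    have h1 := congrArg (sbil · f) h'
    have h2 := congrArg (sbil w ·) h'
    simp only [sbil_add_left, sbil_add_right, sbil_smul_left, sbil_smul_right, sbil_self, mul_zero, add_zero,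
      zero_add] at h1 h2
    exact Prod.ext (hcinj (mul_right_cancel₀ hwf (mul_right_cancel₀ hwf h1)))
      (hcinj (mul_right_cancel₀ hwf (mul_right_cancel₀ hwf h2)))
  -- orbit counting
  let orb : levKer K → {v : vecImage K // v.1 ≠ 0} := fun g =>
    ⟨⟨g.1.1 *ᵥ w, vecImage_levKer K g.2 hw⟩, sp_mulVec_ne_zero _ hw0⟩
  have hcardK : Nat.card (levKer K) ≤ Nat.card {v : vecImage K // v.1 ≠ 0} * Nat.card S := by
    have hsec : ∀ v : Set.range orb, ∃ g : levKer K, orb g = v.1 := fun v => v.2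
    choose sec hsec using hsec
    let toS : ∀ g : levKer K, S := fun g => ⟨((sec ⟨orb g, g, rfl⟩).1)⁻¹ * g.1,
      (levKer K).mul_mem ((levKer K).inv_mem (sec ⟨orb g, g, rfl⟩).2) g.2, by
        have h := congrArg (fun v => v.1.1) (hsec ⟨orb g, g, rfl⟩)
        change (sec ⟨orb g, g, rfl⟩).1.1 *ᵥ w = g.1.1 *ᵥ w at h
        rw [sp_mul_mulVec, ← h, sp_inv_mulVec]⟩
    rw [← Nat.card_prod]
    refine Nat.card_le_card_of_injective (fun g => (orb g, toS g)) fun a b h => ?_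
    obtain ⟨h1, h2⟩ := Prod.mk.inj h
    have h3 : orb a = orb b := h1
    have h4 : ((sec ⟨orb a, a, rfl⟩).1)⁻¹ * a.1 = ((sec ⟨orb b, b, rfl⟩).1)⁻¹ * b.1 := congrArg Subtype.val h2
    rw [show (⟨orb a, a, rfl⟩ : Set.range orb) = ⟨orb b, b, rfl⟩ from Subtype.ext h3] at h4
    exact Subtype.ext (mul_left_cancel h4)
  have hL := (levKer K).index_mul_card
  rw [card_sp_two] at hL
  change _ = q * (q ^ 2 - 1) at hL
  have hkey : q * (q ^ 2 - 1) * (q ^ 2 * (q - 1)) < gchar F * (q ^ 4 - 1) * ((q - 1) * Nat.card S) := by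
    rw [← hL]
    calc (levKer K).index * Nat.card (levKer K) * (q ^ 2 * (q - 1))
        = (levKer K).index * (q ^ 2 * (q - 1)) * Nat.card (levKer K) := by ring
      _ < gchar F * (q ^ 4 - 1) * Nat.card (levKer K) := (Nat.mul_lt_mul_right Nat.card_pos).2 hmain
      _ ≤ _ := Nat.mul_le_mul_left _ (hcardK.trans (Nat.mul_le_mul_right _ (by
            haveI := Fintype.ofFinite (vecImage K)
            haveI := Fintype.ofFinite {v : vecImage K // v.1 ≠ 0}
            rw [Nat.card_eq_fintype_card]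
            have h1 : Fintype.card {v : vecImage K // v.1 ≠ 0} < Fintype.card (vecImage K) :=
              Fintype.card_subtype_lt (x := (0 : vecImage K)) (by simp)
            have h2 : Fintype.card (vecImage K) ≤ q := by rwa [← Nat.card_eq_fintype_card]
            omega)))
  exact arith_noline gchar_cases hq (fun h => gchar_two_five h hq) (hS2.trans hsmall) hkey

/-- Small vector parts give root groups. -/
theorem rootIn_of_vecImage_small (hq : 4 ≤ Nat.card F) (K : Subgroup (HP F 1))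
    (hidx : K.index * (Nat.card F - 1) < Nat.card F ^ 4 - 1) (hvec : vecImage K ≠ ⊥)
    (hsmall : Nat.card (vecImage K) ≤ Nat.card F) : RootIn K := by
  by_cases hcen : cenImage K = ⊤
  · exact Or.inl fun c => (mem_cenImage K).1 (hcen ▸ AddSubgroup.mem_top c)
  obtain ⟨e, he, hfix⟩ := exists_line_of_small hq K hidx hcen hvec hsmall
  exact rootIn_of_line hq K hidx hcen hsmall he hfix

end CfsgLib.MinIdx
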