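import Cfsg.Agent.Lib.MinIdx.SpStep
import Cfsg.Agent.Lib.MinIdx.SpFourLines
import Cfsg.Agent.Lib.MinIdx.SpFourSmall
import Cfsg.Agent.Lib.MinIdx.SpFourIrr
import Cfsg.Agent.Lib.MinIdx.SpFourRed

/-!
# The smallest index of a proper subgroup of `Sp₄(q)`, `q ≥ 4`
-/

set_option autoImplicit false

namespace CfsgLib.MinIdx

open Matrix CfsgLib.Classical CfsgLib.KnownA.SpGen

variable {F : Type*} [Field F] [Finite F]

/-- The dichotomy for `n = 1`. -/
theorem rootIn_or_vecImage_top (hq : 4 ≤ Nat.card F) (K : Subgroup (HP F 1))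
    (hidx : K.index * (Nat.card F - 1) < Nat.card F ^ 4 - 1) :
    RootIn K ∨ ((2 : F) = 0 ∧ vecImage K = ⊤) := by
  by_cases hvec : vecImage K = ⊥
  · exact Or.inl (rootIn_of_vecImage_bot (by omega) le_rfl (sp_commutator_eq_top' (Or.inr (Or.inr hq))) K hidx hvec)
  by_cases hcen : cenImage K = ⊤
  · exact Or.inl (Or.inl fun c => (mem_cenImage K).1 (hcen ▸ AddSubgroup.mem_top c))
  rcases le_or_gt (Nat.card (vecImage K)) (Nat.card F) with hsmall | hlarge
  · exact Or.inl (rootIn_of_vecImage_small hq K hidx hvec hsmall)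
  have h2 := two_eq_zero_of_large K hcen hlarge
  refine Or.inr ⟨h2, by_contra fun hW => ?_⟩
  by_cases htr : traceField K = ⊤
  · exact hW (vecImage_top_of_traces K htr hlarge)
  obtain ⟨e, he, hline⟩ := exists_line_of_large hq K h2 hidx hcen hlarge htr hW
  obtain ⟨g, hg, hne⟩ := no_line_of_large hq K h2 hidx hcen hlarge htr hW he
  obtain ⟨c, hc⟩ := hline g hg
  exact hne c hc

/-- The case `m = 2`. -/
theorem index_four (hq : 4 ≤ Nat.card F) (H : Subgroup (Matrix.symplecticGroup (Fin 2) F)) (hH : H ≠ ⊤) :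
    Nat.card F ^ 4 - 1 ≤ H.index * (Nat.card F - 1) := by
  classical
  by_contra hcon
  push Not at hcon
  have hnofull : ∀ v ≠ 0, ¬ Full H v := fun v hv hf =>
    not_le.2 hcon (bound_of_full (m := 2) (by omega) hH hv hf)
  have hkey : ∀ x : Fin 2 ⊕ Fin 2 → F, x ≠ 0 → (2 : F) = 0 ∧ Nat.card F ^ 3 ≤ Nat.card (rootSet H x) := by
    intro x hx
    obtain ⟨K, hK, hroot, hcard⟩ := exists_parab (n := 1) H x hx
    rcases rootIn_or_vecImage_top hq K (lt_of_le_of_lt (Nat.mul_le_mul_right _ hK) hcon) with h | ⟨h2, h⟩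
    · obtain ⟨v, hv0, hv⟩ := hroot h
      exact absurd hv (hnofull v hv0)
    · refine ⟨h2, le_trans (le_of_eq ?_) hcard⟩
      rw [h, AddSubgroup.card_top, card_vec]
      ring
  refine hnofull _ (e₀_ne (F := F) (n := 1)) (full_of_hyperplanes (by omega) (hkey _ e₀_ne).1 le_rfl ?_ e₀_ne)
  intro x hx v hv
  obtain ⟨u, hu⟩ := exists_sbil_eq_one hx
  let φ : (Fin 2 ⊕ Fin 2 → F) →+ F :=
    { toFun := fun w => sbil x w
      map_zero' := by simp [sbil]
      map_add' := fun a b => sbil_add_right _ _ _ }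
  have hle : rootSet H x ≤ φ.ker := fun w hw => hw.1
  have hker : Nat.card φ.ker = Nat.card F ^ 3 := by
    have h1 := φ.ker.index_mul_card
    rw [card_vec, AddMonoidHom.ker, ← AddMonoidHom.ker, AddSubgroup.index_ker,
      AddMonoidHom.range_eq_top.2 (fun c => ⟨c • u, show sbil x (c • u) = c by rw [sbil_smul_right, hu, mul_one]⟩),
      AddSubgroup.card_top, show 2 * 2 = 3 + 1 from rfl, pow_succ'] at h1
    exact Nat.eq_of_mul_eq_mul_left Nat.card_pos h1
  have := AddSubgroup.eq_of_le_of_card_ge hle (hker ▸ (hkey x hx).2)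
  rw [this]
  exact hv

end CfsgLib.MinIdx
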