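import Cfsg.Agent.Lib.MinIdx.Base

/-!
# Elementary facts about the two-dimensional symplectic group
-/

set_option autoImplicit false

namespace CfsgLib.MinIdx

open Matrix CfsgLib.Classical

variable {F : Type*} [Field F]

theorem vec2_ext {u v : Fin 1 ⊕ Fin 1 → F} (h₁ : u (.inl 0) = v (.inl 0)) (h₂ : u (.inr 0) = v (.inr 0)) : u = v := by
  funext i
  rcases i with i | i <;> (have hi := Fin.fin_one_eq_zero i; subst hi; assumption)

theorem sbil2 (u v : Fin 1 ⊕ Fin 1 → F) : sbil u v = u (.inr 0) * v (.inl 0) - u (.inl 0) * v (.inr 0) := by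
  simp [sbil_apply, Fin.sum_univ_one, sub_eq_add_neg, add_comm]

theorem decomp₂ (e f v : Fin 1 ⊕ Fin 1 → F) : sbil e f • v = sbil v f • e + sbil e v • f := by
  refine vec2_ext ?_ ?_ <;>
  · simp only [Pi.smul_apply, Pi.add_apply, smul_eq_mul, sbil2]
    ring

theorem exists_smul_of_perp {e v : Fin 1 ⊕ Fin 1 → F} (he : e ≠ 0) (h : sbil e v = 0) : ∃ c : F, c • e = v := by
  obtain ⟨f, hf⟩ := exists_sbil_eq_one he
  refine ⟨sbil v f, ?_⟩
  have := decomp₂ e f v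
  rw [hf, h, one_smul, zero_smul, add_zero] at this
  exact this.symm

theorem eq_stv_of_fix {g : Matrix.symplecticGroup (Fin 1) F} {e : Fin 1 ⊕ Fin 1 → F} (he : e ≠ 0)
    (hg : g.1 *ᵥ e = e) : ∃ s : F, g = stv s e := by
  obtain ⟨f, hf⟩ := exists_sbil_eq_one he
  have h1 : sbil e (g.1 *ᵥ f - f) = 0 := by
    rw [sbil_sub_right, hf, sub_eq_zero]
    calc sbil e (g.1 *ᵥ f) = sbil (g.1 *ᵥ e) (g.1 *ᵥ f) := by rw [hg]
      _ = 1 := by rw [sbil_mulVec, hf]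
  obtain ⟨c, hc⟩ := exists_smul_of_perp he h1
  refine ⟨c, sp_ext fun v => ?_⟩
  have hv := decomp₂ e f v
  rw [hf, one_smul] at hv
  rw [stv_mulVec]
  nth_rw 1 [hv]
  rw [mulVec_add, mulVec_smul, mulVec_smul, hg, show g.1 *ᵥ f = c • e + f from eq_add_of_sub_eq hc.symm]
  nth_rw 3 [hv]
  module

theorem mulVec_add_inv (g : Matrix.symplecticGroup (Fin 1) F) (v : Fin 1 ⊕ Fin 1 → F) :
    g.1 *ᵥ v + (g⁻¹).1 *ᵥ v = g.1.trace • v := by
  refine sbil_ext fun x => ?_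
  have h2 : sbil ((g⁻¹).1 *ᵥ v) x = sbil v (g.1 *ᵥ x) := by
    rw [← sbil_mulVec g ((g⁻¹).1 *ᵥ v) x, sp_mulVec_inv]
  rw [sbil_add_left, h2, sbil_smul_left]
  simp only [sbil2, Matrix.mulVec, dotProduct, Fintype.sum_sum_type, Fin.sum_univ_one, Matrix.trace,
    Matrix.diag_apply]
  ring

end CfsgLib.MinIdx
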