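import Cfsg.Agent.Lib.MinIdx.SpDichotomy
import Cfsg.Agent.Lib.MinIdx.SpTwo

/-!
# Subgroups of the point parabolic of `Sp₄`: basic quantities
-/

set_option autoImplicit false

namespace CfsgLib.MinIdx

open Matrix CfsgLib.Classical CfsgLib.KnownA.SpGen

variable {F : Type*} [Field F] {n : ℕ} (K : Subgroup (HP F n))

/-- The Levi elements that lift with trivial torus part. -/
def levKer : Subgroup (Matrix.symplecticGroup (Fin n) F) := (K ⊓ (HP.projA F n).ker).map (HP.projG F n)

/-- All torus coordinates. -/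
def torProj : Subgroup Fˣ := K.map (HP.projA F n)

theorem mem_levKer {g : Matrix.symplecticGroup (Fin n) F} :
    g ∈ levKer K ↔ ∃ v c, (⟨1, g, v, c⟩ : HP F n) ∈ K := by
  constructor
  · rintro ⟨⟨a, g', v, c⟩, ⟨hk, ha⟩, rfl⟩
    change a = 1 at ha
    subst ha
    exact ⟨v, c, hk⟩
  · rintro ⟨v, c, hk⟩
    exact ⟨⟨1, g, v, c⟩, ⟨hk, rfl⟩, rfl⟩

theorem vecImage_levKer {g : Matrix.symplecticGroup (Fin n) F} (hg : g ∈ levKer K) {v : Fin n ⊕ Fin n → F}
    (hv : v ∈ vecImage K) : g.1 *ᵥ v ∈ vecImage K := by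
  obtain ⟨w, c, hk⟩ := (mem_levKer K).1 hg
  simpa using vecImage_conj K hk hv

theorem levKer_conj {k : HP F n} (hk : k ∈ K) {g : Matrix.symplecticGroup (Fin n) F} (hg : g ∈ levKer K) :
    k.g * g * k.g⁻¹ ∈ levKer K := by
  obtain ⟨v, c, hg'⟩ := (mem_levKer K).1 hg
  refine ⟨k * ⟨1, g, v, c⟩ * k⁻¹, ⟨K.mul_mem (K.mul_mem hk hg') (K.inv_mem hk), ?_⟩, ?_⟩
  · show HP.projA F n (k * ⟨1, g, v, c⟩ * k⁻¹) = 1
    rw [map_mul, map_mul, map_inv, show HP.projA F n ⟨1, g, v, c⟩ = 1 from rfl, mul_one, mul_inv_cancel]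
  · show HP.projG F n (k * ⟨1, g, v, c⟩ * k⁻¹) = _
    rw [map_mul, map_mul, map_inv]
    rfl

theorem cenImage_sq' {k : HP F n} (hk : k ∈ K) {z : F} (hz : z ∈ cenImage K) :
    (k.a : F) ^ 2 * z ∈ cenImage K := by
  have := K.mul_mem (K.mul_mem hk ((mem_cenImage K).1 hz)) (K.inv_mem hk)
  rw [mem_cenImage]
  convert this using 1
  rw [eq_mul_inv_iff_mul_eq, HP.mul_def, HP.mul_def]
  refine HP.ext (by simp) (by simp) ?_ ?_
  · simp
  · simp [sbil]; ring

theorem card_levKer_mul [Finite F] :
    (levImage K).index * (torImage K).index = (levKer K).index * (torProj K).index := by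
  have h1 : Nat.card (levImage K) * Nat.card (torImage K) = Nat.card (levKer K) * Nat.card (torProj K) := by
    have e1 := card_split K (HP.projG F n)
    rw [card_split (K ⊓ (HP.projG F n).ker) (HP.projA F n), card_heis_part] at e1
    have e2 := card_split K (HP.projA F n)
    rw [card_split (K ⊓ (HP.projA F n).ker) (HP.projG F n), inf_right_comm K, card_heis_part, e1] at e2
    have hpos : 0 < Nat.card (vecImage K) * Nat.card (cenImage K) := Nat.mul_pos Nat.card_pos Nat.card_pos
    refine Nat.eq_of_mul_eq_mul_right hpos ?_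
    calc Nat.card (levImage K) * Nat.card (torImage K) * (Nat.card (vecImage K) * Nat.card (cenImage K))
        = Nat.card (levImage K) * (Nat.card (torImage K) * (Nat.card (vecImage K) * Nat.card (cenImage K))) := by ring
      _ = Nat.card (torProj K) * (Nat.card (levKer K) * (Nat.card (vecImage K) * Nat.card (cenImage K))) := e2
      _ = _ := by ring
  refine Nat.eq_of_mul_eq_mul_right (show 0 < Nat.card (levImage K) * Nat.card (torImage K) from
    Nat.mul_pos Nat.card_pos Nat.card_pos) ?_
  calc (levImage K).index * (torImage K).index * (Nat.card (levImage K) * Nat.card (torImage K))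
      = ((levImage K).index * Nat.card (levImage K)) * ((torImage K).index * Nat.card (torImage K)) := by ring
    _ = ((levKer K).index * Nat.card (levKer K)) * ((torProj K).index * Nat.card (torProj K)) := by
        simp only [Subgroup.index_mul_card]
    _ = (levKer K).index * (torProj K).index * (Nat.card (levKer K) * Nat.card (torProj K)) := by ring
    _ = _ := by rw [h1]

theorem index_eq' [Finite F] :
    K.index = (levKer K).index * (torProj K).index * ((vecImage K).index * (cenImage K).index) := by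
  rw [index_eq, card_levKer_mul]

/-- The number of square roots of one allowed in `F`. -/
noncomputable def gchar (F : Type*) [Field F] : ℕ := by
  classical exact if (2 : F) = 0 then 1 else 2

theorem gchar_one (h : (2 : F) = 0) : gchar F = 1 := by rw [gchar]; exact if_pos h

theorem gchar_two (h : (2 : F) ≠ 0) : gchar F = 2 := by rw [gchar]; exact if_neg h

theorem sqrt_le_gchar [Finite F] : Nat.card {a : Fˣ // a ^ 2 = 1} ≤ gchar F := by
  by_cases h : (2 : F) = 0
  · rw [gchar_one h]; exact card_sqrt_one_le.2 h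
  · rw [gchar_two h]; exact card_sqrt_one_le.1

theorem gchar_cases : gchar F = 1 ∨ gchar F = 2 := by
  by_cases h : (2 : F) = 0
  · exact Or.inl (gchar_one h)
  · exact Or.inr (gchar_two h)

/-- An additive subgroup is a power of the characteristic in index, and a prime above `gchar`. -/
theorem exists_prime [Finite F] :
    ∃ p : ℕ, p.Prime ∧ gchar F < p ∧ (∃ e, Nat.card F = p ^ e) ∧ (p : F) = 0 ∧
      ∀ Z : AddSubgroup F, Z ≠ ⊤ → p ≤ Z.index := by
  obtain ⟨p, hpchar⟩ := CharP.exists F
  haveI := hpchar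
  haveI := Fintype.ofFinite F
  obtain ⟨⟨e, he⟩, hp, hF⟩ := FiniteField.card F p
  dsimp at hF
  rw [← Nat.card_eq_fintype_card] at hF
  refine ⟨p, hp, ?_, ⟨e, hF⟩, CharP.cast_eq_zero F p, fun Z hZ => ?_⟩
  · by_cases h : (2 : F) = 0
    · rw [gchar_one h]; exact hp.one_lt
    · rw [gchar_two h]
      rcases hp.two_le.lt_or_eq with h' | h'
      · exact h'
      · exfalso
        refine h ?_
        have := CharP.cast_eq_zero F p
        rw [← h'] at this
        exact_mod_cast this
  · obtain ⟨i, -, hi⟩ : ∃ i ≤ e, Z.index = p ^ i := (Nat.dvd_prime_pow hp).1 (hF ▸ Z.index_dvd_card)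
    rw [hi]
    refine Nat.le_self_pow ?_ p
    rintro rfl
    exact hZ (AddSubgroup.index_eq_one.1 (by rw [hi, pow_zero]))

end CfsgLib.MinIdx
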