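import Cfsg.Agent.Lib.MinIdx.SpFourBase
import Cfsg.Agent.Lib.MinIdx.OrthCount
import Cfsg.Agent.Lib.MinIdx.SpFourSmall

/-!
# A large vector part is a module over the traces of the Levi part
-/

set_option autoImplicit false

namespace CfsgLib.MinIdx

open Matrix CfsgLib.Classical CfsgLib.KnownA.SpGen

variable {F : Type*} [Field F] [Finite F]

/-- In odd characteristic the vector part has at most `q` elements. -/
theorem two_eq_zero_of_large (K : Subgroup (HP F 1)) (hcen : cenImage K ≠ ⊤)
    (hlarge : Nat.card F < Nat.card (vecImage K)) : (2 : F) = 0 := by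
  by_contra h2
  have h := card_mul_self_le (fun u v : Fin 1 ⊕ Fin 1 → F => 2 * sbil u v)
    (fun a v w => by rw [sbil_add_right, mul_add]) (fun a a' v => by rw [sbil_add_left, mul_add])
    (cenImage K) hcen (vecImage K) (fun u ⟨c, hc⟩ v ⟨d, hd⟩ => by
      have hmem := K.mul_mem (K.mul_mem hc hd) (K.inv_mem (K.mul_mem hd hc))
      rw [mem_cenImage]
      convert hmem using 1
      rw [eq_mul_inv_iff_mul_eq, HP.mul_def, HP.mul_def, HP.mul_def]
      refine HP.ext (by simp) (by simp) ?_ ?_
      · simp [add_comm]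
      · simp only [Units.val_one, one_pow, one_mul, one_smul, sp_one_mulVec, sbil_swap u v]
        simp [sbil]
        ring)
    (fun a ha c => by
      obtain ⟨v, hv⟩ := exists_sbil_eq_one ha
      exact ⟨(c / 2) • v, by rw [sbil_smul_right, hv, mul_one, mul_div_cancel₀ c h2]⟩)
  rw [card_vec, show 2 * 1 = 2 from rfl] at h
  exact absurd ((Nat.mul_self_lt_mul_self hlarge).trans_le h) (by rw [sq]; exact lt_irrefl _)

/-- The field generated by the traces. -/
def traceField (K : Subgroup (HP F 1)) : Subfield F :=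
  Subfield.closure ((fun g : Matrix.symplecticGroup (Fin 1) F => g.1.trace) '' (levKer K : Set _))

omit [Finite F] in
theorem trace_mem (K : Subgroup (HP F 1)) {g : Matrix.symplecticGroup (Fin 1) F} (hg : g ∈ levKer K) :
    g.1.trace ∈ traceField K := Subfield.subset_closure ⟨g, hg, rfl⟩

theorem traceField_smul (K : Subgroup (HP F 1)) {r : F} (hr : r ∈ traceField K) {v : Fin 1 ⊕ Fin 1 → F}
    (hv : v ∈ vecImage K) : r • v ∈ vecImage K := by
  let S : Subring F :=
    { carrier := {r | ∀ v ∈ vecImage K, r • v ∈ vecImage K}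
      zero_mem' := fun v _ => by rw [zero_smul]; exact (vecImage K).zero_mem
      one_mem' := fun v hv => by rwa [one_smul]
      add_mem' := fun hr hs v hv => by rw [add_smul]; exact (vecImage K).add_mem (hr v hv) (hs v hv)
      neg_mem' := fun hr v hv => by rw [neg_smul]; exact (vecImage K).neg_mem (hr v hv)
      mul_mem' := fun hr hs v hv => by rw [mul_smul]; exact hr _ (hs v hv) }
  have hfin : ∀ r ∈ S, r⁻¹ ∈ S := fun r hr v hv => by
    rcases eq_or_ne r 0 with rfl | hr0
    · rw [_root_.inv_zero, zero_smul]; exact (vecImage K).zero_mem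
    · haveI := Fintype.ofFinite F
      have h1 : r⁻¹ = r ^ (Fintype.card F - 2) := by
        refine inv_eq_of_mul_eq_one_right ?_
        rw [← pow_succ', show Fintype.card F - 2 + 1 = Fintype.card F - 1 by
          have := Fintype.one_lt_card (α := F); omega]
        exact FiniteField.pow_card_sub_one_eq_one r hr0
      rw [h1]
      exact S.pow_mem hr _ v hv
  let SF : Subfield F := { S with inv_mem' := hfin }
  have : traceField K ≤ SF := Subfield.closure_le.2 (by
    rintro _ ⟨g, hg, rfl⟩ v hv
    rw [← mulVec_add_inv]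
    exact (vecImage K).add_mem (vecImage_levKer K hg hv) (vecImage_levKer K ((levKer K).inv_mem hg) hv))
  exact this hr v hv

/-- With all traces present the vector part is everything. -/
theorem vecImage_top_of_traces (K : Subgroup (HP F 1)) (htop : traceField K = ⊤)
    (hlarge : Nat.card F < Nat.card (vecImage K)) : vecImage K = ⊤ := by
  classical
  have hsm : ∀ r : F, ∀ v ∈ vecImage K, r • v ∈ vecImage K := fun r v hv =>
    traceField_smul K (htop ▸ Subfield.mem_top r) hv
  obtain ⟨w, hw, hw0⟩ : ∃ w ∈ vecImage K, w ≠ 0 := by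
    by_contra hc
    push Not at hc
    rw [(AddSubgroup.eq_bot_iff_forall _).2 hc, AddSubgroup.card_bot] at hlarge
    exact absurd hlarge (by have := Finite.one_lt_card (α := F); omega)
  obtain ⟨v, hv, hwv⟩ : ∃ v ∈ vecImage K, sbil w v ≠ 0 := by
    by_contra hc
    push Not at hc
    refine absurd hlarge (not_lt.2 ?_)
    refine Nat.card_le_card_of_surjective (α := F) (fun c => (⟨c • w, hsm c w hw⟩ : vecImage K)) fun x => ?_
    obtain ⟨c, hc'⟩ := exists_smul_of_perp hw0 (hc x.1 x.2)
    exact ⟨c, Subtype.ext hc'⟩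
  rw [eq_top_iff]
  intro x _
  have h := congrArg ((sbil w v)⁻¹ • ·) (decomp₂ w v x)
  simp only [inv_smul_smul₀ hwv, smul_add, smul_smul] at h
  rw [h]
  exact (vecImage K).add_mem (hsm _ w hw) (hsm _ v hv)

/-- A proper subfield has square at most `q`, and the quotient by the vector part is a space over it. -/
theorem traceField_bounds (K : Subgroup (HP F 1)) (h2 : (2 : F) = 0) (htop : traceField K ≠ ⊤)
    (hW : vecImage K ≠ ⊤) :
    (∃ d, Nat.card (traceField K) = 2 ^ d) ∧ Nat.card (traceField K) * Nat.card (traceField K) ≤ Nat.card F ∧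
      Nat.card (traceField K) ≤ (vecImage K).index := by
  classical
  let R := traceField K
  haveI := Fintype.ofFinite R
  have hq := Module.natCard_eq_pow_finrank (K := R) (V := F)
  have hk : 2 ≤ Module.finrank R F := by
    have h0 : 0 < Module.finrank R F := Module.finrank_pos
    by_contra hlt
    have h1 : Module.finrank R F = 1 := by omega
    refine htop (eq_top_iff.2 fun x _ => ?_)
    rw [h1, pow_one] at hq
    obtain ⟨y, hy⟩ := ((Nat.bijective_iff_injective_and_card (fun y : R => (y : F))).2
      ⟨Subtype.val_injective, hq.symm⟩).2 x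
    exact hy ▸ y.2
  refine ⟨?_, ?_, ?_⟩
  · obtain ⟨p, hp⟩ := CharP.exists R
    haveI := hp
    obtain ⟨⟨d, _⟩, hpp, hd⟩ := FiniteField.card R p
    dsimp at hd
    refine ⟨d, ?_⟩
    have hp2 : p = 2 := by
      have h : (2 : R) = 0 := by exact_mod_cast (show (((2 : ℕ) : R) : F) = ((0 : R) : F) from by push_cast; exact h2)
      have : p ∣ 2 := (CharP.cast_eq_zero_iff R p 2).1 (by exact_mod_cast h)
      exact ((Nat.prime_dvd_prime_iff_eq hpp Nat.prime_two).1 this)
    rw [Nat.card_eq_fintype_card, hd, hp2]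
  · rw [hq, ← sq]
    exact Nat.pow_le_pow_right Nat.card_pos hk
  · let Ws : Submodule R (Fin 1 ⊕ Fin 1 → F) :=
      { vecImage K with smul_mem' := fun r v hv => traceField_smul K r.2 hv }
    have hpos : 0 < Module.finrank R ((Fin 1 ⊕ Fin 1 → F) ⧸ Ws) := by
      haveI : Nontrivial ((Fin 1 ⊕ Fin 1 → F) ⧸ Ws) := Submodule.Quotient.nontrivial_iff.2 fun h =>
        hW (eq_top_iff.2 fun z _ => by
          have : z ∈ Ws := h ▸ Submodule.mem_top
          exact this)
      exact Module.finrank_pos
    calc Nat.card R ≤ Nat.card R ^ Module.finrank R ((Fin 1 ⊕ Fin 1 → F) ⧸ Ws) := Nat.le_self_pow hpos.ne' _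
      _ = Nat.card ((Fin 1 ⊕ Fin 1 → F) ⧸ Ws) := (Module.natCard_eq_pow_finrank).symm
      _ = _ := rfl

/-- The mass bound in characteristic two. -/
theorem levKer_bound_two (K : Subgroup (HP F 1)) (h2 : (2 : F) = 0) (hcen : cenImage K ≠ ⊤)
    (hidx : K.index * (Nat.card F - 1) < Nat.card F ^ 4 - 1) :
    (levKer K).index * (Nat.card F * (vecImage K).index * (Nat.card F - 1)) < Nat.card F ^ 4 - 1 := by
  have hφ := card_le_index_mul (torProj K) (cenImage K) hcen
    (fun a ha z hz => by
      obtain ⟨k, hk, rfl⟩ := ha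
      exact cenImage_sq' K hk hz) 1 (card_sqrt_one_le.2 h2)
  rw [one_mul] at hφ
  refine lt_of_le_of_lt ?_ hidx
  calc (levKer K).index * (Nat.card F * (vecImage K).index * (Nat.card F - 1))
      ≤ (levKer K).index * ((torProj K).index * (cenImage K).index * (vecImage K).index * (Nat.card F - 1)) :=
        Nat.mul_le_mul_left _ (Nat.mul_le_mul_right _ (Nat.mul_le_mul_right _ hφ))
    _ = _ := by rw [index_eq']; ring

theorem levKer_card (K : Subgroup (HP F 1)) :
    (levKer K).index * Nat.card (levKer K) = Nat.card F * (Nat.card F ^ 2 - 1) := by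
  rw [Subgroup.index_mul_card, card_sp_two]

omit [Finite F] in
/-- The numerical contradiction from a bound on the Levi part. -/
theorem arith_levKer {q X ι N B : ℕ} (hN : ι * N = q * (q ^ 2 - 1)) (hB : N ≤ B)
    (h : ι * (q * X * (q - 1)) < q ^ 4 - 1) : q ^ 2 * X * (q - 1) < (q ^ 2 + 1) * B := by
  refine Nat.lt_of_mul_lt_mul_left (a := q ^ 2 - 1) ?_
  rcases Nat.eq_zero_or_pos N with rfl | hpos
  · exfalso
    rw [mul_zero] at hN
    rcases Nat.mul_eq_zero.1 hN.symm with h0 | h0
    · subst h0; simp at h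
    · rw [four_pow, h0, mul_zero] at h; omega
  calc (q ^ 2 - 1) * (q ^ 2 * X * (q - 1)) = q * (q ^ 2 - 1) * (q * X * (q - 1)) := by ring
    _ = ι * (q * X * (q - 1)) * N := by rw [← hN]; ring
    _ < (q ^ 4 - 1) * N := (Nat.mul_lt_mul_right hpos).2 h
    _ ≤ (q ^ 4 - 1) * B := Nat.mul_le_mul_left _ hB
    _ = _ := by rw [four_pow]; ring

end CfsgLib.MinIdx
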