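import Cfsg.Agent.Lib.MinIdx.Base

/-!
# The point parabolic of a symplectic group as an abstract group
-/

set_option autoImplicit false

namespace CfsgLib.MinIdx

open Matrix CfsgLib.Classical

variable {F : Type*} [Field F] {n : ℕ}

/-- Elements of the point parabolic: torus, Levi part, and a Heisenberg pair. -/
@[ext]
structure HP (F : Type*) [Field F] (n : ℕ) where
  a : Fˣ
  g : Matrix.symplecticGroup (Fin n) F
  v : Fin n ⊕ Fin n → F
  c : F

instance : Group (HP F n) where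
  mul h k := ⟨h.a * k.a, h.g * k.g, h.v + (h.a : F) • (h.g.1 *ᵥ k.v),
    h.c + (h.a : F) ^ 2 * k.c + sbil h.v ((h.a : F) • (h.g.1 *ᵥ k.v))⟩
  one := ⟨1, 1, 0, 0⟩
  inv h := ⟨h.a⁻¹, h.g⁻¹, -(((h.a⁻¹ : Fˣ) : F) • ((h.g⁻¹).1 *ᵥ h.v)), -(((h.a⁻¹ : Fˣ) : F) ^ 2 * h.c)⟩
  mul_assoc x y z := by
    refine HP.ext (mul_assoc _ _ _) (mul_assoc _ _ _) ?_ ?_
    · show (x.v + (x.a : F) • (x.g.1 *ᵥ y.v)) + ((x.a * y.a : Fˣ) : F) • ((x.g * y.g).1 *ᵥ z.v) =
        x.v + (x.a : F) • (x.g.1 *ᵥ (y.v + (y.a : F) • (y.g.1 *ᵥ z.v)))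
      simp only [Units.val_mul, sp_mul_mulVec, mulVec_add, mulVec_smul, smul_add, smul_smul, add_assoc]
    · show (x.c + (x.a : F) ^ 2 * y.c + sbil x.v ((x.a : F) • (x.g.1 *ᵥ y.v))) + ((x.a * y.a : Fˣ) : F) ^ 2 * z.c +
          sbil (x.v + (x.a : F) • (x.g.1 *ᵥ y.v)) (((x.a * y.a : Fˣ) : F) • ((x.g * y.g).1 *ᵥ z.v)) =
        x.c + (x.a : F) ^ 2 * (y.c + (y.a : F) ^ 2 * z.c + sbil y.v ((y.a : F) • (y.g.1 *ᵥ z.v))) +
          sbil x.v ((x.a : F) • (x.g.1 *ᵥ (y.v + (y.a : F) • (y.g.1 *ᵥ z.v))))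
      simp only [Units.val_mul, sp_mul_mulVec, mulVec_add, mulVec_smul, sbil_add_left, sbil_add_right,
        sbil_smul_left, sbil_smul_right, sbil_mulVec]
      ring
  one_mul x := by
    refine HP.ext (one_mul _) (one_mul _) ?_ ?_
    · show (0 : Fin n ⊕ Fin n → F) + ((1 : Fˣ) : F) • ((1 : Matrix.symplecticGroup (Fin n) F).1 *ᵥ x.v) = x.v
      simp
    · show (0 : F) + ((1 : Fˣ) : F) ^ 2 * x.c + sbil (0 : Fin n ⊕ Fin n → F) _ = x.c
      simp [sbil]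
  mul_one x := by
    refine HP.ext (mul_one _) (mul_one _) ?_ ?_
    · show x.v + (x.a : F) • (x.g.1 *ᵥ (0 : Fin n ⊕ Fin n → F)) = x.v
      simp
    · show x.c + (x.a : F) ^ 2 * 0 + sbil x.v ((x.a : F) • (x.g.1 *ᵥ (0 : Fin n ⊕ Fin n → F))) = x.c
      simp [sbil]
  inv_mul_cancel x := by
    refine HP.ext (inv_mul_cancel _) (inv_mul_cancel _) ?_ ?_
    · show -(((x.a⁻¹ : Fˣ) : F) • ((x.g⁻¹).1 *ᵥ x.v)) + ((x.a⁻¹ : Fˣ) : F) • ((x.g⁻¹).1 *ᵥ x.v) = 0
      simp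
    · show -(((x.a⁻¹ : Fˣ) : F) ^ 2 * x.c) + ((x.a⁻¹ : Fˣ) : F) ^ 2 * x.c +
        sbil (-(((x.a⁻¹ : Fˣ) : F) • ((x.g⁻¹).1 *ᵥ x.v))) (((x.a⁻¹ : Fˣ) : F) • ((x.g⁻¹).1 *ᵥ x.v)) = 0
      rw [← neg_one_smul F (((x.a⁻¹ : Fˣ) : F) • ((x.g⁻¹).1 *ᵥ x.v)), sbil_smul_left (-1 : F), sbil_self]
      ring

namespace HP

theorem mul_def (h k : HP F n) : h * k = ⟨h.a * k.a, h.g * k.g, h.v + (h.a : F) • (h.g.1 *ᵥ k.v),
    h.c + (h.a : F) ^ 2 * k.c + sbil h.v ((h.a : F) • (h.g.1 *ᵥ k.v))⟩ := rfl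

theorem one_def : (1 : HP F n) = ⟨1, 1, 0, 0⟩ := rfl

theorem inv_def (h : HP F n) : h⁻¹ =
    ⟨h.a⁻¹, h.g⁻¹, -(((h.a⁻¹ : Fˣ) : F) • ((h.g⁻¹).1 *ᵥ h.v)), -(((h.a⁻¹ : Fˣ) : F) ^ 2 * h.c)⟩ := rfl

/-- The torus coordinate. -/
def projA (F : Type*) [Field F] (n : ℕ) : HP F n →* Fˣ where
  toFun := HP.a
  map_one' := rfl
  map_mul' _ _ := rfl

/-- The Levi coordinate. -/
def projG (F : Type*) [Field F] (n : ℕ) : HP F n →* Matrix.symplecticGroup (Fin n) F where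
  toFun := HP.g
  map_one' := rfl
  map_mul' _ _ := rfl

/-- The coordinates as a product. -/
def prodEquiv (F : Type*) [Field F] (n : ℕ) :
    HP F n ≃ Fˣ × Matrix.symplecticGroup (Fin n) F × (Fin n ⊕ Fin n → F) × F where
  toFun h := (h.a, h.g, h.v, h.c)
  invFun p := ⟨p.1, p.2.1, p.2.2.1, p.2.2.2⟩
  left_inv _ := rfl
  right_inv _ := rfl

instance [Finite F] : Finite (HP F n) := Finite.of_equiv _ (prodEquiv F n).symm

end HP

section Embedding

/-- The vector with first-plane coordinates `α, β` and remaining coordinates `u`. -/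
def jn (α β : F) (u : Fin n ⊕ Fin n → F) : Fin (n + 1) ⊕ Fin (n + 1) → F :=
  Sum.elim (Fin.cons α fun i => u (.inl i)) (Fin.cons β fun i => u (.inr i))

/-- The remaining coordinates. -/
def pr (w : Fin (n + 1) ⊕ Fin (n + 1) → F) : Fin n ⊕ Fin n → F :=
  Sum.elim (fun i => w (.inl i.succ)) (fun i => w (.inr i.succ))

theorem jn_pr (w : Fin (n + 1) ⊕ Fin (n + 1) → F) : jn (w (.inl 0)) (w (.inr 0)) (pr w) = w := by
  funext i
  rcases i with i | i <;> refine Fin.cases ?_ (fun j => ?_) i <;> rfl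

theorem jn_inl_zero (α β : F) (u : Fin n ⊕ Fin n → F) : jn α β u (.inl 0) = α := rfl

theorem jn_inr_zero (α β : F) (u : Fin n ⊕ Fin n → F) : jn α β u (.inr 0) = β := rfl

theorem pr_jn (α β : F) (u : Fin n ⊕ Fin n → F) : pr (jn α β u) = u := by
  funext i
  rcases i with i | i <;> rfl

theorem jn_inj {α β α' β' : F} {u u' : Fin n ⊕ Fin n → F} (h : jn α β u = jn α' β' u') :
    α = α' ∧ β = β' ∧ u = u' :=
  ⟨congrFun h (.inl 0), congrFun h (.inr 0), by rw [← pr_jn α β u, h, pr_jn]⟩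

theorem jn_add (α β α' β' : F) (u u' : Fin n ⊕ Fin n → F) :
    jn α β u + jn α' β' u' = jn (α + α') (β + β') (u + u') := by
  funext i
  rcases i with i | i <;> refine Fin.cases ?_ (fun j => ?_) i <;> rfl

theorem jn_smul (c α β : F) (u : Fin n ⊕ Fin n → F) : c • jn α β u = jn (c * α) (c * β) (c • u) := by
  funext i
  rcases i with i | i <;> refine Fin.cases ?_ (fun j => ?_) i <;> rfl

theorem sbil_jn (α β α' β' : F) (u u' : Fin n ⊕ Fin n → F) :
    sbil (jn α β u) (jn α' β' u') = β * α' - α * β' + sbil u u' := by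
  simp only [sbil_apply, jn, Sum.elim_inl, Sum.elim_inr, Fin.sum_univ_succ, Fin.cons_zero, Fin.cons_succ]

/-- The first basis vector. -/
def e₀ (F : Type*) [Field F] (n : ℕ) : Fin (n + 1) ⊕ Fin (n + 1) → F := jn 1 0 0

theorem e₀_ne : e₀ F n ≠ 0 := fun h => one_ne_zero (congrFun h (.inl 0))

theorem sbil_e₀ (α β : F) (u : Fin n ⊕ Fin n → F) : sbil (e₀ F n) (jn α β u) = -β := by
  rw [e₀, sbil_jn]; simp [sbil]

/-- The Levi element acting as `a, a⁻¹` on the first plane and as `g` on the rest. -/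
def leviMap (a : Fˣ) (g : Matrix.symplecticGroup (Fin n) F) :
    (Fin (n + 1) ⊕ Fin (n + 1) → F) →ₗ[F] (Fin (n + 1) ⊕ Fin (n + 1) → F) where
  toFun w := jn ((a : F) * w (.inl 0)) (((a⁻¹ : Fˣ) : F) * w (.inr 0)) (g.1 *ᵥ pr w)
  map_add' w w' := by
    rw [jn_add]; congr 1
    · simp [mul_add]
    · simp [mul_add]
    · rw [← mulVec_add]; congr 1; funext i; rcases i with i | i <;> rfl
  map_smul' c w := by
    rw [RingHom.id_apply, jn_smul]; congr 1
    · simp; ring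
    · simp; ring
    · rw [← mulVec_smul]; congr 1; funext i; rcases i with i | i <;> rfl

/-- The Levi subgroup inside the symplectic group. -/
def levi (F : Type*) [Field F] (n : ℕ) :
    Fˣ × Matrix.symplecticGroup (Fin n) F →* Matrix.symplecticGroup (Fin (n + 1)) F where
  toFun p := ⟨LinearMap.toMatrix' (leviMap p.1 p.2), mem_symplecticGroup_iff_sbil.2 fun u v => by
    rw [LinearMap.toMatrix'_mulVec, LinearMap.toMatrix'_mulVec]
    conv_rhs => rw [← jn_pr u, ← jn_pr v, sbil_jn]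
    show sbil (jn _ _ _) (jn _ _ _) = _
    rw [sbil_jn, sbil_mulVec]
    linear_combination (u (.inr 0) * v (.inl 0) - u (.inl 0) * v (.inr 0)) * (Units.inv_mul p.1)⟩
  map_one' := sp_ext fun w => by
    rw [LinearMap.toMatrix'_mulVec, sp_one_mulVec]
    show jn _ _ _ = w
    simpa using jn_pr w
  map_mul' p r := sp_ext fun w => by
    rw [sp_mul_mulVec]
    simp only [LinearMap.toMatrix'_mulVec]
    show jn _ _ _ = jn _ _ _
    simp only [leviMap, LinearMap.coe_mk, AddHom.coe_mk, Prod.fst_mul, Prod.snd_mul, jn_inl_zero, jn_inr_zero,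
      pr_jn, sp_mul_mulVec, _root_.mul_inv_rev, Units.val_mul]
    congr 1 <;> ring

theorem levi_mulVec (a : Fˣ) (g : Matrix.symplecticGroup (Fin n) F) (α β : F) (u : Fin n ⊕ Fin n → F) :
    (levi F n (a, g)).1 *ᵥ jn α β u = jn ((a : F) * α) (((a⁻¹ : Fˣ) : F) * β) (g.1 *ᵥ u) := by
  show LinearMap.toMatrix' (leviMap a g) *ᵥ _ = _
  rw [LinearMap.toMatrix'_mulVec]
  simp [leviMap, jn_inl_zero, jn_inr_zero, pr_jn]

theorem sbil_e₀_emb (v : Fin n ⊕ Fin n → F) : sbil (e₀ F n) (jn 0 0 v) = 0 := by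
  rw [sbil_e₀, neg_zero]

/-- The root element attached to a Heisenberg pair. -/
def heis (v : Fin n ⊕ Fin n → F) (c : F) : Matrix.symplecticGroup (Fin (n + 1)) F :=
  sroot (e₀ F n) (jn 0 0 v) (sbil_e₀_emb v) c

theorem heis_mul (v w : Fin n ⊕ Fin n → F) (c d : F) : heis v c * heis w d = heis (v + w) (c + d + sbil v w) := by
  rw [heis, heis, sroot_mul]
  exact sroot_congr _ (by rw [jn_add]; simp) (by rw [sbil_jn]; simp)

theorem heis_conj (a : Fˣ) (g : Matrix.symplecticGroup (Fin n) F) (v : Fin n ⊕ Fin n → F) (c : F) :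
    levi F n (a, g) * heis v c * (levi F n (a, g))⁻¹ = heis ((a : F) • (g.1 *ᵥ v)) ((a : F) ^ 2 * c) := by
  refine sp_ext fun w => ?_
  rw [heis, sroot_conj, heis]
  have h1 : (levi F n (a, g)).1 *ᵥ e₀ F n = (a : F) • e₀ F n := by
    rw [e₀, levi_mulVec, jn_smul]; simp
  have h2 : (levi F n (a, g)).1 *ᵥ jn 0 0 v = jn 0 0 (g.1 *ᵥ v) := by
    rw [levi_mulVec]; simp
  have h3 : jn 0 0 ((a : F) • (g.1 *ᵥ v)) = (a : F) • jn 0 0 (g.1 *ᵥ v) := by rw [jn_smul]; simp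
  simp only [sroot_mulVec, h1, h2, h3, sbil_smul_left]
  module

/-- The point parabolic inside the symplectic group. -/
def toSp (F : Type*) [Field F] (n : ℕ) : HP F n →* Matrix.symplecticGroup (Fin (n + 1)) F where
  toFun h := heis h.v h.c * levi F n (h.a, h.g)
  map_one' := by
    rw [HP.one_def]
    show heis (0 : Fin n ⊕ Fin n → F) 0 * levi F n 1 = 1
    rw [map_one, mul_one, heis]
    refine sp_ext fun w => ?_
    rw [sroot_mulVec, show jn (0 : F) 0 (0 : Fin n ⊕ Fin n → F) = 0 from by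
      funext i; rcases i with i | i <;> refine Fin.cases ?_ (fun j => ?_) i <;> rfl]
    simp [sbil]
  map_mul' h k := by
    rw [HP.mul_def]
    dsimp only
    rw [← heis_mul, ← heis_conj, show ((h.a * k.a, h.g * k.g) : Fˣ × Matrix.symplecticGroup (Fin n) F) =
      (h.a, h.g) * (k.a, k.g) from rfl, map_mul]
    group

end Embedding

end CfsgLib.MinIdx
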