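import Mathlib

/-!
# A proper additive subgroup invariant under the squares of a subgroup of units
-/

set_option autoImplicit false

namespace CfsgLib.MinIdx

/-- If `Z < F` is invariant under `a ^ 2` for `a ∈ D` then `q ≤ g [Fˣ : D] [F : Z]`, where `g` bounds the
number of square roots of one. -/
theorem card_le_index_mul {F : Type*} [Field F] [Finite F] (D : Subgroup Fˣ) (Z : AddSubgroup F) (hZ : Z ≠ ⊤)
    (hinv : ∀ a ∈ D, ∀ z ∈ Z, (a : F) ^ 2 * z ∈ Z) (g : ℕ) (hg : Nat.card {a : Fˣ // a ^ 2 = 1} ≤ g) :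
    Nat.card F ≤ g * (D.index * Z.index) := by
  classical
  let Rset : Set F := (fun a : Fˣ => (a : F) ^ 2) '' (D : Set Fˣ)
  let R : Subfield F := Subfield.closure Rset
  -- `Z` is a subspace over `R`
  let S : Subring F :=
    { carrier := {r | ∀ z ∈ Z, r * z ∈ Z}
      zero_mem' := fun z _ => by rw [zero_mul]; exact Z.zero_mem
      one_mem' := fun z hz => by rwa [one_mul]
      add_mem' := fun hr hs z hz => by rw [add_mul]; exact Z.add_mem (hr z hz) (hs z hz)
      neg_mem' := fun hr z hz => by rw [neg_mul]; exact Z.neg_mem (hr z hz)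
      mul_mem' := fun hr hs z hz => by rw [mul_assoc]; exact hr _ (hs z hz) }
  have hfin : ∀ r ∈ S, r⁻¹ ∈ S := fun r hr z hz => by
    rcases eq_or_ne r 0 with rfl | hr0
    · rw [_root_.inv_zero, zero_mul]; exact Z.zero_mem
    · haveI := Fintype.ofFinite F
      have h1 : r⁻¹ = r ^ (Fintype.card F - 2) := by
        refine inv_eq_of_mul_eq_one_right ?_
        rw [← pow_succ', show Fintype.card F - 2 + 1 = Fintype.card F - 1 by
          have := Fintype.one_lt_card (α := F); omega]
        exact FiniteField.pow_card_sub_one_eq_one r hr0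
      rw [h1]
      exact S.pow_mem hr _ z hz
  let SF : Subfield F := { S with inv_mem' := hfin }
  have hRS : R ≤ SF := Subfield.closure_le.2 (by
    rintro _ ⟨a, ha, rfl⟩ z hz
    exact hinv a ha z hz)
  let Zs : Submodule R F :=
    { Z with smul_mem' := fun r z hz => hRS r.2 z hz }
  have hidx : Nat.card R ≤ Z.index := by
    have hpos : 0 < Module.finrank R (F ⧸ Zs) := by
      haveI : Nontrivial (F ⧸ Zs) := Submodule.Quotient.nontrivial_iff.2 fun h => hZ (eq_top_iff.2 fun z _ => by
        have : z ∈ Zs := h ▸ Submodule.mem_top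
        exact this)
      exact Module.finrank_pos
    calc Nat.card R ≤ Nat.card R ^ Module.finrank R (F ⧸ Zs) := Nat.le_self_pow hpos.ne' _
      _ = Nat.card (F ⧸ Zs) := (Module.natCard_eq_pow_finrank).symm
      _ = Z.index := rfl
  -- squaring `D` into the units of `R`
  let sq' : D →* Rˣ :=
    { toFun := fun a => Units.mk0 ⟨(a.1 : F) ^ 2, Subfield.subset_closure ⟨a.1, a.2, rfl⟩⟩
        (fun h => pow_ne_zero 2 a.1.ne_zero (congrArg Subtype.val h))
      map_one' := Units.ext (Subtype.ext (by simp))
      map_mul' := fun a b => Units.ext (Subtype.ext (by simp [mul_pow])) }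
  have hD : Nat.card D ≤ g * (Nat.card R - 1) := by
    rw [Subgroup.card_eq_card_quotient_mul_card_subgroup sq'.ker, Nat.card_congr (QuotientGroup.quotientKerEquivRange sq').toEquiv, mul_comm]
    refine Nat.mul_le_mul (le_trans ?_ hg) ?_
    · refine Nat.card_le_card_of_injective (fun a => (⟨a.1.1, ?_⟩ : {a : Fˣ // a ^ 2 = 1}))
        fun a b h => Subtype.ext (Subtype.ext (congrArg Subtype.val h :))
      have h1 := congrArg (fun u : Rˣ => ((u : R) : F)) a.2
      exact Units.ext (by simpa [sq'] using h1)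
    · rw [← Nat.card_units R]
      exact Nat.card_le_card_of_injective _ Subtype.val_injective
  have hDi : D.index * Nat.card D = Nat.card F - 1 := by
    rw [D.index_mul_card, Nat.card_units]
  have hq : 2 ≤ Nat.card F := Finite.one_lt_card
  have hr : 2 ≤ Nat.card R := Finite.one_lt_card
  have hfinal : Nat.card F - 1 < g * (D.index * Z.index) := by
    rw [← hDi]
    calc D.index * Nat.card D ≤ D.index * (g * (Nat.card R - 1)) := Nat.mul_le_mul_left _ hD
      _ < D.index * (g * Z.index) := ?_
      _ = _ := by ring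
    refine Nat.mul_lt_mul_of_pos_left (Nat.mul_lt_mul_of_pos_left (by omega) ?_) (Nat.pos_of_ne_zero D.index_ne_zero_of_finite)
    refine lt_of_lt_of_le ?_ hg
    haveI : Nonempty {a : Fˣ // a ^ 2 = 1} := ⟨⟨1, one_pow 2⟩⟩
    exact Nat.card_pos
  omega

/-- There are at most two square roots of one, and one in characteristic two. -/
theorem card_sqrt_one_le {F : Type*} [Field F] [Finite F] :
    Nat.card {a : Fˣ // a ^ 2 = 1} ≤ 2 ∧ ((2 : F) = 0 → Nat.card {a : Fˣ // a ^ 2 = 1} ≤ 1) := by
  classical
  have key : ∀ a : {a : Fˣ // a ^ 2 = 1}, (a.1 : F) = 1 ∨ (a.1 : F) = -1 := fun a =>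
    sq_eq_one_iff.1 (by rw [← Units.val_pow_eq_pow_val, a.2, Units.val_one])
  refine ⟨?_, fun h2 => ?_⟩
  · calc Nat.card {a : Fˣ // a ^ 2 = 1} ≤ Nat.card ({1, -1} : Finset F) :=
          Nat.card_le_card_of_injective (fun a => ⟨(a.1 : F), by simpa using key a⟩)
            fun a b h => Subtype.ext (Units.ext (congrArg Subtype.val h :))
      _ ≤ 2 := by rw [Nat.card_eq_fintype_card, Fintype.card_coe]; exact Finset.card_le_two
  · refine Finite.card_le_one_iff_subsingleton.2 ⟨fun a b => Subtype.ext (Units.ext ?_)⟩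
    have hneg : (-1 : F) = 1 := by linear_combination -h2
    rcases key a with h | h <;> rcases key b with h' | h' <;> simp [h, h', hneg]

end CfsgLib.MinIdx
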