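import Cfsg.Agent.Lib.MinIdx.SpHeis
import Cfsg.Agent.Lib.MinIdx.Torus

/-!
# Subgroups of a point parabolic of small index
-/

set_option autoImplicit false

namespace CfsgLib.MinIdx

open Matrix CfsgLib.Classical
open scoped commutatorElement

variable {F : Type*} [Field F] {n : ℕ} (K : Subgroup (HP F n))

/-- The Levi image. -/
def levImage : Subgroup (Matrix.symplecticGroup (Fin n) F) := K.map (HP.projG F n)

/-- The torus elements over a trivial Levi coordinate. -/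
def torImage : Subgroup Fˣ := (K ⊓ (HP.projG F n).ker).map (HP.projA F n)

/-- The Heisenberg vectors. -/
def vecImage : AddSubgroup (Fin n ⊕ Fin n → F) where
  carrier := {v | ∃ c, (⟨1, 1, v, c⟩ : HP F n) ∈ K}
  zero_mem' := ⟨0, K.one_mem⟩
  add_mem' := by
    rintro v w ⟨c, hc⟩ ⟨d, hd⟩
    refine ⟨c + d + sbil v w, ?_⟩
    have := K.mul_mem hc hd
    rwa [HP.mul_def, show (1 : Fˣ) * 1 = 1 from one_mul 1, show (1 : Matrix.symplecticGroup (Fin n) F) * 1 = 1 from one_mul 1,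
      Units.val_one, one_smul, sp_one_mulVec, one_pow, one_mul] at this
  neg_mem' := by
    rintro v ⟨c, hc⟩
    refine ⟨-c, ?_⟩
    have := K.inv_mem hc
    rwa [HP.inv_def, inv_one, inv_one, Units.val_one, one_smul, sp_one_mulVec, one_pow, one_mul] at this

theorem mem_vecImage {v : Fin n ⊕ Fin n → F} : v ∈ vecImage K ↔ ∃ c, (⟨1, 1, v, c⟩ : HP F n) ∈ K := Iff.rfl

/-- The central part. -/
def cenImage : AddSubgroup F where
  carrier := {c | (⟨1, 1, 0, c⟩ : HP F n) ∈ K}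
  zero_mem' := K.one_mem
  add_mem' := by
    intro c d hc hd
    have := K.mul_mem hc hd
    rw [HP.mul_def] at this
    simpa [sbil] using this
  neg_mem' := by
    intro c hc
    have := K.inv_mem hc
    rw [HP.inv_def] at this
    simpa using this

theorem mem_cenImage {c : F} : c ∈ cenImage K ↔ (⟨1, 1, 0, c⟩ : HP F n) ∈ K := Iff.rfl

theorem torImage_mem {a : Fˣ} :
    a ∈ torImage K ↔ ∃ v c, (⟨a, 1, v, c⟩ : HP F n) ∈ K := by
  constructor
  · rintro ⟨⟨b, g, v, c⟩, ⟨hk, hg⟩, rfl⟩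
    change g = 1 at hg
    subst hg
    exact ⟨v, c, hk⟩
  · rintro ⟨v, c, hk⟩
    exact ⟨⟨a, 1, v, c⟩, ⟨hk, rfl⟩, rfl⟩

theorem cenImage_sq {a : Fˣ} (ha : a ∈ torImage K) {z : F} (hz : z ∈ cenImage K) :
    (a : F) ^ 2 * z ∈ cenImage K := by
  obtain ⟨v, c, hk⟩ := (torImage_mem K).1 ha
  have := K.mul_mem (K.mul_mem hk (mem_cenImage K |>.1 hz)) (K.inv_mem hk)
  rw [mem_cenImage]
  convert this using 1
  rw [eq_mul_inv_iff_mul_eq, HP.mul_def, HP.mul_def]
  refine HP.ext (by simp) rfl ?_ ?_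
  · simp
  · simp [sbil]; ring

theorem vecImage_conj {k : HP F n} (hk : k ∈ K) {v : Fin n ⊕ Fin n → F} (hv : v ∈ vecImage K) :
    (k.a : F) • (k.g.1 *ᵥ v) ∈ vecImage K := by
  obtain ⟨c, hc⟩ := hv
  refine ⟨(k.a : F) ^ 2 * c + sbil k.v ((k.a : F) • (k.g.1 *ᵥ v)) + sbil k.v ((k.a : F) • (k.g.1 *ᵥ v)), ?_⟩
  have := K.mul_mem (K.mul_mem hk hc) (K.inv_mem hk)
  convert this using 1
  rw [eq_mul_inv_iff_mul_eq, HP.mul_def, HP.mul_def]
  refine HP.ext (by simp) (by simp) ?_ ?_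
  · simp [add_comm]
  · simp only [Units.val_one, one_pow, one_mul, one_smul, sp_one_mulVec]
    rw [sbil_swap k.v ((k.a : F) • (k.g.1 *ᵥ v))]
    ring

/-- A subgroup splits as image and kernel of a homomorphism. -/
theorem card_split {G H : Type*} [Group G] [Group H] (A : Subgroup G) (f : G →* H) :
    Nat.card A = Nat.card (A.map f) * Nat.card ↥(A ⊓ f.ker) := by
  let φ : A →* H := f.comp A.subtype
  rw [Subgroup.card_eq_card_quotient_mul_card_subgroup φ.ker, Nat.card_congr (QuotientGroup.quotientKerEquivRange φ).toEquiv]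
  congr 1
  · rw [show φ.range = A.map f by rw [MonoidHom.range_comp, A.range_subtype]]
  · exact Nat.card_congr
      { toFun := fun a => ⟨a.1.1, a.1.2, a.2⟩
        invFun := fun a => ⟨⟨a.1, a.2.1⟩, a.2.2⟩
        left_inv := fun _ => rfl
        right_inv := fun _ => rfl }

theorem card_heis_part :
    Nat.card ↥(K ⊓ (HP.projG F n).ker ⊓ (HP.projA F n).ker) = Nat.card (vecImage K) * Nat.card (cenImage K) := by
  choose s hs using fun v : vecImage K => v.2
  have hx : ∀ x : ↥(K ⊓ (HP.projG F n).ker ⊓ (HP.projA F n).ker),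
      x.1 = ⟨1, 1, x.1.v, x.1.c⟩ ∧ (⟨1, 1, x.1.v, x.1.c⟩ : HP F n) ∈ K := by
    rintro ⟨⟨a, g, v, c⟩, ⟨hk, hg⟩, ha⟩
    change g = 1 at hg
    change a = 1 at ha
    subst hg; subst ha
    exact ⟨rfl, hk⟩
  rw [← Nat.card_prod]
  refine (Nat.card_congr ?_).symm
  refine
    { toFun := fun p => ⟨⟨1, 1, p.1.1, s p.1 + p.2.1⟩, ⟨?_, rfl⟩, rfl⟩
      invFun := fun x => (⟨x.1.v, x.1.c, (hx x).2⟩, ⟨x.1.c - s ⟨x.1.v, x.1.c, (hx x).2⟩, ?_⟩)
      left_inv := fun p => by simp
      right_inv := fun x => ?_ }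
  · have := K.mul_mem (hs p.1) p.2.2
    rw [HP.mul_def] at this
    simpa [sbil] using this
  · rw [mem_cenImage]
    have := K.mul_mem (K.inv_mem (hs ⟨x.1.v, x.1.c, (hx x).2⟩)) (hx x).2
    rw [HP.inv_def, HP.mul_def] at this
    simp [neg_add_eq_sub] at this
    rwa [← neg_one_smul F x.1.v, sbil_smul_left, sbil_self, mul_zero, add_zero] at this
  · refine Subtype.ext ?_
    rw [(hx x).1]
    simp

/-- The index of a subgroup of the point parabolic. -/
theorem index_eq [Finite F] :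
    K.index = (levImage K).index * (torImage K).index * ((vecImage K).index * (cenImage K).index) := by
  have hK : Nat.card K = Nat.card (levImage K) * (Nat.card (torImage K) * (Nat.card (vecImage K) * Nat.card (cenImage K))) := by
    rw [card_split K (HP.projG F n), card_split (K ⊓ (HP.projG F n).ker) (HP.projA F n), card_heis_part]
    rfl
  refine Nat.eq_of_mul_eq_mul_right (Nat.card_pos (α := K)) ?_
  rw [K.index_mul_card, Nat.card_congr (HP.prodEquiv F n), Nat.card_prod, Nat.card_prod, Nat.card_prod, hK,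
    ← (levImage K).index_mul_card, ← (torImage K).index_mul_card, ← (vecImage K).index_mul_card,
    ← (cenImage K).index_mul_card]
  ring

/-- With trivial Heisenberg vectors and a non-trivial torus element, a conjugate of the whole Levi subgroup lies in `K`. -/
theorem levi_le_of_vecImage_bot (hperf : commutator (Matrix.symplecticGroup (Fin n) F) = ⊤)
    (hlev : levImage K = ⊤) (hvec : vecImage K = ⊥) {a : Fˣ} (ha : a ∈ torImage K) (ha1 : a ≠ 1) :
    ∃ u : HP F n, ∀ g, u⁻¹ * ⟨1, g, 0, 0⟩ * u ∈ K := by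
  obtain ⟨v₀, c₀, hk⟩ := (torImage_mem K).1 ha
  have hne : (a : F) - 1 ≠ 0 := sub_ne_zero.2 fun h => ha1 (Units.ext h)
  let w : Fin n ⊕ Fin n → F := ((a : F) - 1)⁻¹ • v₀
  let u : HP F n := ⟨1, 1, w, 0⟩
  let K' : Subgroup (HP F n) := K.map (MulAut.conj u).toMonoidHom
  have hv : ∀ s ∈ K', s.v = 0 := by
    rintro _ ⟨⟨b, g, v, c⟩, hs, rfl⟩
    -- the commutator of the torus element with `s`
    have hmem := K.mul_mem (K.mul_mem hk hs) (K.inv_mem (K.mul_mem hs hk))
    have hx : ((⟨a, 1, v₀, c₀⟩ : HP F n) * ⟨b, g, v, c⟩ * ((⟨b, g, v, c⟩ : HP F n) * ⟨a, 1, v₀, c₀⟩)⁻¹) =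
        ⟨1, 1, (v₀ + (a : F) • v) - (v + (b : F) • (g.1 *ᵥ v₀)),
          ((⟨a, 1, v₀, c₀⟩ : HP F n) * ⟨b, g, v, c⟩ * ((⟨b, g, v, c⟩ : HP F n) * ⟨a, 1, v₀, c₀⟩)⁻¹).c⟩ := by
      rw [mul_inv_eq_iff_eq_mul]
      set cc := ((⟨a, 1, v₀, c₀⟩ : HP F n) * ⟨b, g, v, c⟩ * ((⟨b, g, v, c⟩ : HP F n) * ⟨a, 1, v₀, c₀⟩)⁻¹) with hcc
      refine HP.ext ?_ ?_ ?_ ?_
      · simp [HP.mul_def, mul_comm]
      · simp [HP.mul_def]
      · simp [HP.mul_def]
      · have h1 := congrArg HP.c (show (⟨a, 1, v₀, c₀⟩ : HP F n) * ⟨b, g, v, c⟩ =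
          cc * ((⟨b, g, v, c⟩ : HP F n) * ⟨a, 1, v₀, c₀⟩) by rw [hcc]; group)
        have h2 : cc.a = 1 := by simp [hcc, HP.mul_def, HP.inv_def, mul_comm b a]
        have h3 : cc.g = 1 := by simp [hcc, HP.mul_def, HP.inv_def]
        have h4 : cc.v = (v₀ + (a : F) • v) - (v + (b : F) • (g.1 *ᵥ v₀)) := by
          have h5 := congrArg HP.v (show (⟨a, 1, v₀, c₀⟩ : HP F n) * ⟨b, g, v, c⟩ =
            cc * ((⟨b, g, v, c⟩ : HP F n) * ⟨a, 1, v₀, c₀⟩) by rw [hcc]; group)
          rw [HP.mul_def cc] at h5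
          simp only [h2, h3, Units.val_one, one_smul, sp_one_mulVec] at h5
          simp only [HP.mul_def, Units.val_one, sp_one_mulVec] at h5
          exact eq_sub_of_add_eq h5.symm
        rw [h1, HP.mul_def cc]
        simp only [h2, h3, h4]
        rfl
    rw [hx] at hmem
    have h0 : (v₀ + (a : F) • v) - (v + (b : F) • (g.1 *ᵥ v₀)) = 0 := by
      have : (v₀ + (a : F) • v) - (v + (b : F) • (g.1 *ᵥ v₀)) ∈ vecImage K := ⟨_, hmem⟩
      rwa [hvec, AddSubgroup.mem_bot] at this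
    show (u * ⟨b, g, v, c⟩ * u⁻¹).v = 0
    simp only [u, HP.mul_def, HP.inv_def, inv_one, one_mul, Units.val_one, one_smul, sp_one_mulVec, mulVec_neg, smul_neg, w,
      mulVec_smul]
    have hgoal : ((a : F) - 1) • (((a : F) - 1)⁻¹ • v₀ + v + -((b : F) • ((a : F) - 1)⁻¹ • (g.1 *ᵥ v₀))) = 0 := by
      rw [smul_add, smul_add, smul_neg, smul_comm ((a : F) - 1) (b : F), smul_inv_smul₀ hne, smul_inv_smul₀ hne, ← h0]
      module
    exact (smul_eq_zero.1 hgoal).resolve_left hne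
  -- lifts with trivial torus part exist by perfectness
  have hlift : ∀ g : Matrix.symplecticGroup (Fin n) F, ∃ c, (⟨1, g, 0, c⟩ : HP F n) ∈ K' := by
    intro g
    have h1 : (K'.map (HP.projG F n)) = ⊤ := by
      rw [eq_top_iff]
      intro g' _
      obtain ⟨k, hk', rfl⟩ : g' ∈ levImage K := hlev ▸ Subgroup.mem_top g'
      exact ⟨_, ⟨k, hk', rfl⟩, by simp [u, HP.projG, HP.mul_def, HP.inv_def]⟩
    have h2 : (⁅K', K'⁆).map (HP.projG F n) = ⊤ := by
      rw [Subgroup.map_commutator, h1, ← commutator_def, hperf]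
    obtain ⟨k, hk', rfl⟩ : g ∈ (⁅K', K'⁆).map (HP.projG F n) := h2 ▸ Subgroup.mem_top g
    have h3 : (HP.projA F n) k = 1 := by
      have h4 : (⁅K', K'⁆).map (HP.projA F n) ≤ ⊥ := by
        rw [Subgroup.map_commutator, le_bot_iff, Subgroup.commutator_eq_bot_iff_le_centralizer]
        exact fun x _ y _ => mul_comm y x
      exact Subgroup.mem_bot.1 (h4 ⟨k, hk', rfl⟩)
    have hkK := Subgroup.commutator_le_self K' hk'
    refine ⟨k.c, ?_⟩
    convert hkK using 1
    exact HP.ext h3.symm rfl (hv k hkK).symm rfl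
  have hexact : ∀ g : Matrix.symplecticGroup (Fin n) F, (⟨1, g, 0, 0⟩ : HP F n) ∈ K' := by
    let L : Subgroup (Matrix.symplecticGroup (Fin n) F) :=
      { carrier := {g | (⟨1, g, 0, 0⟩ : HP F n) ∈ K'}
        one_mem' := K'.one_mem
        mul_mem' := fun hg hh => by
          have := K'.mul_mem hg hh
          simpa [HP.mul_def, sbil] using this
        inv_mem' := fun hg => by
          have := K'.inv_mem hg
          simpa [HP.inv_def] using this }
    intro g
    suffices hL : (⊤ : Subgroup (Matrix.symplecticGroup (Fin n) F)) ≤ L from hL (Subgroup.mem_top g)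
    rw [← hperf, commutator_def, Subgroup.commutator_le]
    intro g _ h _
    obtain ⟨c, hc⟩ := hlift g
    obtain ⟨d, hd⟩ := hlift h
    have hmem := K'.mul_mem (K'.mul_mem (K'.mul_mem hc hd) (K'.inv_mem hc)) (K'.inv_mem hd)
    show (⟨1, ⁅g, h⁆, 0, 0⟩ : HP F n) ∈ K'
    convert hmem using 1
    simp only [HP.mul_def, HP.inv_def, inv_one, one_mul, Units.val_one, one_smul, smul_zero, mulVec_zero, add_zero,
      neg_zero, one_pow, sbil, zero_dotProduct, commutatorElement_def]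
    exact HP.ext rfl rfl rfl (by ring)
  refine ⟨u, fun g => ?_⟩
  obtain ⟨k, hk', hke⟩ := hexact g
  rw [← hke]
  show u⁻¹ * (u * k * u⁻¹) * u ∈ K
  simpa [mul_assoc] using hk'

end CfsgLib.MinIdx
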