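import Cfsg.Agent.Lib.MinIdx.Base
import Cfsg.Agent.Lib.Geometry.Symplectic

/-!
# Subgroups of `Sp` stabilising a decomposition or a subspace have large index
-/

set_option autoImplicit false

namespace CfsgLib.MinIdx

open Matrix CfsgLib.Classical

variable {F : Type*} [Field F] [Finite F] {m : ℕ}

omit [Finite F] in
theorem sbil_eq_sympBilin (u v : Fin m ⊕ Fin m → F) :
    sbil u v = CfsgLib.Geometry.sympBilin m F u v := rfl

theorem card_vec : Nat.card (Fin m ⊕ Fin m → F) = Nat.card F ^ (2 * m) := by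
  rw [Nat.card_fun, Nat.card_sum, Nat.card_fin, two_mul]

theorem card_ne_zero_sub {V : Type*} [AddCommGroup V] [Module F V] [Finite V] (W : Submodule F V) :
    Nat.card {v : {v : V // v ≠ 0} // v.1 ∈ W} = Nat.card F ^ Module.finrank F W - 1 := by
  classical
  haveI := Fintype.ofFinite V
  rw [← Module.natCard_eq_pow_finrank (K := F) (V := W),
    Nat.card_congr (Equiv.mk (fun v => (⟨⟨v.1.1, v.2⟩, fun h => v.1.2 (congrArg Subtype.val h)⟩ : {w : W // w ≠ 0}))
      (fun w => ⟨⟨w.1.1, fun h => w.2 (Subtype.ext h)⟩, w.1.2⟩) (fun _ => rfl) (fun _ => rfl))]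
  simp [Nat.card_eq_fintype_card, Fintype.card_subtype_compl]

omit [Finite F] in
theorem exists_sp_map {u w : Fin m ⊕ Fin m → F} (hu : u ≠ 0) (hw : w ≠ 0) :
    ∃ g : Matrix.symplecticGroup (Fin m) F, g.1 *ᵥ u = w := sp_transitive hu hw

/-- A set of pairwise orthogonal non-degenerate parts with total sum everything. -/
structure OrthParts (D : Set (Submodule F (Fin m ⊕ Fin m → F))) : Prop where
  nondeg : ∀ W ∈ D, SNondeg W
  ne_bot : ∀ W ∈ D, W ≠ ⊥
  orth : ∀ W ∈ D, ∀ W' ∈ D, W ≠ W' → ∀ u ∈ W, ∀ v ∈ W', sbil u v = 0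

omit [Finite F] in
theorem snondeg_eq_zero {W : Submodule F (Fin m ⊕ Fin m → F)} (hW : SNondeg W) {v : Fin m ⊕ Fin m → F}
    (hv : v ∈ W) (h : ∀ z ∈ W, sbil v z = 0) : v = 0 := by
  by_contra h0
  obtain ⟨z, hz, hvz⟩ := hW v hv h0
  exact hvz (h z hz)

/-- The decomposition count: a subgroup fixing a decomposition with smallest part `W₀` has large index. -/
theorem bound_of_parts {H : Subgroup (Matrix.symplecticGroup (Fin m) F)}
    {D : Set (Submodule F (Fin m ⊕ Fin m → F))} (hD : OrthParts D)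
    (hH : ∀ g ∈ H, (Submodule.map (act g)) '' D = D)
    {W₀ : Submodule F (Fin m ⊕ Fin m → F)} (hW₀ : W₀ ∈ D) {t d e : ℕ}
    (ht : Nat.card D ≤ t) (hd : ∀ W ∈ D, Module.finrank F W ≤ d) (he : Module.finrank F W₀ + e = 2 * m)
    (harith : t * (Nat.card F ^ d - 1) ≤ Nat.card F ^ e * (Nat.card F - 1)) :
    Nat.card F ^ (2 * m) - 1 ≤ H.index * (Nat.card F - 1) := by
  classical
  let q := Nat.card F
  let f : Matrix.symplecticGroup (Fin m) F → Set (Submodule F (Fin m ⊕ Fin m → F)) :=
    fun g => (Submodule.map (act g)) '' D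
  have hidx : Nat.card (Set.range f) ≤ H.index := card_range_le_index H f fun g h hh => by
    show (Submodule.map (act (g * h))) '' D = (Submodule.map (act g)) '' D
    conv_rhs => rw [← hH h hh, Set.image_image]
    exact Set.image_congr fun W _ => map_act_mul g h W
  let R : Set.range f → {v : Fin m ⊕ Fin m → F // v ≠ 0} → Prop := fun E v => ∃ W ∈ E.1, v.1 ∈ W
  have key := double_count R (t * (q ^ d - 1)) (q ^ e) ?_ ?_
  · rw [show Nat.card {v : Fin m ⊕ Fin m → F // v ≠ 0} = q ^ (2 * m) - 1 by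
      haveI := Fintype.ofFinite (Fin m ⊕ Fin m → F)
      rw [← card_vec (F := F) (m := m), Nat.card_eq_fintype_card, Nat.card_eq_fintype_card,
        Fintype.card_subtype_compl, Fintype.card_subtype_eq]] at key
    have hpos : 0 < q ^ e := pow_pos Nat.card_pos e
    refine Nat.le_of_mul_le_mul_right (c := q ^ e) ?_ hpos
    calc (q ^ (2 * m) - 1) * q ^ e ≤ Nat.card (Set.range f) * (t * (q ^ d - 1)) := key
      _ ≤ H.index * (q ^ e * (q - 1)) := Nat.mul_le_mul hidx harith
      _ = H.index * (q - 1) * q ^ e := by ring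
  · rintro ⟨_, g, rfl⟩
    haveI : Finite (Submodule F (Fin m ⊕ Fin m → F)) := Finite.of_injective _ SetLike.coe_injective
    haveI : Fintype D := Fintype.ofFinite _
    let T := Σ W : D, {v : {v : Fin m ⊕ Fin m → F // v ≠ 0} // v.1 ∈ W.1.map (act g)}
    refine (Nat.card_le_card_of_surjective (α := T) (fun p => (⟨p.2.1, p.1.1.map (act g), ⟨p.1.1, p.1.2, rfl⟩, p.2.2⟩ :
      {v // R ⟨f g, g, rfl⟩ v})) ?_).trans ?_
    · rintro ⟨v, _, ⟨W, hW, rfl⟩, hv⟩
      exact ⟨⟨⟨W, hW⟩, v, hv⟩, rfl⟩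
    · show Nat.card (Σ W : D, {v : {v : Fin m ⊕ Fin m → F // v ≠ 0} // v.1 ∈ W.1.map (act g)}) ≤ _
      rw [Nat.card_sigma]
      calc _ ≤ ∑ _W : D, (q ^ d - 1) := Finset.sum_le_sum fun W _ => by
            rw [card_ne_zero_sub, ← (Submodule.equivMapOfInjective _ (act_injective g) W.1).finrank_eq]
            exact Nat.sub_le_sub_right (Nat.pow_le_pow_right Nat.card_pos (hd _ W.2)) 1
        _ ≤ t * (q ^ d - 1) := by
            rw [Finset.sum_const, Finset.card_univ, smul_eq_mul, ← Nat.card_eq_fintype_card]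
            exact Nat.mul_le_mul_right _ ht
  · rintro ⟨v, hv0⟩
    obtain ⟨a, ha, ha0⟩ := Submodule.exists_mem_ne_zero_of_ne_bot (hD.ne_bot W₀ hW₀)
    obtain ⟨g, hg⟩ := exists_sp_map ha0 hv0
    subst hg
    -- the decompositions through `g a` obtained from `g D` by root elements at `a`
    let P : Submodule F (Fin m ⊕ Fin m → F) := (CfsgLib.Geometry.sympBilin m F).orthogonal W₀
    have hP : ∀ {u}, u ∈ P → ∀ z ∈ W₀, sbil z u = 0 := fun hu z hz => hu z hz
    have hau : ∀ u : P, sbil a u.1 = 0 := fun u => hP u.2 a ha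
    let F₁ : P → {E : Set.range f // R E ⟨g.1 *ᵥ a, hv0⟩} := fun u =>
      ⟨⟨f (g * sroot a u.1 (hau u) 0), _, rfl⟩, W₀.map (act (g * sroot a u.1 (hau u) 0)), ⟨W₀, hW₀, rfl⟩, a, ha, by
        show act _ a = _
        rw [act_apply, sp_mul_mulVec, sroot_mulVec, sbil_swap a u.1, hau u, sbil_self]
        simp⟩
    have hF₁ : Function.Injective F₁ := by
      intro u u' he'
      have he2 : f (g * sroot a u.1 (hau u) 0) = f (g * sroot a u'.1 (hau u') 0) :=
        congrArg (fun E => E.1.1) he'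
      have hmem : W₀.map (act (sroot a u.1 (hau u) 0)) ∈
          (Submodule.map (act (sroot a u'.1 (hau u') 0))) '' D := by
        obtain ⟨W, hW, hWe⟩ : W₀.map (act (g * sroot a u.1 (hau u) 0)) ∈ f (g * sroot a u'.1 (hau u') 0) :=
          he2 ▸ ⟨W₀, hW₀, rfl⟩
        refine ⟨W, hW, Submodule.map_injective_of_injective (act_injective g) ?_⟩
        rw [← map_act_mul, ← map_act_mul]
        exact hWe
      obtain ⟨W, hW, hWe⟩ := hmem
      have hfix : ∀ w : P, (sroot a w.1 (hau w) 0).1 *ᵥ a = a := fun w => by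
        rw [sroot_mulVec, sbil_swap a w.1, hau w, sbil_self]; simp
      have hWW : W = W₀ := by
        by_contra hne
        obtain ⟨b, hb, hbe⟩ : a ∈ W.map (act (sroot a u'.1 (hau u') 0)) :=
          hWe.symm ▸ ⟨a, ha, hfix u⟩
        have : b = a := act_injective _ (hbe.trans (hfix u').symm)
        subst this
        exact ha0 (snondeg_eq_zero (hD.nondeg W hW) hb fun z hz => hD.orth W₀ hW₀ W hW (Ne.symm hne) _ ha z hz)
      subst hWW
      obtain ⟨b, hb, hab⟩ := hD.nondeg W hW a ha ha0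
      obtain ⟨z, hz, hze⟩ : act (sroot a u.1 (hau u) 0) b ∈ W.map (act (sroot a u'.1 (hau u') 0)) :=
        hWe.symm ▸ ⟨b, hb, rfl⟩
      simp only [act_apply, sroot_mulVec, zero_smul, add_zero, sbil_swap b, hP u.2 b hb,
        sbil_swap z, hP u'.2 z hz, neg_zero] at hze
      have hzb : z = b := by
        refine sub_eq_zero.1 (snondeg_eq_zero (hD.nondeg W hW) (sub_mem hz hb) fun w hw => ?_)
        rw [show z - b = sbil z a • u'.1 - sbil b a • u.1 by linear_combination (norm := module) hze,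
          sbil_sub_left, sbil_smul_left, sbil_smul_left, sbil_swap w u.1, sbil_swap w u'.1, hP u.2 w hw,
          hP u'.2 w hw]
        simp
      subst hzb
      have h1 := add_left_cancel hze
      rw [neg_smul, neg_smul, neg_inj] at h1
      have hza : sbil z a ≠ 0 := by rwa [sbil_swap a z, neg_ne_zero]
      exact Subtype.ext (smul_right_injective _ hza h1).symm
    refine le_trans (le_of_eq ?_) (Nat.card_le_card_of_injective F₁ hF₁)
    rw [Module.natCard_eq_pow_finrank (K := F)]
    congr 1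
    have := LinearMap.BilinForm.finrank_orthogonal (CfsgLib.Geometry.sympBilin_nondegenerate m F) W₀
    rw [Module.finrank_fintype_fun_eq_card, Fintype.card_sum, Fintype.card_fin] at this
    have hle := Submodule.finrank_le W₀
    rw [Module.finrank_fintype_fun_eq_card, Fintype.card_sum, Fintype.card_fin] at hle
    show e = Module.finrank F P
    change Module.finrank F P = _ at this
    omega

omit [Finite F] in
theorem finrank_perp (W : Submodule F (Fin m ⊕ Fin m → F)) :
    Module.finrank F ((CfsgLib.Geometry.sympBilin m F).orthogonal W) + Module.finrank F W = 2 * m := by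
  have := LinearMap.BilinForm.finrank_orthogonal (CfsgLib.Geometry.sympBilin_nondegenerate m F) W
  rw [Module.finrank_fintype_fun_eq_card, Fintype.card_sum, Fintype.card_fin] at this
  have hle := Submodule.finrank_le W
  rw [Module.finrank_fintype_fun_eq_card, Fintype.card_sum, Fintype.card_fin] at hle
  omega

omit [Finite F] in
theorem mem_perp_iff {W : Submodule F (Fin m ⊕ Fin m → F)} {u : Fin m ⊕ Fin m → F} :
    u ∈ (CfsgLib.Geometry.sympBilin m F).orthogonal W ↔ ∀ w ∈ W, sbil w u = 0 := Iff.rfl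

omit [Finite F] in
theorem snondeg_disjoint {W : Submodule F (Fin m ⊕ Fin m → F)} (hW : SNondeg W) :
    Disjoint W ((CfsgLib.Geometry.sympBilin m F).orthogonal W) := by
  rw [Submodule.disjoint_def]
  intro u hu hu'
  refine snondeg_eq_zero hW hu fun z hz => ?_
  rw [sbil_swap z u, mem_perp_iff.1 hu' z hz, neg_zero]

omit [Finite F] in
theorem snondeg_perp {W : Submodule F (Fin m ⊕ Fin m → F)} (hW : SNondeg W) :
    SNondeg ((CfsgLib.Geometry.sympBilin m F).orthogonal W) ∧
      W ⊔ (CfsgLib.Geometry.sympBilin m F).orthogonal W = ⊤ := by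
  have htop : W ⊔ (CfsgLib.Geometry.sympBilin m F).orthogonal W = ⊤ := by
    refine Submodule.eq_top_of_finrank_eq ?_
    have h1 := Submodule.finrank_sup_add_finrank_inf_eq W ((CfsgLib.Geometry.sympBilin m F).orthogonal W)
    rw [(snondeg_disjoint hW).eq_bot, finrank_bot, add_zero] at h1
    rw [h1, Module.finrank_fintype_fun_eq_card, Fintype.card_sum, Fintype.card_fin]
    have := finrank_perp W
    omega
  refine ⟨fun u hu hu0 => ?_, htop⟩
  obtain ⟨z, hz⟩ := exists_sbil_eq_one hu0
  obtain ⟨a, ha, b, hb, rfl⟩ := Submodule.mem_sup.1 (show z ∈ W ⊔ _ from htop ▸ Submodule.mem_top)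
  refine ⟨b, hb, ?_⟩
  rw [sbil_add_right, sbil_swap a u, mem_perp_iff.1 hu a ha, neg_zero, zero_add] at hz
  rw [hz]; exact one_ne_zero

theorem q_three_le_pow {q n : ℕ} (hq : 3 ≤ q) : n + 2 ≤ 2 * q ^ n := by
  induction n with
  | zero => simp
  | succ n ih =>
    rw [pow_succ, ← mul_assoc]
    calc n + 1 + 2 ≤ (n + 2) * 3 := by omega
      _ ≤ 2 * q ^ n * q := Nat.mul_le_mul ih hq

theorem parts_arith {q d n : ℕ} (hq : 3 ≤ q) (hd : 1 ≤ d) :
    (n + 2) * (q ^ d - 1) ≤ q ^ ((n + 1) * d) * (q - 1) := by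
  calc (n + 2) * (q ^ d - 1) ≤ (2 * q ^ n) * q ^ d := Nat.mul_le_mul (q_three_le_pow hq) (Nat.sub_le _ _)
    _ ≤ (2 * q ^ (n * d)) * q ^ d := Nat.mul_le_mul_right _ (Nat.mul_le_mul_left _
        (Nat.pow_le_pow_right (by omega) (Nat.le_mul_of_pos_right _ hd)))
    _ = 2 * q ^ ((n + 1) * d) := by rw [mul_assoc, ← pow_add]; congr 2; ring
    _ ≤ (q - 1) * q ^ ((n + 1) * d) := Nat.mul_le_mul_right _ (by omega)
    _ = _ := mul_comm _ _

/-- Stabilisers of proper non-degenerate subspaces. -/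
theorem bound_of_nondeg (hq : 3 ≤ Nat.card F) {H : Subgroup (Matrix.symplecticGroup (Fin m) F)}
    {W : Submodule F (Fin m ⊕ Fin m → F)} (hW : SNondeg W) (hbot : W ≠ ⊥) (htop : W ≠ ⊤)
    (hH : ∀ g ∈ H, W.map (act g) = W) :
    Nat.card F ^ (2 * m) - 1 ≤ H.index * (Nat.card F - 1) := by
  classical
  let P := (CfsgLib.Geometry.sympBilin m F).orthogonal W
  obtain ⟨hP, hsup⟩ := snondeg_perp hW
  have hPbot : P ≠ ⊥ := fun h => htop (by rw [← hsup, show (CfsgLib.Geometry.sympBilin m F).orthogonal W = ⊥ from h, sup_bot_eq])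
  have hmap : ∀ g ∈ H, P.map (act g) = P := by
    intro g hg
    refine Submodule.eq_of_le_of_finrank_eq ?_
      (Submodule.equivMapOfInjective _ (act_injective g) P).finrank_eq.symm
    rintro _ ⟨u, hu, rfl⟩
    refine mem_perp_iff.2 fun w hw => ?_
    obtain ⟨z, hz, rfl⟩ : w ∈ W.map (act g) := (hH g hg).symm ▸ hw
    rw [act_apply, act_apply, sbil_mulVec]
    exact mem_perp_iff.1 hu z hz
  have hparts : OrthParts ({W, P} : Set (Submodule F (Fin m ⊕ Fin m → F))) := by
    refine ⟨?_, ?_, ?_⟩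
    · rintro _ (rfl | rfl) <;> assumption
    · rintro _ (rfl | rfl) <;> assumption
    · rintro _ (rfl | rfl) _ (rfl | rfl) hne u hu v hv
      · exact absurd rfl hne
      · exact mem_perp_iff.1 hv u hu
      · rw [sbil_swap v u, mem_perp_iff.1 hu v hv, neg_zero]
      · exact absurd rfl hne
  have hfix : ∀ g ∈ H, (Submodule.map (act g)) '' ({W, P} : Set (Submodule F (Fin m ⊕ Fin m → F))) = {W, P} := by
    intro g hg
    rw [Set.image_pair, hH g hg, hmap g hg]
  have ht : Nat.card ({W, P} : Set (Submodule F (Fin m ⊕ Fin m → F))) ≤ 0 + 2 := by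
    rw [Nat.card_coe_set_eq, Set.ncard_pair (fun h => ?_)]
    have h' : W ≤ P := h.le
    exact hbot ((snondeg_disjoint hW).eq_bot_of_le h')
  have hsum : Module.finrank F P + Module.finrank F W = 2 * m := finrank_perp W
  rcases le_total (Module.finrank F W) (Module.finrank F P) with hle | hle
  · refine bound_of_parts hparts hfix (W₀ := W) (Or.inl rfl) (d := Module.finrank F P) ht ?_
      (e := (0 + 1) * Module.finrank F P) (by omega) (parts_arith hq (Submodule.one_le_finrank_iff.2 hPbot))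
    rintro _ (rfl | rfl) <;> omega
  · refine bound_of_parts hparts hfix (W₀ := P) (Or.inr rfl) (d := Module.finrank F W) ht ?_
      (e := (0 + 1) * Module.finrank F W) (by omega) (parts_arith hq (Submodule.one_le_finrank_iff.2 hbot))
    rintro _ (rfl | rfl) <;> omega

omit [Finite F] in
theorem finrank_parts {D : Set (Submodule F (Fin m ⊕ Fin m → F))} (hD : OrthParts D)
    (s : Finset (Submodule F (Fin m ⊕ Fin m → F))) (hs : ↑s ⊆ D) :
    Module.finrank F ↥(s.sup id) = ∑ W ∈ s, Module.finrank F W := by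
  classical
  induction s using Finset.induction with
  | empty => simp
  | insert W s hW ih =>
    rw [Finset.coe_insert, Set.insert_subset_iff] at hs
    rw [Finset.sup_insert, Finset.sum_insert hW, id_eq, ← ih hs.2]
    have hdis : Disjoint W (s.sup id) := by
      refine (snondeg_disjoint (hD.nondeg W hs.1)).mono_right (Finset.sup_le fun Z hZ z hz => ?_)
      exact mem_perp_iff.2 fun w hw => hD.orth W hs.1 Z (hs.2 hZ) (fun h => hW (h ▸ hZ)) w hw z hz
    have h1 := Submodule.finrank_sup_add_finrank_inf_eq W (s.sup id)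
    rw [hdis.eq_bot, finrank_bot, add_zero] at h1
    exact h1

/-- Stabilisers of decompositions into at least two parts of equal dimension. -/
theorem bound_of_equal_parts (hq : 3 ≤ Nat.card F) {H : Subgroup (Matrix.symplecticGroup (Fin m) F)}
    {D : Set (Submodule F (Fin m ⊕ Fin m → F))} (hD : OrthParts D)
    (hH : ∀ g ∈ H, (Submodule.map (act g)) '' D = D) {d : ℕ} (hdim : ∀ W ∈ D, Module.finrank F W = d)
    {W₁ W₂ : Submodule F (Fin m ⊕ Fin m → F)} (h₁ : W₁ ∈ D) (h₂ : W₂ ∈ D) (hne : W₁ ≠ W₂) :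
    Nat.card F ^ (2 * m) - 1 ≤ H.index * (Nat.card F - 1) := by
  classical
  haveI : Finite (Submodule F (Fin m ⊕ Fin m → F)) := Finite.of_injective _ SetLike.coe_injective
  obtain ⟨s, rfl⟩ : ∃ s : Finset (Submodule F (Fin m ⊕ Fin m → F)), ↑s = D :=
    ⟨D.toFinite.toFinset, D.toFinite.coe_toFinset⟩
  have hd : 1 ≤ d := hdim W₁ h₁ ▸ Submodule.one_le_finrank_iff.2 (hD.ne_bot W₁ h₁)
  have h2 : 2 ≤ s.card := Finset.one_lt_card.2 ⟨W₁, h₁, W₂, h₂, hne⟩
  obtain ⟨n, hn⟩ : ∃ n, s.card = n + 2 := ⟨s.card - 2, by omega⟩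
  have hle := Submodule.finrank_le (s.sup id)
  rw [finrank_parts hD s le_rfl, Finset.sum_congr rfl hdim, Finset.sum_const, smul_eq_mul, hn,
    Module.finrank_fintype_fun_eq_card, Fintype.card_sum, Fintype.card_fin] at hle
  refine bound_of_parts hD hH h₁ (t := n + 2) (d := d) (e := 2 * m - d) (by simp [hn])
    (fun W hW => (hdim W hW).le) (by have := hdim W₁ h₁; rw [this]; nlinarith [Nat.sub_add_cancel (show d ≤ 2 * m by nlinarith)])
    ((parts_arith (n := n) hq hd).trans (Nat.mul_le_mul_right _ (Nat.pow_le_pow_right (by omega) ?_)))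
  have : (n + 2) * d = (n + 1) * d + d := by ring
  omega

end CfsgLib.MinIdx
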