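import Cfsg.Agent.Lib.MinIdx.OrthCount
import Cfsg.Agent.Lib.MinIdx.SpStruct
import Cfsg.Agent.Lib.KnownA.SpGen.Closure

/-!
# Subgroups of `Sp` meeting every point radical in a large subgroup contain a transvection group
-/

set_option autoImplicit false

namespace CfsgLib.MinIdx

open Matrix CfsgLib.Classical CfsgLib.KnownA.SpGen

variable {F : Type*} [Field F] {m : ℕ}

/-- The vectors `v` such that some `sroot x v c` lies in `H`. -/
def rootSet (H : Subgroup (Matrix.symplecticGroup (Fin m) F)) (x : Fin m ⊕ Fin m → F) :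
    AddSubgroup (Fin m ⊕ Fin m → F) where
  carrier := {v | ∃ (h : sbil x v = 0) (c : F), sroot x v h c ∈ H}
  zero_mem' := ⟨by simp [sbil], 0, by rw [sroot_one]; exact H.one_mem⟩
  add_mem' := by
    rintro v w ⟨hv, c, hc⟩ ⟨hw, d, hd⟩
    exact ⟨by rw [sbil_add_right, hv, hw, add_zero], _, sroot_mul x v w hv hw c d ▸ H.mul_mem hc hd⟩
  neg_mem' := by
    rintro v ⟨hv, c, hc⟩
    exact ⟨by rw [← neg_one_smul F v, sbil_smul_right, hv, mul_zero], _, sroot_inv x v hv c ▸ H.inv_mem hc⟩

theorem mem_rootSet {H : Subgroup (Matrix.symplecticGroup (Fin m) F)} {x v : Fin m ⊕ Fin m → F} :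
    v ∈ rootSet H x ↔ ∃ (h : sbil x v = 0) (c : F), sroot x v h c ∈ H := Iff.rfl

theorem line_mem_rootSet (H : Subgroup (Matrix.symplecticGroup (Fin m) F)) (x : Fin m ⊕ Fin m → F) (α : F) :
    α • x ∈ rootSet H x :=
  ⟨by rw [sbil_smul_right, sbil_self, mul_zero], -(2 * α), by
    rw [sroot_line, add_neg_cancel, CfsgLib.Classical.stv_zero]; exact H.one_mem⟩

/-- The scalars `α` with `sroot y (α x) 0 ∈ H`. -/
def lineSet (H : Subgroup (Matrix.symplecticGroup (Fin m) F)) (y x : Fin m ⊕ Fin m → F) : AddSubgroup F where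
  carrier := {α | ∃ h : sbil y (α • x) = 0, sroot y (α • x) h 0 ∈ H}
  zero_mem' := ⟨by simp [sbil], by
    rw [sroot_congr _ (zero_smul F x) rfl, sroot_one]; exact H.one_mem⟩
  add_mem' := by
    rintro a b ⟨ha, ha'⟩ ⟨hb, hb'⟩
    refine ⟨by rw [add_smul, sbil_add_right, ha, hb, add_zero], ?_⟩
    have := H.mul_mem ha' hb'
    rw [sroot_mul] at this
    convert this using 1
    exact sroot_congr _ (add_smul a b x) (by simp [sbil_smul_left, sbil_smul_right])
  neg_mem' := by
    rintro a ⟨ha, ha'⟩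
    refine ⟨by rw [neg_smul, ← neg_one_smul F (a • x), sbil_smul_right, ha, mul_zero], ?_⟩
    have := H.inv_mem ha'
    rw [sroot_inv] at this
    convert this using 1
    exact sroot_congr _ (neg_smul a x) neg_zero.symm

/-- Conjugating a root element at `y` by one at `x ⊥ y`. -/
theorem lineSet_mem {H : Subgroup (Matrix.symplecticGroup (Fin m) F)} {x y z w : Fin m ⊕ Fin m → F}
    (hxy : sbil x y = 0) (hz : z ∈ rootSet H y) (hzx : sbil x z = 0) (hw : w ∈ rootSet H x)
    (hwy : sbil y w = 0) : sbil w z ∈ lineSet H y x := by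
  obtain ⟨hyz, c, hc⟩ := hz
  obtain ⟨hxw, d, hd⟩ := hw
  have hh := H.mul_mem (H.mul_mem hd hc) (H.inv_mem hd)
  rw [sroot_conj] at hh
  have hy' : (sroot x w hxw d).1 *ᵥ y = y := by
    rw [sroot_mulVec, hxy, sbil_swap y w, hwy]; simp
  have hz' : (sroot x w hxw d).1 *ᵥ z = z + sbil w z • x := by
    rw [sroot_mulVec, hzx]; simp
  have hperp : sbil y (sbil w z • x) = 0 := by rw [sbil_smul_right, sbil_swap x y, hxy, neg_zero, mul_zero]
  refine ⟨hperp, ?_⟩
  have := H.mul_mem (H.inv_mem hc) hh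
  have e : (sroot y z hyz c)⁻¹ * sroot ((sroot x w hxw d).1 *ᵥ y) ((sroot x w hxw d).1 *ᵥ z)
      (by rw [sbil_mulVec, hyz]) c = sroot y (sbil w z • x) hperp 0 := by
    refine sp_ext fun v => ?_
    rw [sroot_inv]
    simp only [sp_mul_mulVec, sroot_mulVec, hy', hz', sbil_add_left, sbil_add_right, sbil_smul_left,
      sbil_smul_right, hyz, sbil_self, sbil_swap y z, ← neg_one_smul F z, hzx, sbil_swap x z]
    simp only [sbil_swap x y, hxy]
    module
  rwa [e] at this

variable [Finite F]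

/-- The vectors orthogonal to `x` and `y`. -/
abbrev perp₂ (x y : Fin m ⊕ Fin m → F) : Submodule F (Fin m ⊕ Fin m → F) :=
  (CfsgLib.Geometry.sympBilin m F).orthogonal (Submodule.span F {x, y})

omit [Finite F] in
theorem mem_perp₂ {x y v : Fin m ⊕ Fin m → F} :
    v ∈ perp₂ x y ↔ sbil x v = 0 ∧ sbil y v = 0 := by
  rw [mem_perp_iff]
  refine ⟨fun h => ⟨h x (Submodule.subset_span (by simp)), h y (Submodule.subset_span (by simp))⟩,
    fun h w hw => ?_⟩
  obtain ⟨a, b, rfl⟩ := Submodule.mem_span_pair.1 hw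
  rw [sbil_add_left, sbil_smul_left, sbil_smul_left, h.1, h.2, mul_zero, mul_zero, add_zero]

theorem lineSet_eq_top {H : Subgroup (Matrix.symplecticGroup (Fin m) F)} (hm : 3 ≤ m)
    (hW : ∀ x : Fin m ⊕ Fin m → F, x ≠ 0 → Nat.card F ^ (2 * m - 1) ≤ Nat.card F * Nat.card (rootSet H x))
    {x y : Fin m ⊕ Fin m → F} (hind : LinearIndependent F ![x, y]) (hxy : sbil x y = 0)
    (hcond : (∀ v, sbil y v = 0 → v ∈ rootSet H y) ∨ ∃ α : F, α • x ∉ rootSet H y) :
    lineSet H y x = ⊤ := by
  classical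
  by_contra hne
  let q := Nat.card F
  have hq : 2 ≤ q := Finite.one_lt_card
  have hx : x ≠ 0 := hind.ne_zero 0
  have hy : y ≠ 0 := hind.ne_zero 1
  let T := perp₂ x y
  let A : AddSubgroup T := (rootSet H y).comap T.subtype.toAddMonoidHom
  let B : AddSubgroup T := (rootSet H x).comap T.subtype.toAddMonoidHom
  let R : AddSubgroup T := ((Submodule.span F {x, y}).comap T.subtype).toAddSubgroup
  have hfr : Module.finrank F (Submodule.span F ({x, y} : Set (Fin m ⊕ Fin m → F))) = 2 := by
    have := finrank_span_eq_card hind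
    rwa [Matrix.range_cons_cons_empty, Fintype.card_fin] at this
  have hT : Nat.card T = q ^ (2 * m - 2) := by
    rw [Module.natCard_eq_pow_finrank (K := F)]
    congr 1
    have h1 : Module.finrank F T + Module.finrank F (Submodule.span F ({x, y} : Set (Fin m ⊕ Fin m → F))) = 2 * m :=
      finrank_perp _
    omega
  -- restricting to `T` loses at most a factor `q`
  have hrestr : ∀ a b : Fin m ⊕ Fin m → F, (∀ v, v ∈ T ↔ sbil a v = 0 ∧ sbil b v = 0) →
      Nat.card (rootSet H a) ≤ Nat.card ↥((rootSet H a).comap T.subtype.toAddMonoidHom) * q := by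
    intro a b hT'
    let φ : rootSet H a →+ F :=
      { toFun := fun v => sbil b v.1
        map_zero' := by simp [sbil]
        map_add' := fun v w => sbil_add_right _ _ _ }
    rw [AddSubgroup.card_eq_card_quotient_mul_card_addSubgroup φ.ker, mul_comm]
    refine Nat.mul_le_mul ?_ ?_
    · refine Nat.card_le_card_of_injective (fun v => (⟨⟨v.1.1, (hT' _).2 ⟨v.1.2.1, v.2⟩⟩, v.1.2⟩ :
        ↥((rootSet H a).comap T.subtype.toAddMonoidHom))) fun v w h => ?_
      exact Subtype.ext (Subtype.ext (congrArg (fun z => (z.1 : Fin m ⊕ Fin m → F)) h))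
    · rw [Nat.card_congr (QuotientAddGroup.quotientKerEquivRange φ).toEquiv]
      exact Nat.card_le_card_of_injective _ Subtype.val_injective
  have hA := hrestr y x (fun v => by rw [mem_perp₂, and_comm])
  have hB := hrestr x y (fun v => mem_perp₂)
  have hWy := hW y hy
  have hWx := hW x hx
  change _ ≤ q * _ at hWy hWx
  have hcount := card_mul_card_le (V := T) (C := F) (fun a v => sbil v.1 a.1)
    (fun a v w => sbil_add_left _ _ _) (lineSet H y x) hne A B R (fun a _ a' _ v => sbil_add_right _ _ _)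
    (fun a ha b hb => lineSet_mem hxy ha (mem_perp₂.1 a.2).1 hb (mem_perp₂.1 b.2).2)
    (fun a _ haR c => by
      obtain ⟨v, hv, hva⟩ : ∃ v ∈ T, sbil v a.1 ≠ 0 := by
        by_contra hc
        push Not at hc
        refine haR ?_
        show a.1 ∈ Submodule.span F {x, y}
        rw [← LinearMap.BilinForm.orthogonal_orthogonal (CfsgLib.Geometry.sympBilin_nondegenerate m F)
          (CfsgLib.Geometry.sympBilin_isAlt m F).isRefl (Submodule.span F {x, y})]
        exact hc
      exact ⟨⟨(c / sbil v a.1) • v, T.smul_mem _ hv⟩, by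
        show sbil ((c / sbil v a.1) • v) a.1 = c
        rw [sbil_smul_left, div_mul_cancel₀ _ hva]⟩)
  rw [hT] at hcount
  have hARle : Nat.card ↥(A ⊓ R) ≤ q ^ 2 ∧ ((∃ α : F, α • x ∉ rootSet H y) → Nat.card ↥(A ⊓ R) < q ^ 2) := by
    have hs : Nat.card (Submodule.span F ({x, y} : Set (Fin m ⊕ Fin m → F))) = q ^ 2 := by
      rw [Module.natCard_eq_pow_finrank (K := F), hfr]
    let incl : ↥(A ⊓ R) → Submodule.span F ({x, y} : Set (Fin m ⊕ Fin m → F)) := fun v => ⟨v.1.1, v.2.2⟩
    have hincl : Function.Injective incl := fun v w h => Subtype.ext (Subtype.ext (congrArg Subtype.val h :))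
    refine ⟨(Nat.card_le_card_of_injective incl hincl).trans_eq hs, fun ⟨α, hα⟩ => ?_⟩
    rw [← hs]
    refine lt_of_le_of_ne (Nat.card_le_card_of_injective incl hincl) fun h => hα ?_
    obtain ⟨v, hv⟩ := ((Nat.bijective_iff_injective_and_card incl).2 ⟨hincl, h⟩).2
      ⟨α • x, Submodule.smul_mem _ _ (Submodule.subset_span (by simp))⟩
    rw [show α • x = v.1.1 from (congrArg Subtype.val hv).symm]
    exact v.2.1
  have hab : Nat.card (rootSet H y) * Nat.card (rootSet H x) ≤ q ^ 2 * (q ^ (2 * m - 2) * Nat.card ↥(A ⊓ R)) := by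
    calc _ ≤ (Nat.card A * q) * (Nat.card B * q) := Nat.mul_le_mul hA hB
      _ = q ^ 2 * (Nat.card A * Nat.card B) := by ring
      _ ≤ _ := Nat.mul_le_mul_left _ hcount
  have hpow : q ^ (2 * m - 1) * q ^ (2 * m - 1) ≤ q ^ (2 * m + 2) * Nat.card ↥(A ⊓ R) := by
    calc _ ≤ (q * Nat.card (rootSet H y)) * (q * Nat.card (rootSet H x)) := Nat.mul_le_mul hWy hWx
      _ = q ^ 2 * (Nat.card (rootSet H y) * Nat.card (rootSet H x)) := by ring
      _ ≤ q ^ 2 * (q ^ 2 * (q ^ (2 * m - 2) * Nat.card ↥(A ⊓ R))) := Nat.mul_le_mul_left _ hab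
      _ = _ := by rw [← mul_assoc, ← mul_assoc, ← pow_add, ← pow_add]; congr 2; omega
  rcases hcond with hall | hcond
  · -- here `rootSet H y` is the whole hyperplane
    have hTA : Nat.card T ≤ Nat.card A := Nat.card_le_card_of_injective
      (fun v => (⟨v, hall v.1 (mem_perp₂.1 v.2).2⟩ : A)) fun v w h => congrArg (fun z : A => z.1) h
    have h2 : q ^ (2 * m - 1) ≤ q ^ 4 := by
      calc q ^ (2 * m - 1) ≤ q * Nat.card (rootSet H x) := hWx
        _ ≤ q * (Nat.card B * q) := Nat.mul_le_mul_left _ hB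
        _ ≤ q * (q ^ 2 * q) := Nat.mul_le_mul_left _ (Nat.mul_le_mul_right _ ?_)
        _ = q ^ 4 := by ring
      refine Nat.le_of_mul_le_mul_left ?_ (show 0 < Nat.card T from Nat.card_pos)
      calc Nat.card T * Nat.card B ≤ Nat.card A * Nat.card B := Nat.mul_le_mul_right _ hTA
        _ ≤ q ^ (2 * m - 2) * Nat.card ↥(A ⊓ R) := hcount
        _ ≤ _ := hT ▸ Nat.mul_le_mul_left _ hARle.1
    have := (Nat.pow_le_pow_iff_right hq).1 h2
    omega
  · have hlt := hARle.2 hcond
    have : q ^ (2 * m - 1) * q ^ (2 * m - 1) < q ^ (2 * m + 2) * q ^ 2 :=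
      hpow.trans_lt (Nat.mul_lt_mul_of_pos_left hlt (pow_pos (by omega) _))
    rw [← pow_add, ← pow_add] at this
    have := (Nat.pow_lt_pow_iff_right hq).1 this
    omega

/-- Unipotent root elements with trivial quadratic part at every vector of the perp give the whole root group. -/
theorem full_of_zero_roots {H : Subgroup (Matrix.symplecticGroup (Fin m) F)} (hm : 2 ≤ m)
    {y : Fin m ⊕ Fin m → F} (hy : y ≠ 0)
    (hroot : ∀ v, sbil y v = 0 → v ∉ Submodule.span F {y} → ∀ h : sbil y v = 0, sroot y v h 0 ∈ H) :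
    Full H y := by
  classical
  obtain ⟨z, hz⟩ := exists_sbil_eq_one hy
  -- an orthogonal pair `x, x'` in the complement of `y, z`
  obtain ⟨x, hx, hx0⟩ : ∃ x ∈ perp₂ y z, x ≠ 0 := by
    refine Submodule.exists_mem_ne_zero_of_ne_bot fun h => ?_
    have h1 : Module.finrank F (perp₂ y z) + Module.finrank F (Submodule.span F ({y, z} : Set (Fin m ⊕ Fin m → F))) =
        2 * m := finrank_perp _
    have h2 := (finrank_span_finset_le_card (R := F) ({y, z} : Finset (Fin m ⊕ Fin m → F))).trans Finset.card_le_two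
    rw [Finset.coe_pair] at h2
    change Set.finrank F _ ≤ 2 at h2
    rw [Set.finrank] at h2
    rw [h, finrank_bot] at h1
    omega
  obtain ⟨hyx, hzx⟩ := mem_perp₂.1 hx
  obtain ⟨u, hu⟩ := exists_sbil_eq_one hx0
  let x' := u - sbil y u • z + sbil z u • y
  have hyx' : sbil y x' = 0 := by
    simp only [x', sbil_add_right, sbil_sub_right, sbil_smul_right, sbil_self, hz]; ring
  have hxx' : sbil x x' = 1 := by
    simp only [x', sbil_add_right, sbil_sub_right, sbil_smul_right, hu, sbil_swap z x, sbil_swap y x, hzx, hyx]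
    ring
  have hns : ∀ a : F, a ≠ 0 → (a • x) ∉ Submodule.span F {y} ∧ x' ∉ Submodule.span F {y} ∧
      (a • x + x') ∉ Submodule.span F {y} := by
    intro a ha
    refine ⟨fun h => ?_, fun h => ?_, fun h => ?_⟩ <;> obtain ⟨b, hb⟩ := Submodule.mem_span_singleton.1 h
    · have h1 := congrArg (sbil · x') hb
      simp only [sbil_smul_left, hyx', hxx', mul_zero, mul_one] at h1
      exact ha h1.symm
    · have h1 := congrArg (sbil x) hb
      simp only [sbil_smul_right, hxx', sbil_swap y x, hyx] at h1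
      simp at h1
    · have h1 := congrArg (sbil x) hb
      simp only [sbil_add_right, sbil_smul_right, sbil_self, hxx', sbil_swap y x, hyx] at h1
      simp at h1
  intro a
  rcases eq_or_ne a 0 with rfl | ha
  · rw [CfsgLib.Classical.stv_zero]; exact H.one_mem
  obtain ⟨h1, h2, h3⟩ := hns a ha
  have e1 : sbil y (a • x) = 0 := by rw [sbil_smul_right, hyx, mul_zero]
  have e3 : sbil y (a • x + x') = 0 := by rw [sbil_add_right, e1, hyx', add_zero]
  have := H.mul_mem (H.inv_mem (hroot _ e3 h3 e3)) (H.mul_mem (hroot _ e1 h1 e1) (hroot _ hyx' h2 hyx'))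
  rw [sroot_mul, sroot_inv, sroot_mul, sroot_congr _ (neg_add_cancel _)
    (show -0 + (0 + 0 + sbil (a • x) x') + sbil (-(a • x + x')) (a • x + x') = a by
      rw [← neg_one_smul F (a • x + x'), sbil_smul_left (-1 : F), sbil_self, sbil_smul_left, hxx']
      ring)] at this
  rwa [sroot_zero] at this


/-- A subgroup meeting every point radical in a large subgroup contains a transvection group. -/
theorem full_of_rootSets {H : Subgroup (Matrix.symplecticGroup (Fin m) F)} (hm : 3 ≤ m)
    (hW : ∀ x : Fin m ⊕ Fin m → F, x ≠ 0 → Nat.card F ^ (2 * m - 1) ≤ Nat.card F * Nat.card (rootSet H x))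
    {y : Fin m ⊕ Fin m → F} (hy : y ≠ 0) : Full H y := by
  classical
  have hind : ∀ x : Fin m ⊕ Fin m → F, x ∉ Submodule.span F {y} → LinearIndependent F ![x, y] := by
    intro x hx
    rw [LinearIndependent.pair_iff]
    intro a b h
    rcases eq_or_ne a 0 with rfl | ha
    · simp only [zero_smul, zero_add, smul_eq_zero] at h
      exact ⟨rfl, h.resolve_right hy⟩
    · refine absurd (Submodule.mem_span_singleton.2 ⟨-(b / a), ?_⟩) hx
      rw [neg_smul, neg_eq_iff_add_eq_zero, add_comm]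
      refine (smul_eq_zero.1 (show a • (x + (b / a) • y) = 0 by
        rw [smul_add, smul_smul, mul_div_cancel₀ _ ha, h])).resolve_left ha
  have hall : ∀ v, sbil y v = 0 → v ∈ rootSet H y := by
    intro v hv
    by_contra hnot
    have hspan : v ∉ Submodule.span F {y} := fun h => by
      obtain ⟨a, rfl⟩ := Submodule.mem_span_singleton.1 h
      exact hnot (line_mem_rootSet H y a)
    have hvy : sbil v y = 0 := by rw [sbil_swap y v, hv, neg_zero]
    obtain ⟨h, hmem⟩ : (1 : F) ∈ lineSet H y v :=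
      lineSet_eq_top hm hW (hind v hspan) hvy (Or.inr ⟨1, by rwa [one_smul]⟩) ▸ AddSubgroup.mem_top 1
    exact hnot ⟨hv, 0, by rwa [sroot_congr h (one_smul F v) rfl] at hmem⟩
  have hroot : ∀ v, sbil y v = 0 → v ∉ Submodule.span F {y} → ∀ h : sbil y v = 0, sroot y v h 0 ∈ H := by
    intro v hv hspan h
    obtain ⟨h', hmem⟩ : (1 : F) ∈ lineSet H y v :=
      lineSet_eq_top hm hW (hind v hspan) (by rw [sbil_swap y v, hv, neg_zero]) (Or.inl hall) ▸ AddSubgroup.mem_top 1
    rwa [sroot_congr h' (one_smul F v) rfl] at hmem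
  exact full_of_zero_roots (by omega) hy hroot

end CfsgLib.MinIdx
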