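import Cfsg.Agent.Lib.MinIdx.SpDichotomy
import Cfsg.Agent.Lib.MinIdx.SpPoint
import Cfsg.Agent.Lib.MinIdx.SpClosure

/-!
# The induction step for the smallest index of a proper subgroup of `Sp`
-/

set_option autoImplicit false

namespace CfsgLib.MinIdx

open Matrix CfsgLib.Classical CfsgLib.KnownA.SpGen

variable {F : Type*} [Field F] [Finite F] {n : ℕ}

omit [Finite F] in
theorem map_conj_index {G : Type*} [Group G] (H : Subgroup G) (g : G) :
    (H.map (MulAut.conj g).toMonoidHom).index = H.index :=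
  H.index_map_equiv (MulAut.conj g)

/-- At every point there is a conjugate of the intersection with the parabolic. -/
theorem exists_parab (H : Subgroup (Matrix.symplecticGroup (Fin (n + 1)) F))
    (x : Fin (n + 1) ⊕ Fin (n + 1) → F) (hx : x ≠ 0) :
    ∃ K : Subgroup (HP F n), K.index ≤ H.index ∧ (RootIn K → ∃ v ≠ 0, Full H v) ∧
      Nat.card F * Nat.card (vecImage K) ≤ Nat.card (rootSet H x) := by
  obtain ⟨g, hg⟩ := sp_transitive (e₀_ne (F := F) (n := n)) hx
  let H' := H.map (MulAut.conj g⁻¹).toMonoidHom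
  have hmem : ∀ k, k ∈ H' → g * k * g⁻¹ ∈ H := by
    rintro _ ⟨h, hh, rfl⟩
    simpa [mul_assoc] using hh
  let K := H'.comap (toSp F n)
  have hK : K.index ≤ H.index := by
    rw [Subgroup.index_comap, ← map_conj_index H g⁻¹]
    rw [← Subgroup.relIndex_top_right H']
    exact Subgroup.relIndex_le_of_le_right le_top (by rw [Subgroup.relIndex_top_right]; exact Subgroup.index_ne_zero_of_finite)
  refine ⟨K, hK, fun h => ?_, ?_⟩
  · obtain ⟨v, hv0, hv⟩ := full_of_rootIn h
    refine ⟨_, sp_mulVec_ne_zero g hv0, fun c => ?_⟩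
    rw [← stv_conj]
    exact hmem _ (hv c)
  · have hmap : ∀ p : F × vecImage K, g.1 *ᵥ jn p.1 0 p.2.1 ∈ rootSet H x := by
      rintro ⟨α, v, c, hc⟩
      have h1 : sbil (e₀ F n) (jn α 0 v) = 0 := by rw [sbil_e₀, neg_zero]
      have h2 : α • e₀ F n + jn 0 0 v = jn α 0 v := by
        rw [e₀, jn_smul, jn_add]; simp
      have h3 : α • e₀ F n ∈ rootSet H' (e₀ F n) := line_mem_rootSet _ _ _
      have h4 : jn 0 0 v ∈ rootSet H' (e₀ F n) := by
        refine ⟨sbil_e₀_emb v, c, ?_⟩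
        have : toSp F n ⟨1, 1, v, c⟩ ∈ H' := hc
        rwa [show toSp F n ⟨1, 1, v, c⟩ = heis v c * levi F n 1 from rfl, map_one, mul_one] at this
      obtain ⟨h5, d, hd⟩ := h2 ▸ (rootSet H' (e₀ F n)).add_mem h3 h4
      refine ⟨by rw [← hg, sbil_mulVec, h5], d, ?_⟩
      have h6 := hmem _ hd
      rw [sroot_conj] at h6
      convert h6 using 2
      exact hg.symm
    rw [← Nat.card_prod]
    refine Nat.card_le_card_of_injective (fun p => (⟨_, hmap p⟩ : rootSet H x)) fun p r hpr => ?_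
    have h7 : jn p.1 0 p.2.1 = jn r.1 0 r.2.1 :=
      act_injective g (congrArg Subtype.val hpr)
    obtain ⟨ha, -, hv⟩ := jn_inj h7
    exact Prod.ext ha (Subtype.ext hv)

/-- The conclusion of the dichotomy at every point. -/
theorem rootSet_large {H : Subgroup (Matrix.symplecticGroup (Fin (n + 1)) F)}
    (hnofull : ∀ v ≠ 0, ¬ Full H v)
    (hlarge : ∀ K : Subgroup (HP F n), K.index ≤ H.index →
      RootIn K ∨ Nat.card F ^ (2 * n) ≤ Nat.card F * Nat.card (vecImage K))
    (x : Fin (n + 1) ⊕ Fin (n + 1) → F) (hx : x ≠ 0) :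
    Nat.card F ^ (2 * (n + 1) - 1) ≤ Nat.card F * Nat.card (rootSet H x) := by
  obtain ⟨K, hK, hroot, hcard⟩ := exists_parab H x hx
  rcases hlarge K hK with h | h
  · obtain ⟨v, hv0, hv⟩ := hroot h
    exact absurd hv (hnofull v hv0)
  · calc Nat.card F ^ (2 * (n + 1) - 1) = Nat.card F * Nat.card F ^ (2 * n) := by
          rw [← pow_succ']; congr 1
      _ ≤ Nat.card F * (Nat.card F * Nat.card (vecImage K)) := Nat.mul_le_mul_left _ h
      _ ≤ _ := Nat.mul_le_mul_left _ hcard

/-- The induction step. -/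
theorem index_step (hq : 3 ≤ Nat.card F) (hn : 2 ≤ n)
    (hsmall : ∀ L : Subgroup (Matrix.symplecticGroup (Fin n) F), L ≠ ⊤ → ¬ (n = 2 ∧ Nat.card F = 3) →
      Nat.card F ^ (2 * n) - 1 ≤ L.index * (Nat.card F - 1))
    (H : Subgroup (Matrix.symplecticGroup (Fin (n + 1)) F)) (hH : H ≠ ⊤) :
    Nat.card F ^ (2 * (n + 1)) - 1 ≤ H.index * (Nat.card F - 1) := by
  by_contra hcon
  push Not at hcon
  have hnofull : ∀ v ≠ 0, ¬ Full H v := fun v hv hf => not_le.2 hcon (bound_of_full hq hH hv hf)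
  refine hnofull _ (e₀_ne (F := F) (n := n)) (full_of_rootSets (by omega) (fun x hx => ?_) e₀_ne)
  refine rootSet_large hnofull (fun K hK => rootIn_or_vecImage_large hq hn K hsmall ?_) x hx
  exact lt_of_le_of_lt (Nat.mul_le_mul_right _ hK) hcon

end CfsgLib.MinIdx
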