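import Cfsg.Agent.Lib.MinIdx.SpTwoLocal
import Cfsg.Agent.Lib.Classical.SympFourTwo
import Mathlib.GroupTheory.SpecificGroups.Alternating.Simple

/-!
# Subgroups of `Sp₄(2)`
-/

set_option autoImplicit false

namespace CfsgLib.MinIdx.SpF2

open Matrix CfsgLib.Classical CfsgLib.KnownA.SpGen

/-- Subgroups of the symmetric group on six points have index at most two or at least six. -/
theorem perm_six_index (L : Subgroup (Equiv.Perm (Fin 6))) : L.index ≤ 2 ∨ 6 ≤ L.index := by
  classical
  by_contra hc
  push Not at hc
  have hA : alternatingGroup (Fin 6) ≤ L.normalCore := by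
    have hN : L.normalCore.index ≤ Nat.factorial 5 := by
      have h1 : L.normalCore.index ≤ Nat.card (Equiv.Perm (Equiv.Perm (Fin 6) ⧸ L)) := by
        rw [Subgroup.normalCore_eq_ker, Subgroup.index_ker]
        exact Nat.card_le_card_of_injective _ Subtype.val_injective
      refine h1.trans ?_
      rw [Nat.card_perm, show Nat.card (Equiv.Perm (Fin 6) ⧸ L) = L.index from rfl]
      exact Nat.factorial_le (by omega)
    haveI : IsSimpleGroup (alternatingGroup (Fin 6)) := alternatingGroup.isSimpleGroup (by simp)
    rcases Subgroup.Normal.eq_bot_or_eq_top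
      (H := L.normalCore.subgroupOf (alternatingGroup (Fin 6))) inferInstance with hb | ht
    · exfalso
      have hinf : alternatingGroup (Fin 6) ⊓ L.normalCore = ⊥ :=
        disjoint_iff.1 (Subgroup.subgroupOf_eq_bot.1 hb).symm
      have h3 : Nat.card L.normalCore ≤ 2 := by
        rw [← Subgroup.relIndex_bot_left, ← hinf, Subgroup.inf_relIndex_right,
          ← show (alternatingGroup (Fin 6)).index = 2 from alternatingGroup.index_eq_two,
          ← Subgroup.relIndex_top_right (alternatingGroup (Fin 6))]
        exact Subgroup.relIndex_le_of_le_right le_top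
          (by rw [Subgroup.relIndex_top_right]; exact Subgroup.index_ne_zero_of_finite)
      have h4 := L.normalCore.card_mul_index
      rw [Nat.card_perm, Nat.card_fin] at h4
      norm_num [Nat.factorial] at h4 hN
      have h6 := Nat.mul_le_mul h3 hN
      rw [← Nat.card_eq_fintype_card] at h4
      omega
    · exact Subgroup.subgroupOf_eq_top.1 ht
  have h5 := Subgroup.index_dvd_of_le (hA.trans L.normalCore_le)
  rw [alternatingGroup.index_eq_two] at h5
  have := Nat.le_of_dvd two_pos h5
  omega

variable {F : Type*} [Field F] [Finite F] {n : ℕ}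

theorem rich_of_index_le_two {L : Subgroup (Matrix.symplecticGroup (Fin n) F)} (hL : L.index ≤ 2) : Rich L := by
  have h0 : L.index ≠ 0 := Subgroup.index_ne_zero_of_finite
  rcases (by omega : L.index = 1 ∨ L.index = 2) with h | h
  · rw [Subgroup.index_eq_one.1 h]; exact rich_top
  intro v w hv hw
  rw [Subgroup.mul_mem_iff_of_index_two h]
  haveI := Subgroup.normal_of_index_eq_two h
  obtain ⟨g, rfl⟩ := sp_transitive hv hw
  rw [← stv_conj]
  exact ⟨fun hm => Subgroup.Normal.conj_mem ‹_› _ hm g, fun hm => by
    have := Subgroup.Normal.conj_mem ‹_› _ hm g⁻¹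
    simpa [mul_assoc] using this⟩

theorem levi_base (h2 : Nat.card F = 2) : LeviHyp F 2 := by
  intro L
  haveI := Fintype.ofFinite F
  haveI : CharP F 2 := charP_of_card_eq_prime (by rw [← Nat.card_eq_fintype_card, h2])
  obtain ⟨e⟩ := CfsgLib.Classical.FourTwo.equiv_perm_six h2
  have hi : (L.map e.toMonoidHom).index = L.index := L.index_map_equiv e
  rcases perm_six_index (L.map e.toMonoidHom) with h | h
  · exact Or.inl (rich_of_index_le_two (hi ▸ h))
  · exact Or.inr (by norm_num; omega)

end CfsgLib.MinIdx.SpF2
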