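import Cfsg.Agent.Lib.MinIdx.SpTwoPoint

/-!
# The stabiliser of a quadratic form of minus type inside `Sp` over two elements
-/

set_option autoImplicit false

namespace CfsgLib.MinIdx.SpF2

open Matrix CfsgLib.Classical CfsgLib.KnownA.SpGen

variable {F : Type*} [Field F] [Finite F] {m : ℕ}

/-- The standard quadratic form. -/
def q0 (v : Fin m ⊕ Fin m → F) : F := ∑ i, v (.inl i) * v (.inr i)

/-- The translate of the standard form by `a`. -/
def qa (a v : Fin m ⊕ Fin m → F) : F := q0 v + sbil a v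

theorem q0_add (h2 : Nat.card F = 2) (u v : Fin m ⊕ Fin m → F) : q0 (u + v) = q0 u + q0 v + sbil u v := by
  simp only [q0, sbil_apply, ← Finset.sum_add_distrib]
  refine Finset.sum_congr rfl fun i _ => ?_
  simp only [Pi.add_apply]
  linear_combination (u (.inl i) * v (.inr i)) * two_eq_zero h2

theorem qa_add (h2 : Nat.card F = 2) (a u v : Fin m ⊕ Fin m → F) : qa a (u + v) = qa a u + qa a v + sbil u v := by
  rw [qa, qa, qa, q0_add h2, sbil_add_right]
  ring

theorem q0_smul (h2 : Nat.card F = 2) (c : F) (v : Fin m ⊕ Fin m → F) : q0 (c • v) = c * q0 v := by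
  rcases cases2 h2 c with rfl | rfl <;> simp [q0]

theorem qa_smul (h2 : Nat.card F = 2) (a : Fin m ⊕ Fin m → F) (c : F) (v : Fin m ⊕ Fin m → F) :
    qa a (c • v) = c * qa a v := by
  rw [qa, q0_smul h2, sbil_smul_right, qa]; ring

/-- A transvection moves a form to a form of the same type. -/
theorem qa_stv (h2 : Nat.card F = 2) (a w v : Fin m ⊕ Fin m → F) :
    qa a ((stv 1 w).1 *ᵥ v) = qa (a + (qa a w + 1) • w) v := by
  rw [stv_mulVec, one_mul, qa_add h2, qa_smul h2, sbil_smul_right, sbil_symm h2 v w]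
  show _ = q0 v + sbil (a + _ • w) v
  rw [sbil_add_left, sbil_smul_left, qa, qa]
  rcases cases2 h2 (sbil w v) with h | h <;> rw [h] <;> ring

theorem q0_step (h2 : Nat.card F = 2) (a w : Fin m ⊕ Fin m → F) : q0 (a + (qa a w + 1) • w) = q0 a := by
  rw [q0_add h2, q0_smul h2, sbil_smul_right, qa]
  rcases cases2 h2 (q0 w) with h | h <;> rcases cases2 h2 (sbil a w) with h' | h' <;> rw [h, h'] <;>
    first | ring1 | linear_combination two_eq_zero h2 | linear_combination 2 * two_eq_zero h2 | linear_combination 3 * two_eq_zero h2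

theorem exists_move (h2 : Nat.card F = 2) (g : Matrix.symplecticGroup (Fin m) F) :
    ∀ a : Fin m ⊕ Fin m → F, ∃ b, q0 b = q0 a ∧ ∀ v, qa a (g.1 *ᵥ v) = qa b v := by
  have hg : g ∈ stvClosure (⊤ : Submodule F (Fin m ⊕ Fin m → F)) := by rw [stvClosure_top]; exact Subgroup.mem_top g
  induction hg using Subgroup.closure_induction with
  | mem g hg =>
    obtain ⟨c, w, -, rfl⟩ := hg
    intro a
    rcases cases2 h2 c with rfl | rfl
    · exact ⟨a, rfl, fun v => by rw [CfsgLib.Classical.stv_zero, sp_one_mulVec]⟩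
    · exact ⟨_, q0_step h2 a w, qa_stv h2 a w⟩
  | one => exact fun a => ⟨a, rfl, fun v => by rw [sp_one_mulVec]⟩
  | mul g k _ _ hg hk =>
    intro a
    obtain ⟨b, hb, hb'⟩ := hg a
    obtain ⟨c, hc, hc'⟩ := hk b
    exact ⟨c, hc.trans hb, fun v => by rw [sp_mul_mulVec, hb', hc']⟩
  | inv g _ hg =>
    intro a
    choose f hf0 hf using hg
    haveI : Finite (Fin m ⊕ Fin m → F) := Pi.finite
    have hinj : Function.Injective f := fun a b hab => sbil_ext fun x => by
      have h1 := (hf a ((g⁻¹).1 *ᵥ x)).trans (hab ▸ (hf b ((g⁻¹).1 *ᵥ x)).symm)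
      rw [sp_mulVec_inv] at h1
      simpa [qa] using h1
    obtain ⟨b, rfl⟩ := (Finite.injective_iff_surjective.1 hinj) a
    exact ⟨b, (hf0 b).symm, fun v => by rw [← hf b, sp_mulVec_inv]⟩

/-- The isometries of a translated form. -/
def formS (a : Fin m ⊕ Fin m → F) : Subgroup (Matrix.symplecticGroup (Fin m) F) where
  carrier := {g | ∀ v, qa a (g.1 *ᵥ v) = qa a v}
  one_mem' v := by rw [sp_one_mulVec]
  mul_mem' := by
    intro g k hg hk v
    rw [sp_mul_mulVec, hg, hk]
  inv_mem' := by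
    intro g hg v
    conv_rhs => rw [← sp_mulVec_inv g v, hg]

theorem qa_inj {a b : Fin m ⊕ Fin m → F} (h : ∀ v, qa a v = qa b v) : a = b :=
  sbil_ext fun x => by simpa [qa] using h x

theorem index_formS (h2 : Nat.card F = 2) (a : Fin m ⊕ Fin m → F) :
    (formS a).index = Nat.card {b : Fin m ⊕ Fin m → F // q0 b = q0 a} := by
  choose f hf0 hf using fun g : Matrix.symplecticGroup (Fin m) F => exists_move h2 g⁻¹ a
  let φ : Matrix.symplecticGroup (Fin m) F ⧸ formS a → {b : Fin m ⊕ Fin m → F // q0 b = q0 a} :=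
    Quotient.lift (fun g => ⟨f g, hf0 g⟩) fun g k hgk => by
      replace hgk : g⁻¹ * k ∈ formS a := QuotientGroup.leftRel_apply.mp hgk
      refine Subtype.ext (qa_inj fun v => ?_)
      show qa (f g) v = qa (f k) v
      rw [← hf, ← hf, ← hgk ((k⁻¹).1 *ᵥ v), ← sp_mul_mulVec, mul_inv_cancel_right]
  refine Nat.card_congr (Equiv.ofBijective φ ⟨fun x y => ?_, fun b => ?_⟩)
  · induction x using QuotientGroup.induction_on with | _ g => ?_
    induction y using QuotientGroup.induction_on with | _ k => ?_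
    intro hgk
    replace hgk : f g = f k := congrArg Subtype.val hgk
    refine QuotientGroup.eq.2 fun v => ?_
    rw [sp_mul_mulVec, hf, hgk, ← hf, sp_inv_mulVec]
  · obtain ⟨b, hb⟩ := b
    refine ⟨QuotientGroup.mk (stv 1 (a + b)), Subtype.ext (qa_inj fun v => ?_)⟩
    show qa (f (stv 1 (a + b))) v = qa b v
    have hq : qa a (a + b) = 0 := by
      rw [qa, q0_add h2, hb, sbil_add_right, sbil_self]
      linear_combination (q0 a + sbil a b) * two_eq_zero h2
    rw [← hf, stv_inv, neg_eq h2, qa_stv h2, hq, zero_add, one_smul, ← add_assoc, (add_eq_zero_iff' h2).2 rfl, zero_add]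

theorem center_eq_bot (h2 : Nat.card F = 2) : Subgroup.center (Matrix.symplecticGroup (Fin m) F) = ⊥ := by
  refine (Subgroup.eq_bot_iff_forall _).2 fun z hz => sp_ext fun v => ?_
  rw [sp_one_mulVec]
  rcases eq_or_ne v 0 with rfl | hv
  · rw [mulVec_zero]
  obtain ⟨a, ha⟩ := mem_pointStab.1 (center_le_pointStab v hv hz)
  rcases cases2 h2 a with rfl | rfl
  · exact absurd (by rw [← ha, zero_smul]) (sp_mulVec_ne_zero z hv)
  · rw [← ha, one_smul]

theorem card_q0 (h2 : Nat.card F = 2) (n : ℕ) :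
    Nat.card {b : Fin (n + 1) ⊕ Fin (n + 1) → F // q0 b = 1} = 2 ^ n * (2 ^ (n + 1) - 1) := by
  classical
  haveI := Fintype.ofFinite F
  have hz : ∀ k, Nat.card {b : Fin k ⊕ Fin k → F // q0 b = 0} + Nat.card {b : Fin k ⊕ Fin k → F // q0 b = 1} =
      4 ^ k := by
    intro k
    rw [← Nat.card_sum, show (4 : ℕ) ^ k = 2 ^ (2 * k) by rw [pow_mul]; norm_num, show (2 : ℕ) ^ (2 * k) =
      Nat.card F ^ (2 * k) by rw [h2], ← card_vec]
    refine Nat.card_congr
      { toFun := Sum.elim Subtype.val Subtype.val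
        invFun := fun b => if h : q0 b = 0 then .inl ⟨b, h⟩ else .inr ⟨b, (cases2 h2 _).resolve_left h⟩
        left_inv := fun b => ?_
        right_inv := fun b => ?_ }
    · rcases b with ⟨b, hb⟩ | ⟨b, hb⟩
      · simp [hb]
      · simp [hb]
    · by_cases h : q0 b = 0 <;> simp [h]
  have hs : ∀ k (c : F), Nat.card {b : Fin (k + 1) ⊕ Fin (k + 1) → F // q0 b = c} =
      3 * Nat.card {b : Fin k ⊕ Fin k → F // q0 b = c} + Nat.card {b : Fin k ⊕ Fin k → F // q0 b = c + 1} := by
    intro k c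
    have hq : ∀ (α β : F) (u : Fin k ⊕ Fin k → F), q0 (jn α β u) = α * β + q0 u := fun α β u => by
      simp [q0, jn, Fin.sum_univ_succ]
    let e : {b : Fin (k + 1) ⊕ Fin (k + 1) → F // q0 b = c} ≃
        Σ p : F × F, {u : Fin k ⊕ Fin k → F // q0 u = c + p.1 * p.2} :=
      { toFun := fun b => ⟨(b.1 (.inl 0), b.1 (.inr 0)), pr b.1, by
          have h := b.2
          rw [← jn_pr b.1, hq] at h
          linear_combination h - (b.1 (.inl 0) * b.1 (.inr 0)) * two_eq_zero h2⟩
        invFun := fun p => ⟨jn p.1.1 p.1.2 p.2.1, by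
          rw [hq, p.2.2]
          linear_combination (p.1.1 * p.1.2) * two_eq_zero h2⟩
        left_inv := fun b => Subtype.ext (jn_pr b.1)
        right_inv := fun p => by
          obtain ⟨⟨α, β⟩, u, hu⟩ := p
          refine Sigma.subtype_ext (Prod.ext (jn_inl_zero α β u) (jn_inr_zero α β u)) (pr_jn α β u) }
    rw [Nat.card_congr e, Nat.card_sigma, Fintype.sum_prod_type,
      show (Finset.univ : Finset F) = {0, 1} from (Finset.eq_univ_iff_forall.2 fun a => by
        rcases cases2 h2 a with rfl | rfl <;> simp).symm,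
      Finset.sum_pair zero_ne_one, Finset.sum_pair zero_ne_one, Finset.sum_pair zero_ne_one]
    simp only [mul_zero, zero_mul, one_mul, add_zero]
    ring
  have h11 : (1 : F) + 1 = 0 := by linear_combination two_eq_zero h2
  have key : ∀ k, Nat.card {b : Fin k ⊕ Fin k → F // q0 b = 1} * 2 + 2 ^ k = 4 ^ k := by
    intro k
    induction k with
    | zero =>
      haveI : IsEmpty {b : Fin 0 ⊕ Fin 0 → F // q0 b = 1} := ⟨fun b => one_ne_zero (b.2.symm.trans (by simp [q0]))⟩
      simp
    | succ k ih =>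
      have h1 := hs k 1
      rw [h11] at h1
      have h0 := hz k
      rw [h1, pow_succ, pow_succ]
      omega
  have h1 := key (n + 1)
  have e : (4 : ℕ) ^ (n + 1) = 2 ^ (n + 1) * 2 ^ (n + 1) := by rw [← mul_pow]; norm_num
  have e2 : 2 * (2 ^ n * (2 ^ (n + 1) - 1)) = 2 ^ (n + 1) * 2 ^ (n + 1) - 2 ^ (n + 1) := by
    rw [← mul_assoc, ← pow_succ', Nat.mul_sub, mul_one]
  omega

end CfsgLib.MinIdx.SpF2
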