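import Cfsg.Agent.Lib.MinIdx.SpTwoPoint

/-!
# The possible intersections with the parabolic of a point over two elements
-/

set_option autoImplicit false

namespace CfsgLib.MinIdx.SpF2

open Matrix CfsgLib.Classical CfsgLib.KnownA.SpGen

variable {F : Type*} [Field F] [Finite F] {n : ℕ}

/-- All products of two transvections. -/
def Rich (L : Subgroup (Matrix.symplecticGroup (Fin n) F)) : Prop :=
  ∀ v w : Fin n ⊕ Fin n → F, v ≠ 0 → w ≠ 0 → stv 1 v * stv 1 w ∈ L

/-- What is assumed on the Levi part. -/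
def LeviHyp (F : Type*) [Field F] (n : ℕ) : Prop :=
  ∀ L : Subgroup (Matrix.symplecticGroup (Fin n) F), Rich L ∨ 2 ^ (n - 1) * (2 ^ n - 1) ≤ L.index

theorem rich_top : Rich (⊤ : Subgroup (Matrix.symplecticGroup (Fin n) F)) := fun _ _ _ _ => Subgroup.mem_top _

theorem rich_step (h2 : Nat.card F = 2) {v x : Fin n ⊕ Fin n → F} (hvx : sbil v x = 1) :
    (stv 1 v * stv 1 x).1 *ᵥ x = x + v := by
  rw [sp_mul_mulVec, stv_mulVec 1 x x, sbil_self, mul_zero, zero_smul, add_zero, stv_mulVec_one h2 hvx]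

theorem rich_invariant (h2 : Nat.card F = 2) {L : Subgroup (Matrix.symplecticGroup (Fin n) F)} (hL : Rich L)
    {B : AddSubgroup (Fin n ⊕ Fin n → F)} (hB : B ≠ ⊥) (hinv : ∀ g ∈ L, ∀ v ∈ B, g.1 *ᵥ v ∈ B) : B = ⊤ := by
  obtain ⟨b, hb, hb0⟩ : ∃ v ∈ B, v ≠ 0 := by
    by_contra hc
    push Not at hc
    exact hB ((AddSubgroup.eq_bot_iff_forall _).2 hc)
  have hone : ∀ v, sbil v b = 1 → v ∈ B := fun v hv => by
    have hv0 : v ≠ 0 := by rintro rfl; simp [sbil] at hv
    have h1 := hinv _ (hL v b hv0 hb0) b hb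
    rw [rich_step h2 hv] at h1
    simpa using B.sub_mem h1 hb
  obtain ⟨z, hz⟩ := exists_sbil_eq_one hb0
  rw [sbil_symm h2] at hz
  refine eq_top_iff.2 fun v _ => ?_
  rcases cases2 h2 (sbil v b) with h | h
  · have := B.sub_mem (hone (v + z) (by rw [sbil_add_left, h, hz, zero_add])) (hone z hz)
    rwa [add_sub_cancel_right] at this
  · exact hone v h

theorem rich_no_form (h2 : Nat.card F = 2) (hn : 2 ≤ n) {L : Subgroup (Matrix.symplecticGroup (Fin n) F)}
    (hL : Rich L) (φ : (Fin n ⊕ Fin n → F) → F) (hadd : ∀ u v, φ (u + v) = φ u + φ v + sbil u v)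
    (hinv : ∀ g ∈ L, ∀ v, φ (g.1 *ᵥ v) = φ v) : False := by
  have hall : ∀ v : Fin n ⊕ Fin n → F, v ≠ 0 → φ v = 1 := fun v hv => by
    obtain ⟨x, hx⟩ := exists_sbil_eq_one hv
    have hx0 : x ≠ 0 := by rintro rfl; simp [sbil] at hx
    have h1 := hinv _ (hL v x hv hx0) x
    rw [rich_step h2 hx, hadd, sbil_symm h2 x v, hx] at h1
    linear_combination h1 - two_eq_zero h2
  obtain ⟨u, hu⟩ : ∃ u : Fin n ⊕ Fin n → F, u = Pi.single (.inl ⟨0, by omega⟩) 1 := ⟨_, rfl⟩
  obtain ⟨v, hv⟩ : ∃ v : Fin n ⊕ Fin n → F, v = Pi.single (.inl ⟨1, by omega⟩) 1 := ⟨_, rfl⟩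
  have huv : sbil u v = 0 := by
    subst hu hv
    rw [sbil_single_inl]
    simp
  have h0 : u + v ≠ 0 := fun h => by
    have := congrFun h (.inl ⟨0, by omega⟩)
    subst hu hv
    simp [Fin.ext_iff] at this
  have h1 := hadd u v
  rw [huv, add_zero, hall _ h0, hall u (by subst hu; simp), hall v (by subst hv; simp)] at h1
  exact one_ne_zero (show (1 : F) = 0 by linear_combination -h1)

/-- An invariant subgroup of index two gives a fixed vector. -/
theorem index_ge_of_hyperplane (h2 : Nat.card F = 2) {L : Subgroup (Matrix.symplecticGroup (Fin n) F)}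
    {B : AddSubgroup (Fin n ⊕ Fin n → F)} (hB : B.index = 2) (hinv : ∀ g ∈ L, ∀ v ∈ B, g.1 *ᵥ v ∈ B) :
    2 ^ (2 * n) - 1 ≤ L.index := by
  classical
  let W : Submodule F (Fin n ⊕ Fin n → F) :=
    { B with
      smul_mem' := fun c v hv => by
        rcases cases2 h2 c with rfl | rfl
        · rw [zero_smul]; exact B.zero_mem
        · rwa [one_smul] }
  let P := (CfsgLib.Geometry.sympBilin n F).orthogonal W
  have hW : Module.finrank F W + 1 = 2 * n := by
    have h1 : Nat.card W * 2 = 2 ^ (2 * n) := by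
      rw [mul_comm, show (2 : ℕ) ^ (2 * n) = Nat.card F ^ (2 * n) by rw [h2], ← card_vec, ← hB, show Nat.card W = Nat.card B from rfl, B.index_mul_card]
    rw [Module.natCard_eq_pow_finrank (K := F), h2, ← pow_succ] at h1
    exact Nat.pow_right_injective le_rfl h1
  have hP : Nat.card P = 2 := by
    have h1 : Module.finrank F P + Module.finrank F W = 2 * n := finrank_perp W
    rw [Module.natCard_eq_pow_finrank (K := F), h2, show Module.finrank F P = 1 by omega, pow_one]
  obtain ⟨w, hw, hw0⟩ : ∃ w ∈ P, w ≠ 0 := Submodule.exists_mem_ne_zero_of_ne_bot fun h => by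
    rw [h] at hP
    simp at hP
  rw [← index_fixS h2 hw0]
  refine Nat.le_of_dvd (Nat.pos_of_ne_zero Subgroup.index_ne_zero_of_finite) (Subgroup.index_dvd_of_le fun g hg => ?_)
  have hgw : g.1 *ᵥ w ∈ P := mem_perp_iff.2 fun b hb => by
    have h1 := hinv g⁻¹ (L.inv_mem hg) b hb
    rw [← sp_mulVec_inv g b, sbil_mulVec]
    exact mem_perp_iff.1 hw _ h1
  rw [mem_fixS]
  by_contra hne
  haveI := Fintype.ofFinite P
  have h3 := Finset.card_le_univ ({⟨_, hgw⟩, ⟨w, hw⟩, 0} : Finset P)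
  rw [Finset.card_insert_of_notMem (by simp [Subtype.ext_iff, hne, sp_mulVec_ne_zero g hw0]),
    Finset.card_pair (by simp [Subtype.ext_iff, hw0]), ← Nat.card_eq_fintype_card, hP] at h3
  omega

theorem vecImage_inv (h2 : Nat.card F = 2) (K : Subgroup (HP F n)) :
    ∀ g ∈ levImage K, ∀ v ∈ vecImage K, g.1 *ᵥ v ∈ vecImage K := by
  rintro _ ⟨k, hk, rfl⟩ v hv
  have h1 := vecImage_conj K hk hv
  rwa [units_eq_one h2 k.a, Units.val_one, one_smul] at h1

theorem no_center_form (h2 : Nat.card F = 2) (hn : 2 ≤ n) (K : Subgroup (HP F n)) (hL : Rich (levImage K))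
    (hB : vecImage K = ⊤) (hz : (⟨1, 1, 0, 1⟩ : HP F n) ∉ K) : False := by
  choose φ hφ using fun v : Fin n ⊕ Fin n → F => (mem_vecImage K).1 (hB ▸ AddSubgroup.mem_top v)
  have huniq : ∀ v c, (⟨1, 1, v, c⟩ : HP F n) ∈ K → c = φ v := fun v c hc => by
    by_contra hne
    have h1 := K.mul_mem (K.inv_mem (hφ v)) hc
    refine hz ?_
    convert h1 using 1
    rw [eq_inv_mul_iff_mul_eq, HP.mul_def]
    refine HP.ext (by simp) (by simp) (by simp) ?_
    have hd : c - φ v = 1 := (cases2 h2 _).resolve_left (sub_ne_zero.2 hne)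
    simp [sbil]
    linear_combination -hd
  refine rich_no_form h2 hn hL φ (fun u v => ?_) ?_
  · have h1 := K.mul_mem (hφ u) (hφ v)
    rw [HP.mul_def] at h1
    simp only [mul_one, Units.val_one, one_smul, sp_one_mulVec, one_pow, one_mul] at h1
    exact (huniq _ _ h1).symm
  · rintro _ ⟨k, hk, rfl⟩ v
    refine (huniq _ _ ?_).symm
    have h1 := K.mul_mem (K.mul_mem hk (hφ v)) (K.inv_mem hk)
    convert h1 using 1
    rw [eq_mul_inv_iff_mul_eq, HP.mul_def, HP.mul_def, units_eq_one h2 k.a]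
    refine HP.ext (by simp) (by simp [HP.projG]) ?_ ?_
    · simp [add_comm, HP.projG]
    · simp only [Units.val_one, one_pow, one_mul, one_smul, sp_one_mulVec, HP.projG, MonoidHom.coe_mk, OneHom.coe_mk]
      rw [sbil_symm h2 k.v]
      ring

/-- The three possibilities. -/
theorem local_cases (h2 : Nat.card F = 2) (hn : 2 ≤ n) (hyp : LeviHyp F n) (K : Subgroup (HP F n))
    (hK : K.index < 2 ^ (2 * n + 1) - 2 ^ n) :
    (vecImage K = ⊤ ∧ ((⟨1, 1, 0, 1⟩ : HP F n) ∈ K ∨ 2 * (2 ^ (n - 1) * (2 ^ n - 1)) ≤ K.index)) ∨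
      ((⟨1, 1, 0, 1⟩ : HP F n) ∈ K ∧ 2 ^ (2 * n) ≤ K.index) := by
  classical
  have htor : (torImage K).index = 1 :=
    Subgroup.index_eq_one.2 (eq_top_iff.2 fun a _ => units_eq_one h2 a ▸ Subgroup.one_mem _)
  have hidx := index_eq K
  rw [htor, mul_one] at hidx
  have hk1 : 1 ≤ (levImage K).index := Nat.pos_of_ne_zero Subgroup.index_ne_zero_of_finite
  obtain ⟨r, rfl⟩ : ∃ r, n = r + 1 := ⟨n - 1, by omega⟩
  have hr : 2 ≤ 2 ^ r := Nat.le_self_pow (by omega) 2
  have e1 : 2 ^ (2 * (r + 1) + 1) = 8 * (2 ^ r * 2 ^ r) := by ring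
  have e2 : 2 ^ (r + 1) = 2 * 2 ^ r := by ring
  have e3 : 2 ^ (2 * (r + 1)) = 4 * (2 ^ r * 2 ^ r) := by ring
  have hP : 2 * 2 ^ r ≤ 2 ^ r * 2 ^ r := Nat.mul_le_mul_right _ hr
  have hN : ∀ L : Subgroup (Matrix.symplecticGroup (Fin (r + 1)) F), ¬ Rich L →
      2 * (2 ^ r * 2 ^ r) - 2 ^ r ≤ L.index := fun L hL => by
    refine le_trans (le_of_eq ?_) ((hyp L).resolve_left hL)
    rw [Nat.add_sub_cancel, Nat.mul_sub, mul_one, e2, mul_left_comm]
  rw [e1, e2] at hK
  rw [Nat.add_sub_cancel, Nat.mul_sub _ (2 ^ (r + 1)) 1, mul_one, e2, mul_left_comm (2 ^ r) 2, e3]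
  obtain ⟨P, hPd⟩ : ∃ P, 2 ^ r * 2 ^ r = P := ⟨_, rfl⟩
  rw [hPd] at hN hK hP ⊢
  have hB1 : 1 ≤ (vecImage K).index := Nat.pos_of_ne_zero AddSubgroup.index_ne_zero_of_finite
  by_cases hz : (⟨1, 1, 0, 1⟩ : HP F (r + 1)) ∈ K
  · by_cases hBtop : vecImage K = ⊤
    · exact Or.inl ⟨hBtop, Or.inl hz⟩
    refine Or.inr ⟨hz, ?_⟩
    have hcen : cenImage K = ⊤ := eq_top_iff.2 fun c _ => by
      rcases cases2 h2 c with rfl | rfl
      · exact (cenImage K).zero_mem
      · exact (mem_cenImage K).2 hz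
    rw [hcen, AddSubgroup.index_top, mul_one] at hidx
    rw [hidx]
    by_cases hrich : Rich (levImage K)
    · have hb : vecImage K = ⊥ := by
        by_contra hb
        exact hBtop (rich_invariant h2 hrich hb (vecImage_inv h2 K))
      rw [hb, AddSubgroup.index_bot, card_vec, h2, e3, hPd]
      exact Nat.le_mul_of_pos_left _ hk1
    · have h3 := hN _ hrich
      obtain ⟨i, -, hi⟩ := (Nat.dvd_prime_pow Nat.prime_two).1
        (show (vecImage K).index ∣ 2 ^ (2 * (r + 1)) by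
          rw [show 2 ^ (2 * (r + 1)) = Nat.card F ^ (2 * (r + 1)) by rw [h2], ← card_vec]; exact (vecImage K).index_dvd_card)
      rcases Nat.lt_or_ge i 2 with h | h
      · interval_cases i
        · exact absurd (AddSubgroup.index_eq_one.1 hi) hBtop
        · have h4 := index_ge_of_hyperplane h2 hi (vecImage_inv h2 K)
          rw [e3, hPd] at h4
          rw [hi]
          omega
      · have h4 : 4 ≤ (vecImage K).index := by
          rw [hi]; exact Nat.pow_le_pow_right (show 0 < 2 by omega) h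
        have := Nat.mul_le_mul h3 h4
        omega
  · have hcen : cenImage K = ⊥ := (AddSubgroup.eq_bot_iff_forall _).2 fun c hc =>
      (cases2 h2 c).resolve_right fun h => hz (h ▸ (mem_cenImage K).1 hc)
    rw [hcen, AddSubgroup.index_bot, h2] at hidx
    left
    by_cases hrich : Rich (levImage K)
    · by_cases hb : vecImage K = ⊥
      · rw [hb, AddSubgroup.index_bot, card_vec, h2, e3, hPd] at hidx
        have := Nat.le_mul_of_pos_left (4 * P * 2) hk1
        omega
      · exact (no_center_form h2 hn K hrich (rich_invariant h2 hrich hb (vecImage_inv h2 K)) hz).elim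
    have h3 := hN _ hrich
    obtain ⟨i, -, hi⟩ := (Nat.dvd_prime_pow Nat.prime_two).1
      (show (vecImage K).index ∣ 2 ^ (2 * (r + 1)) by
        rw [show 2 ^ (2 * (r + 1)) = Nat.card F ^ (2 * (r + 1)) by rw [h2], ← card_vec]; exact (vecImage K).index_dvd_card)
    rcases Nat.lt_or_ge i 2 with h | h
    · interval_cases i
      · refine ⟨AddSubgroup.index_eq_one.1 hi, Or.inr ?_⟩
        rw [hidx, hi]
        omega
      · have h4 := index_ge_of_hyperplane h2 hi (vecImage_inv h2 K)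
        rw [e3, hPd] at h4
        rw [hi] at hidx
        norm_num at hidx
        omega
    · have h4 : 4 ≤ (vecImage K).index := by
          rw [hi]; exact Nat.pow_le_pow_right (show 0 < 2 by omega) h
      have := Nat.mul_le_mul h3 (Nat.mul_le_mul_right 2 h4)
      omega

end CfsgLib.MinIdx.SpF2
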