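import Cfsg.Agent.Lib.MinIdx.SpTwoBase

/-!
# The smallest index of a proper subgroup of `Sp` over two elements
-/

set_option autoImplicit false

namespace CfsgLib.MinIdx.SpF2

open Matrix CfsgLib.Classical CfsgLib.KnownA.SpGen

variable {F : Type*} [Field F] [Finite F] {n : ℕ}

theorem card_perp (h2 : Nat.card F = 2) {x : Fin (n + 1) ⊕ Fin (n + 1) → F} (hx : x ≠ 0) :
    Nat.card {v : Fin (n + 1) ⊕ Fin (n + 1) → F // sbil x v = 0} = 2 ^ (2 * n + 1) := by
  let φ : (Fin (n + 1) ⊕ Fin (n + 1) → F) →+ F :=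
    { toFun := fun v => sbil x v
      map_zero' := by simp [sbil]
      map_add' := fun v w => sbil_add_right _ _ _ }
  have hs : Function.Surjective φ := fun a => by
    obtain ⟨z, hz⟩ := exists_sbil_eq_one hx
    exact ⟨a • z, by show sbil x (a • z) = a; rw [sbil_smul_right, hz, mul_one]⟩
  have h := φ.ker.index_mul_card
  rw [AddSubgroup.index_ker, φ.range_eq_top_of_surjective hs, AddSubgroup.card_top, card_vec, h2] at h
  have e : 2 ^ (2 * (n + 1)) = 2 * 2 ^ (2 * n + 1) := by ring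
  rw [e] at h
  exact Nat.eq_of_mul_eq_mul_left two_pos h

/-- A subgroup containing the radical of a point. -/
theorem bound_of_radical (h2 : Nat.card F = 2) (H : Subgroup (Matrix.symplecticGroup (Fin (n + 1)) F)) (hH : H ≠ ⊤)
    {x : Fin (n + 1) ⊕ Fin (n + 1) → F} (hx : x ≠ 0) (ht : stv 1 x ∈ H)
    (hfull : 2 ^ (2 * n + 1) ≤ Nat.card (rootSet H x)) : 2 ^ (2 * (n + 1)) - 1 ≤ H.index := by
  classical
  have hperp : ∀ v, sbil x v = 0 → v ∈ rootSet H x := by
    intro v hv
    let f : rootSet H x → {v : Fin (n + 1) ⊕ Fin (n + 1) → F // sbil x v = 0} := fun w => ⟨w.1, w.2.1⟩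
    have hf : Function.Injective f := fun a b h => Subtype.ext (congrArg Subtype.val h :)
    obtain ⟨w, hw⟩ := ((Nat.bijective_iff_injective_and_card f).2 ⟨hf,
      le_antisymm (Nat.card_le_card_of_injective f hf) ((card_perp h2 hx).trans_le hfull)⟩).2 ⟨v, hv⟩
    rw [show v = w.1 from (congrArg Subtype.val hw).symm]
    exact w.2
  have hroot : ∀ v (hv : sbil x v = 0) (c : F), sroot x v hv c ∈ H := by
    intro v hv c
    obtain ⟨_, d, hd⟩ := hperp v hv
    have h0 : stv (c - d) x ∈ H := by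
      rcases cases2 h2 (c - d) with h | h <;> rw [h]
      · rw [CfsgLib.Classical.stv_zero]; exact H.one_mem
      · exact ht
    have := H.mul_mem hd h0
    rw [← sroot_zero x (by simp [sbil]), sroot_mul] at this
    convert this using 1
    exact sroot_congr _ (add_zero v).symm (by simp [sbil])
  by_cases hpair : ∃ r ∈ orbS H x, sbil x r = 1
  · obtain ⟨r, hr, hxr⟩ := hpair
    have hmove : ∀ {u}, u ∈ orbS H x → stv 1 u ∈ H := by
      rintro _ ⟨g, hg, rfl⟩
      rw [← stv_conj]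
      exact H.mul_mem (H.mul_mem hg ht) (H.inv_mem hg)
    have hone : ∀ u, sbil x u = 1 → stv 1 u ∈ H := by
      intro u hu
      have hv : sbil x (u - r) = 0 := by rw [sbil_sub_right, hu, hxr, sub_self]
      obtain ⟨g, hg, rfl⟩ := hr
      refine hmove ⟨sroot x (u - g.1 *ᵥ x) hv (-sbil (u - g.1 *ᵥ x) (g.1 *ᵥ x)) * g,
        H.mul_mem (hroot _ hv _) hg, ?_⟩
      rw [sp_mul_mulVec, sroot_mulVec, hxr]
      module
    refine absurd (sp_eq_top_of_stv_mem H fun a v => ?_) hH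
    rcases cases2 h2 a with rfl | rfl
    · rw [CfsgLib.Classical.stv_zero]; exact H.one_mem
    rcases eq_or_ne v 0 with rfl | hv0
    · rw [show stv (1 : F) (0 : Fin (n + 1) ⊕ Fin (n + 1) → F) = 1 from sp_ext fun w => by
        rw [stv_mulVec, sp_one_mulVec, smul_zero, add_zero]]
      exact H.one_mem
    rcases cases2 h2 (sbil x v) with hxv | hxv
    swap
    · exact hone v hxv
    obtain ⟨u, hxu, hvu⟩ : ∃ u, sbil x u = 1 ∧ sbil v u = 1 := by
      rcases eq_or_ne v x with rfl | hvx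
      · exact ⟨_, hxr, hxr⟩
      have hni : ∀ c : F, v ≠ c • x := fun c => by
        rcases cases2 h2 c with rfl | rfl
        · rwa [zero_smul]
        · rwa [one_smul]
      obtain ⟨z, hxz, hvz⟩ := exists_sbil_zero_one hx hni
      rcases cases2 h2 (sbil v r) with h | h
      · exact ⟨r + z, by rw [sbil_add_right, hxr, hxz, add_zero], by rw [sbil_add_right, h, hvz, zero_add]⟩
      · exact ⟨r, hxr, h⟩
    have h1 := H.mul_mem (H.mul_mem (hone u hxu) (hone (u + v) (by rw [sbil_add_right, hxu, hxv, add_zero])))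
      (H.inv_mem (hone u hxu))
    rw [stv_conj, stv_mulVec_one h2 (by rw [sbil_add_right, sbil_self, zero_add, sbil_symm h2, hvu]), add_right_comm,
      (add_eq_zero_iff' h2).2 rfl, zero_add] at h1
    exact h1
  · push Not at hpair
    let W : Submodule F (Fin (n + 1) ⊕ Fin (n + 1) → F) := Submodule.span F (orbS H x)
    have hiso : ∀ u ∈ W, ∀ v ∈ W, sbil u v = 0 := by
      have h0 : ∀ u ∈ orbS H x, ∀ v ∈ orbS H x, sbil u v = 0 := by
        rintro _ ⟨g, hg, rfl⟩ _ ⟨k, hk, rfl⟩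
        rw [← sbil_mulVec g⁻¹, sp_inv_mulVec, ← sp_mul_mulVec]
        exact (cases2 h2 _).resolve_right (hpair _ ⟨_, H.mul_mem (H.inv_mem hg) hk, rfl⟩)
      intro u hu v hv
      induction hu, hv using Submodule.span_induction₂ with
      | mem_mem a b ha hb => exact h0 a ha b hb
      | zero_left => simp [sbil]
      | zero_right => simp [sbil]
      | add_left a b c _ _ _ h h' => rw [sbil_add_left, h, h', add_zero]
      | add_right a b c _ _ _ h h' => rw [sbil_add_right, h, h', add_zero]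
      | smul_left r a b _ _ h => rw [sbil_smul_left, h, mul_zero]
      | smul_right r a b _ _ h => rw [sbil_smul_right, h, mul_zero]
    have h := bound_of_isotropic (H := H) (W := W) hiso (fun h => hx ((Submodule.mem_bot F).1
      (h ▸ Submodule.subset_span ⟨1, H.one_mem, sp_one_mulVec x⟩))) fun g hg => by
        refine Submodule.eq_of_le_of_finrank_eq ?_ (Submodule.equivMapOfInjective _ (act_injective g) W).finrank_eq.symm
        rw [Submodule.map_span, Submodule.span_le]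
        rintro _ ⟨_, ⟨k, hk, rfl⟩, rfl⟩
        exact Submodule.subset_span ⟨g * k, H.mul_mem hg hk, sp_mul_mulVec g k x⟩
    rw [h2] at h
    simpa using h

/-- One step. -/
theorem step (h2 : Nat.card F = 2) (hn : 2 ≤ n) (hyp : LeviHyp F n)
    (H : Subgroup (Matrix.symplecticGroup (Fin (n + 1)) F)) (hH : H ≠ ⊤) :
    2 ^ n * (2 ^ (n + 1) - 1) ≤ H.index := by
  classical
  by_contra hlt
  push Not at hlt
  have e : 2 ^ n * (2 ^ (n + 1) - 1) = 2 ^ (2 * n + 1) - 2 ^ n := by
    rw [Nat.mul_sub, mul_one, ← pow_add]; congr 2; omega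
  rw [e] at hlt
  have hbig : 2 ^ (2 * n + 1) - 2 ^ n ≤ 2 ^ (2 * (n + 1)) - 1 := by
    have : 2 ^ (2 * (n + 1)) = 2 * 2 ^ (2 * n + 1) := by ring
    have := Nat.one_le_two_pow (n := n)
    omega
  have hpt : ∀ x : Fin (n + 1) ⊕ Fin (n + 1) → F, x ≠ 0 → (stv 1 x ∈ H ∧ 2 ^ (2 * n) ≤ H.relIndex (fixS x)) ∨
      (stv 1 x ∉ H ∧ 2 ^ (2 * n + 1) ≤ Nat.card (rootSet H x) ∧
        2 * (2 ^ (n - 1) * (2 ^ n - 1)) ≤ H.relIndex (fixS x)) := by
    intro x hx
    obtain ⟨K, hK, hz, hroot⟩ := exists_local h2 H hx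
    have hKlt : K.index < 2 ^ (2 * n + 1) - 2 ^ n := (hK.trans (relIndex_le H _)).trans_lt hlt
    rcases local_cases h2 hn hyp K hKlt with ⟨hB, hc⟩ | ⟨hzK, hc⟩
    · rw [hB, AddSubgroup.card_top, card_vec, h2, ← pow_succ'] at hroot
      have hnt : stv 1 x ∉ H := fun ht => by
        have := bound_of_radical h2 H hH hx ht hroot
        omega
      exact Or.inr ⟨hnt, hroot, (hc.resolve_left fun h => hnt (hz.1 h)).trans hK⟩
    · exact Or.inl ⟨hz.1 hzK, hc.trans hK⟩
  obtain ⟨x, hx, hxt⟩ : ∃ x, x ≠ 0 ∧ stv (1 : F) x ∉ H := by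
    by_contra hc
    push Not at hc
    refine hH (sp_eq_top_of_stv_mem H fun a v => ?_)
    rcases cases2 h2 a with rfl | rfl
    · rw [CfsgLib.Classical.stv_zero]; exact H.one_mem
    rcases eq_or_ne v 0 with rfl | hv0
    · rw [show stv (1 : F) (0 : Fin (n + 1) ⊕ Fin (n + 1) → F) = 1 from sp_ext fun w => by
        rw [stv_mulVec, sp_one_mulVec, smul_zero, add_zero]]
      exact H.one_mem
    exact hc v hv0
  obtain ⟨z, hz0, hzt⟩ : ∃ z, z ≠ 0 ∧ stv (1 : F) z ∈ H := by
    by_contra hc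
    push Not at hc
    have hW : ∀ y : Fin (n + 1) ⊕ Fin (n + 1) → F, y ≠ 0 →
        Nat.card F ^ (2 * (n + 1) - 1) ≤ Nat.card F * Nat.card (rootSet H y) := by
      intro y hy
      rw [h2, show 2 * (n + 1) - 1 = 2 * n + 1 by omega]
      exact ((hpt y hy).resolve_left fun h => hc y hy h.1).2.1.trans (Nat.le_mul_of_pos_left _ two_pos)
    exact hc x hx (full_of_rootSets (by omega) hW hx 1)
  have hzorb : z ∉ orbS H x := by
    rintro ⟨g, hg, rfl⟩
    rw [← stv_conj] at hzt
    have := H.mul_mem (H.mul_mem (H.inv_mem hg) hzt) hg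
    exact hxt (by simpa [mul_assoc] using this)
  have h1 := ((hpt z hz0).resolve_right fun h => h.1 hzt).2
  have h3 := ((hpt x hx).resolve_left fun h => hxt h.1).2.2
  have h4 := relIndex_add_le h2 H hx hz0 hzorb
  obtain ⟨r, rfl⟩ : ∃ r, n = r + 1 := ⟨n - 1, by omega⟩
  rw [Nat.add_sub_cancel, Nat.mul_sub _ (2 ^ (r + 1)) 1, mul_one] at h3
  have e1 : 2 ^ r * 2 ^ (r + 1) = 2 * (2 ^ r * 2 ^ r) := by ring
  have e2 : 2 ^ (2 * (r + 1)) = 4 * (2 ^ r * 2 ^ r) := by ring
  have e3 : 2 ^ (2 * (r + 1) + 1) = 8 * (2 ^ r * 2 ^ r) := by ring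
  have e4 : 2 ^ (r + 1) = 2 * 2 ^ r := by ring
  rw [e1] at h3
  rw [e2] at h1
  rw [e3, e4] at hlt
  omega

/-- Proper subgroups of `Sp₂ₘ(2)`. -/
theorem sp_two_bound (h2 : Nat.card F = 2) (n : ℕ) (hn : 2 ≤ n) :
    ∀ H : Subgroup (Matrix.symplecticGroup (Fin (n + 1)) F), H ≠ ⊤ → 2 ^ n * (2 ^ (n + 1) - 1) ≤ H.index := by
  induction n, hn using Nat.le_induction with
  | base => exact step h2 le_rfl (levi_base h2)
  | succ k hk ih =>
    refine step h2 (by omega) fun L => ?_
    rcases eq_or_ne L ⊤ with rfl | hL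
    · exact Or.inl rich_top
    · exact Or.inr (ih L hL)

end CfsgLib.MinIdx.SpF2
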