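import Cfsg.Agent.Lib.MinIdx.UnCount

/-!
# Anisotropic vectors and orbit counting for additive subgroups
-/

set_option autoImplicit false

namespace CfsgLib.MinIdx.Un

open Matrix CfsgLib.Classical CfsgLib.Classical.Unitary

variable {F : Type*} [Field F] [Finite F] {σ : F →+* F} {q n k : ℕ}

/-- The orthogonal complement of an anisotropic vector has an orthonormal frame. -/
theorem exists_frame_perp (h : UFrob σ q) {v : Fin (k + 1) → F} (hv : uh σ v v ≠ 0) :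
    ∃ P : Matrix (Fin (k + 1)) (Fin k) F, IsFrame σ P ∧ (P.map σ)ᵀ *ᵥ v = 0 ∧
      ∀ w, (uh σ w v / uh σ v v) • v + P *ᵥ ((P.map σ)ᵀ *ᵥ w) = w := by
  obtain ⟨t, ht⟩ := CfsgLib.Geometry.exists_norm_eq h.ne h.invol (h.symm v v)
  have ht0 : t ≠ 0 := fun h0 => hv (by rw [← ht, h0, zero_mul])
  have hv0 : v ≠ 0 := fun h0 => hv (by rw [h0, uh_zero_left])
  obtain ⟨g, hg, hgv⟩ := exists_gu_map_one h (v := Pi.single (0 : Fin (k + 1)) t) (w := v)
    (by simpa using ht0) hv0 (by rw [uh_single_left]; simpa using ht)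
  let J : Matrix (Fin (k + 1)) (Fin k) F := (1 : Matrix (Fin (k + 1)) (Fin (k + 1)) F).submatrix id Fin.succ
  let P : Matrix (Fin (k + 1)) (Fin k) F := g.1.submatrix id Fin.succ
  have hJ : ∀ a, J *ᵥ a = Fin.cons 0 a := fun a => by
    funext i
    cases i using Fin.cases <;>
      simp [J, Matrix.mulVec, dotProduct, Matrix.one_apply, Fin.succ_ne_zero, (Fin.succ_ne_zero _).symm]
  have hPa : ∀ a, P *ᵥ a = g.1 *ᵥ (Fin.cons 0 a) := fun a => by
    rw [← hJ, mulVec_mulVec]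
    congr 1
    ext i j
    simp [P, J, Matrix.mul_apply, Matrix.one_apply]
  have hframe : IsFrame σ P := by
    show (P.map σ)ᵀ * P = 1
    ext i j
    have key := gu_uh h hg (Pi.single j.succ 1) (Pi.single i.succ 1)
    rw [uh_single_left, one_mul] at key
    have hij : σ ((Pi.single i.succ 1 : Fin (k + 1) → F) j.succ) = (1 : Matrix (Fin k) (Fin k) F) i j := by
      rcases eq_or_ne i j with rfl | h' <;> simp [*, eq_comm]
    rw [← hij, ← key]
    simp [P, Matrix.mul_apply, uh, dotProduct, mul_comm]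
  have hPv : (P.map σ)ᵀ *ᵥ v = 0 := uh_ext h fun a => by
    rw [uh_zero_right, ← uh_frame_left h, hPa, ← hgv, gu_uh h hg, uh_single_right]
    simp
  refine ⟨P, hframe, hPv, fun w => ?_⟩
  obtain ⟨z, rfl⟩ : ∃ z, g.1 *ᵥ z = w := ⟨(g⁻¹).1 *ᵥ w, by rw [mulVec_mulVec, g.mul_inv, one_mulVec]⟩
  have hz : g.1 *ᵥ z = (z 0 / t) • v + P *ᵥ (fun i => z i.succ) := by
    rw [hPa, ← hgv, ← mulVec_smul, ← mulVec_add]
    congr 1
    funext i
    cases i using Fin.cases <;> simp [ht0]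
  have h1 : uh σ (g.1 *ᵥ z) v = z 0 / t * uh σ v v := by
    conv_lhs => rw [hz]
    rw [uh_add_left, uh_smul_left, uh_frame_left h, hPv, uh_zero_right, add_zero]
  have h2 : (P.map σ)ᵀ *ᵥ (g.1 *ᵥ z) = fun i => z i.succ := by
    rw [hz, mulVec_add, mulVec_smul, hPv, hframe.apply]
    simp
  rw [h2, h1, mul_div_cancel_right₀ _ hv]
  exact hz.symm

/-- `SU` is transitive on the vectors of a given non-zero norm. -/
theorem su_trans_norm (hF : Nat.card F = q ^ 2) (h : UFrob σ q) {e e' : Fin (k + 2) → F}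
    (he : uh σ e e ≠ 0) (hee' : uh σ e' e' = uh σ e e) : ∃ g : Cfsg.SU (k + 2) F q, g.1.1 *ᵥ e = e' := by
  have he0 : e ≠ 0 := fun h0 => he (by rw [h0, uh_zero_left])
  have he'0 : e' ≠ 0 := fun h0 => he (by rw [← hee', h0, uh_zero_left])
  obtain ⟨g, hg, hge⟩ := exists_gu_map_one h he0 he'0 hee'.symm
  obtain ⟨P, hP, hPe, -⟩ := exists_frame_perp (k := k + 1) h (v := e') (by rw [hee']; exact he)
  obtain ⟨u, hu⟩ : ∃ u, u = P *ᵥ Pi.single 0 1 := ⟨_, rfl⟩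
  have huu : uh σ u u = 1 := by
    rw [hu, uh_frame_left h, hP.apply, uh_single_self h]
  have hue : uh σ u e' = 0 := by rw [hu, uh_frame_left h, hPe, uh_zero_right]
  obtain ⟨δ, hδ⟩ : ∃ δ : F, δ = g.1.det := ⟨_, rfl⟩
  have hδn : δ * σ δ = 1 := by
    have h1 := gu_det_norm hF h (n := k + 2) (by omega) hg
    rw [hδ]
    simpa [h.pow, pow_succ'] using h1
  have hδ0 : δ ≠ 0 := fun h0 => by simp [h0] at hδn
  obtain ⟨c, hc⟩ : ∃ c, c = δ⁻¹ - 1 := ⟨_, rfl⟩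
  have hdet : (tMat σ u c * g.1).det = 1 := by
    rw [det_mul, det_tMat, huu, mul_one, ← hδ, hc, add_sub_cancel, inv_mul_cancel₀ hδ0]
  have hiso : ∀ a b, uh σ (tMat σ u c *ᵥ a) (tMat σ u c *ᵥ b) = uh σ a b := fun a b => by
    have hσ : σ δ⁻¹ = δ := by
      rw [map_inv₀]
      exact inv_eq_of_mul_eq_one_left hδn
    simp only [tMat_mulVec, uh_add_left, uh_add_right, uh_smul_left, uh_smul_right, huu, map_mul, h.symm, hc,
      map_sub, map_one, hσ]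
    linear_combination (uh σ a u * uh σ u b) * (inv_mul_cancel₀ hδ0)
  refine ⟨⟨⟨tMat σ u c * g.1, hdet⟩, mem_SU_iff.2 fun a b => ?_⟩, ?_⟩
  · show Cfsg.hermForm _ F q ((tMat σ u c * g.1) *ᵥ a) ((tMat σ u c * g.1) *ᵥ b) = _
    rw [← mulVec_mulVec, ← mulVec_mulVec, h.hermForm_eq, h.hermForm_eq, hiso, gu_uh h hg]
  · show (tMat σ u c * g.1) *ᵥ e = e'
    rw [← mulVec_mulVec, hge, tMat_mulVec, h.swap_zero hue]
    simp

/-- Counting the images of a vector of an invariant set, refined by a subgroup fixing the vector. -/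
theorem class_count {K : Type*} [Group K] [Finite K] (L : Subgroup (Cfsg.SU n F q)) (A : AddSubgroup (Fin n → F))
    (hinv : ∀ g ∈ L, ∀ a ∈ A, g.1.1 *ᵥ a ∈ A) (p : (Fin n → F) → Prop)
    (hp : ∀ (g : Cfsg.SU n F q) v, p v → p (g.1.1 *ᵥ v)) {a₀ : Fin n → F} (ha₀ : a₀ ∈ A)
    (htr : ∀ v, p v → ∃ g : Cfsg.SU n F q, g.1.1 *ᵥ a₀ = v) (ψ : K →* Cfsg.SU n F q)
    (hψ : ∀ k, (ψ k).1.1 *ᵥ a₀ = a₀) :
    Nat.card {v // p v} * (L.comap ψ).index ≤ L.index * Nat.card {a : A // p a.1} := by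
  classical
  choose g hg using fun v : {v // p v} => htr v.1 v.2
  simp only [Subgroup.index, ← Nat.card_prod]
  have hmem : ∀ (v : {v // p v}) (s : K ⧸ L.comap ψ),
      ((QuotientGroup.mk (g v * ψ s.out) : Cfsg.SU n F q ⧸ L).out⁻¹).1.1 *ᵥ v.1 ∈ A := fun v s => by
    obtain ⟨l, hl⟩ := QuotientGroup.mk_out_eq_mul L (g v * ψ s.out)
    have e : (g v * ψ s.out).1.1 *ᵥ a₀ = v.1 := by rw [su_mul_mulVec, hψ, hg]
    rw [hl, _root_.mul_inv_rev, su_mul_mulVec, inv_move e]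
    exact hinv _ (L.inv_mem l.2) _ ha₀
  refine Nat.card_le_card_of_injective
    (fun x : {v // p v} × (K ⧸ L.comap ψ) =>
      ((QuotientGroup.mk (g x.1 * ψ x.2.out) : Cfsg.SU n F q ⧸ L), (⟨⟨_, hmem x.1 x.2⟩, hp _ _ x.1.2⟩ : {a : A // p a.1}))) ?_
  rintro ⟨v, s⟩ ⟨w, t⟩ he
  obtain ⟨e1, e2⟩ := Prod.ext_iff.1 he
  dsimp only at e1 e2
  have e3 : ((QuotientGroup.mk (g v * ψ s.out) : Cfsg.SU n F q ⧸ L).out⁻¹).1.1 *ᵥ v.1 =
      ((QuotientGroup.mk (g w * ψ t.out) : Cfsg.SU n F q ⧸ L).out⁻¹).1.1 *ᵥ w.1 :=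
    congrArg (fun a : {a : A // p a.1} => a.1.1) e2
  rw [e1] at e3
  obtain rfl : v = w := Subtype.ext (by
    have h4 := congrArg (fun z => (QuotientGroup.mk (g w * ψ t.out) : Cfsg.SU n F q ⧸ L).out.1.1 *ᵥ z) e3
    simpa only [su_mulVec_inv] using h4)
  refine Prod.ext rfl ?_
  rw [← QuotientGroup.out_eq' s, ← QuotientGroup.out_eq' t]
  refine QuotientGroup.eq.2 ?_
  have h5 := QuotientGroup.eq.1 e1
  show ψ (s.out⁻¹ * t.out) ∈ L
  rw [map_mul, map_inv]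
  simpa [mul_assoc] using h5

theorem class_count' (L : Subgroup (Cfsg.SU n F q)) (A : AddSubgroup (Fin n → F))
    (hinv : ∀ g ∈ L, ∀ a ∈ A, g.1.1 *ᵥ a ∈ A) (p : (Fin n → F) → Prop)
    (hp : ∀ (g : Cfsg.SU n F q) v, p v → p (g.1.1 *ᵥ v)) {a₀ : Fin n → F} (ha₀ : a₀ ∈ A)
    (htr : ∀ v, p v → ∃ g : Cfsg.SU n F q, g.1.1 *ᵥ a₀ = v) :
    Nat.card {v // p v} ≤ L.index * Nat.card {a : A // p a.1} := by
  have := class_count (K := PUnit.{1}) L A hinv p hp ha₀ htr 1 (fun _ => by simp [su_one_mulVec])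
  rwa [Subgroup.index_eq_one.2 (Subsingleton.elim (L.comap (1 : PUnit.{1} →* Cfsg.SU n F q)) ⊤), mul_one] at this

end CfsgLib.MinIdx.Un
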