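import Cfsg.Agent.Lib.MinIdx.UnTorus

/-!
# Subgroups of `SU` with an invariant small additive group, and subgroups fixing a point or a line of `SU 2`
-/

set_option autoImplicit false

namespace CfsgLib.MinIdx.Un

open Matrix CfsgLib.Classical CfsgLib.Classical.Unitary

variable {F : Type*} [Field F] [Finite F] {σ : F →+* F} {q n m k : ℕ}

theorem card_units_sq (hF : Nat.card F = q ^ 2) : Nat.card Fˣ = q ^ 2 - 1 := by rw [card_units_field, hF]

/-- The orbit of a point of a fixed line. -/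
theorem iso_le_of_fix (hF : Nat.card F = q ^ 2) (h : UFrob σ q) (hk : 1 ≤ k)
    (L : Subgroup (Cfsg.SU (k + 2) F q)) {z : Fin (k + 2) → F} (hz0 : z ≠ 0) (hzz : uh σ z z = 0)
    (hfix : ∀ g ∈ L, ∃ c : F, g.1.1 *ᵥ z = c • z) : iso σ (k + 2) ≤ L.index * (q ^ 2 - 1) := by
  classical
  have hsub : Nat.card (orb L z) ≤ q ^ 2 - 1 := by
    rw [← card_units_sq hF]
    refine Nat.card_le_card_of_injective
      (fun v : orb L z => Units.mk0 (Classical.epsilon fun c : F => c • z = v.1) ?_) ?_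
    · intro h0
      obtain ⟨g, hg, α, hα, he⟩ := v.2
      obtain ⟨c, hc⟩ := hfix g hg
      have hex : ∃ c : F, c • z = v.1 := ⟨α * c, by rw [he, hc, smul_smul]⟩
      have := Classical.epsilon_spec hex
      rw [h0, zero_smul] at this
      exact (orb_iso h hz0 hzz v.2).1 this.symm
    · intro v w hvw
      have hex : ∀ v : orb L z, ∃ c : F, c • z = v.1 := fun v => by
        obtain ⟨g, hg, α, hα, he⟩ := v.2
        obtain ⟨c, hc⟩ := hfix g hg
        exact ⟨α * c, by rw [he, hc, smul_smul]⟩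
      refine Subtype.ext ?_
      rw [← Classical.epsilon_spec (hex v), ← Classical.epsilon_spec (hex w)]
      exact congrArg (fun u : Fˣ => (u : F) • z) hvw
  calc iso σ (k + 2) = 1 * iso σ (k + 2) := (one_mul _).symm
    _ ≤ cnt L z * iso σ (k + 2) := Nat.mul_le_mul_right _ (one_le_cnt L z)
    _ = L.index * Nat.card (orb L z) := cnt_mul hF h hk L hz0 hzz
    _ ≤ _ := Nat.mul_le_mul_left _ hsub

/-- A subgroup of `SU 2` fixing an isotropic line has index at least `q + 1`. -/
theorem fix_two (hF : Nat.card F = q ^ 2) (h : UFrob σ q) (L : Subgroup (Cfsg.SU 2 F q)) {e : Fin 2 → F}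
    (he0 : e ≠ 0) (hee : uh σ e e = 0) (hfix : ∀ g ∈ L, ∃ c : F, g.1.1 *ᵥ e = c • e) : q + 1 ≤ L.index := by
  classical
  obtain ⟨f, hff, hef, hfe, -⟩ := exists_partner h ⊥ (by simpa using he0) hee
    (fun z hz => by rw [(Submodule.mem_bot F).1 hz, uh_zero_left])
  obtain ⟨c, hc0, hc⟩ := exists_skew h
  have hci : -c⁻¹ + σ (-c⁻¹) = 0 := by
    rw [map_neg, map_inv₀, eq_neg_of_add_eq_zero_right hc]
    field_simp
    ring
  let g : Option (Sk σ) → Cfsg.SU 2 F q := fun o =>
    o.elim (utv h e (-c⁻¹) hee hci * utv h f c hff hc) (fun t => utv h f t.1 hff t.2)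
  have himg : ∀ o, (g o).1.1 *ᵥ e = o.elim (c • f) (fun t => e + t.1 • f) := fun o => by
    cases o with
    | none =>
      show (utv h e (-c⁻¹) hee hci * utv h f c hff hc).1.1 *ᵥ e = c • f
      rw [su_mul_mulVec, show (utv h f c hff hc).1.1 *ᵥ e = e + c • f by
        show tMat σ f c *ᵥ e = _
        rw [tMat_mulVec, hef, mul_one]]
      show tMat σ e (-c⁻¹) *ᵥ (e + c • f) = _
      rw [tMat_mulVec, uh_add_left, uh_smul_left, hee, hfe]
      match_scalars <;> field_simp <;> ring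
    | some t =>
      show tMat σ f t.1 *ᵥ e = e + t.1 • f
      rw [tMat_mulVec, hef, mul_one]
  have h1 : Nat.card (Option (Sk σ)) = q + 1 := by rw [Finite.card_option, card_Sk hF h]
  rw [← h1]
  refine Nat.card_le_card_of_injective (fun o => (QuotientGroup.mk (g o) : Cfsg.SU 2 F q ⧸ L)) ?_
  intro o p hop
  obtain ⟨d, hd⟩ := hfix _ (QuotientGroup.eq.1 hop)
  have h2 := congrArg (fun v => (g o).1.1 *ᵥ v) hd
  simp only [mulVec_smul] at h2
  rw [← su_mul_mulVec, mul_inv_cancel_left, himg, himg] at h2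
  rcases o with _ | t <;> rcases p with _ | u
  · rfl
  · exfalso
    have h3 := congrArg (fun v => uh σ v f) h2
    simp [uh_add_left, uh_smul_left, hff, hef] at h3
  · exfalso
    have h3 := congrArg (fun v => uh σ v f) h2
    simp [uh_add_left, uh_smul_left, hff, hef] at h3
    rw [← h3] at h2
    simp only [Option.elim, zero_smul] at h2
    have h4 := congrArg (fun v => uh σ v e) h2
    simp [uh_smul_left, hfe, uh_zero_left, hc0] at h4
  · have h3 := congrArg (fun v => uh σ v f) h2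
    simp [uh_add_left, uh_smul_left, hff, hef] at h3
    rw [← h3] at h2
    have h4 := congrArg (fun v => uh σ v e) h2
    simp [uh_add_left, uh_smul_left, hee, hfe] at h4
    exact congrArg some h4.symm

theorem exists_iso_nonperp (h : UFrob σ q) {v : Fin (k + 2) → F} (hv : v ≠ 0) :
    ∃ e, e ≠ 0 ∧ uh σ e e = 0 ∧ uh σ v e ≠ 0 := by
  obtain ⟨e, he0, hee⟩ := exists_iso_vector (m := k + 2) h (by omega)
  obtain ⟨y, P, s⟩ := exists_split h he0 hee
  obtain ⟨θ, hθ⟩ := exists_trace h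
  by_contra hall
  push Not at hall
  have hall' : ∀ w, uh σ w w = 0 → uh σ v w = 0 := fun w hw => by
    by_cases hw0 : w = 0
    · rw [hw0, uh_zero_right]
    · exact hall w hw0 hw
  refine hv (uh_ext h fun z => ?_)
  rw [uh_zero_right, ← h.symm]
  have hp : ∀ a, uh σ v (P *ᵥ a) = 0 := fun a => by
    have h1 := hall' (P *ᵥ a + (-θ * uh σ a a) • e + y) (by
      simp only [uh_add_left, uh_add_right, uh_smul_left, uh_smul_right, s.px, s.py, s.xp h, s.yp h, s.xx, s.yy, s.xy,
        s.yx h, s.pp h, map_mul, map_neg, h.symm]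
      linear_combination (-(uh σ a a)) * hθ)
    rw [uh_add_right, uh_add_right, uh_smul_right, hall' e hee, hall' y s.yy] at h1
    linear_combination h1
  rw [← s.dec z, uh_add_right, uh_add_right, uh_smul_right, uh_smul_right, hall' e hee, hall' y s.yy, hp]
  simp

/-- A point not orthogonal to `A` whose line misses `A`. -/
theorem exists_point (hF : Nat.card F = q ^ 2) (h : UFrob σ q) (hk : 2 ≤ k) (A : AddSubgroup (Fin (k + 2) → F))
    (hA : A ≠ ⊥) (hcard : Nat.card A ≤ q ^ (k + 2)) :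
    ∃ z, z ≠ 0 ∧ uh σ z z = 0 ∧ (∃ v ∈ A, uh σ v z ≠ 0) ∧ ∀ β : F, β • z ∈ A → β = 0 := by
  classical
  obtain ⟨v, hv, hv0⟩ := (AddSubgroup.bot_or_exists_ne_zero A).resolve_left hA
  obtain ⟨e, he0, hee, hve⟩ := exists_iso_nonperp h hv0
  obtain ⟨y, P, s⟩ := exists_split h he0 hee
  obtain ⟨θ, hθ⟩ := exists_trace h
  obtain ⟨c, hc0, hc⟩ := exists_skew h
  have hcand : ∀ a : Fin k → F, ∃ r : F, r + σ r + uh σ a a = 0 ∧ uh σ v (P *ᵥ a + r • e + y) ≠ 0 := fun a => by
    by_cases h1 : uh σ v (P *ᵥ a + (-θ * uh σ a a) • e + y) = 0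
    · refine ⟨-θ * uh σ a a + c, by rw [map_add, map_mul, map_neg, h.symm]; linear_combination (-(uh σ a a)) * hθ + hc,
        fun h2 => ?_⟩
      rw [add_smul, show P *ᵥ a + ((-θ * uh σ a a) • e + c • e) + y = (P *ᵥ a + (-θ * uh σ a a) • e + y) + c • e by abel,
        uh_add_right, h1, zero_add, uh_smul_right] at h2
      exact mul_ne_zero (by simpa using hc0) hve h2
    · exact ⟨_, by rw [map_mul, map_neg, h.symm]; linear_combination (-(uh σ a a)) * hθ, h1⟩
  choose r hr hrv using hcand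
  have hiso : ∀ a, uh σ (P *ᵥ a + r a • e + y) (P *ᵥ a + r a • e + y) = 0 := fun a => by
    simp only [uh_add_left, uh_add_right, uh_smul_left, uh_smul_right, s.px, s.py, s.xp h, s.yp h, s.xx, s.yy, s.xy,
      s.yx h, s.pp h]
    linear_combination hr a
  have hne : ∀ a, P *ᵥ a + r a • e + y ≠ 0 := fun a h0 => hrv a (by rw [h0, uh_zero_right])
  by_contra hall
  push Not at hall
  choose β hβ hβ0 using fun a => hall _ (hne a) (hiso a) ⟨v, hv, hrv a⟩
  have hinj : Function.Injective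
      (fun a => (⟨⟨β a • (P *ᵥ a + r a • e + y), hβ a⟩,
        fun h0 => smul_ne_zero (hβ0 a) (hne a) (congrArg Subtype.val h0)⟩ : {w : A // w ≠ 0})) := by
    intro a b hab
    have h1 : β a • (P *ᵥ a + r a • e + y) = β b • (P *ᵥ b + r b • e + y) :=
      congrArg (fun w : {w : A // w ≠ 0} => w.1.1) hab
    have h2 := congrArg (fun w => uh σ w e) h1
    simp only [uh_smul_left, uh_add_left, s.px, s.xx, s.yx h, mul_zero, zero_add, add_zero, mul_one] at h2
    rw [← h2] at h1
    have h3 := congrArg ((P.map σ)ᵀ *ᵥ ·) (smul_right_injective _ (hβ0 a) h1)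
    simp only [mulVec_add, mulVec_smul, s.frame.apply, s.proj_x h, s.proj_y h, smul_zero, add_zero] at h3
    exact h3
  have h1 := Nat.card_le_card_of_injective _ hinj
  haveI := Fintype.ofFinite A
  rw [Nat.card_eq_fintype_card (α := {w : A // w ≠ 0}), Fintype.card_subtype_compl, Fintype.card_subtype_eq,
    ← Nat.card_eq_fintype_card, Nat.card_fun, hF, Nat.card_fin, ← pow_mul] at h1
  have h2 : q ^ (k + 2) ≤ q ^ (2 * k) := Nat.pow_le_pow_right (by have := two_le_q hF; omega) (by omega)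
  have h3 : 0 < q ^ (k + 2) := Nat.pow_pos (by have := two_le_q hF; omega)
  omega

theorem aSet_card_mul (hF : Nat.card F = q ^ 2) (h : UFrob σ q) (H : Subgroup (Cfsg.SU n F q)) {x y : Fin n → F}
    {P : Matrix (Fin n) (Fin m) F} (s : Split σ m x y P) :
    (aSet h H s).index * Nat.card (aSet h H s) = q ^ (2 * m) := by
  rw [AddSubgroup.index_mul_card, Nat.card_fun, hF, Nat.card_fin, ← pow_mul]

/-- The product of the indices is at most the count of cosets at the point. -/
theorem cnt_ge' (h : UFrob σ q) (H : Subgroup (Cfsg.SU n F q)) {x y : Fin n → F} {P : Matrix (Fin n) (Fin m) F}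
    (s : Split σ m x y P) (hm : 1 ≤ m) :
    (aSet h H s).index * ((ctr h H x).index * ((liftM h H s).map (scalHom s)).index) * (liftL h H s).index ≤
      cnt H x := by
  refine le_trans ?_ (cnt_ge h H s)
  rw [mul_assoc, mul_assoc, mul_assoc]
  exact Nat.mul_le_mul_left _ (Nat.mul_le_mul_left _ (index_liftM_ge h H s hm))

theorem cnt_le_index (H : Subgroup (Cfsg.SU n F q)) (x : Fin n → F) : cnt H x ≤ H.index := by
  haveI : Finite (Cfsg.SU n F q) := inferInstance
  exact Nat.card_le_card_of_injective _ Subtype.val_injective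

/-- A subgroup of `SU 4` with an invariant non-zero additive group of order at most `q ^ 4`. -/
theorem weak_four (hF : Nat.card F = q ^ 2) (h : UFrob σ q) (L : Subgroup (Cfsg.SU (2 + 2) F q))
    (A : AddSubgroup (Fin (2 + 2) → F)) (hA : A ≠ ⊥) (hcard : Nat.card A ≤ q ^ (2 + 2))
    (hinv : ∀ g ∈ L, ∀ a ∈ A, g.1.1 *ᵥ a ∈ A) : q ^ 4 + q ^ 3 ≤ L.index := by
  classical
  have hq := two_le_q hF
  obtain ⟨z, hz0, hzz, ⟨v, hv, hvz⟩, hnone⟩ := exists_point hF h le_rfl A hA hcard
  obtain ⟨y, P, s⟩ := exists_split h hz0 hzz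
  have hctr : (ctr h L z).index = q := by
    have hbot : ctr h L z = ⊥ := by
      rw [eq_bot_iff]
      intro t ht
      have ht0 : t.1 + σ t.1 = 0 := t.2
      have h1 := A.sub_mem (hinv _ ((mem_ctr h hzz).1 ht) v hv) hv
      rw [ue_apply h (Ok.zero hzz ht0), uh_zero_right, sub_zero, smul_zero, add_zero, add_sub_cancel_left] at h1
      exact Subtype.ext ((mul_eq_zero.1 (hnone _ h1)).resolve_right hvz)
    rw [hbot, AddSubgroup.index_bot, card_Sk hF h]
  have hti : ∀ a ∈ aSet h L s, ∀ b ∈ aSet h L s, uh σ a b = 0 := by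
    intro a ha b hb
    obtain ⟨c, hc, hcm⟩ := (mem_aSet h s).1 ha
    obtain ⟨d, hd, hdm⟩ := (mem_aSet h s).1 hb
    obtain ⟨w, hw, hwdef⟩ : ∃ w ∈ A, w = (ue h z (P *ᵥ a) c).1.1 *ᵥ v - v :=
      ⟨_, A.sub_mem (hinv _ hcm v hv) hv, rfl⟩
    have h1 := A.sub_mem (hinv _ hdm w hw) hw
    have hwz : uh σ w z = 0 := by
      rw [hwdef, ue_apply h hc]
      simp [uh_sub_left, uh_add_left, uh_smul_left, s.px, hzz]
    have hwb : uh σ w (P *ᵥ b) = uh σ v z * uh σ a b := by
      rw [hwdef, ue_apply h hc]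
      simp [uh_sub_left, uh_add_left, uh_smul_left, s.pp h, s.xp h]
    rw [ue_apply h hd, hwz, zero_smul, add_zero, mul_zero, zero_sub, hwb, add_sub_cancel_left] at h1
    exact (mul_eq_zero.1 (neg_eq_zero.1 (hnone _ h1))).resolve_left hvz
  have hcnt := (cnt_ge' h L s (by norm_num)).trans (cnt_le_index L z)
  rw [hctr] at hcnt
  have ht1 : 1 ≤ ((liftM h L s).map (scalHom s)).index := Nat.pos_of_ne_zero Subgroup.index_ne_zero_of_finite
  by_cases hB : aSet h L s = ⊥
  · have hl1 : 1 ≤ (liftL h L s).index := Nat.pos_of_ne_zero Subgroup.index_ne_zero_of_finite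
    rw [hB, AddSubgroup.index_bot, Nat.card_fun, hF, Nat.card_fin, ← pow_mul] at hcnt
    refine le_trans ?_ hcnt
    calc q ^ 4 + q ^ 3 ≤ q ^ 4 * q := by
          have h3 : q ^ 3 ≤ q ^ 4 := Nat.pow_le_pow_right (by omega) (by norm_num)
          have h4 : q ^ 4 * 2 ≤ q ^ 4 * q := Nat.mul_le_mul_left _ hq
          omega
      _ = q ^ (2 * 2) * (q * 1) * 1 := by ring
      _ ≤ _ := Nat.mul_le_mul (Nat.mul_le_mul_left _ (Nat.mul_le_mul_left _ ht1)) hl1
  obtain ⟨e, he, he0⟩ := (AddSubgroup.bot_or_exists_ne_zero _).resolve_left hB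
  have hee := hti e he e he
  obtain ⟨f, hff, hef, hfe, -⟩ := exists_partner h ⊥ (by simpa using he0) hee
    (fun z hz => by rw [(Submodule.mem_bot F).1 hz, uh_zero_left])
  have hline : ∀ b : Fin 2 → F, uh σ b e = 0 → b = uh σ b f • e := fun b hb => by
    obtain ⟨α, β, rfl⟩ := SU_two_span hee hef b
    rw [uh_add_left, uh_smul_left, uh_smul_left, hee, hfe] at hb
    obtain rfl : β = 0 := by linear_combination hb
    simp [uh_smul_left, hef]
  have hl : q + 1 ≤ (liftL h L s).index := by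
    refine fix_two hF h _ he0 hee fun g hg => ⟨uh σ (g.1.1 *ᵥ e) f, ?_⟩
    exact hline _ (hti _ (aSet_liftL h s hg he) e he)
  have hX : q ^ 2 ≤ (aSet h L s).index := by
    have hBcard : Nat.card (aSet h L s) ≤ q ^ 2 := by
      rw [← hF]
      refine Nat.card_le_card_of_injective (fun b : aSet h L s => uh σ b.1 f) fun b b' hbb => Subtype.ext ?_
      rw [hline b.1 (hti _ b.2 e he), hline b'.1 (hti _ b'.2 e he)]
      exact congrArg (· • e) hbb
    have h1 := aSet_card_mul hF h L s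
    refine Nat.le_of_mul_le_mul_right ?_ (Nat.pow_pos (n := 2) (show 0 < q by omega))
    calc q ^ 2 * q ^ 2 = (aSet h L s).index * Nat.card (aSet h L s) := by rw [h1]; ring
      _ ≤ _ := Nat.mul_le_mul_left _ hBcard
  refine le_trans ?_ hcnt
  calc q ^ 4 + q ^ 3 = q ^ 2 * (q * 1) * (q + 1) := by ring
    _ ≤ _ := Nat.mul_le_mul (Nat.mul_le_mul hX (Nat.mul_le_mul_left _ ht1)) hl

end CfsgLib.MinIdx.Un
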