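import Cfsg.Agent.Lib.MinIdx.UnCount

/-!
# Numerical facts on isotropic vectors in even dimension
-/

set_option autoImplicit false

namespace CfsgLib.MinIdx.Un

open CfsgLib.Classical CfsgLib.Classical.Unitary

variable {F : Type*} [Field F] [Finite F] {σ : F →+* F} {q : ℕ}

theorem iso_even (hF : Nat.card F = q ^ 2) (h : UFrob σ q) {j : ℕ} (hj : Odd j) :
    (iso σ (j + 1) : ℤ) = ((q : ℤ) ^ (j + 1) - 1) * ((q : ℤ) ^ j + 1) := by
  have hq : (q : ℤ) ≠ 0 := by have := CfsgLib.Classical.two_le_q hF; positivity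
  refine mul_left_cancel₀ hq ?_
  rw [iso_mul hF h (j + 1), Even.neg_one_pow (hj.add_odd odd_one)]
  ring

theorem iso_two (hF : Nat.card F = q ^ 2) (h : UFrob σ q) : (iso σ 2 : ℤ) = ((q : ℤ) ^ 2 - 1) * ((q : ℤ) + 1) := by
  simpa using iso_even hF h (j := 1) odd_one

theorem iso_four (hF : Nat.card F = q ^ 2) (h : UFrob σ q) :
    (iso σ 4 : ℤ) = ((q : ℤ) ^ 4 - 1) * ((q : ℤ) ^ 3 + 1) := by
  simpa using iso_even hF h (j := 3) (by decide)

/-- No index `N` is one short of the number of points when the count at a point is `q ^ (2 m + 1)`. -/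
theorem short_index_absurd {N c o i d M : ℕ} (hq : 3 ≤ q) (hm : 2 ≤ M) (hd : d + 1 = q ^ 2)
    (hc : c = q ^ (2 * M + 1)) (hmul : c * ((N + 1) * d) = N * o) (hi : q ∣ i + 1)
    (hN : N * d = c * d + q ^ 2 * i) : False := by
  have h1 : (N : ℤ) ∣ (c : ℤ) * d := by
    refine ⟨(o : ℤ) - c * d, ?_⟩
    have h2 : (c : ℤ) * (((N : ℤ) + 1) * d) = N * o := by exact_mod_cast hmul
    linear_combination h2
  obtain ⟨K, hK⟩ := hi
  obtain ⟨R, hR⟩ : q ^ 2 ∣ N := by
    have h2 : q ^ 2 ∣ N * d := by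
      rw [hN, hc]
      exact Nat.dvd_add (dvd_mul_of_dvd_left (pow_dvd_pow q (by omega)) _) (dvd_mul_right _ _)
    refine Nat.Coprime.dvd_of_dvd_mul_right ?_ h2
    rw [← hd]
    simp
  have hdi : (d : ℤ) + 1 = (q : ℤ) ^ 2 := by exact_mod_cast hd
  have hRd : (R : ℤ) * d = (q : ℤ) ^ (2 * M - 1) * d + i := by
    have h2 : (N : ℤ) * d = c * d + q ^ 2 * i := by exact_mod_cast hN
    have hpw : (q : ℤ) ^ (2 * M + 1) = (q : ℤ) ^ 2 * q ^ (2 * M - 1) := by
      rw [← pow_add]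
      congr 1
      omega
    rw [hc, hR] at h2
    push_cast at h2
    rw [hpw] at h2
    refine mul_left_cancel₀ (pow_ne_zero 2 (show (q : ℤ) ≠ 0 by positivity)) ?_
    linear_combination h2
  have hqR : IsCoprime (R : ℤ) q := by
    refine ⟨-(d : ℤ), (q : ℤ) ^ (2 * M - 2) * d + K, ?_⟩
    have hK' : (i : ℤ) + 1 = q * K := by exact_mod_cast hK
    have hpw : (q : ℤ) ^ (2 * M - 1) = (q : ℤ) ^ (2 * M - 2) * q := by
      rw [← pow_succ]
      congr 1
      omega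
    rw [hpw] at hRd
    linear_combination -hRd - hK'
  have h3 : (R : ℤ) ∣ (d : ℤ) * (q : ℤ) ^ (2 * M + 1) := by
    rw [hR, hc] at h1
    push_cast at h1
    rw [mul_comm (d : ℤ)]
    exact (dvd_mul_left _ _).trans h1
  have h4 : R ∣ d := Int.natCast_dvd_natCast.1 (hqR.pow_right.dvd_of_dvd_mul_right h3)
  have h5 : R ≤ d := Nat.le_of_dvd (by nlinarith) h4
  have h6 : q ^ 3 ≤ q ^ (2 * M - 1) := Nat.pow_le_pow_right (by omega) (by omega)
  have h7 : q ^ (2 * M - 1) * d ≤ R * d := by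
    have : ((q ^ (2 * M - 1) * d : ℕ) : ℤ) ≤ ((R * d : ℕ) : ℤ) := by
      push_cast
      rw [hRd]
      exact le_add_of_nonneg_right (Int.natCast_nonneg _)
    exact_mod_cast this
  have h8 : q ^ (2 * M - 1) ≤ R := Nat.le_of_mul_le_mul_right h7 (by nlinarith)
  nlinarith

end CfsgLib.MinIdx.Un
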