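import Cfsg.Agent.Lib.MinIdx.Un4Levi
import Cfsg.Agent.Lib.MinIdx.UnNum

/-!
# A point without its whole transvection group, for a subgroup of small index of `SU 4`
-/

set_option autoImplicit false

namespace CfsgLib.MinIdx.Un

open Matrix CfsgLib.Classical CfsgLib.Classical.Unitary

variable {F : Type*} [Field F] [Finite F] {σ : F →+* F} {q : ℕ}

section Pairs

variable {n m : ℕ} {x y : Fin n → F} {P : Matrix (Fin n) (Fin m) F}

theorem aSet_act (h : UFrob σ q) {H : Subgroup (Cfsg.SU n F q)} (s : Split σ m x y P) {g : Mst σ q x y}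
    (hg : g ∈ liftM h H s) {a : Fin m → F} (ha : a ∈ aSet h H s) : act σ x y P g.1 a ∈ aSet h H s :=
  aSet_invariant h s hg ha

/-- An element of the root set and the orbit of its class. -/
theorem orbit_count (h : UFrob σ q) (H : Subgroup (Cfsg.SU n F q)) (s : Split σ m x y P) {v : Fin m → F}
    (hv : v ∈ aSet h H s) (hv0 : v ≠ 0) (O : Set (Fin m → F))
    (htr : ∀ w ∈ O, ∃ g : Cfsg.SU n F q, g ∈ Mst σ q x y ∧ act σ x y P g v = w) :
    Nat.card O ≤ (liftM h H s).index * (Nat.card (aSet h H s) - 1) := by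
  classical
  haveI := Fintype.ofFinite (aSet h H s)
  have hA : Nat.card {a : aSet h H s // a ≠ 0} = Nat.card (aSet h H s) - 1 := by
    rw [Nat.card_eq_fintype_card, Nat.card_eq_fintype_card, Fintype.card_subtype_compl, Fintype.card_subtype_eq]
  have hex : ∀ w : O, ∃ p : (Mst σ q x y ⧸ liftM h H s) × {a : aSet h H s // a ≠ 0},
      act σ x y P p.1.out.1 p.2.1.1 = w.1 := fun w => by
    obtain ⟨g, hg, hgv⟩ := htr w.1 w.2
    obtain ⟨c, hc⟩ : ∃ c : Mst σ q x y ⧸ liftM h H s, c = QuotientGroup.mk ⟨g, hg⟩ := ⟨_, rfl⟩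
    obtain ⟨k, hk⟩ : ∃ k : Mst σ q x y, k = c.out⁻¹ * ⟨g, hg⟩ := ⟨_, rfl⟩
    have hkm : k ∈ liftM h H s := hk ▸ QuotientGroup.eq.1 ((QuotientGroup.out_eq' c).trans hc)
    have hmul : c.out.1 * k.1 = g := by rw [hk]; simp
    refine ⟨(c, ⟨⟨_, aSet_act h s hkm hv⟩, fun h0 => hv0 ?_⟩), ?_⟩
    · refine act_inj h s k.2 ?_
      have h2 := act_smul (σ := σ) (x := x) (y := y) (P := P) k.1 0 v
      rw [zero_smul, zero_smul] at h2
      rw [h2]
      exact congrArg Subtype.val h0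
    · show act σ x y P c.out.1 (act σ x y P k.1 v) = w.1
      rw [← act_mul h s c.out.2 k.2, hmul, hgv]
  choose f hf using hex
  rw [← hA, Subgroup.index, ← Nat.card_prod]
  exact Nat.card_le_card_of_injective f fun w w' he => Subtype.ext (by rw [← hf w, ← hf w', he])

/-- When the norm separates the torus part, that part is smaller than the index of the centre. -/
theorem norm_classes (h : UFrob σ q) {H : Subgroup (Cfsg.SU n F q)} (s : Split σ m x y P) (hc : ctr h H x ≠ ⊤)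
    (hinj : ∀ α ∈ (liftM h H s).map (scalHom s), ∀ β ∈ (liftM h H s).map (scalHom s),
      (α : F) * σ α = (β : F) * σ β → α = β) :
    Nat.card ((liftM h H s).map (scalHom s)) ≤ (ctr h H x).index - 1 := by
  classical
  set C := ctr h H x
  set T := (liftM h H s).map (scalHom s)
  obtain ⟨θ, hθ⟩ : ∃ θ, θ ∉ C := by
    by_contra hall
    push Not at hall
    exact hc (eq_top_iff.2 fun t _ => hall t)
  have hN : ∀ α ∈ T, ∀ t ∈ C, ∃ hk, (⟨(α : F) * σ α * t.1, hk⟩ : Sk σ) ∈ C := by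
    rintro _ ⟨g, hg, rfl⟩ t ht
    exact ctr_scale h s hg ht
  have hθ0 : θ.1 + σ θ.1 = 0 := θ.2
  have hsk : ∀ α : Fˣ, (α : F) * σ α * θ.1 + σ ((α : F) * σ α * θ.1) = 0 := fun α => by
    rw [map_mul, map_mul, h.invol]
    linear_combination ((α : F) * σ α) * hθ0
  let cl : T → (Sk σ ⧸ C) := fun α => QuotientAddGroup.mk ⟨(α.1 : F) * σ α.1 * θ.1, hsk α.1⟩
  have hcl : ∀ α, cl α ≠ 0 := fun α h0 => by
    obtain ⟨hk, hmem⟩ := hN α.1⁻¹ (T.inv_mem α.2) _ ((QuotientAddGroup.eq_zero_iff _).1 h0)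
    refine hθ ?_
    convert hmem using 1
    refine Subtype.ext ?_
    show θ.1 = ((α.1⁻¹ : Fˣ) : F) * σ ((α.1⁻¹ : Fˣ) : F) * ((α.1 : F) * σ α.1 * θ.1)
    rw [Units.val_inv_eq_inv_val, map_inv₀]
    have h0' : (σ (α.1 : F)) ≠ 0 := by simp
    field_simp
  have hker : ∀ α β : T, cl α = cl β → α = β := by
    intro α β he
    refine Subtype.ext (hinj _ α.2 _ β.2 ?_)
    by_contra hne
    obtain ⟨κ, hκ⟩ : ∃ κ, κ = (β.1 : F) * σ β.1 - (α.1 : F) * σ α.1 := ⟨_, rfl⟩
    have hκ0 : κ ≠ 0 := by rw [hκ]; exact sub_ne_zero.2 (Ne.symm hne)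
    have hκσ : σ κ = κ := by rw [hκ, map_sub, map_mul, map_mul, h.invol, h.invol]; ring
    let mul : C → C := fun t => ⟨⟨κ * t.1.1, by
        have := t.1.2
        rw [mem_Sk] at this ⊢
        rw [map_mul, hκσ]
        linear_combination κ * this⟩, by
      obtain ⟨_, h1⟩ := hN α.1 α.2 t.1 t.2
      obtain ⟨_, h2⟩ := hN β.1 β.2 t.1 t.2
      convert C.sub_mem h2 h1 using 1
      refine Subtype.ext ?_
      show κ * t.1.1 = _ - _
      rw [hκ]; ring⟩
    have hinj' : Function.Injective mul := fun t t' ht =>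
      Subtype.ext (Subtype.ext (mul_left_cancel₀ hκ0 (congrArg (fun u : C => u.1.1) ht)))
    obtain ⟨t, ht⟩ := (Finite.injective_iff_surjective.1 hinj') ⟨⟨κ * θ.1, by
        rw [mem_Sk, map_mul, hκσ]
        linear_combination κ * hθ0⟩, by
      have h1 := QuotientAddGroup.eq.1 he
      convert h1 using 1
      refine Subtype.ext ?_
      show κ * θ.1 = -((α.1 : F) * σ α.1 * θ.1) + (β.1 : F) * σ β.1 * θ.1
      rw [hκ]; ring⟩
    have e : t.1 = θ := Subtype.ext (mul_left_cancel₀ hκ0 (congrArg (fun u : C => u.1.1) ht))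
    exact hθ (e ▸ t.2)
  have hz : Nat.card {c : Sk σ ⧸ C // c ≠ 0} = C.index - 1 := by
    haveI := Fintype.ofFinite (Sk σ ⧸ C)
    rw [AddSubgroup.index, Nat.card_eq_fintype_card, Nat.card_eq_fintype_card, Fintype.card_subtype_compl,
      Fintype.card_subtype_eq]
  rw [← hz]
  exact Nat.card_le_card_of_injective (fun α => ⟨cl α, hcl α⟩) fun α β he => hker α β (congrArg Subtype.val he)

end Pairs

section Four

variable {x y : Fin (2 + 2) → F} {P : Matrix (Fin (2 + 2)) (Fin 2) F}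

theorem card_aniso (hF : Nat.card F = q ^ 2) (h : UFrob σ q) :
    (q ^ 2 - 1) * (q ^ 2 - q) ≤ Nat.card {w : Fin 2 → F | uh σ w w ≠ 0} := by
  classical
  have hq := two_le_q hF
  have h1 : Nat.card {w : Fin 2 → F // uh σ w w = 0} ≤ iso σ 2 + 1 := by
    rw [iso, ← Finite.card_option]
    refine Nat.card_le_card_of_injective
      (fun w => if hw : w.1 = 0 then none else some ⟨w.1, hw, w.2⟩) fun a b hab => Subtype.ext ?_
    by_cases ha : a.1 = 0 <;> by_cases hb : b.1 = 0 <;> simp [ha, hb] at hab ⊢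
    exact hab
  have h2 : Nat.card {w : Fin 2 → F // uh σ w w = 0} + Nat.card {w : Fin 2 → F // ¬ uh σ w w = 0} = q ^ 4 := by
    rw [← Nat.card_sum, Nat.card_congr (Equiv.sumCompl _), Nat.card_fun, hF, Nat.card_fin, ← pow_mul]
  show _ ≤ Nat.card {w : Fin 2 → F // ¬ uh σ w w = 0}
  have h3 := iso_two hF h
  have hq2 : q ≤ q ^ 2 := Nat.le_self_pow (by norm_num) q
  zify [Nat.one_le_pow 2 q (by omega), hq2] at h1 h2 ⊢
  rw [h3] at h1
  linarith

theorem skew_of_iso (h : UFrob σ q) {A : AddSubgroup (Fin 2 → F)} (hiso : ∀ a ∈ A, uh σ a a = 0)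
    {a b : Fin 2 → F} (ha : a ∈ A) (hb : b ∈ A) : uh σ b a = -uh σ a b := by
  have h1 := hiso _ (A.add_mem ha hb)
  simp only [uh_add_left, uh_add_right, hiso a ha, hiso b hb] at h1
  linear_combination h1

theorem coords (h : UFrob σ q) {A : AddSubgroup (Fin 2 → F)} (hiso : ∀ a ∈ A, uh σ a a = 0) {a b : Fin 2 → F}
    (ha : a ∈ A) (hb : b ∈ A) (hab : uh σ a b ≠ 0) {d : Fin 2 → F} (hd : d ∈ A) :
    ∃ r s : F, σ r = r ∧ σ s = s ∧ d = r • a + s • b := by
  obtain ⟨α, β, rfl⟩ := SU_two_span (u := a) (v := (σ (uh σ a b))⁻¹ • b) (hiso a ha)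
    (by rw [uh_smul_right, map_inv₀, h.invol, inv_mul_cancel₀ hab]) d
  have hba := skew_of_iso h hiso ha hb
  have hc : σ (uh σ a b) = -uh σ a b := by rw [h.symm, hba]
  have h1 := skew_of_iso h hiso hd hb
  have h2 := skew_of_iso h hiso hd ha
  rw [← h.symm _ b] at h1
  rw [← h.symm _ a] at h2
  simp only [uh_add_left, uh_smul_left, hiso a ha, hiso b hb, hba, mul_zero, add_zero, zero_add, map_mul, map_neg, hc,
    neg_neg] at h1 h2
  refine ⟨α, β * (σ (uh σ a b))⁻¹, mul_right_cancel₀ hab ?_, mul_right_cancel₀ hab ?_, by rw [smul_smul]⟩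
  · linear_combination -h1
  · rw [map_mul, map_inv₀, h.invol, hc, inv_neg, mul_neg, neg_mul, inv_mul_cancel_right₀ hab,
      inv_mul_cancel_right₀ hab]
    simp [hc, hab] at h2
    linear_combination h2

theorem torus_sq (hF : Nat.card F = q ^ 2) (h : UFrob σ q) {H : Subgroup (Cfsg.SU (2 + 2) F q)}
    (s : Split σ 2 x y P) (hiso : ∀ a ∈ aSet h H s, uh σ a a = 0) {a b : Fin 2 → F} (ha : a ∈ aSet h H s)
    (hb : b ∈ aSet h H s) (hab : uh σ a b ≠ 0) {α : Fˣ} (hα : α ∈ (liftM h H s).map (scalHom s)) :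
    σ (α : F) ^ 2 = (α : F) ^ 2 := by
  obtain ⟨g, hg, rfl⟩ := hα
  rw [scalHom_val]
  obtain ⟨r, t, hr, ht, he⟩ := coords h hiso ha hb hab (aSet_act h s hg ha)
  obtain ⟨u, v, hu, hv, hf⟩ := coords h hiso ha hb hab (aSet_act h s hg hb)
  have hba := skew_of_iso h hiso ha hb
  have h1 := act_uh h s g.2 a b
  have h2 := act_om h s g.2 a b
  have hl := (Mst_x s g.2).1
  obtain ⟨l, hl'⟩ : ∃ l, l = scal σ x y g.1 := ⟨_, rfl⟩
  rw [← hl'] at h1 h2 hl ⊢
  rw [he, hf] at h1 h2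
  simp only [uh_add_left, uh_add_right, uh_smul_left, uh_smul_right, hiso a ha, hiso b hb, hu, hv, hba] at h1
  have h3 : r * v - t * u = l * σ l := mul_right_cancel₀ hab (by linear_combination h1)
  have h4 : om (r • a + t • b) (u • a + v • b) = (r * v - t * u) * om a b := by simp [om]; ring
  have h5 : om a b ≠ 0 := fun h0 => hab (by
    have h6 : uh σ a a * uh σ b b - uh σ a b * uh σ b a = om a b * σ (om a b) := by
      simp [om, uh_two]; ring
    rw [h0, hiso a ha, hba, zero_mul, zero_mul, zero_sub, neg_eq_zero, mul_neg, neg_eq_zero, mul_self_eq_zero] at h6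
    exact h6)
  rw [h4, h3] at h2
  have h7 : l * (l * σ l) = σ l ^ 3 := mul_right_cancel₀ h5 (by linear_combination h2)
  exact mul_left_cancel₀ (show σ l ≠ 0 by simpa using hl) (by linear_combination -h7)

theorem card_kerPow (hF : Nat.card F = q ^ 2) {d : ℕ} (hd : 0 < d) (T : Subgroup Fˣ)
    (hT : ∀ α ∈ T, (α : F) ^ d = 1) : Nat.card T ≤ d := by
  have h1 : T ≤ (powMonoidHom d : Fˣ →* Fˣ).ker := fun α hα => by
    rw [MonoidHom.mem_ker, powMonoidHom_apply]
    exact Units.ext (by simpa using hT α hα)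
  refine (Nat.card_le_card_of_injective _ (Subgroup.inclusion_injective h1)).trans ?_
  rw [IsCyclic.card_powMonoidHom_ker]
  exact Nat.le_of_dvd hd (Nat.gcd_dvd_right _ _)

/-- Over a field of odd order, a non-collinear root set has at most `q` elements. -/
theorem card_le_q (hF : Nat.card F = q ^ 2) (h : UFrob σ q) {H : Subgroup (Cfsg.SU (2 + 2) F q)}
    (s : Split σ 2 x y P) (hc : ctr h H x ≠ ⊤) (h2 : (2 : F) ≠ 0) (hiso : ∀ a ∈ aSet h H s, uh σ a a = 0)
    {a b : Fin 2 → F} (ha : a ∈ aSet h H s) (hb : b ∈ aSet h H s) (hab : uh σ a b ≠ 0) :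
    Nat.card (aSet h H s) ≤ q := by
  classical
  let K := σ.eqLocusField (RingHom.id F)
  have hK : ∀ r : K, σ (r : F) = r := fun r => r.2
  have hba := skew_of_iso h hiso ha hb
  have hc0 : σ (uh σ a b) = -uh σ a b := by rw [h.symm, hba]
  let φ : K × K →+ (Fin 2 → F) := AddMonoidHom.mk' (fun p => (p.1 : F) • a + (p.2 : F) • b) fun p r => by
    simp [add_smul]; abel
  let β : K × K → K × K → Sk σ := fun p r => ⟨uh σ (φ p) (φ r) - uh σ (φ r) (φ p), by
    rw [mem_Sk, map_sub, h.symm, h.symm]; ring⟩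
  have hle : aSet h H s ≤ φ.range := fun d hd => by
    obtain ⟨r, t, hr, ht, rfl⟩ := coords h hiso ha hb hab hd
    exact ⟨(⟨r, hr⟩, ⟨t, ht⟩), rfl⟩
  have key := card_mul_self_le β
    (fun p v w => Subtype.ext (by
      show uh σ (φ p) (φ (v + w)) - uh σ (φ (v + w)) (φ p) = _ + _
      rw [map_add, uh_add_right, uh_add_left]; ring))
    (fun p p' v => Subtype.ext (by
      show uh σ (φ (p + p')) (φ v) - uh σ (φ v) (φ (p + p')) = _ + _
      rw [map_add, uh_add_right, uh_add_left]; ring))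
    (ctr h H x) hc ((aSet h H s).comap φ)
    (fun p hp r hr => by
      convert comm_mem h s.xx hp hr using 1
      refine Subtype.ext ?_
      show uh σ (φ p) (φ r) - uh σ (φ r) (φ p) = uh σ (P *ᵥ φ p) (P *ᵥ φ r) - uh σ (P *ᵥ φ r) (P *ᵥ φ p)
      rw [s.pp h, s.pp h])
    (fun p hp c => by
      have hcs : σ c.1 = -c.1 := eq_neg_of_add_eq_zero_right c.2
      have hex : ∀ k : F, k ≠ 0 → σ k = k → ∃ e : K, (e : F) = c.1 / (2 * uh σ a b * k) := fun k hk hks =>
        ⟨⟨_, show σ _ = _ by rw [map_div₀, map_mul, map_mul, hcs, hc0, hks, map_ofNat, mul_neg, neg_mul, neg_div_neg_eq]; rfl⟩, rfl⟩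
      by_cases hp1 : (p.1 : F) = 0
      · have hp2 : (p.2 : F) ≠ 0 := fun h0 => hp (Prod.ext (Subtype.ext hp1) (Subtype.ext h0))
        obtain ⟨e, he⟩ := hex _ hp2 (hK _)
        refine ⟨(-e, 0), Subtype.ext ?_⟩
        show uh σ (φ p) (φ (-e, 0)) - uh σ (φ (-e, 0)) (φ p) = c.1
        simp [φ, uh_add_left, uh_add_right, uh_smul_left, uh_smul_right, hiso a ha, hiso b hb, hba, hp1, hK, he,
          uh_neg_left, uh_neg_right, hcs, hc0, map_ofNat]
        field_simp
        ring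
      · obtain ⟨e, he⟩ := hex _ hp1 (hK _)
        refine ⟨(0, e), Subtype.ext ?_⟩
        show uh σ (φ p) (φ (0, e)) - uh σ (φ (0, e)) (φ p) = c.1
        simp [φ, uh_add_left, uh_add_right, uh_smul_left, uh_smul_right, hiso a ha, hiso b hb, hba, hK, he, hcs, hc0,
          map_ofNat]
        field_simp
        ring)
  have hcard : Nat.card (K × K) = q ^ 2 := by rw [Nat.card_prod, fixed_card_eq hF h.pow, sq]
  have h1 : Nat.card (aSet h H s) ≤ Nat.card ((aSet h H s).comap φ) := by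
    refine Nat.card_le_card_of_surjective
      (fun p : (aSet h H s).comap φ => (⟨φ p.1, p.2⟩ : aSet h H s)) fun d => ?_
    obtain ⟨p, hp⟩ := hle d.2
    exact ⟨⟨p, show φ p ∈ aSet h H s by rw [hp]; exact d.2⟩, Subtype.ext hp⟩
  rw [hcard, sq] at key
  exact Nat.mul_self_le_mul_self_iff.1 ((Nat.mul_le_mul h1 h1).trans key)

end Four

end CfsgLib.MinIdx.Un
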