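import Cfsg.Agent.Lib.MinIdx.UnWeak

/-!
# The action of the stabiliser of a pair on the two-dimensional complement
-/

set_option autoImplicit false

namespace CfsgLib.MinIdx.Un

open Matrix CfsgLib.Classical CfsgLib.Classical.Unitary

variable {F : Type*} [Field F] {σ : F →+* F} {q n m : ℕ} {x y : Fin n → F}

/-- The action of the stabiliser of a pair on the root coordinates. -/
def act (σ : F →+* F) (x y : Fin n → F) (P : Matrix (Fin n) (Fin m) F) (g : Cfsg.SU n F q) (a : Fin m → F) :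
    Fin m → F :=
  σ (scal σ x y g) • lin σ P g a

variable {P : Matrix (Fin n) (Fin m) F}

theorem lin_add (g : Cfsg.SU n F q) (a b : Fin m → F) : lin σ P g (a + b) = lin σ P g a + lin σ P g b := by
  simp [lin, mulVec_add]

theorem lin_smul (g : Cfsg.SU n F q) (c : F) (a : Fin m → F) : lin σ P g (c • a) = c • lin σ P g a := by
  simp [lin, mulVec_smul]

theorem act_add (g : Cfsg.SU n F q) (a b : Fin m → F) : act σ x y P g (a + b) = act σ x y P g a + act σ x y P g b := by
  rw [act, lin_add, smul_add]; rfl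

theorem act_smul (g : Cfsg.SU n F q) (c : F) (a : Fin m → F) : act σ x y P g (c • a) = c • act σ x y P g a := by
  rw [act, lin_smul, smul_comm]; rfl

theorem act_mul (h : UFrob σ q) (s : Split σ m x y P) {g k : Cfsg.SU n F q} (hg : g ∈ Mst σ q x y)
    (hk : k ∈ Mst σ q x y) (a : Fin m → F) : act σ x y P (g * k) a = act σ x y P g (act σ x y P k a) := by
  rw [act, act, act, scal_mul s hg hk, lin_smul, map_mul, smul_smul, lin, su_mul_mulVec, Mst_p h s hk]
  rfl

theorem act_one (s : Split σ m x y P) (a : Fin m → F) : act σ x y P (1 : Cfsg.SU n F q) a = a := by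
  rw [act, lin, scal, su_one_mulVec, su_one_mulVec, s.xy, map_one, one_smul, s.frame.apply]

theorem act_uh (h : UFrob σ q) (s : Split σ m x y P) {g : Cfsg.SU n F q} (hg : g ∈ Mst σ q x y) (a b : Fin m → F) :
    uh σ (act σ x y P g a) (act σ x y P g b) = scal σ x y g * σ (scal σ x y g) * uh σ a b := by
  rw [act, act, uh_smul_left, uh_smul_right, h.invol, ← s.pp h, ← Mst_p h s hg, ← Mst_p h s hg, su_uh h, s.pp h]
  ring

theorem act_inj (h : UFrob σ q) (s : Split σ m x y P) {g : Cfsg.SU n F q} (hg : g ∈ Mst σ q x y) {a b : Fin m → F}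
    (he : act σ x y P g a = act σ x y P g b) : a = b := by
  have h1 := congrArg (act σ x y P g⁻¹) he
  rwa [← act_mul h s ((Mst σ q x y).inv_mem hg) hg, ← act_mul h s ((Mst σ q x y).inv_mem hg) hg, inv_mul_cancel,
    act_one s, act_one s] at h1

theorem act_ext (h : UFrob σ q) (s : Split σ m x y P) (M : Cfsg.SU m F q) (a : Fin m → F) :
    act σ x y P (ext h s M) a = M.1.1 *ᵥ a := by
  rw [act, scal_ext h s, map_one, one_smul, lin_ext]

theorem act_tor (s : Split σ m x y P) {g : Cfsg.SU n F q} {u : Fin m → F} {α : F} (hs : scal σ x y g = α)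
    (hp : ∀ a, g.1.1 *ᵥ (P *ᵥ a) = P *ᵥ (a + ((σ α / α - 1) * uh σ a u) • u)) (a : Fin m → F) :
    act σ x y P g a = σ α • (a + ((σ α / α - 1) * uh σ a u) • u) := by
  rw [act, hs, lin, hp, s.frame.apply]

/-- The area form. -/
def om (a b : Fin 2 → F) : F := a 0 * b 1 - a 1 * b 0

theorem uh_two (a b : Fin 2 → F) : uh σ a b = a 0 * σ (b 0) + a 1 * σ (b 1) := by
  simp [uh, dotProduct, Fin.sum_univ_two]

theorem om_su (M : Cfsg.SU 2 F q) (a b : Fin 2 → F) : om (M.1.1 *ᵥ a) (M.1.1 *ᵥ b) = om a b := by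
  have h1 := M.1.2
  rw [det_fin_two] at h1
  simp only [om, mulVec, dotProduct, Fin.sum_univ_two]
  linear_combination (a 0 * b 1 - a 1 * b 0) * h1

theorem om_rank_one (u : Fin 2 → F) (c : F) (a b : Fin 2 → F) :
    om (a + (c * uh σ a u) • u) (b + (c * uh σ b u) • u) = (1 + c * uh σ u u) * om a b := by
  simp only [om, uh_two, Pi.add_apply, Pi.smul_apply, smul_eq_mul]
  ring

theorem om_smul (r : F) (a b : Fin 2 → F) : om (r • a) (r • b) = r * r * om a b := by
  simp [om]; ring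

section Two

variable {P : Matrix (Fin n) (Fin 2) F}

theorem act_om (h : UFrob σ q) (s : Split σ 2 x y P) {g : Cfsg.SU n F q} (hg : g ∈ Mst σ q x y) (a b : Fin 2 → F) :
    scal σ x y g * om (act σ x y P g a) (act σ x y P g b) = σ (scal σ x y g) ^ 3 * om a b := by
  obtain ⟨hl, -⟩ := Mst_x s hg
  have hu := uh_single_self h (0 : Fin 2)
  obtain ⟨t, ht, hst, -, hpt⟩ := exists_tor h s hu hl
  have hk := (Mst σ q x y).mul_mem ((Mst σ q x y).inv_mem ht) hg
  have hk1 : scal σ x y (t⁻¹ * g) = 1 := by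
    have h3 := scal_mul s ht hk
    rw [mul_inv_cancel_left, hst] at h3
    exact mul_left_cancel₀ hl (by rw [mul_one, ← h3])
  obtain ⟨M, hM⟩ := exists_ext h s hk hk1
  have he : ∀ v, act σ x y P g v = σ (scal σ x y g) • (M.1.1 *ᵥ v +
      ((σ (scal σ x y g) / scal σ x y g - 1) * uh σ (M.1.1 *ᵥ v) (Pi.single 0 1)) • Pi.single 0 1) := fun v => by
    conv_lhs => rw [show g = t * ext h s M by rw [hM, mul_inv_cancel_left]]
    rw [act_mul h s ht (ext_mem h s M), act_ext h s, act_tor s hst hpt]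
  rw [he, he, om_smul, om_rank_one, om_su, hu]
  field_simp
  ring

/-- An element of `SU 2` with a prescribed first column. -/
theorem exists_su2 (h : UFrob σ q) {α β : F} (hab : α * σ α + β * σ β = 1) :
    ∃ M : Cfsg.SU 2 F q, M.1.1 = !![α, -σ β; β, σ α] := by
  have hd : (!![α, -σ β; β, σ α] : Matrix (Fin 2) (Fin 2) F).det = 1 := by
    rw [det_fin_two_of]; linear_combination hab
  refine ⟨⟨⟨_, hd⟩, mem_SU_iff.2 fun u v => ?_⟩, rfl⟩
  rw [h.hermForm_eq, h.hermForm_eq, uh_two, uh_two]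
  simp [mulVec, dotProduct, Fin.sum_univ_two, h.invol]
  linear_combination (u 0 * σ (v 0) + u 1 * σ (v 1)) * hab

theorem exists_su2_map (h : UFrob σ q) {v w : Fin 2 → F} (hv : uh σ v v ≠ 0) (hvw : uh σ w w = uh σ v v) :
    ∃ M : Cfsg.SU 2 F q, M.1.1 *ᵥ v = w := by
  have hk : σ (uh σ v v) = uh σ v v := h.symm v v
  obtain ⟨M, hM⟩ := exists_su2 h (α := (w 0 * σ (v 0) + σ (w 1) * v 1) / uh σ v v)
    (β := (w 1 * σ (v 0) - σ (w 0) * v 1) / uh σ v v) (by
    rw [map_div₀, map_div₀, hk, map_add, map_sub, map_mul, map_mul, map_mul, map_mul, h.invol, h.invol, h.invol]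
    field_simp
    rw [uh_two, uh_two] at hvw
    rw [uh_two]
    linear_combination (v 0 * σ (v 0) + v 1 * σ (v 1)) * hvw)
  refine ⟨M, ?_⟩
  have hd := uh_two (σ := σ) v v
  obtain ⟨K, hK⟩ : ∃ K, K = uh σ v v := ⟨_, rfl⟩
  rw [← hK] at hM hk hv hd
  funext i
  fin_cases i <;>
    simp [hM, mulVec, dotProduct, Fin.sum_univ_two, map_div₀, hk, h.invol] <;>
    field_simp <;> rw [hd] <;> ring

theorem exists_act_aniso [Finite F] (h : UFrob σ q) (s : Split σ 2 x y P) {v w : Fin 2 → F} (hv : uh σ v v ≠ 0)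
    (hw : uh σ w w ≠ 0) : ∃ g : Cfsg.SU n F q, g ∈ Mst σ q x y ∧ act σ x y P g v = w := by
  obtain ⟨l, hl⟩ := CfsgLib.Geometry.exists_norm_eq h.ne h.invol (c := uh σ w w / uh σ v v)
    (by rw [map_div₀, h.symm, h.symm])
  have hl0 : l ≠ 0 := fun h0 => by
    rw [h0, zero_mul] at hl
    exact div_ne_zero hw hv hl.symm
  obtain ⟨t, ht, hst, -, hpt⟩ := exists_tor h s (uh_single_self h (0 : Fin 2)) hl0
  obtain ⟨v', hv'⟩ : ∃ v', act σ x y P t v' = w :=
    ⟨act σ x y P t⁻¹ w, by rw [← act_mul h s ht ((Mst σ q x y).inv_mem ht), mul_inv_cancel, act_one s]⟩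
  obtain ⟨M, hM⟩ := exists_su2_map h hv (w := v') (by
    have h1 := act_uh h s ht v' v'
    rw [hv', hst, hl] at h1
    field_simp at h1
    linear_combination -h1)
  exact ⟨t * ext h s M, (Mst σ q x y).mul_mem ht (ext_mem h s M), by
    rw [act_mul h s ht (ext_mem h s M), act_ext h s, hM, hv']⟩

/-- A scalar on the root coordinates, of norm one on the centre. -/
theorem exists_act_scalar [Finite F] (hF : Nat.card F = q ^ 2) (h : UFrob σ q) (s : Split σ 2 x y P) :
    ∃ (g : Cfsg.SU n F q) (k : F), g ∈ Mst σ q x y ∧ scal σ x y g * σ (scal σ x y g) = 1 ∧ k ≠ 1 ∧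
      ∀ a, act σ x y P g a = k • a := by
  obtain ⟨ν, hν, hν2⟩ := exists_normOne_sq_ne_one hF
  rw [pow_succ', ← h.pow] at hν
  have hν0 : ν ≠ 0 := fun h0 => by simp [h0] at hν
  have hσ : σ ν = ν⁻¹ := eq_inv_of_mul_eq_one_right hν
  obtain ⟨M, hM⟩ := exists_su2 h (α := ν) (β := 0) (by simpa using hν)
  obtain ⟨t, ht, hst, -, hpt⟩ := exists_tor h s (uh_single_self h (0 : Fin 2)) hν0
  refine ⟨t * ext h s M, σ ν * σ ν, (Mst σ q x y).mul_mem ht (ext_mem h s M), ?_, ?_, fun a => ?_⟩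
  · rw [scal_mul s ht (ext_mem h s M), scal_ext h s, mul_one, hst, hν]
  · rw [hσ, ← mul_inv, Ne, inv_eq_one, ← _root_.sq]
    exact hν2
  · rw [act_mul h s ht (ext_mem h s M), act_ext h s, act_tor s hst hpt, hM]
    funext i
    fin_cases i <;>
      simp [mulVec, dotProduct, Fin.sum_univ_two, uh_two, hσ, Matrix.vecHead, Matrix.vecTail] <;> field_simp <;> ring

end Two

end CfsgLib.MinIdx.Un
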