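import Cfsg.Agent.Lib.MinIdx.Un4Nonfull

/-!
# A root set filling an isotropic line yields a transvection at another point
-/

set_option autoImplicit false

namespace CfsgLib.MinIdx.Un

open Matrix CfsgLib.Classical CfsgLib.Classical.Unitary

variable {F : Type*} [Field F] [Finite F] {σ : F →+* F} {q n m : ℕ} {x y : Fin n → F}
  {P : Matrix (Fin n) (Fin m) F}

omit [Finite F] in
theorem central_unique (h : UFrob σ q) {H : Subgroup (Cfsg.SU n F q)} {x w : Fin n → F} (hC : ctr h H x = ⊥)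
    {c d : F} (hc : Ok σ x w c) (hcm : ue h x w c ∈ H) (hd : Ok σ x w d) (hdm : ue h x w d ∈ H) : c = d := by
  have h1 := H.mul_mem hcm (H.inv_mem hdm)
  have h2 := hc.add h (hd.inv_ok h)
  rw [hd.inv h, hc.mul h (hd.inv_ok h), add_neg_cancel] at h1
  rw [add_neg_cancel] at h2
  have h3 : c + σ d - uh σ (-w) w + σ (c + σ d - uh σ (-w) w) = 0 := by simpa [uh_zero_left] using h2.2.2
  have h4 := (mem_ctr h hc.1 (c := ⟨_, h3⟩)).2 h1
  rw [hC, AddSubgroup.mem_bot] at h4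
  have h5 : c + σ d - uh σ (-w) w = 0 := congrArg Subtype.val h4
  rw [uh_neg_left] at h5
  linear_combination h5 - hd.2.2

omit [Finite F] in
/-- Conjugating an element of the root group by the lift of an element of the stabiliser of the pair. -/
theorem lift_conj (h : UFrob σ q) {H : Subgroup (Cfsg.SU n F q)} (s : Split σ m x y P) {g : Cfsg.SU n F q}
    (hg : g ∈ Mst σ q x y) {b a : Fin m → F} {d c : F} (hb : Ok σ x (P *ᵥ b) d)
    (hbm : ue h x (P *ᵥ b) d * g ∈ H) (hc : Ok σ x (P *ᵥ a) c) (hcm : ue h x (P *ᵥ a) c ∈ H) :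
    Ok σ x (P *ᵥ act σ x y P g a) (scal σ x y g * σ (scal σ x y g) * c - uh σ (act σ x y P g a) b +
        uh σ b (act σ x y P g a)) ∧
      ue h x (P *ᵥ act σ x y P g a) (scal σ x y g * σ (scal σ x y g) * c - uh σ (act σ x y P g a) b +
        uh σ b (act σ x y P g a)) ∈ H := by
  obtain ⟨hc1, e⟩ := conj_ue h s hg hc
  have h1 := H.mul_mem (H.mul_mem hbm hcm) (H.inv_mem hbm)
  have h2 := (hb.add h hc1).add h (hb.inv_ok h)
  have e2 : ue h x (P *ᵥ b) d * g * ue h x (P *ᵥ a) c * (ue h x (P *ᵥ b) d * g)⁻¹ =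
      ue h x (P *ᵥ b) d * (g * ue h x (P *ᵥ a) c * g⁻¹) * (ue h x (P *ᵥ b) d)⁻¹ := by group
  rw [e2, e, hb.inv h, hb.mul h hc1, (hb.add h hc1).mul h (hb.inv_ok h)] at h1
  have e3 : P *ᵥ b + P *ᵥ act σ x y P g a + -(P *ᵥ b) = P *ᵥ act σ x y P g a := by abel
  have e4 : d + scal σ x y g * σ (scal σ x y g) * c - uh σ (P *ᵥ act σ x y P g a) (P *ᵥ b) + σ d -
      uh σ (-(P *ᵥ b)) (P *ᵥ b + P *ᵥ act σ x y P g a) =
      scal σ x y g * σ (scal σ x y g) * c - uh σ (act σ x y P g a) b + uh σ b (act σ x y P g a) := by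
    have h5 := hb.2.2
    rw [s.pp h] at h5
    rw [uh_neg_left, uh_add_right, s.pp h, s.pp h, s.pp h]
    linear_combination h5
  rw [show σ (scal σ x y g) • lin σ P g a = act σ x y P g a from rfl, e3, e4] at h1 h2
  exact ⟨h2, h1⟩

theorem ext_utv (h : UFrob σ q) (s : Split σ m x y P) {e : Fin m → F} {c : F} (hee : uh σ e e = 0)
    (hc : c + σ c = 0) : ext h s (utv h e c hee hc) = ue h (P *ᵥ e) 0 c := by
  have hz : Ok σ (P *ᵥ e) 0 c := Ok.zero (by rw [s.pp h, hee]) hc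
  refine su_ext_split h s ?_ ?_ fun a => ?_
  · rw [ext_x, ue_apply h hz, s.xp h]; simp [uh_zero_right]
  · rw [ext_y, ue_apply h hz, s.yp h]; simp [uh_zero_right]
  · rw [ext_p, ue_apply h hz, s.pp h, uh_zero_right,
      show (utv h e c hee hc).1.1 *ᵥ a = a + (c * uh σ a e) • e from tMat_mulVec _ _ _, mulVec_add, mulVec_smul]
    simp

theorem line_full (hF : Nat.card F = q ^ 2) (h : UFrob σ q) {H : Subgroup (Cfsg.SU (2 + 2) F q)}
    {x y : Fin (2 + 2) → F} {P : Matrix (Fin (2 + 2)) (Fin 2) F} (s : Split σ 2 x y P) (hC : ctr h H x = ⊥)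
    (hline : LineType h H s) : ∃ w, w ≠ 0 ∧ uh σ w w = 0 ∧ ctr h H w ≠ ⊥ := by
  obtain ⟨e, he0, hee, hA, hM⟩ := hline
  obtain ⟨f, hff, hef, hfe, -⟩ := exists_partner h ⊥ (by simpa using he0) hee
    (fun z hz => by rw [(Submodule.mem_bot F).1 hz, uh_zero_left])
  choose cf hcf hcfm using fun γ : F => (mem_aSet h s).1 ((hA (γ • e)).2 ⟨γ, rfl⟩)
  have hadd : ∀ γ γ', cf (γ + γ') = cf γ + cf γ' := fun γ γ' => by
    have h1 := (hcf γ).add h (hcf γ')
    have h2 := H.mul_mem (hcfm γ) (hcfm γ')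
    rw [(hcf γ).mul h (hcf γ')] at h2
    rw [s.pp h, uh_smul_left, uh_smul_right, hee, mul_zero, mul_zero, sub_zero, ← mulVec_add, ← add_smul] at h1 h2
    exact central_unique h hC (hcf _) (hcfm _) h1 h2
  -- the scalar torus element
  obtain ⟨g, k, hg, hgN, hk1, hgk⟩ := exists_act_scalar hF h s
  obtain ⟨b₁, d₁, hb₁, hb₁m⟩ := hM ⟨g, hg⟩ ⟨k, hgk e⟩
  obtain ⟨β, hβ⟩ : ∃ β, β = uh σ b₁ e := ⟨_, rfl⟩
  have hrel : ∀ γ, cf (k * γ) = cf γ - k * γ * σ β + σ (k * γ) * β := fun γ => by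
    obtain ⟨h1, h2⟩ := lift_conj h s hg hb₁ hb₁m (hcf γ) (hcfm γ)
    rw [hgN, one_mul, act_smul, hgk, smul_smul, mul_comm γ k, uh_smul_left, uh_smul_right, ← h.symm b₁ e, ← hβ] at h1 h2
    exact central_unique h hC (hcf _) (hcfm _) h1 h2
  have hk1' : σ k - 1 ≠ 0 := fun h0 => hk1 (σ.injective (by rw [map_one]; exact sub_eq_zero.1 h0))
  obtain ⟨η, hη⟩ : ∃ η, η = σ k * β / (σ k - 1) := ⟨_, rfl⟩
  have hcη : ∀ γ, cf γ = η * σ γ - σ η * γ := fun γ => by
    obtain ⟨γ', rfl⟩ : ∃ γ', γ = (k - 1) * γ' := ⟨γ / (k - 1), by rw [mul_div_cancel₀ _ (sub_ne_zero.2 hk1)]⟩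
    have h1 : cf ((k - 1) * γ') + cf γ' = cf (k * γ') := by rw [← hadd]; congr 1; ring
    rw [hrel, map_mul] at h1
    have hk2 : k - 1 ≠ 0 := sub_ne_zero.2 hk1
    rw [hη, map_div₀, map_sub, map_mul, map_mul, h.invol, map_one, map_sub, map_one]
    field_simp
    linear_combination h1
  -- the transvection of the Levi part
  obtain ⟨s₀, hs0, hs⟩ := exists_skew h
  obtain ⟨b₂, d₂, hb₂, hb₂m⟩ := hM ⟨ext h s (utv h e s₀ hee hs), ext_mem h s _⟩ ⟨1, by
    rw [act_ext h s, show (utv h e s₀ hee hs).1.1 *ᵥ e = e + (s₀ * uh σ e e) • e from tMat_mulVec _ _ _, hee]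
    simp⟩
  have hb₂e : uh σ b₂ e = 0 := by
    obtain ⟨γ, hγ⟩ : ∃ γ, σ γ ≠ γ := by
      by_contra hall
      push Not at hall
      exact h.ne (RingHom.ext hall)
    obtain ⟨h1, h2⟩ := lift_conj h s (ext_mem h s _) hb₂ hb₂m (hcf γ) (hcfm γ)
    rw [scal_ext h s, map_one, one_mul, one_mul, act_smul, act_ext h s,
      show (utv h e s₀ hee hs).1.1 *ᵥ e = e + (s₀ * uh σ e e) • e from tMat_mulVec _ _ _, hee, mul_zero, zero_smul,
      add_zero, uh_smul_left, uh_smul_right, ← h.symm b₂ e] at h1 h2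
    have h3 := central_unique h hC (hcf γ) (hcfm γ) h1 h2
    obtain ⟨h4, h5⟩ := lift_conj h s (ext_mem h s _) hb₂ hb₂m (hcf 1) (hcfm 1)
    rw [scal_ext h s, map_one, one_mul, one_mul, act_smul, act_ext h s,
      show (utv h e s₀ hee hs).1.1 *ᵥ e = e + (s₀ * uh σ e e) • e from tMat_mulVec _ _ _, hee, mul_zero, zero_smul,
      add_zero, uh_smul_left, uh_smul_right, map_one, ← h.symm b₂ e] at h4 h5
    have h6 := central_unique h hC (hcf 1) (hcfm 1) h4 h5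
    have h7 : (σ γ - γ) * uh σ b₂ e = 0 := by linear_combination -h3 + γ * h6
    exact (mul_eq_zero.1 h7).resolve_left (sub_ne_zero.2 hγ)
  obtain ⟨β₂, rfl⟩ : ∃ β₂, b₂ = β₂ • e := by
    obtain ⟨α, β', rfl⟩ := SU_two_span hee hef b₂
    rw [uh_add_left, uh_smul_left, uh_smul_left, hee, hfe] at hb₂e
    obtain rfl : β' = 0 := by linear_combination hb₂e
    exact ⟨α, by simp⟩
  obtain ⟨d', hd', hd'm⟩ : ∃ d', d' + σ d' = 0 ∧ ue h x 0 d' * ue h (P *ᵥ e) 0 s₀ ∈ H := by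
    have h1 := H.mul_mem (H.inv_mem (hcfm β₂)) hb₂m
    have h2 := ((hcf β₂).inv_ok h).add h hb₂
    rw [neg_add_cancel] at h2
    rw [← mul_assoc, (hcf β₂).inv h, ((hcf β₂).inv_ok h).mul h hb₂, neg_add_cancel] at h1
    simp only [ext_utv h s hee hs] at h1
    exact ⟨_, by simpa [uh_zero_left] using h2.2.2, h1⟩
  -- choose the root element
  have hss : σ s₀ = -s₀ := eq_neg_of_add_eq_zero_right hs
  have hdd : σ d' = -d' := eq_neg_of_add_eq_zero_right hd'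
  obtain ⟨t, ht⟩ := CfsgLib.Geometry.exists_norm_eq h.ne h.invol (c := s₀ * η * σ (s₀ * η) - s₀ * d')
    (by rw [map_sub, map_mul, h.invol, map_mul σ s₀ d', hss, hdd]; ring)
  obtain ⟨γ, hγ⟩ : ∃ γ, γ = t - s₀ * η := ⟨_, rfl⟩
  have hgood : d' + cf γ = -(γ * σ γ) / s₀ := by
    rw [eq_div_iff hs0, hcη, hγ]
    simp only [map_sub, map_mul, hss] at ht ⊢
    linear_combination ht
  obtain ⟨w, hw⟩ : ∃ w, w = P *ᵥ e + (-σ γ / s₀) • x := ⟨_, rfl⟩
  have hzz : uh σ (P *ᵥ e) (P *ᵥ e) = 0 := by rw [s.pp h, hee]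
  have hww : uh σ w w = 0 := by
    rw [hw]
    simp [uh_add_left, uh_add_right, uh_smul_left, uh_smul_right, hzz, s.xx, s.px, s.xp h]
  have hw0 : w ≠ 0 := fun h0 => by
    have h1 := congrArg (fun v => uh σ v (P *ᵥ f)) h0
    rw [hw] at h1
    simp [uh_add_left, uh_smul_left, s.pp h, hef, s.xp h, uh_zero_left] at h1
  refine ⟨w, hw0, hww, fun hbot => hs0 ?_⟩
  have h1 := H.mul_mem (H.mul_mem (hcfm γ) (H.inv_mem (hcfm 0))) hd'm
  have hcf0 : cf 0 = 0 := by simpa using hadd 0 0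
  rw [zero_smul, mulVec_zero, hcf0, ue_one, inv_one, mul_one, ← mul_assoc,
    (hcf γ).mul h (Ok.zero s.xx hd')] at h1
  have h2 := (hcf γ).add h (Ok.zero s.xx hd')
  rw [add_zero, uh_zero_left, sub_zero, add_comm (cf γ), hgood] at h1 h2
  have e : ue h x (P *ᵥ (γ • e)) (-(γ * σ γ) / s₀) * ue h (P *ᵥ e) 0 s₀ = ue h w 0 s₀ := by
    refine su_ext fun v => ?_
    rw [su_mul_mulVec, ue_apply h (Ok.zero hzz hs), ue_apply h h2, ue_apply h (Ok.zero hww hs), hw, mulVec_smul]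
    simp only [uh_zero_right, smul_zero, sub_zero, add_zero, uh_add_left, uh_add_right, uh_smul_left, uh_smul_right,
      hzz, s.px, map_neg, map_div₀, h.invol, hss, mul_zero]
    match_scalars <;> field_simp <;> ring
  rw [e] at h1
  have h3 := (mem_ctr h hww (c := ⟨s₀, hs⟩)).2 h1
  rw [hbot, AddSubgroup.mem_bot] at h3
  exact congrArg Subtype.val h3

end CfsgLib.MinIdx.Un
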