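import Cfsg.Agent.Lib.MinIdx.Un4Data

/-!
# The two shapes of the root set at a point without its whole transvection group
-/

set_option autoImplicit false

namespace CfsgLib.MinIdx.Un

open Matrix CfsgLib.Classical CfsgLib.Classical.Unitary

variable {F : Type*} [Field F] [Finite F] {σ : F →+* F} {q : ℕ} {x y : Fin (2 + 2) → F}
  {P : Matrix (Fin (2 + 2)) (Fin 2) F}

theorem q_lt_cube (hq : 2 ≤ q) : q < q ^ 3 :=
  calc q = q ^ 1 := (pow_one q).symm
    _ < q ^ 3 := Nat.pow_lt_pow_right (by omega) (by norm_num)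

theorem exists_line_map (h : UFrob σ q) {e e' : Fin 2 → F} (he : e ≠ 0) (hee : uh σ e e = 0) (he' : e' ≠ 0)
    (hee' : uh σ e' e' = 0) : ∃ (M : Cfsg.SU 2 F q) (k : F), M.1.1 *ᵥ e = k • e' := by
  obtain ⟨f, hff, hef, hfe, -⟩ := exists_partner h ⊥ (by simpa using he) hee
    (fun z hz => by rw [(Submodule.mem_bot F).1 hz, uh_zero_left])
  obtain ⟨α, β, rfl⟩ := SU_two_span hee hef e'
  simp only [uh_add_left, uh_add_right, uh_smul_left, uh_smul_right, hee, hff, hef, hfe, mul_zero, add_zero, zero_add,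
    mul_one] at hee'
  obtain ⟨c, hc0, hc⟩ := exists_skew h
  by_cases hα : α = 0
  · have hβ : β ≠ 0 := fun h0 => he' (by rw [hα, h0, zero_smul, zero_smul, add_zero])
    have hci : -c⁻¹ + σ (-c⁻¹) = 0 := by
      rw [map_neg, map_inv₀, eq_neg_of_add_eq_zero_right hc]
      field_simp
      ring
    refine ⟨utv h e (-c⁻¹) hee hci * utv h f c hff hc, c * β⁻¹, ?_⟩
    rw [su_mul_mulVec, show (utv h f c hff hc).1.1 *ᵥ e = e + c • f by
      show tMat σ f c *ᵥ e = _
      rw [tMat_mulVec, hef, mul_one], hα, zero_smul, zero_add, smul_smul, inv_mul_cancel_right₀ hβ]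
    show tMat σ e (-c⁻¹) *ᵥ (e + c • f) = _
    rw [tMat_mulVec, uh_add_left, uh_smul_left, hee, hfe]
    match_scalars <;> field_simp <;> ring
  · have ht : β / α + σ (β / α) = 0 := by
      have hσα : σ α ≠ 0 := by simpa using hα
      rw [map_div₀]
      field_simp
      linear_combination hee'
    refine ⟨utv h f (β / α) hff ht, α⁻¹, ?_⟩
    show tMat σ f (β / α) *ᵥ e = _
    rw [tMat_mulVec, hef]
    match_scalars <;> field_simp

theorem card_ctr_dvd (hF : Nat.card F = q ^ 2) (h : UFrob σ q) (H : Subgroup (Cfsg.SU (2 + 2) F q)) :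
    (ctr h H x).index ∣ q := by
  have h1 := (ctr h H x).index_mul_card
  rw [card_Sk hF h] at h1
  exact Dvd.intro _ h1

theorem ctr_bot_of_index (hF : Nat.card F = q ^ 2) (h : UFrob σ q) {H : Subgroup (Cfsg.SU (2 + 2) F q)}
    (hz : (ctr h H x).index = q) : ctr h H x = ⊥ := by
  have hq := two_le_q hF
  have h1 := (ctr h H x).index_mul_card
  rw [hz, card_Sk hF h] at h1
  refine AddSubgroup.eq_bot_of_card_eq _ ?_
  exact Nat.eq_of_mul_eq_mul_left (by omega : 0 < q) (by rw [h1, mul_one])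

theorem aSet_ne_bot (hF : Nat.card F = q ^ 2) (h : UFrob σ q) {H : Subgroup (Cfsg.SU (2 + 2) F q)}
    (hN : H.index ≤ q ^ 4 + q ^ 3 + q) (s : Split σ 2 x y P) (hc : ctr h H x ≠ ⊤) : aSet h H s ≠ ⊥ := by
  intro hA
  have hq := two_le_q hF
  have h1 := (cnt_ge' h H s (by norm_num)).trans (cnt_le_index H x)
  rw [hA, AddSubgroup.index_bot, Nat.card_fun, hF, Nat.card_fin, ← pow_mul] at h1
  obtain ⟨z, hz⟩ : ∃ z, z = (ctr h H x).index := ⟨_, rfl⟩
  obtain ⟨t, ht⟩ : ∃ t, t = ((liftM h H s).map (scalHom s)).index := ⟨_, rfl⟩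
  have htc := torus_count hF h s hc
  rw [← hz, ← ht] at htc h1
  have ht1 : 1 ≤ t := ht ▸ Nat.pos_of_ne_zero Subgroup.index_ne_zero_of_finite
  have hl1 : 1 ≤ (liftL h H s).index := Nat.pos_of_ne_zero Subgroup.index_ne_zero_of_finite
  have hz1 : 1 ≤ z := hz ▸ Nat.pos_of_ne_zero AddSubgroup.index_ne_zero_of_finite
  have hzt : q ≤ z * t := by
    have h2 : (z - 1) * t + t = z * t := by
      calc (z - 1) * t + t = (z - 1 + 1) * t := by ring
        _ = z * t := by rw [Nat.sub_add_cancel hz1]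
    omega
  have h3 : q ^ (2 * 2) * q * 1 ≤ H.index := le_trans (Nat.mul_le_mul (Nat.mul_le_mul_left _ hzt) hl1) h1
  have e1 : q ^ 4 * 2 ≤ q ^ (2 * 2) * q * 1 := by
    rw [mul_one]
    exact Nat.mul_le_mul_left _ hq
  have e2 : q ^ 3 * 2 ≤ q ^ 3 * q := Nat.mul_le_mul_left _ hq
  have e3 : q < q ^ 3 := q_lt_cube hq
  have e4 : q ^ 3 * q = q ^ 4 := by ring
  omega

theorem aSet_iso (hF : Nat.card F = q ^ 2) (h : UFrob σ q) {H : Subgroup (Cfsg.SU (2 + 2) F q)}
    (hN : H.index ≤ q ^ 4 + q ^ 3 + q) (s : Split σ 2 x y P) (hc : ctr h H x ≠ ⊤) :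
    ∀ a ∈ aSet h H s, uh σ a a = 0 := by
  intro a ha
  by_contra hne
  have hq := two_le_q hF
  obtain ⟨z, hz⟩ : ∃ z, z = (ctr h H x).index := ⟨_, rfl⟩
  have hzq : z ∣ q := hz ▸ card_ctr_dvd hF h H
  have hz2 : 2 ≤ z := by
    have h1 : (ctr h H x).index ≠ 1 := fun h0 => hc (AddSubgroup.index_eq_one.1 h0)
    have h2 : (ctr h H x).index ≠ 0 := AddSubgroup.index_ne_zero_of_finite
    omega
  rcases Nat.lt_or_ge q 3 with hq2 | hq3
  · obtain rfl : q = 2 := by omega
    have hC : ctr h H x = ⊥ := ctr_bot_of_index hF h (by rw [← hz]; have := Nat.le_of_dvd (by norm_num) hzq; omega)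
    have h2 := two_eq_zero_of_q_two hF rfl
    obtain ⟨c, hc', hm⟩ := (mem_aSet h s).1 ha
    have h3 := H.mul_mem hm hm
    have h4 := hc'.add h hc'
    rw [hc'.mul h hc'] at h3
    rw [show P *ᵥ a + P *ᵥ a = 0 by rw [← two_smul F (P *ᵥ a), h2, zero_smul], s.pp h,
      show c + c - uh σ a a = -uh σ a a by rw [← two_mul, h2, zero_mul, zero_sub]] at h3 h4
    have hsk : -uh σ a a + σ (-uh σ a a) = 0 := by simpa [uh_zero_left] using h4.2.2
    have h5 : (⟨-uh σ a a, hsk⟩ : Sk σ) ∈ ctr h H x := (mem_ctr h s.xx).2 h3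
    rw [hC, AddSubgroup.mem_bot] at h5
    exact hne (by simpa using congrArg Subtype.val h5)
  have ha0 : a ≠ 0 := fun h0 => hne (by rw [h0, uh_zero_left])
  have h1 := (card_aniso hF h).trans
    (orbit_count h H s ha ha0 _ fun w hw => exists_act_aniso h s hne hw)
  have hA : Nat.card (aSet h H s) ≤ q ^ 2 := by
    refine Nat.mul_self_le_mul_self_iff.1 ((card_aSet_sq hF h s hc).trans (le_of_eq ?_))
    ring
  have hX : q ^ 2 ≤ (aSet h H s).index := by
    refine Nat.le_of_mul_le_mul_right ?_ (Nat.pow_pos (n := 2) (show 0 < q by omega))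
    calc q ^ 2 * q ^ 2 = (aSet h H s).index * Nat.card (aSet h H s) := by rw [aSet_card_mul hF h H s]; ring
      _ ≤ _ := Nat.mul_le_mul_left _ hA
  have hM : q ^ 2 - q ≤ (liftM h H s).index := by
    refine Nat.le_of_mul_le_mul_right ?_ (show 0 < q ^ 2 - 1 from Nat.sub_pos_of_lt (Nat.one_lt_pow (by norm_num) (by omega)))
    rw [mul_comm]
    exact h1.trans (Nat.mul_le_mul_left _ (Nat.sub_le_sub_right hA 1))
  have h2 : q ^ 2 * z * (q ^ 2 - q) ≤ H.index :=
    le_trans (Nat.mul_le_mul (hz ▸ Nat.mul_le_mul_right _ hX) hM) ((cnt_ge h H s).trans (cnt_le_index H x))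
  have hqq : q ≤ q ^ 2 := Nat.le_self_pow (by norm_num) q
  obtain ⟨R, hR⟩ : ∃ R, R + q = q ^ 2 := ⟨q ^ 2 - q, Nat.sub_add_cancel hqq⟩
  rw [show q ^ 2 - q = R by omega] at h2
  rcases Nat.lt_or_ge q 4 with h3q | h4q
  · obtain rfl : q = 3 := by omega
    have : z = 3 := by
      rcases (Nat.dvd_prime Nat.prime_three).1 hzq with h0 | h0 <;> omega
    subst this
    norm_num at h2 hR hN
    omega
  · have e1 : q ^ 2 * 2 * R ≤ q ^ 2 * z * R := Nat.mul_le_mul_right _ (Nat.mul_le_mul_left _ hz2)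
    have e2 : q ^ 2 * 2 * R + 2 * q ^ 3 = 2 * q ^ 4 := by
      calc q ^ 2 * 2 * R + 2 * q ^ 3 = q ^ 2 * 2 * (R + q) := by ring
        _ = _ := by rw [hR]; ring
    have e3 : q ^ 3 * 4 ≤ q ^ 3 * q := Nat.mul_le_mul_left _ h4q
    have e4 : q < q ^ 3 := q_lt_cube hq
    have e5 : q ^ 3 * q = q ^ 4 := by ring
    omega

/-- The two shapes. -/
def LineType (h : UFrob σ q) (H : Subgroup (Cfsg.SU (2 + 2) F q)) (s : Split σ 2 x y P) : Prop :=
  ∃ e, e ≠ 0 ∧ uh σ e e = 0 ∧ (∀ d, d ∈ aSet h H s ↔ ∃ γ : F, d = γ • e) ∧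
    ∀ g : Mst σ q x y, (∃ k : F, act σ x y P g.1 e = k • e) → g ∈ liftM h H s

/-- The second shape, in characteristic two only. -/
def PlaneType (h : UFrob σ q) (H : Subgroup (Cfsg.SU (2 + 2) F q)) (s : Split σ 2 x y P) : Prop :=
  (2 : F) = 0 ∧ liftL h H s = ⊤ ∧ ∃ a b, a ∈ aSet h H s ∧ b ∈ aSet h H s ∧ uh σ a b ≠ 0 ∧
    uh σ a a = 0 ∧ ∀ d, d ∈ aSet h H s ↔ ∃ r t : F, σ r = r ∧ σ t = t ∧ d = r • a + t • b

theorem line_case (hF : Nat.card F = q ^ 2) (h : UFrob σ q) {H : Subgroup (Cfsg.SU (2 + 2) F q)}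
    (hN : H.index ≤ q ^ 4 + q ^ 3 + q) (s : Split σ 2 x y P) (hc : ctr h H x ≠ ⊤)
    (hz : ∀ a ∈ aSet h H s, ∀ b ∈ aSet h H s, uh σ a b = 0) :
    LineType h H s ∧ ctr h H x = ⊥ ∧ q ^ 4 + q ^ 3 ≤ cnt H x := by
  classical
  have hq := two_le_q hF
  obtain ⟨e, he, he0⟩ := (AddSubgroup.bot_or_exists_ne_zero _).resolve_left (aSet_ne_bot hF h hN s hc)
  have hee := hz e he e he
  obtain ⟨f, hff, hef, hfe, -⟩ := exists_partner h ⊥ (by simpa using he0) hee
    (fun z hz => by rw [(Submodule.mem_bot F).1 hz, uh_zero_left])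
  have hline : ∀ b ∈ aSet h H s, b = uh σ b f • e := fun b hb => by
    obtain ⟨α, β, rfl⟩ := SU_two_span hee hef b
    have h0 := hz _ hb e he
    rw [uh_add_left, uh_smul_left, uh_smul_left, hee, hfe] at h0
    obtain rfl : β = 0 := by linear_combination h0
    simp [uh_smul_left, hef]
  let SF : Subgroup (Mst σ q x y) :=
    { carrier := {g | ∃ k : F, act σ x y P g.1 e = k • e}
      one_mem' := ⟨1, by rw [OneMemClass.coe_one, act_one s, one_smul]⟩
      mul_mem' := by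
        rintro a b ⟨k, hk⟩ ⟨k', hk'⟩
        exact ⟨k' * k, by rw [Subgroup.coe_mul, act_mul h s a.2 b.2, hk', act_smul, hk, smul_smul]⟩
      inv_mem' := by
        rintro a ⟨k, hk⟩
        refine ⟨k⁻¹, ?_⟩
        have h1 : k • act σ x y P (a⁻¹ : Mst σ q x y).1 e = e := by
          rw [← act_smul, ← hk, ← act_mul h s (a⁻¹).2 a.2, ← Subgroup.coe_mul, inv_mul_cancel, OneMemClass.coe_one,
            act_one s]
        have hk0 : k ≠ 0 := fun h0 => he0 (by rw [← h1, h0, zero_smul])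
        conv_rhs => rw [← h1]
        rw [inv_smul_smul₀ hk0] }
  have hle : liftM h H s ≤ SF := fun g hg => ⟨_, hline _ (aSet_act h s hg he)⟩
  have hSF : q + 1 ≤ SF.index := by
    let L₀ := SF.comap ((ext h s).codRestrict _ (ext_mem h s))
    have h1 : q + 1 ≤ L₀.index := fix_two hF h L₀ he0 hee fun M hM => by
      obtain ⟨k, hk⟩ := hM
      exact ⟨k, by simpa [act_ext h s] using hk⟩
    refine h1.trans ?_
    rw [Subgroup.index_comap, ← Subgroup.relIndex_top_right SF]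
    exact Subgroup.relIndex_le_of_le_right le_top
      (by rw [Subgroup.relIndex_top_right]; exact Subgroup.index_ne_zero_of_finite)
  obtain ⟨t, ht⟩ : ∃ t, t = ((liftM h H s).map (scalHom s)).index := ⟨_, rfl⟩
  obtain ⟨r, hr⟩ : ∃ r, r = (liftM h H s).relIndex SF := ⟨_, rfl⟩
  have hr1 : 1 ≤ r := hr ▸ Nat.pos_of_ne_zero (Subgroup.index_ne_zero_of_finite (H := (liftM h H s).subgroupOf SF))
  have htr : t ≤ r := by
    have hs : Function.Surjective ((scalHom s).comp SF.subtype) := fun α => by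
      obtain ⟨t', ht', hst, -, -⟩ := exists_tor h s (uh_single_self h (0 : Fin 2)) α.ne_zero
      obtain ⟨e', he'⟩ : ∃ e', e' = act σ x y P t'⁻¹ e := ⟨_, rfl⟩
      have he'0 : e' ≠ 0 := fun h0 => he0 (by
        have h1 := congrArg (act σ x y P t') he'
        rw [← act_mul h s ht' ((Mst σ q x y).inv_mem ht'), mul_inv_cancel, act_one s, h0] at h1
        rw [← h1]
        simpa using act_smul (σ := σ) (x := x) (y := y) (P := P) t' 0 (0 : Fin 2 → F))
      have he'e : uh σ e' e' = 0 := by rw [he', act_uh h s ((Mst σ q x y).inv_mem ht'), hee, mul_zero]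
      obtain ⟨M, k, hM⟩ := exists_line_map h he0 hee he'0 he'e
      refine ⟨⟨⟨t', ht'⟩ * ⟨ext h s M, ext_mem h s M⟩, k, ?_⟩, ?_⟩
      · show act σ x y P (t' * ext h s M) e = _
        rw [act_mul h s ht' (ext_mem h s M), act_ext h s, hM, he', act_smul,
          ← act_mul h s ht' ((Mst σ q x y).inv_mem ht'), mul_inv_cancel, act_one s]
      · refine Units.ext ?_
        show scal σ x y (t' * ext h s M) = α
        rw [scal_mul s ht' (ext_mem h s M), scal_ext h s, mul_one, hst]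
    have h2 := Subgroup.index_map_dvd ((liftM h H s).subgroupOf SF) hs
    rw [← Subgroup.map_map, Subgroup.map_subgroupOf_eq_of_le hle, ← ht] at h2
    exact hr ▸ Nat.le_of_dvd (Nat.pos_of_ne_zero (Subgroup.index_ne_zero_of_finite
      (H := (liftM h H s).subgroupOf SF))) h2
  obtain ⟨zc, hzc⟩ : ∃ zc, zc = (ctr h H x).index := ⟨_, rfl⟩
  obtain ⟨X, hX⟩ : ∃ X, X = (aSet h H s).index := ⟨_, rfl⟩
  have hA : Nat.card (aSet h H s) ≤ q ^ 2 := by
    rw [← hF]
    exact Nat.card_le_card_of_injective (fun b : aSet h H s => uh σ b.1 f) fun b b' hbb => Subtype.ext (by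
      rw [hline b.1 b.2, hline b'.1 b'.2]
      exact congrArg (· • e) hbb)
  have hAm := aSet_card_mul hF h H s
  rw [← hX] at hAm
  have hXge : q ^ 2 ≤ X := by
    refine Nat.le_of_mul_le_mul_right ?_ (Nat.pow_pos (n := 2) (show 0 < q by omega))
    calc q ^ 2 * q ^ 2 = X * Nat.card (aSet h H s) := by rw [hAm]; ring
      _ ≤ _ := Nat.mul_le_mul_left _ hA
  have htc := torus_count hF h s hc
  rw [← hzc, ← ht] at htc
  have ht1 : 1 ≤ t := ht ▸ Nat.pos_of_ne_zero Subgroup.index_ne_zero_of_finite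
  have hz1 : 1 ≤ zc := hzc ▸ Nat.pos_of_ne_zero AddSubgroup.index_ne_zero_of_finite
  have hzt : q - 1 + t ≤ zc * t := by
    calc q - 1 + t ≤ (zc - 1) * t + t := Nat.add_le_add_right htc _
      _ = (zc - 1 + 1) * t := by ring
      _ = zc * t := by rw [Nat.sub_add_cancel hz1]
  have hzr : zc * t ≤ zc * r := Nat.mul_le_mul_left _ htr
  have hcnt : X * (zc * r) * (q + 1) ≤ cnt H x := by
    refine le_trans ?_ (cnt_ge h H s)
    rw [← hX, ← hzc, ← Subgroup.relIndex_mul_index hle, ← hr]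
    calc X * (zc * r) * (q + 1) ≤ X * (zc * r) * SF.index := Nat.mul_le_mul_left _ hSF
      _ = _ := by ring
  have hcN := hcnt.trans ((cnt_le_index H x).trans hN)
  have hkey : ∀ K, q ^ 2 * q * (q + 1) + q * q ≤ K → K ≤ q ^ 4 + q ^ 3 + q → False := fun K h1 h2 => by
    have e1 : q ^ 2 * q * (q + 1) = q ^ 4 + q ^ 3 := by ring
    have e2 : q * 2 ≤ q * q := Nat.mul_le_mul_left _ hq
    omega
  have hzrq : zc * r ≤ q := by
    by_contra hlt
    refine hkey _ ?_ hcN
    calc q ^ 2 * q * (q + 1) + q * q ≤ q ^ 2 * q * (q + 1) + q ^ 2 * (q + 1) := by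
          refine Nat.add_le_add_left ?_ _
          rw [← sq]
          exact Nat.le_mul_of_pos_right _ (Nat.succ_pos _)
      _ = q ^ 2 * (q + 1) * (q + 1) := by ring
      _ ≤ X * (zc * r) * (q + 1) := Nat.mul_le_mul_right _ (Nat.mul_le_mul hXge (by omega))
  have hXle : X ≤ q ^ 2 := by
    by_contra hlt
    refine hkey _ ?_ hcN
    calc q ^ 2 * q * (q + 1) + q * q ≤ q ^ 2 * q * (q + 1) + q * (q + 1) :=
          Nat.add_le_add_left (Nat.mul_le_mul_left _ (Nat.le_succ _)) _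
      _ = (q ^ 2 + 1) * q * (q + 1) := by ring
      _ ≤ X * (zc * r) * (q + 1) := Nat.mul_le_mul_right _ (Nat.mul_le_mul (by omega) (by omega))
  have ht' : t = 1 := by omega
  have hzq : zc = q := by
    have h1 : zc * 1 ≤ zc * r := Nat.mul_le_mul_left _ hr1
    rw [ht'] at hzt
    omega
  have hr' : r = 1 := by
    have : q * r ≤ q * 1 := by rw [mul_one]; exact hzq ▸ hzrq
    have := Nat.le_of_mul_le_mul_left this (by omega)
    omega
  have hXeq : X = q ^ 2 := le_antisymm hXle hXge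
  have hcard : Nat.card (aSet h H s) = q ^ 2 := by
    rw [hXeq] at hAm
    refine Nat.eq_of_mul_eq_mul_left (Nat.pow_pos (n := 2) (show 0 < q by omega)) (hAm.trans ?_)
    ring
  refine ⟨⟨e, he0, hee, fun d => ⟨fun hd => ⟨_, hline d hd⟩, ?_⟩, fun g hg => ?_⟩,
    ctr_bot_of_index hF h (hzc ▸ hzq), ?_⟩
  · rintro ⟨γ, rfl⟩
    obtain ⟨b, hb⟩ := ((Nat.bijective_iff_injective_and_card (fun b : aSet h H s => uh σ b.1 f)).2
      ⟨fun b b' hbb => Subtype.ext (by rw [hline b.1 b.2, hline b'.1 b'.2]; exact congrArg (· • e) hbb),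
        by rw [hcard, hF]⟩).2 γ
    have hb' : uh σ b.1 f = γ := hb
    rw [← hb', ← hline b.1 b.2]
    exact b.2
  · exact (Subgroup.relIndex_eq_one.1 (hr ▸ hr') : SF ≤ liftM h H s) hg
  · refine le_trans (le_of_eq ?_) hcnt
    rw [hXeq, hzq, hr']
    ring

theorem plane_case (hF : Nat.card F = q ^ 2) (h : UFrob σ q) {H : Subgroup (Cfsg.SU (2 + 2) F q)}
    (hN : H.index ≤ q ^ 4 + q ^ 3 + q) (s : Split σ 2 x y P) (hc : ctr h H x ≠ ⊤) {a b : Fin 2 → F}
    (ha : a ∈ aSet h H s) (hb : b ∈ aSet h H s) (hab : uh σ a b ≠ 0) :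
    PlaneType h H s ∧ ctr h H x = ⊥ ∧ q ^ 4 + q ^ 3 ≤ cnt H x := by
  classical
  have hq := two_le_q hF
  have hiso := aSet_iso hF h hN s hc
  obtain ⟨T, hT⟩ : ∃ T, T = (liftM h H s).map (scalHom s) := ⟨_, rfl⟩
  obtain ⟨t, ht⟩ : ∃ t, t = T.index := ⟨_, rfl⟩
  obtain ⟨l, hl⟩ : ∃ l, l = (liftL h H s).index := ⟨_, rfl⟩
  obtain ⟨zc, hzc⟩ : ∃ zc, zc = (ctr h H x).index := ⟨_, rfl⟩
  obtain ⟨X, hX⟩ : ∃ X, X = (aSet h H s).index := ⟨_, rfl⟩
  have hl1 : 1 ≤ l := hl ▸ Nat.pos_of_ne_zero Subgroup.index_ne_zero_of_finite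
  have ht1 : 1 ≤ t := ht ▸ Nat.pos_of_ne_zero Subgroup.index_ne_zero_of_finite
  have hcnt : X * (zc * t) * l ≤ cnt H x := by
    rw [hX, hzc, ht, hl, hT]
    exact cnt_ge' h H s (by norm_num)
  have hcN := hcnt.trans ((cnt_le_index H x).trans hN)
  have hsq : ∀ α ∈ T, σ (α : F) ^ 2 = (α : F) ^ 2 := fun α hα => torus_sq hF h s hiso ha hb hab (hT ▸ hα)
  have htT : t * Nat.card T = q ^ 2 - 1 := by rw [ht, T.index_mul_card, card_units_sq hF]
  have hAm := aSet_card_mul hF h H s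
  rw [← hX] at hAm
  have hz2 : 2 ≤ zc := by
    have h1 : (ctr h H x).index ≠ 1 := fun h0 => hc (AddSubgroup.index_eq_one.1 h0)
    have h2 : (ctr h H x).index ≠ 0 := AddSubgroup.index_ne_zero_of_finite
    omega
  have hq1 : q ^ 2 - 1 = (q + 1) * (q - 1) := by rw [← Nat.sq_sub_sq, one_pow]
  by_cases h2 : (2 : F) = 0
  swap
  · exfalso
    have hA := card_le_q hF h s hc h2 hiso ha hb hab
    have hXge : q ^ 3 ≤ X := by
      refine Nat.le_of_mul_le_mul_right ?_ (show 0 < q by omega)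
      calc q ^ 3 * q = X * Nat.card (aSet h H s) := by rw [hAm]; ring
        _ ≤ _ := Nat.mul_le_mul_left _ hA
    have hTc : Nat.card T ≤ 2 * (q - 1) := by
      refine card_kerPow hF (by omega) T fun α hα => ?_
      have h1 := hsq α hα
      rw [h.pow, ← pow_mul] at h1
      have h3 : (α : F) ^ (2 * (q - 1)) * (α : F) ^ 2 = 1 * (α : F) ^ 2 := by
        rw [one_mul, ← pow_add, show 2 * (q - 1) + 2 = q * 2 by omega, h1]
      exact mul_right_cancel₀ (pow_ne_zero 2 α.ne_zero) h3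
    have ht2 : q + 1 ≤ 2 * t := by
      refine Nat.le_of_mul_le_mul_right ?_ (show 0 < q - 1 by omega)
      calc (q + 1) * (q - 1) = t * Nat.card T := by rw [htT, hq1]
        _ ≤ t * (2 * (q - 1)) := Nat.mul_le_mul_left _ hTc
        _ = _ := by ring
    have hz3 : 3 ≤ zc := by
      by_contra hlt
      have hzeq : zc = 2 := by omega
      have h3 : 2 ∣ q := hzeq ▸ hzc ▸ card_ctr_dvd hF h H
      haveI := Fintype.ofFinite F
      refine h2 ?_
      have hr : ringChar F = 2 := by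
        refine FiniteField.even_card_iff_char_two.2 ?_
        rw [← Nat.card_eq_fintype_card, hF]
        exact Nat.dvd_iff_mod_eq_zero.1 (dvd_pow h3 (by norm_num))
      have := ringChar.Nat.cast_ringChar (R := F)
      rw [hr] at this
      exact_mod_cast this
    have h5 : q ^ 3 * (3 * (q + 1)) ≤ 2 * (q ^ 4 + q ^ 3 + q) := by
      calc q ^ 3 * (3 * (q + 1)) ≤ X * (zc * (2 * t)) := Nat.mul_le_mul hXge (Nat.mul_le_mul hz3 ht2)
        _ = 2 * (X * (zc * t) * 1) := by ring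
        _ ≤ 2 * (X * (zc * t) * l) := Nat.mul_le_mul_left _ (Nat.mul_le_mul_left _ hl1)
        _ ≤ _ := Nat.mul_le_mul_left _ hcN
    have e1 : q ^ 3 * (3 * (q + 1)) = 3 * q ^ 4 + 3 * q ^ 3 := by ring
    have e2 : q < q ^ 3 := q_lt_cube hq
    have e3 : q ^ 3 ≤ q ^ 4 := Nat.pow_le_pow_right (by omega) (by norm_num)
    omega
  haveI : CharP F 2 := CharTwo.of_one_ne_zero_of_two_eq_zero one_ne_zero h2
  have hfix : ∀ α ∈ T, σ (α : F) = α := fun α hα => CharTwo.sq_injective (hsq α hα)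
  have hTz : Nat.card T ≤ zc - 1 := by
    rw [hT, hzc]
    refine norm_classes h s hc fun α hα β hβ he => Units.ext (CharTwo.sq_injective ?_)
    rw [← hT] at hα hβ
    rw [hfix α hα, hfix β hβ] at he
    show (α : F) ^ 2 = (β : F) ^ 2
    rw [sq, sq, he]
  have hTc : Nat.card T ≤ q - 1 := by
    refine card_kerPow hF (by omega) T fun α hα => ?_
    have h1 := hfix α hα
    rw [h.pow] at h1
    have h3 : (α : F) ^ (q - 1) * (α : F) = 1 * (α : F) := by
      rw [one_mul, ← pow_succ, Nat.sub_add_cancel (by omega : 1 ≤ q), h1]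
    exact mul_right_cancel₀ α.ne_zero h3
  have htq : q + 1 ≤ t := by
    refine Nat.le_of_mul_le_mul_right ?_ (show 0 < q - 1 by omega)
    calc (q + 1) * (q - 1) = t * Nat.card T := by rw [htT, hq1]
      _ ≤ _ := Nat.mul_le_mul_left _ hTc
  have hzt : q * (q + 1) ≤ zc * t := by
    have h1 : (q + 1) * (q - 1) + t ≤ zc * t := by
      calc (q + 1) * (q - 1) + t = t * Nat.card T + t := by rw [htT, hq1]
        _ ≤ t * (zc - 1) + t := Nat.add_le_add_right (Nat.mul_le_mul_left _ hTz) _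
        _ = (zc - 1 + 1) * t := by ring
        _ = zc * t := by rw [Nat.sub_add_cancel (by omega : 1 ≤ zc)]
    refine le_trans ?_ h1
    calc q * (q + 1) = (q + 1) * (q - 1 + 1) := by rw [Nat.sub_add_cancel (by omega : 1 ≤ q)]; ring
      _ = (q + 1) * (q - 1) + (q + 1) := by ring
      _ ≤ _ := by omega
  let φ : σ.eqLocusField (RingHom.id F) × σ.eqLocusField (RingHom.id F) → (Fin 2 → F) :=
    fun p => (p.1 : F) • a + (p.2 : F) • b
  choose r t' hr ht' hd using fun d : aSet h H s => coords h hiso ha hb hab d.2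
  have hfc := fixed_card_eq hF h.pow
  have hinj : Function.Injective (fun d : aSet h H s => ((⟨r d, hr d⟩, ⟨t' d, ht' d⟩) :
      σ.eqLocusField (RingHom.id F) × σ.eqLocusField (RingHom.id F))) := fun d d' hdd => by
    obtain ⟨e1, e2⟩ := Prod.ext_iff.1 hdd
    refine Subtype.ext ?_
    rw [hd d, hd d', show r d = r d' from congrArg Subtype.val e1, show t' d = t' d' from congrArg Subtype.val e2]
  have hA : Nat.card (aSet h H s) ≤ q ^ 2 := by
    refine (Nat.card_le_card_of_injective _ hinj).trans (le_of_eq ?_)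
    rw [Nat.card_prod, hfc, sq]
  have hXge : q ^ 2 ≤ X := by
    refine Nat.le_of_mul_le_mul_right ?_ (Nat.pow_pos (n := 2) (show 0 < q by omega))
    calc q ^ 2 * q ^ 2 = X * Nat.card (aSet h H s) := by rw [hAm]; ring
      _ ≤ _ := Nat.mul_le_mul_left _ hA
  have hkey : ∀ K, q ^ 2 * (q * (q + 1)) + q * q ≤ K → K ≤ q ^ 4 + q ^ 3 + q → False := fun K h1 h2 => by
    have e1 : q ^ 2 * (q * (q + 1)) = q ^ 4 + q ^ 3 := by ring
    have e2 : q * 2 ≤ q * q := Nat.mul_le_mul_left _ hq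
    omega
  have hl' : l = 1 := by
    by_contra hne
    refine hkey _ ?_ hcN
    calc q ^ 2 * (q * (q + 1)) + q * q ≤ q ^ 2 * (q * (q + 1)) * 2 := by
          rw [mul_two]
          refine Nat.add_le_add_left ?_ _
          rw [← sq]
          exact Nat.le_mul_of_pos_right _ (Nat.mul_pos (by omega) (Nat.succ_pos _))
      _ ≤ _ := Nat.mul_le_mul (Nat.mul_le_mul hXge hzt) (by omega)
  rw [hl', mul_one] at hcN
  have hXle : X ≤ q ^ 2 := by
    by_contra hlt
    refine hkey _ ?_ hcN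
    calc q ^ 2 * (q * (q + 1)) + q * q ≤ q ^ 2 * (q * (q + 1)) + 1 * (q * (q + 1)) := by
          rw [one_mul]
          exact Nat.add_le_add_left (Nat.mul_le_mul_left _ (Nat.le_succ _)) _
      _ = (q ^ 2 + 1) * (q * (q + 1)) := by ring
      _ ≤ _ := Nat.mul_le_mul (by omega) hzt
  have hztle : zc * t ≤ q * (q + 1) := by
    by_contra hlt
    refine hkey _ ?_ hcN
    calc q ^ 2 * (q * (q + 1)) + q * q = q ^ 2 * (q * (q + 1) + 1) := by ring
      _ ≤ _ := Nat.mul_le_mul hXge (by omega)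
  have hzq : zc = q := by
    refine le_antisymm (hzc ▸ Nat.le_of_dvd (by omega) (card_ctr_dvd hF h H)) ?_
    by_contra hlt
    have h1 : (q + 1) * (q - 1) + t ≤ zc * t := by
      calc (q + 1) * (q - 1) + t = t * Nat.card T + t := by rw [htT, hq1]
        _ ≤ t * (zc - 1) + t := Nat.add_le_add_right (Nat.mul_le_mul_left _ hTz) _
        _ = (zc - 1 + 1) * t := by ring
        _ = zc * t := by rw [Nat.sub_add_cancel (by omega : 1 ≤ zc)]
    have e : (q + 1) * (q - 1) + (q + 1) = q * (q + 1) := by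
      calc (q + 1) * (q - 1) + (q + 1) = (q + 1) * (q - 1 + 1) := by ring
        _ = q * (q + 1) := by rw [Nat.sub_add_cancel (by omega : 1 ≤ q)]; ring
    have ht' : t = q + 1 := by omega
    rw [ht'] at hzt
    have := Nat.le_of_mul_le_mul_right hzt (Nat.succ_pos q)
    omega
  have hXeq : X = q ^ 2 := le_antisymm hXle hXge
  have hcard : Nat.card (aSet h H s) = q ^ 2 := by
    rw [hXeq] at hAm
    refine Nat.eq_of_mul_eq_mul_left (Nat.pow_pos (n := 2) (show 0 < q by omega)) (hAm.trans ?_)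
    ring
  refine ⟨⟨h2, Subgroup.index_eq_one.1 (hl ▸ hl'), a, b, ha, hb, hab, hiso a ha,
    fun d => ⟨fun hd' => ⟨_, _, hr ⟨d, hd'⟩, ht' ⟨d, hd'⟩, hd ⟨d, hd'⟩⟩, ?_⟩⟩, ctr_bot_of_index hF h (hzc ▸ hzq), ?_⟩
  · rintro ⟨r₀, t₀, hr₀, ht₀, rfl⟩
    obtain ⟨d, hdd⟩ := ((Nat.bijective_iff_injective_and_card _).2 ⟨hinj, by
      rw [hcard, Nat.card_prod, hfc, sq]⟩).2 (⟨r₀, hr₀⟩, ⟨t₀, ht₀⟩)
    obtain ⟨e1, e2⟩ := Prod.ext_iff.1 hdd
    rw [show r₀ = r d from (congrArg Subtype.val e1).symm, show t₀ = t' d from (congrArg Subtype.val e2).symm, ← hd d]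
    exact d.2
  · refine le_trans ?_ hcnt
    rw [hl', mul_one]
    calc q ^ 4 + q ^ 3 = q ^ 2 * (q * (q + 1)) := by ring
      _ ≤ _ := Nat.mul_le_mul hXge hzt

/-- The analysis at a point without its whole transvection group. -/
theorem nonfull_shape (hF : Nat.card F = q ^ 2) (h : UFrob σ q) {H : Subgroup (Cfsg.SU (2 + 2) F q)}
    (hN : H.index ≤ q ^ 4 + q ^ 3 + q) (s : Split σ 2 x y P) (hc : ctr h H x ≠ ⊤) :
    (LineType h H s ∨ PlaneType h H s) ∧ ctr h H x = ⊥ ∧ q ^ 4 + q ^ 3 ≤ cnt H x := by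
  by_cases hz : ∀ a ∈ aSet h H s, ∀ b ∈ aSet h H s, uh σ a b = 0
  · obtain ⟨h1, h2⟩ := line_case hF h hN s hc hz
    exact ⟨Or.inl h1, h2⟩
  · push Not at hz
    obtain ⟨a, ha, b, hb, hab⟩ := hz
    obtain ⟨h1, h2⟩ := plane_case hF h hN s hc ha hb hab
    exact ⟨Or.inr h1, h2⟩

end CfsgLib.MinIdx.Un
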