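import Cfsg.Agent.Lib.MinIdx.Un4Line

/-!
# A flag-transitive subgroup with small root sets does not exist
-/

set_option autoImplicit false

namespace CfsgLib.MinIdx.Un

open Matrix CfsgLib.Classical CfsgLib.Classical.Unitary

variable {F : Type*} [Field F] {σ : F →+* F} {q n : ℕ}

/-- The vectors of the span of two vectors. -/
def OnLine (x z v : Fin n → F) : Prop := ∃ α β : F, v = α • x + β • z

/-- `g` moves every vector orthogonal to `p` along `p` only. -/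
def Along (σ : F →+* F) (g : Cfsg.SU n F q) (p : Fin n → F) : Prop :=
  ∀ v, uh σ v p = 0 → ∃ k : F, g.1.1 *ᵥ v = v + k • p

/-- The elements fixing a line pointwise that belong to the root group of one of its vectors. -/
def lineRoot (σ : F →+* F) (H : Subgroup (Cfsg.SU n F q)) (x z p : Fin n → F) : Set (Cfsg.SU n F q) :=
  {g | g ∈ H ∧ g ≠ 1 ∧ (∀ v, OnLine x z v → g.1.1 *ᵥ v = v) ∧ Along σ g p}

theorem along_conj (h : UFrob σ q) {g j : Cfsg.SU n F q} {p : Fin n → F} {c : F} (hc : c ≠ 0) (hg : Along σ g p) :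
    Along σ (j * g * j⁻¹) (c • j.1.1 *ᵥ p) := by
  intro v hv
  have h1 : uh σ ((j⁻¹).1.1 *ᵥ v) p = 0 := by
    rw [uh_smul_right, ← su_mulVec_inv j v, su_uh h] at hv
    exact (mul_eq_zero.1 hv).resolve_left (by simpa using hc)
  obtain ⟨k, hk⟩ := hg _ h1
  refine ⟨k / c, ?_⟩
  rw [su_mul_mulVec, su_mul_mulVec, hk, mulVec_add, mulVec_smul, su_mulVec_inv, smul_smul, div_mul_cancel₀ _ hc]

theorem lineRoot_conj (h : UFrob σ q) {H : Subgroup (Cfsg.SU n F q)} {j : Cfsg.SU n F q} (hj : j ∈ H)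
    {x z p : Fin n → F} (hjl : ∀ v, OnLine x z v → OnLine x z (j.1.1 *ᵥ v))
    (hji : ∀ v, OnLine x z v → OnLine x z ((j⁻¹).1.1 *ᵥ v)) {c : F} (hc : c ≠ 0) :
    Nat.card (lineRoot σ H x z p) = Nat.card (lineRoot σ H x z (c • j.1.1 *ᵥ p)) := by
  refine Nat.card_congr
    { toFun := fun g => ⟨j * g.1 * j⁻¹, H.mul_mem (H.mul_mem hj g.2.1) (H.inv_mem hj), ?_, ?_, along_conj h hc g.2.2.2.2⟩
      invFun := fun g => ⟨j⁻¹ * g.1 * j, H.mul_mem (H.mul_mem (H.inv_mem hj) g.2.1) hj, ?_, ?_, ?_⟩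
      left_inv := fun g => Subtype.ext (by simp [mul_assoc])
      right_inv := fun g => Subtype.ext (by simp [mul_assoc]) }
  · intro h1
    exact g.2.2.1 (by simpa using h1)
  · intro v hv
    rw [su_mul_mulVec, su_mul_mulVec, g.2.2.2.1 _ (hji v hv), su_mulVec_inv]
  · intro h1
    refine g.2.2.1 ?_
    have h2 := congrArg (fun k => j * k * j⁻¹) h1
    simpa [mul_assoc] using h2
  · intro v hv
    rw [su_mul_mulVec, su_mul_mulVec, g.2.2.2.1 _ (hjl v hv), su_inv_mulVec]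
  · have h1 := along_conj (j := j⁻¹) h (inv_ne_zero hc) g.2.2.2.2
    rwa [inv_inv, mulVec_smul, su_inv_mulVec, inv_smul_smul₀ hc] at h1

theorem eq_ue_of_along (h : UFrob σ q) {m : ℕ} {x y : Fin n → F} {P : Matrix (Fin n) (Fin m) F}
    (s : Split σ m x y P) {g : Cfsg.SU n F q} (hgx : g.1.1 *ᵥ x = x) (hg : Along σ g x) :
    ∃ (a : Fin m → F) (c : F), Ok σ x (P *ᵥ a) c ∧ g = ue h x (P *ᵥ a) c := by
  obtain ⟨a, ha⟩ : ∃ a, a = (P.map σ)ᵀ *ᵥ (g.1.1 *ᵥ y) := ⟨_, rfl⟩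
  obtain ⟨c, hc⟩ : ∃ c, c = uh σ (g.1.1 *ᵥ y) y := ⟨_, rfl⟩
  have h1 : uh σ (g.1.1 *ᵥ y) x = 1 := by
    conv_lhs => arg 3; rw [← hgx]
    rw [su_uh h, s.yx h]
  have hgy := s.dec (g.1.1 *ᵥ y)
  rw [h1, ← hc, ← ha, one_smul] at hgy
  have hok : Ok σ x (P *ᵥ a) c := by
    refine ⟨s.xx, s.px a, ?_⟩
    have h2 := su_uh h g y y
    rw [← hgy, s.yy] at h2
    simp only [uh_add_left, uh_add_right, uh_smul_left, uh_smul_right, s.xx, s.yy, s.xy, s.yx h, s.px, s.py, s.xp h,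
      s.yp h, s.pp h] at h2
    rw [s.pp h]
    linear_combination h2
  refine ⟨a, c, hok, su_ext_split h s ?_ ?_ fun v => ?_⟩
  · rw [hgx, ue_apply h hok, s.xx, s.xp h]; simp
  · rw [ue_apply h hok, s.yx h, s.yp h, ← hgy]
    module
  · obtain ⟨k, hk⟩ := hg _ (s.px v)
    have h2 := su_uh h g (P *ᵥ v) y
    rw [hk, ← hgy, s.py] at h2
    simp only [uh_add_left, uh_add_right, uh_smul_left, uh_smul_right, s.xx, s.xy, s.px, s.py, s.xp h, s.pp h] at h2
    rw [hk, ue_apply h hok, s.px, s.pp h, zero_smul, add_zero, mul_zero, zero_sub,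
      show k = -uh σ v a by linear_combination h2]

theorem along_ue_self (h : UFrob σ q) {x w : Fin n → F} {c : F} (he : Ok σ x w c) : Along σ (ue h x w c) x :=
  fun v hv => ⟨-uh σ v w, by rw [ue_apply h he, hv]; simp⟩

section Count

variable [Finite F] {x y : Fin (2 + 2) → F} {P : Matrix (Fin (2 + 2)) (Fin 2) F}

/-- The root elements at `x` on the line of `x` and `P a`. -/
theorem card_lineRoot_self (hF : Nat.card F = q ^ 2) (h : UFrob σ q) {H : Subgroup (Cfsg.SU (2 + 2) F q)}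
    (s : Split σ 2 x y P) (hC : ctr h H x = ⊥) {a b : Fin 2 → F} (hab : uh σ a b ≠ 0) (haa : uh σ a a = 0)
    (hA : ∀ d, d ∈ aSet h H s ↔ ∃ r t : F, σ r = r ∧ σ t = t ∧ d = r • a + t • b) :
    Nat.card (lineRoot σ H x (P *ᵥ a) x) = q - 1 := by
  classical
  have ha0 : a ≠ 0 := fun h0 => hab (by rw [h0, uh_zero_left])
  let K := σ.eqLocusField (RingHom.id F)
  have hK : ∀ r : K, σ (r : F) = r := fun r => r.2
  choose c hc hcm using fun r : K => (mem_aSet h s).1 ((hA ((r : F) • a)).2 ⟨r, 0, hK r, map_zero σ, by simp⟩)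
  have hy : ∀ r : K, uh σ ((ue h x (P *ᵥ ((r : F) • a)) (c r)).1.1 *ᵥ y) (P *ᵥ b) = (r : F) * uh σ a b := fun r => by
    rw [ue_apply h (hc r), s.yx h, s.yp h]
    simp [uh_add_left, uh_smul_left, s.yp h, s.xp h, s.pp h]
  have hK0 : Nat.card {r : K // r ≠ 0} = q - 1 := by
    haveI := Fintype.ofFinite K
    rw [Nat.card_eq_fintype_card, Fintype.card_subtype_compl, Fintype.card_subtype_eq, ← Nat.card_eq_fintype_card,
      fixed_card_eq hF h.pow]
  rw [← hK0]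
  refine (Nat.card_eq_of_bijective (fun r : {r : K // r ≠ 0} =>
    (⟨ue h x (P *ᵥ ((r.1 : F) • a)) (c r.1), hcm r.1, fun h1 => ?_, ?_, along_ue_self h (hc r.1)⟩ :
      lineRoot σ H x (P *ᵥ a) x)) ⟨fun r r' hrr => ?_, ?_⟩).symm
  · have h2 := hy r.1
    rw [h1, su_one_mulVec, s.yp h] at h2
    exact r.2 (Subtype.ext ((mul_eq_zero.1 h2.symm).resolve_right hab))
  · rintro v ⟨α, β, rfl⟩
    rw [ue_apply h (hc r.1)]
    simp [uh_add_left, uh_smul_left, s.xx, s.px, s.xp h, s.pp h, uh_smul_right, haa]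
  · have h2 := hy r.1
    rw [show ue h x (P *ᵥ ((r.1 : F) • a)) (c r.1) = ue h x (P *ᵥ ((r'.1 : F) • a)) (c r'.1) from
      congrArg Subtype.val hrr, hy] at h2
    exact Subtype.ext (Subtype.ext (mul_right_cancel₀ hab h2).symm)
  · rintro ⟨g, hgH, hg1, hfix, hal⟩
    obtain ⟨a', c', hok, rfl⟩ := eq_ue_of_along h s (hfix x ⟨1, 0, by simp⟩) hal
    have h2 : uh σ a a' = 0 := by
      have h3 := congrArg (fun v => uh σ v y) (hfix (P *ᵥ a) ⟨0, 1, by simp⟩)
      rw [ue_apply h hok, s.px, s.pp h] at h3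
      simpa [uh_add_left, uh_sub_left, uh_smul_left, uh_neg_left, s.xy, s.py] using h3
    obtain ⟨r, t, hr, ht, he⟩ := (hA a').1 ((mem_aSet h s).2 ⟨c', hok, hgH⟩)
    rw [he] at h2
    simp only [uh_add_right, uh_smul_right, haa, mul_zero, zero_add, hr, ht, mul_eq_zero, hab, or_false] at h2
    rw [h2, zero_smul, add_zero] at he
    subst he
    have hc' : c' = c ⟨r, hr⟩ := central_unique h hC hok hgH (hc ⟨r, hr⟩) (hcm ⟨r, hr⟩)
    subst hc'
    refine ⟨⟨⟨r, hr⟩, fun h0 => hg1 ?_⟩, rfl⟩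
    have hr0 : r = 0 := congrArg Subtype.val h0
    have hc0 : c ⟨r, hr⟩ = 0 := by
      have h5 : Ok σ x (P *ᵥ (r • a)) 0 := by rw [hr0, zero_smul, mulVec_zero]; exact Ok.zero s.xx (by simp)
      exact central_unique h hC (hc ⟨r, hr⟩) (hcm ⟨r, hr⟩) h5
        (show ue h x (P *ᵥ (r • a)) 0 ∈ H by rw [hr0, zero_smul, mulVec_zero, ue_one]; exact H.one_mem)
    rw [hc0, hr0, zero_smul, mulVec_zero, ue_one]

/-- The vectors of the line along which a root element at `x` moves. -/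
theorem card_along (hF : Nat.card F = q ^ 2) (h : UFrob σ q) (s : Split σ 2 x y P) {a b : Fin 2 → F}
    (hab : uh σ a b ≠ 0) (haa : uh σ a a = 0) {r c : F} (hr : σ r = r) (hr0 : r ≠ 0)
    (hc : Ok σ x (P *ᵥ (r • a)) c) :
    Nat.card {v : Fin (2 + 2) → F //
      OnLine x (P *ᵥ a) v ∧ v ≠ 0 ∧ Along σ (ue h x (P *ᵥ (r • a)) c) v} = (q + 1) * (q ^ 2 - 1) := by
  classical
  obtain ⟨θ, hθ⟩ := exists_trace h
  have hcs : σ c = -c := by
    have h1 := hc.2.2
    rw [s.pp h, uh_smul_left, uh_smul_right, haa, mul_zero, mul_zero, add_zero] at h1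
    exact eq_neg_of_add_eq_zero_right h1
  let K := σ.eqLocusField (RingHom.id F)
  have hK : ∀ r : K, σ (r : F) = r := fun r => r.2
  have hz0 : P *ᵥ a ≠ 0 := fun h0 => hab (by rw [← s.pp h, h0, uh_zero_left])
  let pt : Option K → (Fin (2 + 2) → F) := fun o => o.elim x (fun κ => (θ * c / r + (κ : F)) • x + P *ᵥ a)
  have hpt : ∀ o, pt o ≠ 0 := fun o => by
    cases o with
    | none => exact s.x_ne
    | some κ =>
      intro h0
      have h1 := congrArg (fun v => uh σ v (P *ᵥ b)) h0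
      simp [pt, uh_add_left, uh_smul_left, s.xp h, s.pp h, uh_zero_left] at h1
      exact hab h1
  have happ : ∀ v, (ue h x (P *ᵥ (r • a)) c).1.1 *ᵥ v =
      v + (uh σ v x * r) • (P *ᵥ a) + (c * uh σ v x - r * uh σ v (P *ᵥ a)) • x := fun v => by
    rw [ue_apply h hc, mulVec_smul, uh_smul_right, hr, smul_smul]
  have halong : ∀ (β : F) (u : F), u ≠ 0 → (Along σ (ue h x (P *ᵥ (r • a)) c) (u • (β • x + P *ᵥ a)) ↔
      c + r * σ β = r * β) := fun β u hu => by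
    constructor
    · intro hal
      obtain ⟨v, hv⟩ : ∃ v, v = y + (-σ β / uh σ b a) • (P *ᵥ b) := ⟨_, rfl⟩
      have hba : uh σ b a ≠ 0 := fun h0 => hab (h.swap_zero h0)
      have hvx : uh σ v x = 1 := by rw [hv]; simp [uh_add_left, uh_smul_left, s.yx h, s.px]
      have hvz : uh σ v (P *ᵥ a) = -σ β := by
        rw [hv]; simp [uh_add_left, uh_smul_left, s.yp h, s.pp h, hba]
      obtain ⟨k, hk⟩ := hal v (by rw [uh_smul_right, uh_add_right, uh_smul_right, hvx, hvz]; ring)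
      rw [happ, hvx, hvz] at hk
      have h1 := congrArg (fun w => uh σ w (P *ᵥ b)) hk
      have h2 := congrArg (fun w => uh σ w y) hk
      simp [uh_add_left, uh_smul_left, s.xp h, s.pp h, s.xy, s.py] at h1 h2
      have hkr : r = k * u := mul_right_cancel₀ hab (by linear_combination h1)
      rw [← mul_assoc, ← hkr] at h2
      linear_combination h2
    · intro he v hv
      refine ⟨uh σ v x * r / u, ?_⟩
      rw [uh_smul_right, mul_eq_zero, or_iff_right (by simpa using hu), uh_add_right, uh_smul_right] at hv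
      rw [happ, smul_smul, div_mul_cancel₀ _ hu, smul_add, smul_smul,
        show c * uh σ v x - r * uh σ v (P *ᵥ a) = uh σ v x * r * β by
          linear_combination uh σ v x * he - r * hv]
      abel
  have hsol : ∀ κ : K, c + r * σ (θ * c / r + (κ : F)) = r * (θ * c / r + (κ : F)) := fun κ => by
    rw [map_add, map_div₀, map_mul, hcs, hr, hK]
    field_simp
    linear_combination (-c) * hθ
  have hcard : Nat.card (Option K × Fˣ) = (q + 1) * (q ^ 2 - 1) := by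
    rw [Nat.card_prod, Finite.card_option, fixed_card_eq hF h.pow, card_units_sq hF]
  rw [← hcard]
  refine (Nat.card_eq_of_bijective (fun p : Option K × Fˣ =>
    (⟨(p.2 : F) • pt p.1, ?_, smul_ne_zero p.2.ne_zero (hpt p.1), ?_⟩ : {v : Fin (2 + 2) → F //
      OnLine x (P *ᵥ a) v ∧ v ≠ 0 ∧ Along σ (ue h x (P *ᵥ (r • a)) c) v})) ⟨?_, ?_⟩).symm
  · rcases p with ⟨_ | κ, u⟩
    · exact ⟨u, 0, by simp [pt]⟩
    · exact ⟨u * (θ * c / r + (κ : F)), u, by simp [pt, smul_add, smul_smul]⟩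
  · rcases p with ⟨_ | κ, u⟩
    · intro v hv
      rw [uh_smul_right, mul_eq_zero, or_iff_right (by simp)] at hv
      refine ⟨-(r * uh σ v (P *ᵥ a)) / u, ?_⟩
      have hv' : uh σ v x = 0 := hv
      show _ = v + _ • ((u : F) • x)
      rw [happ, hv', smul_smul, div_mul_cancel₀ _ u.ne_zero]
      simp
    · exact (halong _ _ u.ne_zero).2 (hsol κ)
  · rintro ⟨o, u⟩ ⟨o', u'⟩ he
    have h1 : (u : F) • pt o = (u' : F) • pt o' := congrArg Subtype.val he
    have h2 := congrArg (fun v => uh σ v (P *ᵥ b)) h1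
    have h3 := congrArg (fun v => uh σ v y) h1
    rcases o with _ | κ <;> rcases o' with _ | κ' <;>
      simp [pt, uh_add_left, uh_smul_left, s.xp h, s.pp h, s.xy, s.py, hab] at h2 h3
    · rw [Units.ext h3]
    · rw [Units.ext h2] at h3 ⊢
      obtain rfl : κ = κ' := Subtype.ext (by
        have := mul_left_cancel₀ u'.ne_zero h3
        linear_combination this)
      rfl
  · rintro ⟨v, ⟨α, β, rfl⟩, hv0, hal⟩
    rcases eq_or_ne β 0 with rfl | hβ
    · have hα : α ≠ 0 := fun h0 => hv0 (by rw [h0]; simp)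
      exact ⟨(none, Units.mk0 α hα), Subtype.ext (by simp [pt])⟩
    · have e : α • x + β • (P *ᵥ a) = β • ((α / β) • x + P *ᵥ a) := by
        rw [smul_add, smul_smul, mul_div_cancel₀ _ hβ]
      rw [e] at hal
      have h1 := (halong _ _ hβ).1 hal
      have hκ : σ (α / β - θ * c / r) = α / β - θ * c / r := by
        rw [map_sub, map_div₀ σ (θ * c), map_mul, hcs, hr]
        have h2 : σ (α / β) = α / β - c / r := by
          field_simp at h1 ⊢
          linear_combination h1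
        rw [h2]
        field_simp
        linear_combination (β * c) * hθ
      exact ⟨(some ⟨_, hκ⟩, Units.mk0 β hβ), Subtype.ext (by simp [pt, e])⟩

theorem exists_flag (hF : Nat.card F = q ^ 2) (h : UFrob σ q) {H : Subgroup (Cfsg.SU (2 + 2) F q)}
    (htr : ∀ z, z ≠ 0 → uh σ z z = 0 → z ∈ orb H x) (s : Split σ 2 x y P) (hL : liftL h H s = ⊤)
    {a : Fin 2 → F} (ha : a ≠ 0) (haa : uh σ a a = 0) {p : Fin (2 + 2) → F} (hp : OnLine x (P *ᵥ a) p)
    (hp0 : p ≠ 0) :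
    ∃ j ∈ H, ∃ c : F, c ≠ 0 ∧ c • j.1.1 *ᵥ x = p ∧
      (∀ v, OnLine x (P *ᵥ a) v → OnLine x (P *ᵥ a) (j.1.1 *ᵥ v)) ∧
      ∀ v, OnLine x (P *ᵥ a) v → OnLine x (P *ᵥ a) ((j⁻¹).1.1 *ᵥ v) := by
  classical
  have hzz : uh σ (P *ᵥ a) (P *ᵥ a) = 0 := by rw [s.pp h, haa]
  have hz0 : P *ᵥ a ≠ 0 := fun h0 => ha (s.inj (by rw [h0, mulVec_zero]))
  obtain ⟨α, β, hαβ⟩ := hp
  have hiso : ∀ v w, OnLine x (P *ᵥ a) v → OnLine x (P *ᵥ a) w → uh σ v w = 0 := by
    rintro v w ⟨r, t, rfl⟩ ⟨r', t', rfl⟩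
    simp [uh_add_left, uh_add_right, uh_smul_left, uh_smul_right, s.xx, hzz, s.px, s.xp h]
  obtain ⟨p', hp', hind⟩ : ∃ p', OnLine x (P *ᵥ a) p' ∧ ∀ k : F, p' ≠ k • p := by
    by_cases hβ : β = 0
    · refine ⟨P *ᵥ a, ⟨0, 1, by simp⟩, fun k hk => ha (s.inj ?_)⟩
      have h1 := congrArg ((P.map σ)ᵀ *ᵥ ·) hk
      simp only [hαβ, hβ, mulVec_smul, mulVec_add, s.frame.apply, s.proj_x h, smul_zero, zero_smul, add_zero] at h1
      rw [h1]
    · refine ⟨x, ⟨1, 0, by simp⟩, fun k hk => ?_⟩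
      have h1 := congrArg ((P.map σ)ᵀ *ᵥ ·) hk
      simp only [hαβ, mulVec_smul, mulVec_add, s.frame.apply, s.proj_x h, smul_zero, zero_add] at h1
      rcases eq_or_ne k 0 with hk0 | hk0
      · rw [hk0, zero_smul] at hk
        exact s.x_ne hk
      · exact smul_ne_zero hk0 (smul_ne_zero hβ ha) h1.symm
  have hponl : OnLine x (P *ᵥ a) p := ⟨α, β, hαβ⟩
  obtain ⟨k, hk, c, hc, hpk⟩ := htr p hp0 (hiso p p hponl hponl)
  obtain ⟨v, hv⟩ : ∃ v, v = (k⁻¹).1.1 *ᵥ p' := ⟨_, rfl⟩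
  have hvv : uh σ v v = 0 := by rw [hv, su_uh h]; exact hiso _ _ hp' hp'
  have hvx : uh σ v x = 0 := by
    have h1 := hiso _ _ hp' hponl
    rw [hpk, uh_smul_right, ← su_mulVec_inv k p', su_uh h, ← hv] at h1
    exact (mul_eq_zero.1 h1).resolve_left (by simpa using hc)
  have hkv : k.1.1 *ᵥ v = p' := by rw [hv, su_mulVec_inv]
  obtain ⟨e', he'⟩ : ∃ e', e' = (P.map σ)ᵀ *ᵥ v := ⟨_, rfl⟩
  have hdec := s.perp_x hvx
  rw [← he'] at hdec
  have he'0 : e' ≠ 0 := fun h0 => by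
    rw [h0, mulVec_zero, add_zero] at hdec
    refine hind (uh σ v y / c) ?_
    rw [← hkv, hpk, smul_smul, div_mul_cancel₀ _ hc]
    conv_lhs => rw [← hdec]
    rw [mulVec_smul]
  have he'e : uh σ e' e' = 0 := by
    have h1 := hvv
    rw [← hdec] at h1
    simpa [uh_add_left, uh_add_right, uh_smul_left, uh_smul_right, s.xx, s.px, s.xp h, s.pp h] using h1
  obtain ⟨M, k', hM⟩ := exists_line_map h ha haa he'0 he'e
  obtain ⟨b, d, hb, hbm⟩ := (mem_liftL h s).1 (hL ▸ Subgroup.mem_top M : M ∈ liftL h H s)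
  obtain ⟨j, hj, hjH⟩ : ∃ j, j = k * (ue h x (P *ᵥ b) d * ext h s M) ∧ j ∈ H := ⟨_, rfl, H.mul_mem hk hbm⟩
  have hjx : j.1.1 *ᵥ x = k.1.1 *ᵥ x := by
    rw [hj, su_mul_mulVec, su_mul_mulVec, ext_x, ue_apply h hb, s.xx, s.xp h]
    simp
  have hkx : k.1.1 *ᵥ x = c⁻¹ • p := by rw [hpk, inv_smul_smul₀ hc]
  have hjz : OnLine x (P *ᵥ a) (j.1.1 *ᵥ (P *ᵥ a)) := by
    obtain ⟨r, t, hrt⟩ := hp'
    have e : j.1.1 *ᵥ (P *ᵥ a) = k' • p' + (-(k' * uh σ v y) - k' * uh σ e' b) • (k.1.1 *ᵥ x) := by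
      rw [hj, su_mul_mulVec, su_mul_mulVec, ext_p, hM, ue_apply h hb, s.px, s.pp h, uh_smul_left, ← hkv,
        show P *ᵥ (k' • e') = k' • v - (k' * uh σ v y) • x by
          conv_rhs => arg 1; arg 2; rw [← hdec]
          rw [mulVec_smul]; module, mulVec_add, mulVec_add, mulVec_smul, mulVec_smul, mulVec_sub, mulVec_smul,
        mulVec_smul]
      module
    refine ⟨k' * r + (-(k' * uh σ v y) - k' * uh σ e' b) * c⁻¹ * α,
      k' * t + (-(k' * uh σ v y) - k' * uh σ e' b) * c⁻¹ * β, ?_⟩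
    rw [e, hkx, hrt, hαβ]
    module
  have hjl : ∀ w, OnLine x (P *ᵥ a) w → OnLine x (P *ᵥ a) (j.1.1 *ᵥ w) := by
    rintro w ⟨r, t, rfl⟩
    obtain ⟨r', t', e⟩ := hjz
    exact ⟨r * (c⁻¹ * α) + t * r', r * (c⁻¹ * β) + t * t', by
      rw [mulVec_add, mulVec_smul, mulVec_smul, e, hjx, hkx, hαβ]; module⟩
  refine ⟨j, hjH, c, hc, by rw [hjx, ← hpk], hjl, fun w hw => ?_⟩
  let f : {w // OnLine x (P *ᵥ a) w} → {w // OnLine x (P *ᵥ a) w} := fun u => ⟨_, hjl u.1 u.2⟩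
  have hf : Function.Injective f := fun u u' hu => Subtype.ext (by
    have h1 : j.1.1 *ᵥ u.1 = j.1.1 *ᵥ u'.1 := congrArg Subtype.val hu
    rw [← su_inv_mulVec j u.1, h1, su_inv_mulVec])
  obtain ⟨u, hu⟩ := (Finite.injective_iff_surjective.1 hf) ⟨w, hw⟩
  have hu' : j.1.1 *ᵥ u.1 = w := congrArg Subtype.val hu
  rw [← hu', su_inv_mulVec]
  exact u.2

theorem plane_absurd (hF : Nat.card F = q ^ 2) (h : UFrob σ q) {H : Subgroup (Cfsg.SU (2 + 2) F q)}
    (hC : ctr h H x = ⊥) (htr : ∀ z, z ≠ 0 → uh σ z z = 0 → z ∈ orb H x) (s : Split σ 2 x y P)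
    (hp : PlaneType h H s) : False := by
  classical
  obtain ⟨h2, hL, a, b, -, -, hab, haa, hA⟩ := hp
  have hq := two_le_q hF
  have ha : a ≠ 0 := fun h0 => hab (by rw [h0, uh_zero_left])
  have hxone : ∀ p, OnLine x (P *ᵥ a) p → p ≠ 0 → Nat.card (lineRoot σ H x (P *ᵥ a) p) = q - 1 := fun p hp hp0 => by
    obtain ⟨j, hj, c, hc, hjp, hjl, hji⟩ := exists_flag hF h htr s hL ha haa hp hp0
    rw [← hjp, ← lineRoot_conj h hj hjl hji hc, card_lineRoot_self hF h s hC hab haa hA]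
  have hfib : ∀ (g : Cfsg.SU (2 + 2) F q) (p : Fin (2 + 2) → F), OnLine x (P *ᵥ a) p → p ≠ 0 →
      g ∈ lineRoot σ H x (P *ᵥ a) p →
      Nat.card {v : Fin (2 + 2) → F // OnLine x (P *ᵥ a) v ∧ v ≠ 0 ∧ Along σ g v} = (q + 1) * (q ^ 2 - 1) := by
    intro g p hp hp0 hg
    obtain ⟨j, hj, c, hc, hjp, hjl, hji⟩ := exists_flag hF h htr s hL ha haa hp hp0
    have h1 := along_conj (j := j⁻¹) h (inv_ne_zero hc) hg.2.2.2
    rw [inv_inv, ← hjp, mulVec_smul, su_inv_mulVec, inv_smul_smul₀ hc] at h1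
    have hfix : (j⁻¹ * g * j).1.1 *ᵥ x = x := by
      rw [su_mul_mulVec, su_mul_mulVec, hg.2.2.1 _ (hjl x ⟨1, 0, by simp⟩), su_inv_mulVec]
    obtain ⟨a', c', hok, he⟩ := eq_ue_of_along h s hfix h1
    have hgH : ue h x (P *ᵥ a') c' ∈ H := he ▸ H.mul_mem (H.mul_mem (H.inv_mem hj) hg.1) hj
    have h3 : uh σ a a' = 0 := by
      have h4 : (j⁻¹ * g * j).1.1 *ᵥ (P *ᵥ a) = P *ᵥ a := by
        rw [su_mul_mulVec, su_mul_mulVec, hg.2.2.1 _ (hjl (P *ᵥ a) ⟨0, 1, by simp⟩), su_inv_mulVec]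
      rw [he, ue_apply h hok, s.px, s.pp h] at h4
      have h5 := congrArg (fun v => uh σ v y) h4
      simpa [uh_add_left, uh_sub_left, uh_smul_left, uh_neg_left, s.xy, s.py] using h5
    obtain ⟨r, t, hr, ht, rfl⟩ := (hA a').1 ((mem_aSet h s).2 ⟨c', hok, hgH⟩)
    simp only [uh_add_right, uh_smul_right, haa, mul_zero, zero_add, hr, ht, mul_eq_zero, hab, or_false] at h3
    subst h3
    rw [zero_smul, add_zero] at hok hgH he
    have hr0 : r ≠ 0 := fun h0 => hg.2.1 (by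
      have hc0 : c' = 0 := central_unique h hC hok hgH
        (by rw [h0, zero_smul, mulVec_zero]; exact Ok.zero s.xx (by simp))
        (by rw [h0, zero_smul, mulVec_zero, ue_one]; exact H.one_mem)
      rw [hc0, h0, zero_smul, mulVec_zero, ue_one] at he
      have h6 := congrArg (fun k => j * k * j⁻¹) he
      simpa [mul_assoc] using h6)
    rw [← card_along hF h s hab haa hr hr0 hok, ← he]
    refine Nat.card_congr
      { toFun := fun v => ⟨(j⁻¹).1.1 *ᵥ v.1, hji _ v.2.1, ?_, ?_⟩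
        invFun := fun v => ⟨j.1.1 *ᵥ v.1, hjl _ v.2.1, ?_, ?_⟩
        left_inv := fun v => Subtype.ext (su_mulVec_inv j _)
        right_inv := fun v => Subtype.ext (su_inv_mulVec j _) }
    · exact fun h0 => v.2.2.1 (by rw [← su_mulVec_inv j v.1, h0, mulVec_zero])
    · have h7 := along_conj (j := j⁻¹) h one_ne_zero v.2.2.2
      rwa [inv_inv, one_smul] at h7
    · exact fun h0 => v.2.2.1 (by rw [← su_inv_mulVec j v.1, h0, mulVec_zero])
    · have h7 := along_conj (j := j) h one_ne_zero v.2.2.2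
      rwa [one_smul, show j * (j⁻¹ * g * j) * j⁻¹ = g by group] at h7
  -- double counting
  let V := {v : Fin (2 + 2) → F // OnLine x (P *ᵥ a) v ∧ v ≠ 0}
  let G' := {g : Cfsg.SU (2 + 2) F q // ∃ v : V, g ∈ lineRoot σ H x (P *ᵥ a) v.1}
  have hV : Nat.card V = q ^ 4 - 1 := by
    have hinj : Function.Injective (fun w : F × F => w.1 • x + w.2 • (P *ᵥ a)) := fun w w' he => by
      have h1 := congrArg (fun v => uh σ v y) he
      have h3 := congrArg (fun v => uh σ v (P *ᵥ b)) he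
      simp [uh_add_left, uh_smul_left, s.xy, s.py, s.xp h, s.pp h, hab] at h1 h3
      exact Prod.ext h1 h3
    have h0 : Nat.card V = Nat.card {w : F × F // w ≠ 0} := by
      refine (Nat.card_eq_of_bijective (fun w : {w : F × F // w ≠ 0} => (⟨w.1.1 • x + w.1.2 • (P *ᵥ a),
        ⟨_, _, rfl⟩, fun h1 => w.2 (hinj (by simpa using h1))⟩ : V)) ⟨fun w w' he => ?_, ?_⟩).symm
      · exact Subtype.ext (hinj (congrArg Subtype.val he))
      · rintro ⟨_, ⟨r, t, rfl⟩, hv0⟩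
        exact ⟨⟨(r, t), fun h1 => hv0 (by rw [(Prod.mk_eq_zero.1 h1).1, (Prod.mk_eq_zero.1 h1).2]; simp)⟩, rfl⟩
    haveI := Fintype.ofFinite F
    rw [h0, Nat.card_eq_fintype_card, Fintype.card_subtype_compl, Fintype.card_subtype_eq, Fintype.card_prod,
      ← Nat.card_eq_fintype_card, hF, ← pow_add]
  have hI : Nat.card {pr : V × G' // pr.2.1 ∈ lineRoot σ H x (P *ᵥ a) pr.1.1} = (q ^ 4 - 1) * (q - 1) := by
    haveI := Fintype.ofFinite V
    rw [← Nat.card_congr (Equiv.sigmaFiberEquiv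
      (fun pr : {pr : V × G' // pr.2.1 ∈ lineRoot σ H x (P *ᵥ a) pr.1.1} => pr.1.1)), Nat.card_sigma]
    rw [Finset.sum_congr rfl (g := fun _ => q - 1) fun v _ => ?_, Finset.sum_const, Finset.card_univ, smul_eq_mul,
      ← Nat.card_eq_fintype_card, hV]
    rw [← hxone v.1 v.2.1 v.2.2]
    exact Nat.card_congr
      { toFun := fun pr => ⟨pr.1.1.2.1, by have h8 := pr.1.2; rwa [pr.2] at h8⟩
        invFun := fun g => ⟨⟨(v, ⟨g.1, v, g.2⟩), g.2⟩, rfl⟩
        left_inv := fun pr => Subtype.ext (Subtype.ext (Prod.ext pr.2.symm (Subtype.ext rfl)))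
        right_inv := fun g => rfl }
  have hI' : Nat.card {pr : V × G' // pr.2.1 ∈ lineRoot σ H x (P *ᵥ a) pr.1.1} =
      Nat.card G' * ((q + 1) * (q ^ 2 - 1)) := by
    haveI := Fintype.ofFinite G'
    rw [← Nat.card_congr (Equiv.sigmaFiberEquiv
      (fun pr : {pr : V × G' // pr.2.1 ∈ lineRoot σ H x (P *ᵥ a) pr.1.1} => pr.1.2)), Nat.card_sigma]
    rw [Finset.sum_congr rfl (g := fun _ => (q + 1) * (q ^ 2 - 1)) fun g _ => ?_, Finset.sum_const, Finset.card_univ,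
      smul_eq_mul, ← Nat.card_eq_fintype_card]
    obtain ⟨v, hv⟩ := g.2
    rw [← hfib g.1 v.1 v.2.1 v.2.2 hv]
    exact Nat.card_congr
      { toFun := fun pr => ⟨pr.1.1.1.1, pr.1.1.1.2.1, pr.1.1.1.2.2,
          (show g.1 ∈ lineRoot σ H x (P *ᵥ a) pr.1.1.1.1 by have h8 := pr.1.2; rwa [pr.2] at h8).2.2.2⟩
        invFun := fun w => ⟨⟨(⟨w.1, w.2.1, w.2.2.1⟩, g), hv.1, hv.2.1, hv.2.2.1, w.2.2.2⟩, rfl⟩
        left_inv := fun pr => Subtype.ext (Subtype.ext (Prod.ext rfl pr.2.symm))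
        right_inv := fun w => rfl }
  have h3 : (q ^ 2 + 1) * (q - 1) = Nat.card G' * (q + 1) := by
    refine Nat.eq_of_mul_eq_mul_right (show 0 < q ^ 2 - 1 from Nat.sub_pos_of_lt (Nat.one_lt_pow (by norm_num) (by omega))) ?_
    calc (q ^ 2 + 1) * (q - 1) * (q ^ 2 - 1) = (q ^ 2 + 1) * (q ^ 2 - 1) * (q - 1) := by ring
      _ = (q ^ 4 - 1) * (q - 1) := by rw [← Nat.sq_sub_sq, ← pow_mul, one_pow]
      _ = _ := by rw [← hI, hI']; ring
  have h4 : (q + 1) ∣ 4 := by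
    rw [← Int.natCast_dvd_natCast]
    refine ⟨(q : ℤ) ^ 2 - 2 * q + 3 - Nat.card G', ?_⟩
    have h5 : ((q : ℤ) ^ 2 + 1) * ((q : ℤ) - 1) = (Nat.card G' : ℤ) * ((q : ℤ) + 1) := by
      have := congrArg (Nat.cast : ℕ → ℤ) h3
      rwa [Nat.cast_mul, Nat.cast_mul, Nat.cast_sub (by omega : 1 ≤ q), Nat.cast_add, Nat.cast_pow, Nat.cast_one,
        Nat.cast_add, Nat.cast_one] at this
    push_cast
    linear_combination -h5
  have h5 : q = 3 := by
    have h6 := Nat.le_of_dvd (by norm_num) h4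
    have key : ∀ k : ℕ, k < 4 → 2 ≤ k → k + 1 ∣ 4 → k = 3 := by decide
    exact key q (by omega) hq h4
  subst h5
  haveI := Fintype.ofFinite F
  haveI : CharP F 2 := CharTwo.of_one_ne_zero_of_two_eq_zero one_ne_zero h2
  have h7 := FiniteField.even_card_iff_char_two.1 (ringChar.eq F 2)
  rw [← Nat.card_eq_fintype_card, hF] at h7
  norm_num at h7

end Count

end CfsgLib.MinIdx.Un
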