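import Cfsg.Agent.Lib.Classical.UnitaryGen

/-!
# Root elements at an isotropic point of the unitary group

`ue h x w c` is `v ↦ v + h(v,x) w + (c h(v,x) - h(v,w)) x`, and the identity unless `x` is isotropic, `w ⊥ x` and
`c + σ c + h(w,w) = 0`.
-/

set_option autoImplicit false

namespace CfsgLib.MinIdx.Un

open Matrix CfsgLib.Classical CfsgLib.Classical.Unitary

variable {F : Type*} [Field F] {σ : F →+* F} {q n m : ℕ}

/-- The skew elements. -/
def Sk (σ : F →+* F) : AddSubgroup F := (AddMonoidHom.id F + σ.toAddMonoidHom).ker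

theorem mem_Sk {c : F} : c ∈ Sk σ ↔ c + σ c = 0 := Iff.rfl

theorem uh_neg_left (u v : Fin n → F) : uh σ (-u) v = -uh σ u v := by simp [uh]

theorem uh_neg_right (u v : Fin n → F) : uh σ u (-v) = -uh σ u v := by
  rw [← neg_one_smul F v, uh_smul_right]; simp

theorem skew_self (h : UFrob σ q) {w w' : Fin n → F} {c d : F} (hc : c + σ c + uh σ w w = 0)
    (hd : d + σ d + uh σ w' w' = 0) :
    c + d - uh σ w' w + σ (c + d - uh σ w' w) + uh σ (w + w') (w + w') = 0 := by
  rw [map_sub, map_add, h.symm, uh_add_left, uh_add_right, uh_add_right]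
  linear_combination hc + hd

/-- The condition for a root element. -/
def Ok (σ : F →+* F) (x w : Fin n → F) (c : F) : Prop :=
  uh σ x x = 0 ∧ uh σ w x = 0 ∧ c + σ c + uh σ w w = 0

/-- A root element, total in its arguments. -/
noncomputable def ue (h : UFrob σ q) (x w : Fin n → F) (c : F) : Cfsg.SU n F q :=
  haveI := _root_.Classical.propDecidable (Ok σ x w c)
  if he : Ok σ x w c then usg h x w 1 c he.1 he.2.1 (by simpa using he.2.2) else 1

theorem ue_apply (h : UFrob σ q) {x w : Fin n → F} {c : F} (he : Ok σ x w c) (v : Fin n → F) :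
    (ue h x w c).1.1 *ᵥ v = v + uh σ v x • w + (c * uh σ v x - uh σ v w) • x := by
  classical
  rw [ue, dif_pos he, usg_mulVec]
  simp

theorem ue_of_not (h : UFrob σ q) {x w : Fin n → F} {c : F} (he : ¬ Ok σ x w c) : ue h x w c = 1 := by
  classical
  rw [ue, dif_neg he]

theorem Ok.add (h : UFrob σ q) {x w w' : Fin n → F} {c d : F} (he : Ok σ x w c) (he' : Ok σ x w' d) :
    Ok σ x (w + w') (c + d - uh σ w' w) :=
  ⟨he.1, by rw [uh_add_left, he.2.1, he'.2.1, add_zero], skew_self h he.2.2 he'.2.2⟩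

theorem Ok.mul (h : UFrob σ q) {x w w' : Fin n → F} {c d : F} (he : Ok σ x w c) (he' : Ok σ x w' d) :
    ue h x w c * ue h x w' d = ue h x (w + w') (c + d - uh σ w' w) := by
  refine su_ext fun v => ?_
  have hxw := h.swap_zero he.2.1
  have hxw' := h.swap_zero he'.2.1
  rw [su_mul_mulVec, ue_apply h he', ue_apply h he, ue_apply h (he.add h he')]
  simp only [uh_add_left, uh_add_right, uh_smul_left, he'.2.1, he.1, hxw]
  module

theorem Ok.zero {x : Fin n → F} (hx : uh σ x x = 0) {c : F} (hc : c + σ c = 0) : Ok σ x 0 c :=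
  ⟨hx, uh_zero_left _, by rw [uh_zero_left, add_zero, hc]⟩

theorem ue_one (h : UFrob σ q) (x : Fin n → F) : ue h x 0 0 = 1 := by
  by_cases hx : uh σ x x = 0
  · refine su_ext fun v => ?_
    rw [ue_apply h (Ok.zero hx (by simp)), su_one_mulVec, uh_zero_right]
    simp
  · exact ue_of_not h fun he => hx he.1

theorem Ok.inv_ok (h : UFrob σ q) {x w : Fin n → F} {c : F} (he : Ok σ x w c) : Ok σ x (-w) (σ c) := by
  refine ⟨he.1, by rw [uh_neg_left, he.2.1, neg_zero], ?_⟩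
  rw [uh_neg_left, uh_neg_right, neg_neg, h.invol]
  linear_combination he.2.2

theorem Ok.inv (h : UFrob σ q) {x w : Fin n → F} {c : F} (he : Ok σ x w c) :
    (ue h x w c)⁻¹ = ue h x (-w) (σ c) := by
  refine inv_eq_of_mul_eq_one_right ?_
  rw [he.mul h (he.inv_ok h), add_neg_cancel, uh_neg_left,
    show c + σ c - -uh σ w w = 0 by linear_combination he.2.2, ue_one]

theorem Ok.map (h : UFrob σ q) (g : Cfsg.SU n F q) {x w : Fin n → F} {c : F} (he : Ok σ x w c) :
    Ok σ (g.1.1 *ᵥ x) (g.1.1 *ᵥ w) c := by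
  simpa only [Ok, su_uh h g] using he

theorem ue_conj (h : UFrob σ q) (g : Cfsg.SU n F q) (x w : Fin n → F) (c : F) :
    g * ue h x w c * g⁻¹ = ue h (g.1.1 *ᵥ x) (g.1.1 *ᵥ w) c := by
  by_cases he : Ok σ x w c
  · refine su_ext fun v => ?_
    rw [su_mul_mulVec, su_mul_mulVec, ue_apply h he, ue_apply h (he.map h g), mulVec_add, mulVec_add, mulVec_smul,
      mulVec_smul, su_mulVec_inv]
    have e1 : ∀ u, uh σ v (g.1.1 *ᵥ u) = uh σ ((g⁻¹).1.1 *ᵥ v) u := fun u => by
      rw [← su_uh h g ((g⁻¹).1.1 *ᵥ v) u, su_mulVec_inv]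
    rw [e1, e1]
  · rw [ue_of_not h he, ue_of_not h fun he' => he ?_, mul_one, mul_inv_cancel]
    have := he'.map h g⁻¹
    rwa [su_inv_mulVec, su_inv_mulVec] at this

theorem Ok.smul (h : UFrob σ q) {x w : Fin n → F} {α c : F} (hx : uh σ x x = 0) (hw : uh σ w x = 0)
    (hc : c + σ c + uh σ w w = 0) : Ok σ x (σ α • w) (α * σ α * c) := by
  refine ⟨hx, by rw [uh_smul_left, hw, mul_zero], ?_⟩
  rw [map_mul, map_mul, h.invol, uh_smul_left, uh_smul_right, h.invol]
  linear_combination α * σ α * hc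

theorem ue_smul (h : UFrob σ q) {x w : Fin n → F} {α c : F} (he : Ok σ x w c) :
    ue h (α • x) w c = ue h x (σ α • w) (α * σ α * c) := by
  have he' : Ok σ (α • x) w c :=
    ⟨by rw [uh_smul_left, uh_smul_right, he.1]; ring, by rw [uh_smul_right, he.2.1, mul_zero], he.2.2⟩
  refine su_ext fun v => ?_
  rw [ue_apply h he', ue_apply h (Ok.smul h he.1 he.2.1 he.2.2)]
  simp only [uh_smul_right, h.invol, smul_smul]
  module

theorem ue_center (h : UFrob σ q) {x : Fin n → F} {c : F} (hx : uh σ x x = 0) (hc : c + σ c = 0) :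
    ue h x 0 c = utv h x c hx hc := by
  refine su_ext fun v => ?_
  rw [ue_apply h (Ok.zero hx hc)]
  show _ = tMat σ x c *ᵥ v
  rw [tMat_mulVec, uh_zero_right]
  simp

theorem ue_swap (h : UFrob σ q) {x z : Fin n → F} (hx : uh σ x x = 0) (hz : uh σ z z = 0) (hzx : uh σ z x = 0)
    (β : F) : ue h z (β • x) 0 = ue h x ((-σ β) • z) 0 := by
  have hxz := h.swap_zero hzx
  have e1 : Ok σ z (β • x) 0 := ⟨hz, by rw [uh_smul_left, hxz, mul_zero],
    by rw [uh_smul_left, uh_smul_right, hx]; simp⟩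
  have e2 : Ok σ x ((-σ β) • z) 0 := ⟨hx, by rw [uh_smul_left, hzx, mul_zero],
    by rw [uh_smul_left, uh_smul_right, hz]; simp⟩
  refine su_ext fun v => ?_
  rw [ue_apply h e1, ue_apply h e2]
  simp only [uh_smul_right, map_neg, h.invol, smul_smul]
  module

theorem Ok.line (h : UFrob σ q) {x : Fin n → F} (hx : uh σ x x = 0) (γ : F) :
    Ok σ x (γ • x) (σ γ - γ) :=
  ⟨hx, by rw [uh_smul_left, hx, mul_zero], by rw [map_sub, h.invol, uh_smul_left, uh_smul_right, hx]; ring⟩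

theorem ue_line (h : UFrob σ q) {x : Fin n → F} (hx : uh σ x x = 0) (γ : F) :
    ue h x (γ • x) (σ γ - γ) = 1 := by
  refine su_ext fun v => ?_
  rw [ue_apply h (Ok.line h hx γ), su_one_mulVec]
  simp only [uh_smul_right, smul_smul]
  module

/-- The vectors `w` with some root element `ue x w c` in `H`. -/
noncomputable def rootSet (h : UFrob σ q) (H : Subgroup (Cfsg.SU n F q)) (x : Fin n → F) :
    AddSubgroup (Fin n → F) where
  carrier := {w | uh σ x x = 0 → ∃ c, Ok σ x w c ∧ ue h x w c ∈ H}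
  zero_mem' hx := ⟨0, Ok.zero hx (by simp), by rw [ue_one]; exact H.one_mem⟩
  add_mem' := by
    intro a b ha hb hx
    obtain ⟨c, hc, ha⟩ := ha hx
    obtain ⟨d, hd, hb⟩ := hb hx
    exact ⟨_, hc.add h hd, by rw [← hc.mul h hd]; exact H.mul_mem ha hb⟩
  neg_mem' := by
    intro a ha hx
    obtain ⟨c, hc, ha⟩ := ha hx
    exact ⟨_, hc.inv_ok h, by rw [← hc.inv h]; exact H.inv_mem ha⟩

theorem mem_rootSet (h : UFrob σ q) {H : Subgroup (Cfsg.SU n F q)} {x w : Fin n → F} (hx : uh σ x x = 0) :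
    w ∈ rootSet h H x ↔ ∃ c, Ok σ x w c ∧ ue h x w c ∈ H :=
  ⟨fun hw => hw hx, fun hw _ => hw⟩

theorem line_mem_rootSet (h : UFrob σ q) (H : Subgroup (Cfsg.SU n F q)) (x : Fin n → F) (γ : F) :
    γ • x ∈ rootSet h H x := fun hx => ⟨_, Ok.line h hx γ, by rw [ue_line h hx]; exact H.one_mem⟩

/-- The transvections at `x` in `H`. -/
noncomputable def ctr (h : UFrob σ q) (H : Subgroup (Cfsg.SU n F q)) (x : Fin n → F) : AddSubgroup (Sk σ) where
  carrier := {c | uh σ x x = 0 → ue h x 0 c.1 ∈ H}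
  zero_mem' _ := by simpa [ue_one] using H.one_mem
  add_mem' := by
    intro a b ha hb hx
    have := (Ok.zero hx (show a.1 + σ a.1 = 0 from a.2)).mul h (Ok.zero hx (show b.1 + σ b.1 = 0 from b.2))
    rw [uh_zero_right, sub_zero, add_zero] at this
    show ue h x 0 (a.1 + b.1) ∈ H
    rw [← this]
    exact H.mul_mem (ha hx) (hb hx)
  neg_mem' := by
    intro a ha hx
    have := (Ok.zero hx (show a.1 + σ a.1 = 0 from a.2)).inv h
    rw [neg_zero, show σ a.1 = -a.1 from eq_neg_of_add_eq_zero_right a.2] at this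
    show ue h x 0 (-a.1) ∈ H
    rw [← this]
    exact H.inv_mem (ha hx)

theorem mem_ctr (h : UFrob σ q) {H : Subgroup (Cfsg.SU n F q)} {x : Fin n → F} (hx : uh σ x x = 0) {c : Sk σ} :
    c ∈ ctr h H x ↔ ue h x 0 c.1 ∈ H :=
  ⟨fun hc => hc hx, fun hc _ => hc⟩

/-- The commutator of two root elements. -/
theorem comm_mem (h : UFrob σ q) {H : Subgroup (Cfsg.SU n F q)} {x w w' : Fin n → F} (hx : uh σ x x = 0)
    (hw : w ∈ rootSet h H x) (hw' : w' ∈ rootSet h H x) :
    (⟨uh σ w w' - uh σ w' w, by rw [mem_Sk, map_sub, h.symm, h.symm]; ring⟩ : Sk σ) ∈ ctr h H x := by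
  rw [mem_ctr h hx]
  obtain ⟨c, hc, hmw⟩ := hw hx
  obtain ⟨d, hd, hmw'⟩ := hw' hx
  have e1 := hc.mul h hd
  have e2 := hd.mul h hc
  have hk : (uh σ w w' - uh σ w' w) + σ (uh σ w w' - uh σ w' w) = 0 := by
    rw [map_sub, h.symm, h.symm]; ring
  have e3 := (hd.add h hc).mul h (Ok.zero hx hk)
  rw [uh_zero_left, sub_zero, add_zero,
    show d + c - uh σ w w' + (uh σ w w' - uh σ w' w) = c + d - uh σ w' w by ring, ← e2, add_comm w' w, ← e1] at e3
  have h4 : ue h x 0 (uh σ w w' - uh σ w' w) =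
      (ue h x w' d * ue h x w c)⁻¹ * (ue h x w c * ue h x w' d) := by rw [← e3]; group
  rw [h4]
  exact H.mul_mem (H.inv_mem (H.mul_mem hmw' hmw)) (H.mul_mem hmw hmw')

/-- An isotropic pair with an orthonormal frame of its orthogonal complement. -/
structure Split (σ : F →+* F) (m : ℕ) (x y : Fin n → F) (P : Matrix (Fin n) (Fin m) F) : Prop where
  xx : uh σ x x = 0
  yy : uh σ y y = 0
  xy : uh σ x y = 1
  frame : IsFrame σ P
  px : ∀ a, uh σ (P *ᵥ a) x = 0
  py : ∀ a, uh σ (P *ᵥ a) y = 0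
  dec : ∀ v, uh σ v y • x + uh σ v x • y + P *ᵥ ((P.map σ)ᵀ *ᵥ v) = v

namespace Split

variable {x y : Fin n → F} {P : Matrix (Fin n) (Fin m) F} (s : Split σ m x y P)
include s

theorem yx (h : UFrob σ q) : uh σ y x = 1 := by rw [← h.symm, s.xy, map_one]

theorem xp (h : UFrob σ q) (a : Fin m → F) : uh σ x (P *ᵥ a) = 0 := h.swap_zero (s.px a)

theorem yp (h : UFrob σ q) (a : Fin m → F) : uh σ y (P *ᵥ a) = 0 := h.swap_zero (s.py a)

theorem pp (h : UFrob σ q) (a b : Fin m → F) : uh σ (P *ᵥ a) (P *ᵥ b) = uh σ a b := by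
  rw [uh_frame_left h, s.frame.apply]

theorem x_ne : x ≠ 0 := fun h0 => by
  have := s.xy
  rw [h0, uh_zero_left] at this
  exact zero_ne_one this

theorem inj {a b : Fin m → F} (he : P *ᵥ a = P *ᵥ b) : a = b := by
  rw [← s.frame.apply a, he, s.frame.apply]

theorem proj_x (h : UFrob σ q) : (P.map σ)ᵀ *ᵥ x = 0 :=
  uh_ext h fun a => by rw [uh_zero_right, ← uh_frame_left h, s.px]

theorem proj_y (h : UFrob σ q) : (P.map σ)ᵀ *ᵥ y = 0 :=
  uh_ext h fun a => by rw [uh_zero_right, ← uh_frame_left h, s.py]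

theorem perp_x {v : Fin n → F} (hv : uh σ v x = 0) :
    uh σ v y • x + P *ᵥ ((P.map σ)ᵀ *ᵥ v) = v := by
  have := s.dec v
  rwa [hv, zero_smul, add_zero] at this

end Split

theorem exists_split_pair [Finite F] (h : UFrob σ q) {x y : Fin (m + 2) → F} (hxx : uh σ x x = 0)
    (hyy : uh σ y y = 0) (hxy : uh σ x y = 1) :
    ∃ P : Matrix (Fin (m + 2)) (Fin m) F, Split σ m x y P := by
  have hyx : uh σ y x = 1 := by rw [← h.symm, hxy, map_one]
  obtain ⟨θ, hθ⟩ := exists_trace h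
  obtain ⟨t, ht⟩ := CfsgLib.Geometry.exists_norm_eq h.ne h.invol (c := (-1 : F)) (by rw [map_neg, map_one])
  obtain ⟨u₁, hu₁⟩ : ∃ u, u = θ • x + y := ⟨_, rfl⟩
  obtain ⟨u₂, hu₂⟩ : ∃ u, u = t • ((-σ θ) • x + y) := ⟨_, rfl⟩
  have h11 : uh σ u₁ u₁ = 1 := by
    rw [hu₁]
    simp only [uh_add_left, uh_add_right, uh_smul_left, uh_smul_right, hxx, hyy, hxy, hyx]
    linear_combination hθ
  have h22 : uh σ u₂ u₂ = 1 := by
    rw [hu₂]
    simp only [uh_add_left, uh_add_right, uh_smul_left, uh_smul_right, hxx, hyy, hxy, hyx, map_neg, h.invol]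
    linear_combination (-(θ + σ θ)) * ht + hθ
  have h12 : uh σ u₁ u₂ = 0 := by
    rw [hu₁, hu₂]
    simp only [uh_add_left, uh_add_right, uh_smul_left, uh_smul_right, hxx, hyy, hxy, hyx, map_neg, h.invol]
    ring
  have ht0 : t ≠ 0 := fun h0 => by rw [h0, zero_mul] at ht; exact one_ne_zero (neg_eq_zero.1 ht.symm)
  have h21 := h.swap_zero h12
  have hli : LinearIndependent F ![u₁, u₂] := by
    refine LinearIndependent.pair_iff.2 fun r s hrs => ?_
    have e1 := congrArg (fun z => uh σ z u₁) hrs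
    have e2 := congrArg (fun z => uh σ z u₂) hrs
    simp only [uh_add_left, uh_smul_left, h11, h22, h12, h21, uh_zero_left] at e1 e2
    exact ⟨by simpa using e1, by simpa using e2⟩
  let i₀ : Fin (m + 2) := ⟨0, by omega⟩
  let i₁ : Fin (m + 2) := ⟨1, by omega⟩
  let std : Fin 2 → Fin (m + 2) → F := fun i => Pi.single (![i₀, i₁] i) 1
  have hne : i₀ ≠ i₁ := fun h => by simpa [i₀, i₁] using congrArg Fin.val h
  have hstd : LinearIndependent F std := by
    have hl : LinearIndependent F ![(Pi.single i₀ 1 : Fin (m + 2) → F), Pi.single i₁ 1] := by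
      refine LinearIndependent.pair_iff.2 fun r s hrs => ⟨?_, ?_⟩
      · have := congrFun hrs i₀
        simp [hne, hne.symm] at this
        exact this
      · have := congrFun hrs i₁
        simp [hne, hne.symm] at this
        exact this
    have e : std = ![(Pi.single i₀ 1 : Fin (m + 2) → F), Pi.single i₁ 1] := by funext i; fin_cases i <;> rfl
    rw [e]
    exact hl
  obtain ⟨g, hg, hgv⟩ := exists_gu_map h std ![u₁, u₂] hstd hli (fun i j => by
    fin_cases i <;> fin_cases j <;> simp [std, uh_single_left, hne, hne.symm, h11, h22, h12, h21])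
  have hg0 : g.1 *ᵥ Pi.single i₀ 1 = u₁ := hgv 0
  have hg1 : g.1 *ᵥ Pi.single i₁ 1 = u₂ := hgv 1
  let emb : Fin m → Fin (m + 2) := fun i => ⟨i.1 + 2, by omega⟩
  have hemb0 : ∀ i, emb i ≠ i₀ := fun i h => by simpa [emb, i₀] using congrArg Fin.val h
  have hemb1 : ∀ i, emb i ≠ i₁ := fun i h => by simpa [emb, i₁] using congrArg Fin.val h
  have hembinj : Function.Injective emb := fun i j hij => Fin.ext (by simpa [emb] using congrArg Fin.val hij)
  let P : Matrix (Fin (m + 2)) (Fin m) F := g.1.submatrix id emb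
  let J : Matrix (Fin (m + 2)) (Fin m) F := (1 : Matrix (Fin (m + 2)) (Fin (m + 2)) F).submatrix id emb
  have hPJ : P = g.1 * J := by
    ext i j; simp [P, J, Matrix.mul_apply, Matrix.one_apply]
  have hJ : ∀ a i, (J *ᵥ a) (emb i) = a i := fun a i => by
    simp [J, Matrix.mulVec, dotProduct, Matrix.one_apply, hembinj.eq_iff]
  have hJ0 : ∀ (a : Fin m → F) j, (∀ i, emb i ≠ j) → (J *ᵥ a) j = 0 := fun a j hj => by
    simp [J, Matrix.mulVec, dotProduct, Matrix.one_apply, fun i => (hj i).symm]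
  have hPa : ∀ a, P *ᵥ a = g.1 *ᵥ (J *ᵥ a) := fun a => by rw [hPJ, mulVec_mulVec]
  have hframe : IsFrame σ P := by
    show (P.map σ)ᵀ * P = 1
    ext i j
    have key := gu_uh h hg (Pi.single (emb j) 1) (Pi.single (emb i) 1)
    rw [uh_single_left, one_mul] at key
    have hij : σ ((Pi.single (emb i) 1 : Fin (m + 2) → F) (emb j)) = (1 : Matrix (Fin m) (Fin m) F) i j := by
      rcases eq_or_ne i j with rfl | h' <;> simp [*, hembinj.eq_iff, eq_comm]
    rw [← hij, ← key]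
    simp [P, Matrix.mul_apply, uh, dotProduct, mul_comm]
  have hperp : ∀ a, uh σ (P *ᵥ a) u₁ = 0 ∧ uh σ (P *ᵥ a) u₂ = 0 := fun a => by
    rw [← hg0, ← hg1, hPa, gu_uh h hg, gu_uh h hg, uh_single_right, uh_single_right, hJ0 a i₀ hemb0, hJ0 a i₁ hemb1]
    simp
  have hx12 : x = u₁ - t⁻¹ • u₂ := by
    rw [hu₁, hu₂, inv_smul_smul₀ ht0]
    match_scalars
    · linear_combination -hθ
    · ring
  have hy12 : y = u₁ - θ • x := by rw [hu₁]; abel
  have hpx : ∀ a, uh σ (P *ᵥ a) x = 0 := fun w => by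
    rw [hx12, uh_sub_right, uh_smul_right, (hperp w).1, (hperp w).2]; ring
  have hpy : ∀ a, uh σ (P *ᵥ a) y = 0 := fun w => by
    rw [hy12, uh_sub_right, uh_smul_right, hpx, (hperp w).1]; ring
  refine ⟨P, hxx, hyy, hxy, hframe, hpx, hpy, fun v => ?_⟩
  refine (sub_eq_zero.1 (uh_ext h fun z => ?_))
  rw [uh_zero_right]
  obtain ⟨w, rfl⟩ : ∃ w, g.1 *ᵥ w = z := ⟨(g⁻¹).1 *ᵥ z, by rw [mulVec_mulVec, g.mul_inv, one_mulVec]⟩
  have hw : g.1 *ᵥ w = w i₀ • u₁ + w i₁ • u₂ + P *ᵥ (fun i => w (emb i)) := by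
    rw [← hg0, ← hg1, hPa, ← mulVec_smul, ← mulVec_smul, ← mulVec_add, ← mulVec_add]
    congr 1
    funext j
    simp only [Pi.add_apply, Pi.smul_apply, Pi.single_apply, smul_eq_mul]
    rcases eq_or_ne j i₀ with rfl | h0
    · simp [hne, hJ0 _ i₀ hemb0]
    rcases eq_or_ne j i₁ with rfl | h1
    · simp [hne.symm, hJ0 _ i₁ hemb1]
    obtain ⟨i, rfl⟩ : ∃ i, emb i = j := ⟨⟨j.1 - 2, by omega⟩, Fin.ext (by
      have e0 : j.1 ≠ 0 := fun e => h0 (Fin.ext e)
      have e1 : j.1 ≠ 1 := fun e => h1 (Fin.ext e)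
      simp [emb]; omega)⟩
    simp [h0, h1, hJ]
  have key : ∀ (r s : F) (e : Fin m → F), uh σ (r • x + s • y + P *ᵥ e) (uh σ v y • x + uh σ v x • y + P *ᵥ ((P.map σ)ᵀ *ᵥ v) - v) = 0 := by
    intro r s e
    simp only [uh_add_left, uh_add_right, uh_sub_right, uh_smul_left, uh_smul_right, hxx, hyy, hxy, hyx, hpx, hpy,
      h.swap_zero (hpx _), h.swap_zero (hpy _), h.symm, uh_frame_left h P, hframe.apply]
    ring
  have := key (w i₀ * θ + w i₁ * (t * -σ θ)) (w i₀ + w i₁ * t) (fun i => w (emb i))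
  rw [hw, hu₁, hu₂]
  convert this using 2
  module

theorem exists_split [Finite F] (h : UFrob σ q) {x : Fin (m + 2) → F} (hx0 : x ≠ 0) (hxx : uh σ x x = 0) :
    ∃ (y : Fin (m + 2) → F) (P : Matrix (Fin (m + 2)) (Fin m) F), Split σ m x y P := by
  obtain ⟨y, hyy, hxy, -, -⟩ := exists_partner h ⊥ (by simpa using hx0) hxx
    (fun z hz => by rw [(Submodule.mem_bot F).1 hz, uh_zero_left])
  obtain ⟨P, hP⟩ := exists_split_pair h hxx hyy hxy
  exact ⟨y, P, hP⟩

end CfsgLib.MinIdx.Un
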