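import Cfsg.Agent.Lib.MinIdx.UnMain
import Cfsg.Agent.Lib.MinIdx.Un4Line

/-!
# Some isotropic point has no transvection in a proper subgroup
-/

set_option autoImplicit false

namespace CfsgLib.MinIdx.Un

open Matrix CfsgLib.Classical CfsgLib.Classical.Unitary

variable {F : Type*} [Field F] [Finite F] {σ : F →+* F} {q n m : ℕ} {x y : Fin n → F} {P : Matrix (Fin n) (Fin m) F}

/-- A transvection at a point orthogonal to `x`. -/
theorem ue_shift (h : UFrob σ q) (s : Split σ m x y P) {e : Fin m → F} (hee : uh σ e e = 0) (lam : F) {θ : F}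
    (hθ : θ + σ θ = 0) :
    Ok σ x (P *ᵥ ((θ * σ lam) • e)) (θ * (lam * σ lam)) ∧
      ue h (P *ᵥ e + lam • x) 0 θ =
        ue h x (P *ᵥ ((θ * σ lam) • e)) (θ * (lam * σ lam)) * ext h s (utv h e θ hee hθ) := by
  obtain ⟨p, hp⟩ : ∃ p, p = P *ᵥ e := ⟨_, rfl⟩
  rw [← hp, mulVec_smul, ← hp]
  have hpp : uh σ p p = 0 := by rw [hp, s.pp h, hee]
  have hpx : uh σ p x = 0 := hp ▸ s.px e
  have hxp : uh σ x p = 0 := h.swap_zero hpx
  have hok : Ok σ x ((θ * σ lam) • p) (θ * (lam * σ lam)) := by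
    refine ⟨s.xx, by rw [uh_smul_left, hpx, mul_zero], ?_⟩
    rw [uh_smul_left, uh_smul_right, hpp, map_mul, map_mul, h.invol]
    linear_combination (lam * σ lam) * hθ
  refine ⟨hok, su_ext fun v => ?_⟩
  have hz : uh σ (p + lam • x) (p + lam • x) = 0 := by
    simp [uh_add_left, uh_add_right, uh_smul_left, uh_smul_right, hpp, hpx, hxp, s.xx]
  rw [ext_utv h s hee hθ, ← hp, su_mul_mulVec, ue_apply h hok, ue_apply h (Ok.zero hz hθ),
    ue_apply h (Ok.zero hpp hθ)]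
  simp only [uh_zero_right, uh_add_right, uh_add_left, uh_smul_right, uh_smul_left, hpx, hpp, smul_zero, add_zero,
    sub_zero, mul_zero, map_mul, h.invol]
  match_scalars
  all_goals first
    | ring1
    | linear_combination (lam * uh σ v p) * hθ
    | linear_combination (-(lam * uh σ v p)) * hθ

/-- More isotropic vectors than the largest root set allows. -/
theorem iso_gt (hF : Nat.card F = q ^ 2) (h : UFrob σ q) (hm : 3 ≤ m) :
    (q ^ m - 1) * (q ^ 2 - 1) < iso σ m := by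
  have hq := two_le_q hF
  have h1 := iso_mul hF h m
  obtain ⟨A, hA⟩ : ∃ A, A = q ^ m := ⟨_, rfl⟩
  have hA3 : q ^ 3 ≤ A := hA ▸ Nat.pow_le_pow_right (by omega) hm
  rw [← hA]
  have hA1 : 1 ≤ A := le_trans (Nat.one_le_pow _ _ (by omega)) hA3
  zify [Nat.one_le_pow 2 q (by omega), hA1] at hA3 ⊢
  have hq' : (2 : ℤ) ≤ q := by exact_mod_cast hq
  have hA' : (A : ℤ) = (q : ℤ) ^ m := by exact_mod_cast hA
  refine lt_of_mul_lt_mul_left ?_ (show (0 : ℤ) ≤ q by omega)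
  rw [h1, mul_comm 2 m, pow_mul, ← hA']
  have h2 : (0 : ℤ) ≤ (A : ℤ) * ((A : ℤ) - (q : ℤ) ^ 3) := mul_nonneg (by positivity) (by linarith)
  have h3 : 2 * (q : ℤ) ≤ (q : ℤ) ^ 3 := by nlinarith
  have h4 : (0 : ℤ) ≤ (A : ℤ) * ((q : ℤ) - 1) := mul_nonneg (by positivity) (by linarith)
  have h5 : (1 : ℤ) ≤ A := by exact_mod_cast hA1
  rcases neg_one_pow_eq_or ℤ m with hs | hs <;> rw [hs] <;> linarith

/-- Some isotropic point carries no transvection of a proper subgroup. -/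
theorem exists_ctr_bot (hF : Nat.card F = q ^ 2) (h : UFrob σ q) (hm : 3 ≤ m)
    (H : Subgroup (Cfsg.SU (m + 2) F q)) (hH : H ≠ ⊤) :
    ∃ x : Fin (m + 2) → F, x ≠ 0 ∧ uh σ x x = 0 ∧ ctr h H x = ⊥ := by
  classical
  obtain ⟨x, hx0, hxx, hxc⟩ := exists_nonfull hF h (by omega) H hH
  obtain ⟨y, P, s⟩ := exists_split h hx0 hxx
  have hq := two_le_q hF
  by_contra hall
  push Not at hall
  have hA : Nat.card (aSet h H s) ≤ q ^ m := by
    refine Nat.mul_self_le_mul_self_iff.1 ((card_aSet_sq hF h s hxc).trans (le_of_eq ?_))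
    rw [← pow_add, two_mul]
  -- every line meets the root set
  have hline : ∀ e : Fin m → F, e ≠ 0 → uh σ e e = 0 → ∃ r : F, r ≠ 0 ∧ r • e ∈ aSet h H s := by
    intro e he0 hee
    have hz0 : ∀ lam : F, P *ᵥ e + lam • x ≠ 0 := fun lam h0 => by
      have h1 := congrArg ((P.map σ)ᵀ *ᵥ ·) h0
      simp only [mulVec_add, mulVec_smul, s.frame.apply, s.proj_x h, smul_zero, add_zero, mulVec_zero] at h1
      exact he0 h1
    have hzz : ∀ lam : F, uh σ (P *ᵥ e + lam • x) (P *ᵥ e + lam • x) = 0 := fun lam => by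
      simp [uh_add_left, uh_add_right, uh_smul_left, uh_smul_right, s.pp h, hee, s.px, s.xp h, s.xx]
    choose t ht ht0 using fun lam : F =>
      (AddSubgroup.bot_or_exists_ne_zero _).resolve_left (hall _ (hz0 lam) (hzz lam))
    obtain ⟨a, b, hne, hab⟩ : ∃ a b, a ≠ b ∧ t a = t b := by
      have : ¬ Function.Injective t := fun hinj => by
        have h1 := Nat.card_le_card_of_injective t hinj
        rw [card_Sk hF h, hF] at h1
        have : q * 2 ≤ q ^ 2 := by rw [sq]; exact Nat.mul_le_mul_left _ hq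
        omega
      simp only [Function.Injective, not_forall] at this
      obtain ⟨a, b, hab, hne⟩ := this
      exact ⟨a, b, hne, hab⟩
    obtain ⟨θ, hθ⟩ : ∃ θ, θ = t a := ⟨_, rfl⟩
    have hθ0 : θ.1 + σ θ.1 = 0 := θ.2
    obtain ⟨h1, e1⟩ := ue_shift h s hee a hθ0
    obtain ⟨h2, e2⟩ := ue_shift h s hee b hθ0
    have m1 := (mem_ctr h (hzz a)).1 (ht a)
    have m2 := (mem_ctr h (hzz b)).1 (ht b)
    rw [← hθ, e1] at m1
    rw [← hab, ← hθ, e2] at m2
    have h3 := H.mul_mem m1 (H.inv_mem m2)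
    rw [_root_.mul_inv_rev, ← mul_assoc, mul_inv_cancel_right, h2.inv h, h1.mul h (h2.inv_ok h)] at h3
    have h4 := h1.add h (h2.inv_ok h)
    rw [← mulVec_neg, ← mulVec_add] at h3 h4
    refine ⟨θ.1 * σ a - θ.1 * σ b, ?_, (mem_aSet h s).2
      ⟨θ.1 * (a * σ a) + σ (θ.1 * (b * σ b)) - uh σ (P *ᵥ -((θ.1 * σ b) • e)) (P *ᵥ ((θ.1 * σ a) • e)), ?_, ?_⟩⟩
    · rw [← mul_sub, ← map_sub]
      refine mul_ne_zero (fun h0 => ht0 a (hθ ▸ Subtype.ext h0)) ?_
      simpa [sub_eq_zero] using fun h0 : σ a = σ b => hne (σ.injective h0)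
    · rw [sub_eq_add_neg, add_smul, neg_smul]; exact h4
    · rw [sub_eq_add_neg, add_smul, neg_smul]; exact h3
  choose r hr0 hr using hline
  refine absurd (iso_gt hF h hm) (not_lt.2 ?_)
  haveI := Fintype.ofFinite (aSet h H s)
  have hne : Nat.card {a : aSet h H s // a ≠ 0} ≤ q ^ m - 1 := by
    rw [Nat.card_eq_fintype_card, Fintype.card_subtype_compl, Fintype.card_subtype_eq, ← Nat.card_eq_fintype_card]
    omega
  refine le_trans ?_ (Nat.mul_le_mul_right _ hne)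
  rw [← card_units_sq hF, ← Nat.card_prod]
  refine Nat.card_le_card_of_injective (fun e : {v : Fin m → F // v ≠ 0 ∧ uh σ v v = 0} =>
    ((⟨⟨_, hr e.1 e.2.1 e.2.2⟩, fun h0 => (smul_ne_zero (hr0 e.1 e.2.1 e.2.2) e.2.1) (congrArg Subtype.val h0)⟩ :
      {a : aSet h H s // a ≠ 0}), Units.mk0 _ (hr0 e.1 e.2.1 e.2.2))) ?_
  intro e e' he
  obtain ⟨e1, e2⟩ := Prod.ext_iff.1 he
  have e1' : r e.1 e.2.1 e.2.2 • e.1 = r e'.1 e'.2.1 e'.2.2 • e'.1 :=
    congrArg (fun a : {a : aSet h H s // a ≠ 0} => a.1.1) e1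
  have e2' : r e.1 e.2.1 e.2.2 = r e'.1 e'.2.1 e'.2.2 := congrArg Units.val e2
  rw [← e2'] at e1'
  exact Subtype.ext (smul_right_injective _ (hr0 e.1 e.2.1 e.2.2) e1')

end CfsgLib.MinIdx.Un
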