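import Cfsg.Agent.Lib.MinIdx.UnBase
import Cfsg.Agent.Lib.Classical.UnitarySimple

/-!
# Isotropic vectors, transitivity, and the cosets belonging to an orbit of points
-/

set_option autoImplicit false

namespace CfsgLib.MinIdx.Un

open Matrix CfsgLib.Classical CfsgLib.Classical.Unitary

variable {F : Type*} [Field F] [Finite F] {σ : F →+* F} {q n m : ℕ}

/-- The number of non-zero isotropic vectors. -/
noncomputable def iso (σ : F →+* F) (n : ℕ) : ℕ := Nat.card {v : Fin n → F // v ≠ 0 ∧ uh σ v v = 0}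

theorem iso_add_one (h : UFrob σ q) (n : ℕ) : iso σ n + 1 = normCount F q n 0 := by
  classical
  haveI := Fintype.ofFinite F
  rw [iso, normCount, Nat.card_eq_fintype_card, Nat.card_eq_fintype_card, Fintype.card_subtype, Fintype.card_subtype]
  rw [show (Finset.univ.filter fun v : Fin n → F => ∑ i, v i ^ (q + 1) = 0) =
      insert 0 (Finset.univ.filter fun v : Fin n → F => v ≠ 0 ∧ uh σ v v = 0) from ?_, Finset.card_insert_of_notMem]
  · simp
  · ext v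
    simp only [Finset.mem_filter, Finset.mem_univ, true_and, Finset.mem_insert]
    rw [← hermForm_self, h.hermForm_eq]
    by_cases hv : v = 0
    · simp [hv, uh_zero_left]
    · simp [hv]

theorem iso_mul (hF : Nat.card F = q ^ 2) (h : UFrob σ q) (n : ℕ) :
    (q : ℤ) * (iso σ n : ℤ) = (q : ℤ) ^ (2 * n) + (-1) ^ n * q ^ n * ((q : ℤ) - 1) - q := by
  have h1 := iso_add_one h n
  have h2 := (normCount_closed hF n).1
  rw [← h1] at h2
  push_cast at h2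
  linear_combination h2

/-- `SU` is transitive on non-zero isotropic vectors. -/
theorem su_trans (hF : Nat.card F = q ^ 2) (h : UFrob σ q) (hm : 1 ≤ m) {e e' : Fin (m + 2) → F} (he : e ≠ 0)
    (he' : e' ≠ 0) (hee : uh σ e e = 0) (hee' : uh σ e' e' = 0) :
    ∃ g : Cfsg.SU (m + 2) F q, g.1.1 *ᵥ e = e' := by
  obtain ⟨g, hg, hge⟩ := exists_gu_map_one h he he' (hee.trans hee'.symm)
  obtain ⟨y, P, s⟩ := exists_split h he' hee'
  obtain ⟨u, hu⟩ : ∃ u, u = P *ᵥ Pi.single ⟨0, by omega⟩ 1 := ⟨_, rfl⟩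
  have huu : uh σ u u = 1 := by rw [hu, s.pp h, uh_single_self h]
  obtain ⟨δ, hδ⟩ : ∃ δ : F, δ = g.1.det := ⟨_, rfl⟩
  have hδn : δ * σ δ = 1 := by
    have h1 := gu_det_norm hF h (n := m + 2) (by omega) hg
    rw [hδ]
    simpa [h.pow, pow_succ'] using h1
  have hδ0 : δ ≠ 0 := fun h0 => by simp [h0] at hδn
  obtain ⟨c, hc⟩ : ∃ c, c = δ⁻¹ - 1 := ⟨_, rfl⟩
  have hdet : (tMat σ u c * g.1).det = 1 := by
    rw [det_mul, det_tMat, huu, mul_one, ← hδ, hc, add_sub_cancel, inv_mul_cancel₀ hδ0]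
  have hiso : ∀ a b, uh σ (tMat σ u c *ᵥ a) (tMat σ u c *ᵥ b) = uh σ a b := fun a b => by
    have hσ : σ δ⁻¹ = δ := by
      rw [map_inv₀]
      exact inv_eq_of_mul_eq_one_left hδn
    simp only [tMat_mulVec, uh_add_left, uh_add_right, uh_smul_left, uh_smul_right, huu, map_mul, h.symm, hc,
      map_sub, map_one, hσ]
    linear_combination (uh σ a u * uh σ u b) * (inv_mul_cancel₀ hδ0)
  refine ⟨⟨⟨tMat σ u c * g.1, hdet⟩, mem_SU_iff.2 fun a b => ?_⟩, ?_⟩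
  · show Cfsg.hermForm _ F q ((tMat σ u c * g.1) *ᵥ a) ((tMat σ u c * g.1) *ᵥ b) = _
    rw [← mulVec_mulVec, ← mulVec_mulVec, h.hermForm_eq, h.hermForm_eq, hiso, gu_uh h hg]
  · show (tMat σ u c * g.1) *ᵥ e = e'
    rw [← mulVec_mulVec, hge, tMat_mulVec, h.swap_zero (show uh σ u e' = 0 by rw [hu]; exact s.px _)]
    simp

theorem finite_su : Finite (Cfsg.SU n F q) := inferInstance

omit [Finite F] in
theorem inv_move {g : Cfsg.SU n F q} {v w : Fin n → F} (he : g.1.1 *ᵥ v = w) : (g⁻¹).1.1 *ᵥ w = v := by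
  rw [← he, su_inv_mulVec]

/-- The vectors on the lines of the orbit of `x`. -/
def orb (H : Subgroup (Cfsg.SU n F q)) (x : Fin n → F) : Set (Fin n → F) :=
  {v | ∃ k ∈ H, ∃ α : F, α ≠ 0 ∧ v = α • k.1.1 *ᵥ x}

/-- The number of cosets `g H` with `g⁻¹ x` in the orbit of `x`. -/
noncomputable def cnt (H : Subgroup (Cfsg.SU n F q)) (x : Fin n → F) : ℕ :=
  Nat.card {c : Cfsg.SU n F q ⧸ H // (c.out⁻¹).1.1 *ᵥ x ∈ orb H x}

omit [Finite F] in
theorem orb_map {H : Subgroup (Cfsg.SU n F q)} {x v : Fin n → F} {k : Cfsg.SU n F q} (hk : k ∈ H)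
    (hv : v ∈ orb H x) : k.1.1 *ᵥ v ∈ orb H x := by
  obtain ⟨k', hk', α, hα, rfl⟩ := hv
  exact ⟨k * k', H.mul_mem hk hk', α, hα, by rw [mulVec_smul, su_mul_mulVec]⟩

omit [Finite F] in
theorem mem_orb_self (H : Subgroup (Cfsg.SU n F q)) (x : Fin n → F) : x ∈ orb H x :=
  ⟨1, H.one_mem, 1, one_ne_zero, by rw [su_one_mulVec, one_smul]⟩

omit [Finite F] in
theorem orb_iso (h : UFrob σ q) {H : Subgroup (Cfsg.SU n F q)} {x v : Fin n → F} (hx0 : x ≠ 0)
    (hxx : uh σ x x = 0) (hv : v ∈ orb H x) : v ≠ 0 ∧ uh σ v v = 0 := by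
  obtain ⟨k, -, α, hα, rfl⟩ := hv
  refine ⟨smul_ne_zero hα fun h0 => hx0 ?_, by rw [uh_smul_left, uh_smul_right, su_uh h, hxx, mul_zero, mul_zero]⟩
  rw [← su_inv_mulVec k x, h0, mulVec_zero]

theorem cnt_mul (hF : Nat.card F = q ^ 2) (h : UFrob σ q) (hm : 1 ≤ m) (H : Subgroup (Cfsg.SU (m + 2) F q))
    {x : Fin (m + 2) → F} (hx0 : x ≠ 0) (hxx : uh σ x x = 0) :
    cnt H x * iso σ (m + 2) = H.index * Nat.card (orb H x) := by
  classical
  let G := Cfsg.SU (m + 2) F q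
  let St := {g : G // g.1.1 *ᵥ x = x}
  choose s hs using fun v : {v : Fin (m + 2) → F // v ≠ 0 ∧ uh σ v v = 0} => su_trans hF h hm v.2.1 hx0 v.2.2 hxx
  have hG : Nat.card G = iso σ (m + 2) * Nat.card St := by
    rw [iso, ← Nat.card_prod]
    refine Nat.card_congr
      { toFun := fun g => (⟨(g⁻¹).1.1 *ᵥ x, ?_, ?_⟩, ⟨g * (s ⟨(g⁻¹).1.1 *ᵥ x, ?_, ?_⟩)⁻¹, ?_⟩)
        invFun := fun p => p.2.1 * s p.1
        left_inv := fun g => ?_
        right_inv := fun p => ?_ }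
    · exact fun h0 => hx0 (by rw [← su_mulVec_inv g x, h0, mulVec_zero])
    · rw [su_uh h, hxx]
    · exact fun h0 => hx0 (by rw [← su_mulVec_inv g x, h0, mulVec_zero])
    · rw [su_uh h, hxx]
    · rw [su_mul_mulVec]
      have := hs ⟨(g⁻¹).1.1 *ᵥ x, fun h0 => hx0 (by rw [← su_mulVec_inv g x, h0, mulVec_zero]), by rw [su_uh h, hxx]⟩
      conv_lhs => arg 2; arg 2; rw [← this]
      rw [su_inv_mulVec, su_mulVec_inv]
    · simp
    · obtain ⟨v, t⟩ := p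
      have e : ((t.1 * s v)⁻¹).1.1 *ᵥ x = v.1 :=
        inv_move (by rw [su_mul_mulVec, hs v, t.2])
      refine Prod.ext (Subtype.ext e) (Subtype.ext ?_)
      show t.1 * s v * (s ⟨_, _⟩)⁻¹ = t.1
      rw [show (⟨((t.1 * s v)⁻¹).1.1 *ᵥ x, _⟩ : {v : Fin (m + 2) → F // v ≠ 0 ∧ uh σ v v = 0}) = v from Subtype.ext e,
        mul_inv_cancel_right]
  let X := {g : G // (g⁻¹).1.1 *ᵥ x ∈ orb H x}
  have hX1 : Nat.card X = Nat.card (orb H x) * Nat.card St := by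
    rw [← Nat.card_prod]
    refine Nat.card_congr
      { toFun := fun g => (⟨_, g.2⟩, ⟨g.1 * (s ⟨_, orb_iso h hx0 hxx g.2⟩)⁻¹, ?_⟩)
        invFun := fun p => ⟨p.2.1 * s ⟨_, orb_iso h hx0 hxx p.1.2⟩, ?_⟩
        left_inv := fun g => Subtype.ext (by simp)
        right_inv := fun p => ?_ }
    · rw [su_mul_mulVec]
      conv_lhs => arg 2; arg 2; rw [← hs ⟨_, orb_iso h hx0 hxx g.2⟩]
      rw [su_inv_mulVec]
      exact su_mulVec_inv g.1 x
    · have e : ((p.2.1 * s ⟨_, orb_iso h hx0 hxx p.1.2⟩)⁻¹).1.1 *ᵥ x = p.1.1 :=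
        inv_move (by rw [su_mul_mulVec, hs ⟨_, orb_iso h hx0 hxx p.1.2⟩, p.2.2])
      rw [e]
      exact p.1.2
    · have e : ((p.2.1 * s ⟨_, orb_iso h hx0 hxx p.1.2⟩)⁻¹).1.1 *ᵥ x = p.1.1 :=
        inv_move (by rw [su_mul_mulVec, hs ⟨_, orb_iso h hx0 hxx p.1.2⟩, p.2.2])
      refine Prod.ext (Subtype.ext e) (Subtype.ext ?_)
      simp only [e, mul_inv_cancel_right]
  have hX2 : Nat.card X = cnt H x * Nat.card H := by
    rw [cnt, ← Nat.card_prod]
    have key : ∀ g k : G, k ∈ H → ((g⁻¹).1.1 *ᵥ x ∈ orb H x ↔ ((g * k)⁻¹).1.1 *ᵥ x ∈ orb H x) := by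
      intro g k hk
      rw [_root_.mul_inv_rev, su_mul_mulVec]
      refine ⟨fun hv => orb_map (H.inv_mem hk) hv, fun hv => ?_⟩
      have := orb_map hk hv
      rwa [su_mulVec_inv] at this
    refine Nat.card_congr
      { toFun := fun g => (⟨QuotientGroup.mk g.1, ?_⟩, ⟨(QuotientGroup.mk g.1 : G ⧸ H).out⁻¹ * g.1, ?_⟩)
        invFun := fun p => ⟨p.1.1.out * p.2.1, (key _ _ p.2.2).1 p.1.2⟩
        left_inv := fun g => Subtype.ext (mul_inv_cancel_left _ _)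
        right_inv := fun p => ?_ }
    · obtain ⟨k, hk⟩ := QuotientGroup.mk_out_eq_mul H g.1
      rw [hk]
      exact (key _ _ k.2).1 g.2
    · exact QuotientGroup.eq.1 (QuotientGroup.out_eq' _)
    · have e : (QuotientGroup.mk (p.1.1.out * p.2.1) : G ⧸ H) = p.1.1 := by
        conv_rhs => rw [← QuotientGroup.out_eq' p.1.1]
        exact QuotientGroup.eq.2 (by simp [p.2.2])
      refine Prod.ext (Subtype.ext e) (Subtype.ext ?_)
      simp only [e, inv_mul_cancel_left]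
  have hH : H.index * Nat.card H = iso σ (m + 2) * Nat.card St := by rw [← hG, H.index_mul_card]
  refine Nat.eq_of_mul_eq_mul_right (Nat.card_pos (α := H)) ?_
  calc cnt H x * iso σ (m + 2) * Nat.card H = cnt H x * Nat.card H * iso σ (m + 2) := by ring
    _ = Nat.card (orb H x) * Nat.card St * iso σ (m + 2) := by rw [← hX2, hX1]
    _ = Nat.card (orb H x) * (H.index * Nat.card H) := by rw [hH]; ring
    _ = _ := by ring

theorem iso_pos (h : UFrob σ q) {x : Fin n → F} (hx0 : x ≠ 0) (hxx : uh σ x x = 0) : 0 < iso σ n :=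
  haveI : Nonempty {v : Fin n → F // v ≠ 0 ∧ uh σ v v = 0} := ⟨⟨x, hx0, hxx⟩⟩
  Nat.card_pos

theorem one_le_cnt (H : Subgroup (Cfsg.SU n F q)) (x : Fin n → F) : 1 ≤ cnt H x := by
  obtain ⟨k, hk⟩ := QuotientGroup.mk_out_eq_mul H (1 : Cfsg.SU n F q)
  have hmem : ((QuotientGroup.mk 1 : Cfsg.SU n F q ⧸ H).out⁻¹).1.1 *ᵥ x ∈ orb H x := by
    rw [hk, one_mul]
    exact orb_map (H.inv_mem k.2) (mem_orb_self H x)
  haveI : Nonempty {c : Cfsg.SU n F q ⧸ H // (c.out⁻¹).1.1 *ᵥ x ∈ orb H x} := ⟨⟨_, hmem⟩⟩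
  exact Nat.card_pos

/-- Points in different orbits take different cosets. -/
theorem cnt_add_le (hF : Nat.card F = q ^ 2) (h : UFrob σ q) (hm : 1 ≤ m) (H : Subgroup (Cfsg.SU (m + 2) F q))
    {x z : Fin (m + 2) → F} (hx0 : x ≠ 0) (hxx : uh σ x x = 0) (hz0 : z ≠ 0) (hzz : uh σ z z = 0)
    (hd : z ∉ orb H x) : cnt H x + cnt H z ≤ H.index := by
  classical
  refine Nat.le_of_mul_le_mul_right ?_ (iso_pos h hx0 hxx)
  rw [add_mul, cnt_mul hF h hm H hx0 hxx, cnt_mul hF h hm H hz0 hzz, ← mul_add]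
  refine Nat.mul_le_mul_left _ ?_
  rw [iso, ← Nat.card_sum]
  refine Nat.card_le_card_of_injective
    (Sum.elim (fun v => ⟨v.1, orb_iso h hx0 hxx v.2⟩) (fun v => ⟨v.1, orb_iso h hz0 hzz v.2⟩)) ?_
  refine Function.Injective.sumElim (fun a b hab => Subtype.ext (Subtype.mk.inj hab))
    (fun a b hab => Subtype.ext (Subtype.mk.inj hab)) fun a b hab => hd ?_
  have e : a.1 = b.1 := Subtype.mk.inj hab
  obtain ⟨k, hk, α, hα, ha⟩ := a.2
  obtain ⟨k', hk', β, hβ, hb⟩ := b.2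
  refine ⟨k'⁻¹ * k, H.mul_mem (H.inv_mem hk') hk, β⁻¹ * α, mul_ne_zero (inv_ne_zero hβ) hα, ?_⟩
  rw [su_mul_mulVec, mul_smul, ← mulVec_smul, ← ha, e, hb, mulVec_smul, su_inv_mulVec, inv_smul_smul₀ hβ]

end CfsgLib.MinIdx.Un
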