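import Cfsg.Agent.Lib.MinIdx.UnCount
import Cfsg.Agent.Lib.MinIdx.OrthTop

/-!
# The parabolic at an isotropic point: root set, centre, torus and Levi part of a subgroup
-/

set_option autoImplicit false

namespace CfsgLib.MinIdx.Un

open Matrix CfsgLib.Classical CfsgLib.Classical.Unitary

variable {F : Type*} [Field F] {σ : F →+* F} {q n m : ℕ} {x y : Fin n → F} {P : Matrix (Fin n) (Fin m) F}

/-- The elements fixing both lines of a pair. -/
def Mst (σ : F →+* F) (q : ℕ) (x y : Fin n → F) : Subgroup (Cfsg.SU n F q) where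
  carrier := {g | (∃ c : F, c ≠ 0 ∧ g.1.1 *ᵥ x = c • x) ∧ ∃ d : F, d ≠ 0 ∧ g.1.1 *ᵥ y = d • y}
  one_mem' := ⟨⟨1, one_ne_zero, by rw [su_one_mulVec, one_smul]⟩, ⟨1, one_ne_zero, by rw [su_one_mulVec, one_smul]⟩⟩
  mul_mem' := by
    rintro a b ⟨⟨c, hc, hac⟩, d, hd, had⟩ ⟨⟨c', hc', hbc⟩, d', hd', hbd⟩
    exact ⟨⟨c' * c, mul_ne_zero hc' hc, by rw [su_mul_mulVec, hbc, mulVec_smul, hac, smul_smul]⟩,
      ⟨d' * d, mul_ne_zero hd' hd, by rw [su_mul_mulVec, hbd, mulVec_smul, had, smul_smul]⟩⟩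
  inv_mem' := by
    rintro a ⟨⟨c, hc, hac⟩, d, hd, had⟩
    refine ⟨⟨c⁻¹, inv_ne_zero hc, ?_⟩, ⟨d⁻¹, inv_ne_zero hd, ?_⟩⟩
    · rw [eq_inv_smul_iff₀ hc, ← mulVec_smul, ← hac, su_inv_mulVec]
    · rw [eq_inv_smul_iff₀ hd, ← mulVec_smul, ← had, su_inv_mulVec]

/-- The factor by which `x` is scaled. -/
def scal (σ : F →+* F) (x y : Fin n → F) (g : Cfsg.SU n F q) : F := uh σ (g.1.1 *ᵥ x) y

/-- The action on the coordinates of the complement. -/
def lin (σ : F →+* F) (P : Matrix (Fin n) (Fin m) F) (g : Cfsg.SU n F q) (a : Fin m → F) : Fin m → F :=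
  (P.map σ)ᵀ *ᵥ (g.1.1 *ᵥ (P *ᵥ a))

theorem Mst_x (s : Split σ m x y P) {g : Cfsg.SU n F q} (hg : g ∈ Mst σ q x y) :
    scal σ x y g ≠ 0 ∧ g.1.1 *ᵥ x = scal σ x y g • x := by
  obtain ⟨c, hc, hgx⟩ := hg.1
  have e : scal σ x y g = c := by rw [scal, hgx, uh_smul_left, s.xy, mul_one]
  exact ⟨e ▸ hc, e ▸ hgx⟩

theorem Mst_y (h : UFrob σ q) (s : Split σ m x y P) {g : Cfsg.SU n F q} (hg : g ∈ Mst σ q x y) :
    g.1.1 *ᵥ y = (σ (scal σ x y g))⁻¹ • y := by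
  obtain ⟨hc0, hgx⟩ := Mst_x s hg
  obtain ⟨d, hd, hgy⟩ := hg.2
  have h1 := su_uh h g x y
  rw [hgx, hgy, uh_smul_left, uh_smul_right, s.xy, mul_one] at h1
  have h2 := congrArg σ h1
  rw [map_mul, h.invol, map_one, mul_comm] at h2
  rw [hgy, eq_inv_of_mul_eq_one_left h2]

theorem Mst_p (h : UFrob σ q) (s : Split σ m x y P) {g : Cfsg.SU n F q} (hg : g ∈ Mst σ q x y)
    (a : Fin m → F) : g.1.1 *ᵥ (P *ᵥ a) = P *ᵥ lin σ P g a := by
  obtain ⟨hc0, hgx⟩ := Mst_x s hg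
  have hgy := Mst_y h s hg
  have e1 : uh σ (g.1.1 *ᵥ (P *ᵥ a)) x = 0 := by
    have h1 := su_uh h g (P *ᵥ a) x
    rw [hgx, uh_smul_right, s.px] at h1
    exact (mul_eq_zero.1 h1).resolve_left (by simpa using hc0)
  have e2 : uh σ (g.1.1 *ᵥ (P *ᵥ a)) y = 0 := by
    have h1 := su_uh h g (P *ᵥ a) y
    rw [hgy, uh_smul_right, s.py] at h1
    exact (mul_eq_zero.1 h1).resolve_left (by simpa using hc0)
  have h1 := s.dec (g.1.1 *ᵥ (P *ᵥ a))
  rw [e1, e2, zero_smul, zero_smul, zero_add, zero_add] at h1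
  exact h1.symm

theorem scal_mul (s : Split σ m x y P) {g k : Cfsg.SU n F q} (hg : g ∈ Mst σ q x y) (hk : k ∈ Mst σ q x y) :
    scal σ x y (g * k) = scal σ x y g * scal σ x y k := by
  rw [scal, su_mul_mulVec, (Mst_x s hk).2, mulVec_smul, (Mst_x s hg).2, uh_smul_left, uh_smul_left, s.xy]
  ring

/-- The scaling homomorphism. -/
noncomputable def scalHom (s : Split σ m x y P) : Mst σ q x y →* Fˣ where
  toFun g := Units.mk0 (scal σ x y g.1) (Mst_x s g.2).1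
  map_one' := Units.ext (by
    show scal σ x y (1 : Cfsg.SU n F q) = 1
    rw [scal, su_one_mulVec, s.xy])
  map_mul' g k := Units.ext (scal_mul s g.2 k.2)

theorem scalHom_val (s : Split σ m x y P) (g : Mst σ q x y) : (scalHom s g : F) = scal σ x y g.1 := rfl

theorem conj_ue (h : UFrob σ q) (s : Split σ m x y P) {g : Cfsg.SU n F q} (hg : g ∈ Mst σ q x y)
    {a : Fin m → F} {c : F} (he : Ok σ x (P *ᵥ a) c) :
    Ok σ x (P *ᵥ (σ (scal σ x y g) • lin σ P g a)) (scal σ x y g * σ (scal σ x y g) * c) ∧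
      g * ue h x (P *ᵥ a) c * g⁻¹ =
        ue h x (P *ᵥ (σ (scal σ x y g) • lin σ P g a)) (scal σ x y g * σ (scal σ x y g) * c) := by
  obtain ⟨hc0, hgx⟩ := Mst_x s hg
  have he1 := he.map h g
  rw [hgx, Mst_p h s hg] at he1
  have he2 : Ok σ x (P *ᵥ lin σ P g a) c := ⟨s.xx, s.px _, he1.2.2⟩
  rw [ue_conj, hgx, Mst_p h s hg, ue_smul h he2, mulVec_smul]
  exact ⟨Ok.smul h s.xx he2.2.1 he2.2.2, rfl⟩

theorem Ok.exists_c (h : UFrob σ q) (s : Split σ m x y P) {θ : F} (hθ : θ + σ θ = 1) (a : Fin m → F) :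
    Ok σ x (P *ᵥ a) (-θ * uh σ a a) := by
  refine ⟨s.xx, s.px a, ?_⟩
  rw [s.pp h, map_mul, map_neg, h.symm]
  linear_combination (-(uh σ a a)) * hθ

/-- The part of `Mst` lifting into `H`. -/
noncomputable def liftM (h : UFrob σ q) (H : Subgroup (Cfsg.SU n F q)) (s : Split σ m x y P) :
    Subgroup (Mst σ q x y) where
  carrier := {g | ∃ (a : Fin m → F) (c : F), Ok σ x (P *ᵥ a) c ∧ ue h x (P *ᵥ a) c * g.1 ∈ H}
  one_mem' := ⟨0, 0, by rw [mulVec_zero]; exact Ok.zero s.xx (by simp),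
    by rw [mulVec_zero, ue_one, one_mul]; exact H.one_mem⟩
  mul_mem' := by
    rintro g k ⟨a, c, he, hm⟩ ⟨b, d, he', hm'⟩
    obtain ⟨he'', e⟩ := conj_ue h s g.2 he'
    have he3 := he.add h he''
    rw [← mulVec_add] at he3
    refine ⟨_, _, he3, ?_⟩
    rw [mulVec_add, ← he.mul h he'', ← e]
    convert H.mul_mem hm hm' using 1
    show _ * (g.1 * k.1) = _
    group
  inv_mem' := by
    rintro g ⟨a, c, he, hm⟩
    have hi := he.inv_ok h
    rw [← mulVec_neg] at hi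
    obtain ⟨he', e⟩ := conj_ue h s (g⁻¹).2 hi
    refine ⟨_, _, he', ?_⟩
    rw [← e, mulVec_neg, ← he.inv h]
    convert H.inv_mem hm using 1
    show (g.1)⁻¹ * _ * (g.1⁻¹)⁻¹ * g.1⁻¹ = _
    group

/-- The root set in coordinates of the complement. -/
noncomputable def aSet (h : UFrob σ q) (H : Subgroup (Cfsg.SU n F q)) (s : Split σ m x y P) :
    AddSubgroup (Fin m → F) :=
  (rootSet h H x).comap P.mulVecLin.toAddMonoidHom

theorem mem_aSet (h : UFrob σ q) {H : Subgroup (Cfsg.SU n F q)} (s : Split σ m x y P) {a : Fin m → F} :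
    a ∈ aSet h H s ↔ ∃ c, Ok σ x (P *ᵥ a) c ∧ ue h x (P *ᵥ a) c ∈ H :=
  mem_rootSet h s.xx

theorem aSet_invariant (h : UFrob σ q) {H : Subgroup (Cfsg.SU n F q)} (s : Split σ m x y P) {g : Mst σ q x y}
    (hg : g ∈ liftM h H s) {a : Fin m → F} (ha : a ∈ aSet h H s) :
    σ (scal σ x y g.1) • lin σ P g.1 a ∈ aSet h H s := by
  obtain ⟨b, d, hb, hbm⟩ := hg
  obtain ⟨c, hc, hcm⟩ := (mem_aSet h s).1 ha
  obtain ⟨hc', e⟩ := conj_ue h s g.2 hc
  set a' := σ (scal σ x y g.1) • lin σ P g.1 a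
  set c' := scal σ x y g.1 * σ (scal σ x y g.1) * c
  have h1 : ue h x (P *ᵥ b) d * ue h x (P *ᵥ a') c' * (ue h x (P *ᵥ b) d)⁻¹ ∈ H := by
    rw [← e]
    convert H.mul_mem (H.mul_mem hbm hcm) (H.inv_mem hbm) using 1
    group
  rw [hb.inv h, hb.mul h hc', (hb.add h hc').mul h (hb.inv_ok h)] at h1
  have h2 := (hb.add h hc').add h (hb.inv_ok h)
  rw [show P *ᵥ b + P *ᵥ a' + -(P *ᵥ b) = P *ᵥ a' by abel] at h1 h2
  exact (mem_aSet h s).2 ⟨_, h2, h1⟩

theorem ctr_scale (h : UFrob σ q) {H : Subgroup (Cfsg.SU n F q)} (s : Split σ m x y P) {g : Mst σ q x y}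
    (hg : g ∈ liftM h H s) {θ : Sk σ} (hθ : θ ∈ ctr h H x) :
    ∃ hk, (⟨scal σ x y g.1 * σ (scal σ x y g.1) * θ.1, hk⟩ : Sk σ) ∈ ctr h H x := by
  obtain ⟨b, d, hb, hbm⟩ := hg
  have hθ0 : θ.1 + σ θ.1 = 0 := θ.2
  have hk : scal σ x y g.1 * σ (scal σ x y g.1) * θ.1 + σ (scal σ x y g.1 * σ (scal σ x y g.1) * θ.1) = 0 := by
    rw [map_mul, map_mul, h.invol]
    linear_combination (scal σ x y g.1 * σ (scal σ x y g.1)) * hθ0
  refine ⟨hk, (mem_ctr h s.xx).2 ?_⟩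
  have he : Ok σ x (P *ᵥ (0 : Fin m → F)) θ.1 := by rw [mulVec_zero]; exact Ok.zero s.xx hθ0
  obtain ⟨-, e⟩ := conj_ue h s g.2 he
  have hmem : ue h x (P *ᵥ (0 : Fin m → F)) θ.1 ∈ H := by rw [mulVec_zero]; exact (mem_ctr h s.xx).1 hθ
  have h1 := H.mul_mem (H.mul_mem hbm hmem) (H.inv_mem hbm)
  rw [show ue h x (P *ᵥ b) d * g.1 * ue h x (P *ᵥ (0 : Fin m → F)) θ.1 * (ue h x (P *ᵥ b) d * g.1)⁻¹ =
      ue h x (P *ᵥ b) d * (g.1 * ue h x (P *ᵥ (0 : Fin m → F)) θ.1 * g.1⁻¹) * (ue h x (P *ᵥ b) d)⁻¹ by group, e] at h1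
  simp only [lin, mulVec_zero, smul_zero] at h1
  have h0 := Ok.zero s.xx hk
  rw [hb.inv h, hb.mul h h0, (hb.add h h0).mul h (hb.inv_ok h), add_zero, add_neg_cancel] at h1
  convert h1 using 2
  rw [uh_zero_left, uh_neg_left, sub_zero]
  linear_combination -hb.2.2

theorem cnt_ge [Finite F] (h : UFrob σ q) (H : Subgroup (Cfsg.SU n F q)) (s : Split σ m x y P) :
    (aSet h H s).index * (ctr h H x).index * (liftM h H s).index ≤ cnt H x := by
  classical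
  obtain ⟨θ, hθ⟩ := exists_trace h
  simp only [AddSubgroup.index, Subgroup.index, ← Nat.card_prod, cnt]
  let c0 : ((Fin m → F) ⧸ aSet h H s) → (Sk σ ⧸ ctr h H x) → F := fun a t => -θ * uh σ a.out a.out + t.out.1
  have hok : ∀ a t, Ok σ x (P *ᵥ a.out) (c0 a t) := fun a t => by
    obtain ⟨h1, h2, h3⟩ := Ok.exists_c h s hθ a.out
    refine ⟨h1, h2, ?_⟩
    have h4 : t.out.1 + σ t.out.1 = 0 := t.out.2
    simp only [c0, map_add]
    linear_combination h3 + h4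
  let f : (((Fin m → F) ⧸ aSet h H s) × (Sk σ ⧸ ctr h H x)) × (Mst σ q x y ⧸ liftM h H s) → Cfsg.SU n F q :=
    fun p => p.2.out.1 * ue h x (P *ᵥ p.1.1.out) (c0 p.1.1 p.1.2)
  have hfix : ∀ p, ∃ α : F, α ≠ 0 ∧ (f p).1.1 *ᵥ x = α • x := fun p => by
    obtain ⟨hc0, hgx⟩ := Mst_x s p.2.out.2
    refine ⟨_, hc0, ?_⟩
    rw [su_mul_mulVec, ue_apply h (hok _ _), s.xx, s.xp h]
    simp [hgx]
  refine Nat.card_le_card_of_injective (fun p => ⟨QuotientGroup.mk (f p), ?_⟩) ?_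
  · obtain ⟨k, hk⟩ := QuotientGroup.mk_out_eq_mul H (f p)
    obtain ⟨α, hα, hfx⟩ := hfix p
    rw [hk, _root_.mul_inv_rev, su_mul_mulVec]
    refine orb_map (H.inv_mem k.2) ⟨1, H.one_mem, α⁻¹, inv_ne_zero hα, ?_⟩
    rw [su_one_mulVec]
    refine inv_move ?_
    rw [mulVec_smul, hfx, inv_smul_smul₀ hα]
  · rintro ⟨⟨a, t⟩, g⟩ ⟨⟨b, u⟩, k⟩ hab
    have h1 : (f ⟨⟨a, t⟩, g⟩)⁻¹ * f ⟨⟨b, u⟩, k⟩ ∈ H := QuotientGroup.eq.1 (congrArg Subtype.val hab)
    simp only [f] at h1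
    obtain ⟨hb', e⟩ := conj_ue h s (g.out⁻¹ * k.out).2 (hok b u)
    have hgk : g = k := by
      rw [← QuotientGroup.out_eq' g, ← QuotientGroup.out_eq' k]
      refine QuotientGroup.eq.2 ?_
      have h2 := ((hok a t).inv_ok h).add h hb'
      rw [← mulVec_neg, ← mulVec_add] at h2
      refine ⟨_, _, h2, ?_⟩
      rw [mulVec_add, mulVec_neg, ← ((hok a t).inv_ok h).mul h hb', ← (hok a t).inv h, ← e]
      convert h1 using 1
      push_cast
      group
    subst hgk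
    rw [_root_.mul_inv_rev, mul_assoc, inv_mul_cancel_left, (hok a t).inv h, ((hok a t).inv_ok h).mul h (hok b u)] at h1
    have h2 := ((hok a t).inv_ok h).add h (hok b u)
    rw [← mulVec_neg, ← mulVec_add] at h1 h2
    have hab' : a = b := by
      rw [← QuotientAddGroup.out_eq' a, ← QuotientAddGroup.out_eq' b]
      exact QuotientAddGroup.eq.2 ((mem_aSet h s).2 ⟨_, h2, h1⟩)
    subst hab'
    have htu : t = u := by
      rw [← QuotientAddGroup.out_eq' t, ← QuotientAddGroup.out_eq' u]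
      refine QuotientAddGroup.eq.2 ((mem_ctr h s.xx).2 ?_)
      rw [neg_add_cancel, mulVec_zero, mulVec_neg, uh_neg_right] at h1
      convert h1 using 2
      show -t.out.1 + u.out.1 = _
      simp only [c0, map_add, map_mul, map_neg, h.symm, s.pp h]
      have h4 : t.out.1 + σ t.out.1 = 0 := t.out.2
      linear_combination -h4 + (uh σ a.out a.out) * hθ
    subst htu
    rfl

theorem ctr_ne_top_of (h : UFrob σ q) {H : Subgroup (Cfsg.SU n F q)} {x : Fin n → F} {θ : Sk σ}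
    (hθ : θ ∉ ctr h H x) : ctr h H x ≠ ⊤ := fun h0 => hθ (h0 ▸ AddSubgroup.mem_top θ)

theorem card_Sk [Finite F] (hF : Nat.card F = q ^ 2) (h : UFrob σ q) : Nat.card (Sk σ) = q := by
  obtain ⟨c, hc0, hc⟩ := exists_skew h
  rw [← fixed_card_eq hF h.pow]
  refine Nat.card_congr
    { toFun := fun t => ⟨t.1 * c⁻¹, ?_⟩
      invFun := fun r => ⟨r.1 * c, ?_⟩
      left_inv := fun t => Subtype.ext (inv_mul_cancel_right₀ hc0 _)
      right_inv := fun r => Subtype.ext (mul_inv_cancel_right₀ hc0 _) }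
  · show σ (t.1 * c⁻¹) = t.1 * c⁻¹
    have ht : t.1 + σ t.1 = 0 := t.2
    rw [map_mul, map_inv₀, eq_neg_of_add_eq_zero_right ht, eq_neg_of_add_eq_zero_right hc]
    field_simp
  · have hr : σ r.1 = r.1 := r.2
    rw [mem_Sk, map_mul, hr]
    linear_combination r.1 * hc

/-- A proper centre makes the root set totally isotropic for the commutator pairing. -/
theorem card_aSet_sq [Finite F] (hF : Nat.card F = q ^ 2) (h : UFrob σ q) {H : Subgroup (Cfsg.SU n F q)}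
    (s : Split σ m x y P) (hc : ctr h H x ≠ ⊤) :
    Nat.card (aSet h H s) * Nat.card (aSet h H s) ≤ q ^ (2 * m) := by
  haveI : Finite (Sk σ) := inferInstance
  let β : (Fin m → F) → (Fin m → F) → Sk σ := fun a b =>
    ⟨uh σ a b - uh σ b a, by rw [mem_Sk, map_sub, h.symm, h.symm]; ring⟩
  have key := CfsgLib.MinIdx.Orth.card_mul_card_le' β
    (fun a v w => Subtype.ext (by
      show uh σ a (v + w) - uh σ (v + w) a = (uh σ a v - uh σ v a) + (uh σ a w - uh σ w a)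
      rw [uh_add_right, uh_add_left]; ring))
    (fun a a' v => Subtype.ext (by
      show uh σ (a + a') v - uh σ v (a + a') = (uh σ a v - uh σ v a) + (uh σ a' v - uh σ v a')
      rw [uh_add_right, uh_add_left]; ring))
    (ctr h H x) hc (aSet h H s) (aSet h H s) ⊥
    (fun a ha b hb => by
      convert comm_mem h s.xx ha hb using 1
      refine Subtype.ext ?_
      show uh σ a b - uh σ b a = uh σ (P *ᵥ a) (P *ᵥ b) - uh σ (P *ᵥ b) (P *ᵥ a)
      rw [s.pp h, s.pp h])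
    (fun a r hr => by
      rw [AddSubgroup.mem_bot] at hr
      subst hr
      exact Subtype.ext (by show uh σ a 0 - uh σ 0 a = 0; rw [uh_zero_right, uh_zero_left, sub_zero]))
    (fun a ha c => by
      rw [AddSubgroup.mem_bot] at ha
      obtain ⟨z, hz⟩ := exists_uh_eq_one h ha
      obtain ⟨θ, hθ⟩ := exists_trace h
      have hc0 : c.1 + σ c.1 = 0 := c.2
      refine ⟨σ (θ * c.1) • z, Subtype.ext ?_⟩
      show uh σ a _ - uh σ _ a = c.1
      rw [uh_smul_right, uh_smul_left, hz, ← h.symm z a, hz, map_one, h.invol, map_mul]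
      linear_combination c.1 * hθ - σ θ * hc0)
  simp only [AddSubgroup.card_bot, inf_bot_eq, mul_one] at key
  refine key.trans (le_of_eq ?_)
  rw [Nat.card_fun, hF, Nat.card_fin, ← pow_mul]

/-- The torus bound. -/
theorem torus_count [Finite F] (hF : Nat.card F = q ^ 2) (h : UFrob σ q) {H : Subgroup (Cfsg.SU n F q)}
    (s : Split σ m x y P) (hc : ctr h H x ≠ ⊤) :
    q - 1 ≤ ((ctr h H x).index - 1) * ((liftM h H s).map (scalHom s)).index := by
  classical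
  set C := ctr h H x
  set T := (liftM h H s).map (scalHom s)
  obtain ⟨θ, hθ⟩ : ∃ θ, θ ∉ C := by
    by_contra hall
    push Not at hall
    exact hc (eq_top_iff.2 fun t _ => hall t)
  haveI : Finite (Sk σ ⧸ C) := inferInstance
  have hN : ∀ α ∈ T, ∀ t ∈ C, ∃ hk, (⟨(α : F) * σ α * t.1, hk⟩ : Sk σ) ∈ C := by
    rintro _ ⟨g, hg, rfl⟩ t ht
    exact ctr_scale h s hg ht
  have hθ0 : θ.1 + σ θ.1 = 0 := θ.2
  have hsk : ∀ α : Fˣ, (α : F) * σ α * θ.1 + σ ((α : F) * σ α * θ.1) = 0 := fun α => by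
    rw [map_mul, map_mul, h.invol]
    linear_combination ((α : F) * σ α) * hθ0
  let cl : T → (Sk σ ⧸ C) := fun α => QuotientAddGroup.mk ⟨(α.1 : F) * σ α.1 * θ.1, hsk α.1⟩
  have hcl : ∀ α, cl α ≠ 0 := fun α h0 => by
    obtain ⟨hk, hmem⟩ := hN α.1⁻¹ (T.inv_mem α.2) _ ((QuotientAddGroup.eq_zero_iff _).1 h0)
    refine hθ ?_
    convert hmem using 1
    refine Subtype.ext ?_
    show θ.1 = ((α.1⁻¹ : Fˣ) : F) * σ ((α.1⁻¹ : Fˣ) : F) * ((α.1 : F) * σ α.1 * θ.1)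
    rw [Units.val_inv_eq_inv_val, map_inv₀]
    have h0' : (σ (α.1 : F)) ≠ 0 := by simp
    field_simp
  have hker : ∀ α β : T, cl α = cl β → (α.1 : F) * σ α.1 = (β.1 : F) * σ β.1 := by
    intro α β he
    by_contra hne
    obtain ⟨κ, hκ⟩ : ∃ κ, κ = (β.1 : F) * σ β.1 - (α.1 : F) * σ α.1 := ⟨_, rfl⟩
    have hκ0 : κ ≠ 0 := by rw [hκ]; exact sub_ne_zero.2 (Ne.symm hne)
    have hκσ : σ κ = κ := by rw [hκ, map_sub, map_mul, map_mul, h.invol, h.invol]; ring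
    let mul : C → C := fun t => ⟨⟨κ * t.1.1, by
        have := t.1.2
        rw [mem_Sk] at this ⊢
        rw [map_mul, hκσ]
        linear_combination κ * this⟩, by
      obtain ⟨_, h1⟩ := hN α.1 α.2 t.1 t.2
      obtain ⟨_, h2⟩ := hN β.1 β.2 t.1 t.2
      convert C.sub_mem h2 h1 using 1
      refine Subtype.ext ?_
      show κ * t.1.1 = _ - _
      rw [hκ]; ring⟩
    have hinj : Function.Injective mul := fun t t' ht =>
      Subtype.ext (Subtype.ext (mul_left_cancel₀ hκ0 (congrArg (fun u : C => u.1.1) ht)))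
    obtain ⟨t, ht⟩ := (Finite.injective_iff_surjective.1 hinj) ⟨⟨κ * θ.1, by
        rw [mem_Sk, map_mul, hκσ]
        linear_combination κ * hθ0⟩, by
      have h1 := QuotientAddGroup.eq.1 he
      convert h1 using 1
      refine Subtype.ext ?_
      show κ * θ.1 = -((α.1 : F) * σ α.1 * θ.1) + (β.1 : F) * σ β.1 * θ.1
      rw [hκ]; ring⟩
    have e : t.1 = θ := Subtype.ext (mul_left_cancel₀ hκ0 (congrArg (fun u : C => u.1.1) ht))
    exact hθ (e ▸ t.2)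
  have hex : ∀ c : {c : Sk σ ⧸ C // c ≠ 0}, ∃ α₀ : T, (∃ α, cl α = c.1) → cl α₀ = c.1 := fun c => by
    by_cases hc' : ∃ α, cl α = c.1
    · exact ⟨hc'.choose, fun _ => hc'.choose_spec⟩
    · exact ⟨1, fun h' => absurd h' hc'⟩
  choose rep hrep using hex
  have hTcard : Nat.card T ≤ (C.index - 1) * (q + 1) := by
    have hz : Nat.card {c : Sk σ ⧸ C // c ≠ 0} = C.index - 1 := by
      haveI := Fintype.ofFinite (Sk σ ⧸ C)
      rw [AddSubgroup.index, Nat.card_eq_fintype_card, Nat.card_eq_fintype_card, Fintype.card_subtype_compl,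
        Fintype.card_subtype_eq]
    rw [← hz, ← card_normOne hF, ← Nat.card_prod]
    refine Nat.card_le_card_of_injective (fun α => (⟨cl α, hcl α⟩, ⟨α.1 * (rep ⟨cl α, hcl α⟩).1⁻¹, ?_⟩)) ?_
    · have e := hker _ _ (hrep ⟨cl α, hcl α⟩ ⟨α, rfl⟩)
      rw [det_mem_normOne_iff, pow_succ', ← h.pow, Units.val_mul, Units.val_inv_eq_inv_val, map_mul, map_inv₀]
      have h0' : σ ((rep ⟨cl α, hcl α⟩).1 : F) ≠ 0 := by simp
      field_simp
      linear_combination -e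
    · intro α β he
      obtain ⟨e1, e2⟩ := Prod.ext_iff.1 he
      have e3 : α.1 * (rep ⟨cl α, hcl α⟩).1⁻¹ = β.1 * (rep ⟨cl β, hcl β⟩).1⁻¹ := Subtype.mk.inj e2
      rw [show rep ⟨cl α, hcl α⟩ = rep ⟨cl β, hcl β⟩ from congrArg rep e1] at e3
      exact Subtype.ext (mul_right_cancel e3)
  have h1 := T.index_mul_card
  rw [card_units_field, hF, show q ^ 2 - 1 = (q - 1) * (q + 1) by
    rw [mul_comm, ← Nat.sq_sub_sq, one_pow]] at h1
  refine Nat.le_of_mul_le_mul_right ?_ (Nat.succ_pos q)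
  calc (q - 1) * (q + 1) = T.index * Nat.card T := h1.symm
    _ ≤ T.index * ((C.index - 1) * (q + 1)) := Nat.mul_le_mul_left _ hTcard
    _ = _ := by rw [Nat.succ_eq_add_one]; ring

end CfsgLib.MinIdx.Un
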