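import Cfsg.Agent.Lib.MinIdx.UnCentre
import Cfsg.Agent.Lib.MinIdx.UnFrame

/-!
# A whole Levi part lifting into a subgroup forces a transvection in it
-/

set_option autoImplicit false

namespace CfsgLib.MinIdx.Un

open Matrix CfsgLib.Classical CfsgLib.Classical.Unitary

variable {F : Type*} [Field F] [Finite F] {σ : F →+* F} {q n m : ℕ} {x y : Fin n → F} {P : Matrix (Fin n) (Fin m) F}

/-- `ue x (P a) c` times the embedded `k` lies in `H`. -/
def IsLift (h : UFrob σ q) (H : Subgroup (Cfsg.SU n F q)) (s : Split σ m x y P) (k : Cfsg.SU m F q) (a : Fin m → F)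
    (c : F) : Prop :=
  Ok σ x (P *ᵥ a) c ∧ ue h x (P *ᵥ a) c * ext h s k ∈ H

variable {h : UFrob σ q} {H : Subgroup (Cfsg.SU n F q)} {s : Split σ m x y P}

theorem exists_isLift (hM : liftM h H s = ⊤) (k : Cfsg.SU m F q) : ∃ a c, IsLift h H s k a c := by
  obtain ⟨a, c, hc, hm⟩ : (⟨ext h s k, ext_mem h s k⟩ : Mst σ q x y) ∈ liftM h H s := hM ▸ Subgroup.mem_top _
  exact ⟨a, c, hc, hm⟩

theorem IsLift.unique (hA : aSet h H s = ⊥) (hC : ctr h H x = ⊥) {k : Cfsg.SU m F q} {a b : Fin m → F} {c d : F}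
    (h1 : IsLift h H s k a c) (h2 : IsLift h H s k b d) : a = b ∧ c = d := by
  have h3 := H.mul_mem h1.2 (H.inv_mem h2.2)
  rw [_root_.mul_inv_rev, mul_assoc, mul_inv_cancel_left, h2.1.inv h, h1.1.mul h (h2.1.inv_ok h)] at h3
  have h4 := h1.1.add h (h2.1.inv_ok h)
  rw [← mulVec_neg, ← mulVec_add] at h3 h4
  have hab : a + -b ∈ aSet h H s := (mem_aSet h s).2 ⟨_, h4, h3⟩
  rw [hA, AddSubgroup.mem_bot, add_neg_eq_zero] at hab
  subst hab
  refine ⟨rfl, ?_⟩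
  rw [add_neg_cancel, mulVec_zero] at h3 h4
  have h5 : c + σ d - uh σ (P *ᵥ -a) (P *ᵥ a) + σ (c + σ d - uh σ (P *ᵥ -a) (P *ᵥ a)) = 0 := by
    simpa [uh_zero_left] using h4.2.2
  have h6 := (mem_ctr h s.xx (c := ⟨_, h5⟩)).2 h3
  rw [hC, AddSubgroup.mem_bot] at h6
  have h7 : c + σ d - uh σ (P *ᵥ -a) (P *ᵥ a) = 0 := congrArg Subtype.val h6
  rw [mulVec_neg, uh_neg_left] at h7
  linear_combination h7 - h2.1.2.2

theorem IsLift.mul {k k' : Cfsg.SU m F q} {a b : Fin m → F} {c d : F}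
    (h1 : IsLift h H s k a c) (h2 : IsLift h H s k' b d) :
    IsLift h H s (k * k') (a + k.1.1 *ᵥ b) (c + d - uh σ (k.1.1 *ᵥ b) a) := by
  have hb : Ok σ x (P *ᵥ (k.1.1 *ᵥ b)) d := by
    have := h2.1.map h (ext h s k)
    rwa [ext_x, ext_p] at this
  have h3 := h1.1.add h hb
  rw [← mulVec_add, s.pp h] at h3
  refine ⟨h3, ?_⟩
  have e : ue h x (P *ᵥ (a + k.1.1 *ᵥ b)) (c + d - uh σ (k.1.1 *ᵥ b) a) =
      ue h x (P *ᵥ a) c * ue h x (P *ᵥ (k.1.1 *ᵥ b)) d := by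
    rw [h1.1.mul h hb, ← mulVec_add, s.pp h]
  have e2 : ue h x (P *ᵥ (k.1.1 *ᵥ b)) d = ext h s k * ue h x (P *ᵥ b) d * (ext h s k)⁻¹ := by
    rw [ue_conj, ext_x, ext_p]
  rw [e, e2, map_mul]
  convert H.mul_mem h1.2 h2.2 using 1
  group

/-- Commuting elements of the Levi part. -/
theorem IsLift.comm (hA : aSet h H s = ⊥) (hC : ctr h H x = ⊥) {k k' : Cfsg.SU m F q} (hkk : k * k' = k' * k)
    {a b : Fin m → F} {c d : F} (h1 : IsLift h H s k a c) (h2 : IsLift h H s k' b d) :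
    k.1.1 *ᵥ b - b = k'.1.1 *ᵥ a - a := by
  have h3 := h1.mul h2
  rw [hkk] at h3
  obtain ⟨e, -⟩ := h3.unique hA hC (h2.mul h1)
  rw [sub_eq_sub_iff_add_eq_add, add_comm, e, add_comm]

theorem utv_eq_ue (h : UFrob σ q) {e : Fin m → F} {θ : F} (hee : uh σ e e = 0) (hθ : θ + σ θ = 0) :
    utv h e θ hee hθ = ue h e 0 θ := (ue_center h hee hθ).symm

theorem utv_comm (h : UFrob σ q) {e : Fin m → F} {θ : F} (hee : uh σ e e = 0) (hθ : θ + σ θ = 0)
    {k : Cfsg.SU m F q} {α : F} (hk : k.1.1 *ᵥ e = α • e) (hα : α * σ α = 1) :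
    utv h e θ hee hθ * k = k * utv h e θ hee hθ := by
  rw [utv_eq_ue]
  have h1 := ue_conj h k e 0 θ
  rw [hk, mulVec_zero, ue_smul h (Ok.zero hee hθ), smul_zero, hα, one_mul] at h1
  calc ue h e 0 θ * k = k * ue h e 0 θ * k⁻¹ * k := by rw [h1]
    _ = _ := by group

/-- The lift of a transvection of the Levi part is a central root element times a transvection. -/
theorem lift_transvection (hF : Nat.card F = q ^ 2) (hm : 3 ≤ m) (hA : aSet h H s = ⊥) (hC : ctr h H x = ⊥)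
    (hM : liftM h H s = ⊤) {e : Fin m → F} (he0 : e ≠ 0) (hee : uh σ e e = 0) {θ : F} (hθ0 : θ ≠ 0)
    (hθ : θ + σ θ = 0) :
    ∃ lam c : F, c + σ c = 0 ∧ IsLift h H s (utv h e θ hee hθ) ((θ * σ lam) • e) (c + θ * (lam * σ lam)) ∧
      ue h x 0 c * ue h (P *ᵥ e + lam • x) 0 θ ∈ H := by
  obtain ⟨k, rfl⟩ : ∃ k, m = k + 2 := ⟨m - 2, by omega⟩
  obtain ⟨a, c₀, hl⟩ := exists_isLift hM (utv h e θ hee hθ)
  obtain ⟨f, P₂, t⟩ := exists_split h he0 hee
  have hmul : ∀ b : Fin (k + 2) → F, (utv h e θ hee hθ).1.1 *ᵥ b - b = (θ * uh σ b e) • e := fun b => by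
    rw [utv_mulVec]; abel
  have hcomm : ∀ (g : Cfsg.SU (k + 2) F q) (α : F), g.1.1 *ᵥ e = α • e → α * σ α = 1 →
      ∃ r : F, g.1.1 *ᵥ a - a = r • e := fun g α hg hα => by
    obtain ⟨b, d, hb⟩ := exists_isLift hM g
    exact ⟨θ * uh σ b e, by rw [← IsLift.comm hA hC (utv_comm h hee hθ hg hα) hl hb, hmul]⟩
  have hae : uh σ a e = 0 := by
    obtain ⟨θ₀, hθ₀⟩ := exists_trace h
    obtain ⟨u, huu, heu⟩ := exists_unit_perp h (k := k) (by omega) he0 hee
    have hue : uh σ u e = 0 := h.swap_zero heu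
    have hok : Ok σ e u (-θ₀) := ⟨hee, hue, by rw [huu, map_neg]; linear_combination -hθ₀⟩
    obtain ⟨r, hr⟩ := hcomm (ue h e u (-θ₀)) 1 (by rw [ue_apply h hok, hee, heu]; simp) (by simp)
    rw [ue_apply h hok] at hr
    have h1 := congrArg (fun w => uh σ w u) hr
    simpa [uh_add_left, uh_sub_left, uh_smul_left, huu, heu] using h1
  have hline : (P₂.map σ)ᵀ *ᵥ a = 0 := by
    obtain ⟨α, hα, hα2⟩ := exists_normOne_sq_ne_one hF
    have hα' : α * σ α = 1 := by rw [h.pow, ← pow_succ']; exact hα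
    have hα0 : α ≠ 0 := left_ne_zero_of_mul_eq_one hα'
    funext i
    rw [Pi.zero_apply]
    obtain ⟨g, hg, hgs, -, hgp⟩ := exists_tor h t (uh_single_self h i) hα0
    have hge : g.1.1 *ᵥ e = α • e := by rw [(Mst_x t hg).2, hgs]
    obtain ⟨r, hr⟩ := hcomm g α hge hα'
    have hdec := t.perp_x hae
    conv_lhs at hr => rw [← hdec]
    rw [mulVec_add, mulVec_smul, hge, hgp] at hr
    have h1 := congrArg ((P₂.map σ)ᵀ *ᵥ ·) hr
    simp only [mulVec_add, mulVec_sub, mulVec_smul, t.frame.apply, t.proj_x h, smul_zero, zero_add,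
      add_sub_cancel_left] at h1
    have h2 := congrFun h1 i
    rw [Pi.smul_apply, Pi.single_eq_same, smul_eq_mul, mul_one, Pi.zero_apply, uh_single_right, map_one, mul_one] at h2
    refine (mul_eq_zero.1 h2).resolve_left (sub_ne_zero.2 fun h0 => hα2 ?_)
    rw [div_eq_one_iff_eq hα0] at h0
    rw [h0] at hα'
    rw [sq]; exact hα'
  obtain ⟨β, hβ⟩ : ∃ β, a = β • e := ⟨uh σ a f, by
    have := t.perp_x hae
    rw [hline, mulVec_zero, add_zero] at this
    exact this.symm⟩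
  obtain ⟨lam, hlam⟩ : ∃ lam, θ * σ lam = β := ⟨σ (β / θ), by rw [h.invol]; field_simp⟩
  subst hβ
  rw [← hlam] at hl
  obtain ⟨hok, e1⟩ := ue_shift h s hee lam hθ
  obtain ⟨c, hc⟩ : ∃ c, c = c₀ - θ * (lam * σ lam) := ⟨_, rfl⟩
  have hc0 : c + σ c = 0 := by
    have h1 := hl.1.2.2
    rw [mulVec_smul, uh_smul_left, uh_smul_right, s.pp h, hee] at h1
    rw [hc, map_sub, map_mul, map_mul, h.invol]
    linear_combination h1 - (lam * σ lam) * hθ
  refine ⟨lam, c, hc0, by rwa [hc, sub_add_cancel], ?_⟩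
  rw [e1, ← mul_assoc, (Ok.zero s.xx hc0).mul h hok, zero_add, uh_zero_right, sub_zero, hc, sub_add_cancel]
  exact hl.2

/-- A full Levi part over a point without root elements gives a transvection elsewhere. -/
theorem exists_ctr_ne_bot (hF : Nat.card F = q ^ 2) (hm : 3 ≤ m) (hodd : Odd m) (hA : aSet h H s = ⊥)
    (hC : ctr h H x = ⊥) (hM : liftM h H s = ⊤) :
    ∃ z, z ≠ 0 ∧ uh σ z z = 0 ∧ uh σ z x = 0 ∧ ctr h H z ≠ ⊥ := by
  classical
  have hq := two_le_q hF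
  obtain ⟨k, rfl⟩ : ∃ k, m = k + 3 := ⟨m - 3, by omega⟩
  obtain ⟨e, he0, hee⟩ := exists_iso_vector (m := k + 3) h (by omega)
  have hzz : ∀ lam : F, uh σ (P *ᵥ e + lam • x) (P *ᵥ e + lam • x) = 0 := fun lam => by
    simp [uh_add_left, uh_add_right, uh_smul_left, uh_smul_right, s.pp h, hee, s.px, s.xp h, s.xx]
  have fin : ∀ lam θ : F, ∀ hθ : θ + σ θ = 0, θ ≠ 0 → ue h (P *ᵥ e + lam • x) 0 θ ∈ H →
      ∃ z, z ≠ 0 ∧ uh σ z z = 0 ∧ uh σ z x = 0 ∧ ctr h H z ≠ ⊥ := fun lam θ hθ hθ0 hmem => by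
    refine ⟨_, fun h0 => he0 ?_, hzz lam, by simp [uh_add_left, uh_smul_left, s.px, s.xx], fun hbot => hθ0 ?_⟩
    · have h1 := congrArg ((P.map σ)ᵀ *ᵥ ·) h0
      simpa [mulVec_add, mulVec_smul, s.frame.apply, s.proj_x h] using h1
    · have h1 := (mem_ctr h (hzz lam) (c := ⟨θ, hθ⟩)).2 hmem
      rw [hbot, AddSubgroup.mem_bot] at h1
      exact congrArg Subtype.val h1
  -- elements of `H` normalising the lift
  have key : ∀ {θ : F} (hθ : θ + σ θ = 0), θ ≠ 0 → ∀ {lam c : F}, c + σ c = 0 →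
      IsLift h H s (utv h e θ hee hθ) ((θ * σ lam) • e) (c + θ * (lam * σ lam)) →
      ue h x 0 c * ue h (P *ᵥ e + lam • x) 0 θ ∈ H → ∀ (T : Cfsg.SU n F q) (α μ : F), T ∈ H →
      T.1.1 *ᵥ x = α • x → T.1.1 *ᵥ (P *ᵥ e + lam • x) = P *ᵥ e + μ • x → α * σ α * c = c ∧ μ = lam := by
    intro θ hθ hθ0 lam c hc hl hmem T α μ hT hTx hTz
    have h1 := H.mul_mem (H.mul_mem hT hmem) (H.inv_mem hT)
    rw [show T * (ue h x 0 c * ue h (P *ᵥ e + lam • x) 0 θ) * T⁻¹ =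
      (T * ue h x 0 c * T⁻¹) * (T * ue h (P *ᵥ e + lam • x) 0 θ * T⁻¹) by group, ue_conj, ue_conj, hTx, hTz,
      mulVec_zero, ue_smul h (Ok.zero s.xx hc), smul_zero] at h1
    obtain ⟨hok, e1⟩ := ue_shift h s hee μ hθ
    have hc' : α * σ α * c + σ (α * σ α * c) = 0 := by
      rw [map_mul, map_mul, h.invol]; linear_combination (α * σ α) * hc
    rw [e1, ← mul_assoc, (Ok.zero s.xx hc').mul h hok, zero_add, uh_zero_right, sub_zero] at h1
    have h2 : Ok σ x (P *ᵥ ((θ * σ μ) • e)) (α * σ α * c + θ * (μ * σ μ)) := by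
      have h3 := (Ok.zero s.xx hc').add h hok
      rwa [zero_add, uh_zero_right, sub_zero] at h3
    obtain ⟨e2, e3⟩ := IsLift.unique hA hC ⟨h2, h1⟩ hl
    have hμ : μ = lam := σ.injective (mul_left_cancel₀ hθ0 (smul_left_injective F he0 e2))
    subst hμ
    exact ⟨add_right_cancel e3, rfl⟩
  rcases (show 3 ≤ q ∨ q = 2 by omega) with hq3 | hq2
  · -- the torus
    obtain ⟨θ, hθ0, hθ⟩ := exists_skew h
    obtain ⟨lam, c, hc, hl, hmem⟩ := lift_transvection hF (by omega) hA hC hM he0 hee hθ0 hθ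
    obtain ⟨α, hα⟩ : ∃ α : Fˣ, (α : F) * σ α ≠ 1 := by
      by_contra hall
      push Not at hall
      have h1 : normOne F q = ⊤ := eq_top_iff.2 fun u _ => by
        rw [det_mem_normOne_iff, pow_succ', ← h.pow]; exact hall u
      have h2 := card_normOne (F := F) hF
      rw [h1, Subgroup.card_top, card_units_field, hF] at h2
      have : 3 * q ≤ q ^ 2 := by rw [sq]; exact Nat.mul_le_mul_right _ hq3
      omega
    obtain ⟨u, huu, heu⟩ := exists_unit_perp h (k := k + 1) (by omega) he0 hee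
    obtain ⟨g, hg, hgs, -, hgp⟩ := exists_tor h s huu α.ne_zero
    obtain ⟨b, d, hb, hbm⟩ : (⟨g, hg⟩ : Mst σ q x y) ∈ liftM h H s := hM ▸ Subgroup.mem_top _
    have hgx : g.1.1 *ᵥ x = (α : F) • x := by rw [(Mst_x s hg).2, hgs]
    have hgz : g.1.1 *ᵥ (P *ᵥ e) = P *ᵥ e := by rw [hgp, heu]; simp
    obtain ⟨h1, -⟩ := key hθ hθ0 hc hl hmem (ue h x (P *ᵥ b) d * g) α (lam * α - uh σ e b) hbm
      (by rw [su_mul_mulVec, hgx, mulVec_smul, ue_apply h hb, s.xx, s.xp h]; simp)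
      (by
        rw [su_mul_mulVec, mulVec_add, mulVec_smul, hgz, hgx, smul_smul, ue_apply h hb, uh_add_left, uh_add_left,
          uh_smul_left, uh_smul_left, s.px, s.xx, s.xp h, s.pp h]
        module)
    have hc0 : c = 0 := by
      by_contra hne
      exact hα (mul_right_cancel₀ hne (by rw [h1, one_mul]))
    rw [hc0, ue_one, one_mul] at hmem
    exact fin lam θ hθ hθ0 hmem
  · -- squares
    subst hq2
    obtain ⟨p, hpchar⟩ := CharP.exists F
    haveI := hpchar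
    have h2 : (2 : F) = 0 := by
      haveI := Fintype.ofFinite F
      have h1 := FiniteField.cast_card_eq_zero F
      rw [← Nat.card_eq_fintype_card, hF] at h1
      push_cast at h1
      exact (pow_eq_zero_iff (n := 2) (by norm_num)).1 (show (2 : F) ^ 2 = 0 by rw [← h1]; norm_num)
    have hθ : (1 : F) + σ 1 = 0 := by rw [map_one, one_add_one_eq_two, h2]
    obtain ⟨lam, c, hc, hl, hmem⟩ := lift_transvection hF (by omega) hA hC hM he0 hee one_ne_zero hθ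
    obtain ⟨f, P₂, t⟩ := exists_split (m := k + 1) h he0 hee
    obtain ⟨u₀, hu₀⟩ : ∃ u₀ : Fin (k + 1) → F, u₀ = Pi.single 0 1 := ⟨_, rfl⟩
    have hu₀u : uh σ u₀ u₀ = 1 := hu₀ ▸ uh_single_self h 0
    obtain ⟨u, hu⟩ : ∃ u, u = P₂ *ᵥ u₀ := ⟨_, rfl⟩
    have huu : uh σ u u = 1 := by rw [hu, t.pp h, hu₀u]
    have hue : uh σ u e = 0 := hu ▸ t.px u₀
    have heu : uh σ e u = 0 := h.swap_zero hue
    obtain ⟨θ₀, hθ₀⟩ := exists_trace h
    have hok : Ok σ e u (-θ₀) := ⟨hee, hue, by rw [huu, map_neg]; linear_combination -hθ₀⟩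
    obtain ⟨g, hg⟩ : ∃ g, g = ue h e u (-θ₀) := ⟨_, rfl⟩
    have hge : g.1.1 *ᵥ e = e := by rw [hg, ue_apply h hok, hee, heu]; simp
    have hsq : g * g = utv h e 1 hee hθ := by
      rw [hg, utv_eq_ue, hok.mul h hok, huu]
      congr 1
      · rw [← two_smul F u, h2, zero_smul]
      · linear_combination (-θ₀ - 1) * h2
    obtain ⟨a, d, ha⟩ := exists_isLift hM g
    obtain ⟨-, hμ⟩ := key hθ one_ne_zero hc hl hmem (ue h x (P *ᵥ a) d * ext h s g) 1 (lam - uh σ e a) ha.2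
      (by rw [su_mul_mulVec, ext_x, ue_apply h ha.1, s.xx, s.xp h]; simp)
      (by
        rw [su_mul_mulVec, mulVec_add, mulVec_smul, ext_x, ext_p, hge, ue_apply h ha.1, uh_add_left, uh_add_left,
          uh_smul_left, uh_smul_left, s.px, s.xx, s.xp h, s.pp h]
        module)
    have hea : uh σ e a = 0 := by linear_combination -hμ
    have hae : uh σ a e = 0 := h.swap_zero hea
    have hga : g.1.1 *ᵥ a = a - uh σ a u • e := by
      rw [hg, ue_apply h hok, hae]; module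
    obtain ⟨e1, e2⟩ := IsLift.unique hA hC (hsq ▸ ha.mul ha) hl
    rw [hga] at e1 e2
    have hβ : uh σ a u = σ lam := by
      have h1 : (-(uh σ a u)) • e = (1 * σ lam) • e := by
        rw [← e1, show a + (a - uh σ a u • e) = (2 : F) • a + (-(uh σ a u)) • e by module, h2, zero_smul, zero_add]
      have h3 := smul_left_injective F he0 h1
      linear_combination -h3 - (σ lam) * h2
    obtain ⟨P₃, hP₃, hP₃u, hdec₃⟩ := exists_frame_perp (k := k) h (v := u₀) (by rw [hu₀u]; exact one_ne_zero)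
    obtain ⟨a₂, ha₂⟩ : ∃ a₂, a₂ = (P₂.map σ)ᵀ *ᵥ a := ⟨_, rfl⟩
    obtain ⟨a₃, ha₃⟩ : ∃ a₃, a₃ = (P₃.map σ)ᵀ *ᵥ a₂ := ⟨_, rfl⟩
    have hd2 : uh σ a f • e + P₂ *ᵥ a₂ = a := ha₂ ▸ t.perp_x hae
    have hau : uh σ a₂ u₀ = uh σ a u := by rw [ha₂, ← uh_frame_right h, hu]
    have hd3 : uh σ a u • u₀ + P₃ *ᵥ a₃ = a₂ := by
      have h1 := hdec₃ a₂
      rwa [hu₀u, div_one, hau, ← ha₃] at h1
    have ha30 : a₃ = 0 := by
      rcases k with _ | _ | j
      · exact Subsingleton.elim _ _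
      · exfalso
        obtain ⟨i, hi⟩ := hodd
        omega
      · by_contra hne
        obtain ⟨e₂, he₂0, he₂, hne₂⟩ := exists_iso_nonperp h hne
        obtain ⟨p₂, hp₂⟩ : ∃ p₂, p₂ = P₂ *ᵥ (P₃ *ᵥ e₂) := ⟨_, rfl⟩
        have hp₂p : uh σ p₂ p₂ = 0 := by
          rw [hp₂, t.pp h, uh_frame_left h, hP₃.apply, he₂]
        have hp₂e : uh σ p₂ e = 0 := hp₂ ▸ t.px _
        have hp₂u : uh σ p₂ u = 0 := by
          rw [hp₂, hu, t.pp h, uh_frame_left h, hP₃u, uh_zero_right]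
        have hcm : g * utv h p₂ 1 hp₂p hθ = utv h p₂ 1 hp₂p hθ * g := by
          refine (utv_comm h hp₂p hθ (α := 1) ?_ (by simp)).symm
          rw [hg, ue_apply h hok, hp₂e, hp₂u]; simp
        obtain ⟨b, d', hb⟩ := exists_isLift hM (utv h p₂ 1 hp₂p hθ)
        have h1 := IsLift.comm hA hC hcm ha hb
        rw [utv_mulVec, add_sub_cancel_left, hg, ue_apply h hok, one_mul] at h1
        have h3 := congrArg (fun w => (P₃.map σ)ᵀ *ᵥ ((P₂.map σ)ᵀ *ᵥ w)) h1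
        simp only [mulVec_add, mulVec_sub, mulVec_smul, hu, hp₂, t.frame.apply, hP₃.apply, hP₃u, t.proj_x h,
          mulVec_zero, smul_zero, add_zero, add_sub_cancel_left] at h3
        have h4 : uh σ a p₂ = 0 := by
          rcases smul_eq_zero.1 h3.symm with h5 | h5
          · rw [hp₂]; exact h5
          · exact absurd h5 he₂0
        rw [hp₂, uh_frame_right h, ← ha₂, uh_frame_right h, ← ha₃] at h4
        exact hne₂ h4
    have haa : uh σ a a = lam * σ lam := by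
      rw [ha30, mulVec_zero, add_zero] at hd3
      obtain ⟨ρ, hρ⟩ : ∃ ρ, ρ = uh σ a f := ⟨_, rfl⟩
      rw [← hρ, ← hd3, mulVec_smul, ← hu, hβ] at hd2
      rw [← hd2]
      simp only [uh_add_left, uh_add_right, uh_smul_left, uh_smul_right, hee, heu, hue, huu, h.invol]
      ring
    have hc0 : c = 0 := by
      rw [uh_sub_left, uh_smul_left, hea, haa] at e2
      linear_combination -e2 + (d - lam * σ lam) * h2
    rw [hc0, ue_one, one_mul] at hmem
    exact fin lam 1 hθ one_ne_zero hmem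

end CfsgLib.MinIdx.Un
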