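import Cfsg.Agent.Lib.MinIdx.UnThree

/-!
# Subgroups of `SU 3` with an invariant additive subgroup on which the form is symmetric
-/

set_option autoImplicit false

namespace CfsgLib.MinIdx.Un

open Matrix CfsgLib.Classical CfsgLib.Classical.Unitary

variable {F : Type*} [Field F] [Finite F] {σ : F →+* F} {q n : ℕ}

/-- A symmetric additive group is small. -/
theorem sym_card_sq (hF : Nat.card F = q ^ 2) (h : UFrob σ q) (A : AddSubgroup (Fin n → F))
    (hA : ∀ a ∈ A, ∀ b ∈ A, uh σ a b = uh σ b a) : Nat.card A * Nat.card A ≤ q ^ (2 * n) := by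
  classical
  haveI : Finite (Sk σ) := inferInstance
  let β : (Fin n → F) → (Fin n → F) → Sk σ := fun a b =>
    ⟨uh σ a b - uh σ b a, by rw [mem_Sk, map_sub, h.symm, h.symm]; ring⟩
  have hne : (⊥ : AddSubgroup (Sk σ)) ≠ ⊤ := fun h0 => by
    obtain ⟨c, hc0, hc⟩ := exists_skew h
    have h1 : (⟨c, hc⟩ : Sk σ) ∈ (⊥ : AddSubgroup (Sk σ)) := h0 ▸ AddSubgroup.mem_top _
    exact hc0 (congrArg Subtype.val (AddSubgroup.mem_bot.1 h1))
  have key := CfsgLib.MinIdx.Orth.card_mul_card_le' β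
    (fun a v w => Subtype.ext (by
      show uh σ a (v + w) - uh σ (v + w) a = (uh σ a v - uh σ v a) + (uh σ a w - uh σ w a)
      rw [uh_add_right, uh_add_left]; ring))
    (fun a a' v => Subtype.ext (by
      show uh σ (a + a') v - uh σ v (a + a') = (uh σ a v - uh σ v a) + (uh σ a' v - uh σ v a')
      rw [uh_add_right, uh_add_left]; ring))
    ⊥ hne A A ⊥ (fun a ha b hb => AddSubgroup.mem_bot.2 (Subtype.ext (sub_eq_zero.2 (hA a ha b hb))))
    (fun a r hr => by
      rw [AddSubgroup.mem_bot] at hr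
      subst hr
      exact Subtype.ext (by show uh σ a 0 - uh σ 0 a = 0; rw [uh_zero_right, uh_zero_left, sub_zero]))
    (fun a ha c => by
      rw [AddSubgroup.mem_bot] at ha
      obtain ⟨z, hz⟩ := exists_uh_eq_one h ha
      obtain ⟨θ, hθ⟩ := exists_trace h
      have hc0 : c.1 + σ c.1 = 0 := c.2
      refine ⟨σ (θ * c.1) • z, Subtype.ext ?_⟩
      show uh σ a _ - uh σ _ a = c.1
      rw [uh_smul_right, uh_smul_left, hz, ← h.symm z a, hz, map_one, h.invol, map_mul]
      linear_combination c.1 * hθ - σ θ * hc0)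
  simp only [AddSubgroup.card_bot, inf_bot_eq, mul_one] at key
  rw [Nat.card_fun, hF, Nat.card_fin, ← pow_mul] at key
  exact key

/-- A subgroup of `SU 2` with an invariant symmetric additive group. -/
theorem two_sym (hF : Nat.card F = q ^ 2) (h : UFrob σ q) (S : Subgroup (Cfsg.SU (0 + 2) F q))
    (A : AddSubgroup (Fin (0 + 2) → F)) (hA : A ≠ ⊥) (hsym : ∀ a ∈ A, ∀ b ∈ A, uh σ a b = uh σ b a)
    (hinv : ∀ g ∈ S, ∀ a ∈ A, g.1.1 *ᵥ a ∈ A) :
    q ≤ S.index ∨ ((∀ a ∈ A, uh σ a a = 0) ∧ ∃ a ∈ A, ∃ b ∈ A, uh σ a b ≠ 0) := by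
  classical
  have hq := two_le_q hF
  by_cases hall : ∀ a ∈ A, uh σ a a = 0
  · by_cases hperp : ∀ a ∈ A, ∀ b ∈ A, uh σ a b = 0
    · left
      obtain ⟨e, he, he0⟩ := A.bot_or_exists_ne_zero.resolve_left hA
      obtain ⟨f, hff, hef, hfe, -⟩ := exists_partner h ⊥ (by simpa using he0) (hall e he)
        (fun z hz => by rw [(Submodule.mem_bot F).1 hz, uh_zero_left])
      have := fix_two hF h S he0 (hall e he) fun g hg => by
        obtain ⟨r, t, hrt⟩ := SU_two_span (hall e he) hef (g.1.1 *ᵥ e)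
        refine ⟨r, ?_⟩
        have h1 := hperp _ (hinv g hg e he) e he
        rw [hrt, uh_add_left, uh_smul_left, uh_smul_left, hall e he, hfe] at h1
        have ht : t = 0 := by linear_combination h1
        rw [hrt, ht, zero_smul, add_zero]
      omega
    · push Not at hperp
      exact Or.inr ⟨hall, hperp⟩
  · left
    push Not at hall
    obtain ⟨a, ha, haa⟩ := hall
    have hcard : Nat.card A ≤ q ^ 2 :=
      Nat.mul_self_le_mul_self_iff.1 ((sym_card_sq hF h A hsym).trans_eq (by ring))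
    have h1 := class_count' S A hinv (fun v => uh σ v v = uh σ a a) (fun g v hv => by rw [su_uh h, hv]) ha
      (fun v hv => su_trans_norm hF h haa hv)
    have h2 := card_class_two hF h (h.symm a a) haa
    have h3 := h1.trans (Nat.mul_le_mul_left _
      ((Nat.card_le_card_of_injective _ Subtype.val_injective).trans hcard))
    by_contra hlt
    push Not at hlt
    have h4 : (S.index + 1) * q ^ 2 ≤ q * q ^ 2 := Nat.mul_le_mul_right _ hlt
    change Nat.card {v : Fin 2 → F // uh σ v v = uh σ a a} ≤ _ at h3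
    nlinarith

/-- An isotropic vector in a large symmetric group. -/
theorem exists_iso_of_sym (hF : Nat.card F = q ^ 2) (h : UFrob σ q) (A : AddSubgroup (Fin n → F))
    (hsym : ∀ a ∈ A, ∀ b ∈ A, uh σ a b = uh σ b a) (hbig : q ^ 2 < Nat.card A) :
    ∃ a ∈ A, a ≠ 0 ∧ uh σ a a = 0 := by
  classical
  obtain ⟨p, hpchar⟩ := CharP.exists F
  haveI := hpchar
  haveI := Fintype.ofFinite F
  obtain ⟨_, hp, -⟩ := FiniteField.card F p
  let T : AddSubgroup F := (σ.toAddMonoidHom - AddMonoidHom.id F).ker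
  have hT : ∀ r : F, r ∈ T ↔ σ r = r := fun r => sub_eq_zero
  have hreal : ∀ a b : A, uh σ a.1 b.1 ∈ T := fun a b => (hT _).2 (by rw [h.symm]; exact (hsym _ a.2 _ b.2).symm)
  let B : A →+ A →+ T := AddMonoidHom.mk' (fun a => AddMonoidHom.mk' (fun b => ⟨uh σ a.1 b.1, hreal a b⟩)
      (fun b b' => Subtype.ext (uh_add_right a.1 b.1 b'.1)))
    (fun a a' => AddMonoidHom.ext fun b => Subtype.ext (uh_add_left a.1 a'.1 b.1))
  have hcT : Nat.card T = q := by
    rw [← card_fixed hF h]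
    exact Nat.card_congr (Equiv.subtypeEquivRight hT)
  obtain ⟨a, ha0, ha⟩ := CfsgLib.MinIdx.exists_diag_zero hp
    (fun a : A => Subtype.ext (funext fun i => by
      show (p • a.1) i = 0
      rw [Pi.smul_apply, nsmul_eq_mul, CharP.cast_eq_zero, zero_mul]))
    (fun t : T => Subtype.ext (by
      show p • t.1 = 0
      rw [nsmul_eq_mul, CharP.cast_eq_zero, zero_mul]))
    B (by rw [hcT, ← sq]; exact hbig)
  exact ⟨a.1, a.2, fun h0 => ha0 (Subtype.ext h0), congrArg Subtype.val ha⟩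

set_option maxHeartbeats 800000 in
/-- The orbit bound for symmetric invariant groups. -/
theorem three_sym (hF : Nat.card F = q ^ 2) (h : UFrob σ q) (L : Subgroup (Cfsg.SU (1 + 2) F q))
    (A : AddSubgroup (Fin (1 + 2) → F)) (hA : A ≠ ⊥) (hsym : ∀ a ∈ A, ∀ b ∈ A, uh σ a b = uh σ b a)
    (hinv : ∀ g ∈ L, ∀ a ∈ A, g.1.1 *ᵥ a ∈ A) :
    q ^ 7 + q ^ 5 + q ^ 2 + 1 ≤ A.index * q * L.index := by
  classical
  have hq := two_le_q hF
  haveI := Fintype.ofFinite A
  have hX : A.index * Nat.card A = q ^ 6 := by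
    rw [AddSubgroup.index_mul_card, Nat.card_fun, hF, Nat.card_fin]
    ring
  have hne : Nat.card {a : A // a ≠ 0} + 1 = Nat.card A := by
    rw [Nat.card_eq_fintype_card, Nat.card_eq_fintype_card, Fintype.card_subtype_compl, Fintype.card_subtype_eq]
    exact Nat.sub_add_cancel Fintype.card_pos
  have hsub : ∀ p : (Fin (1 + 2) → F) → Prop, ¬ p 0 → Nat.card {a : A // p a.1} ≤ Nat.card {a : A // a ≠ 0} :=
    fun p hp => Nat.card_le_card_of_injective (fun a => ⟨a.1, fun h0 => hp (by simpa [h0] using a.2)⟩)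
      fun a b he => Subtype.ext (congrArg Subtype.val he :)
  have hI : Nat.card {v : Fin (1 + 2) → F // v ≠ 0 ∧ uh σ v v = 0} = (q ^ 3 + 1) * (q ^ 2 - 1) := iso_three hF h
  have hp0 : ∀ (g : Cfsg.SU (1 + 2) F q) v, (v ≠ 0 ∧ uh σ v v = 0) →
      (g.1.1 *ᵥ v ≠ 0 ∧ uh σ (g.1.1 *ᵥ v) (g.1.1 *ᵥ v) = 0) := fun g v hv =>
    ⟨fun h0 => hv.1 (by rw [← su_inv_mulVec g v, h0, mulVec_zero]), by rw [su_uh h, hv.2]⟩
  by_cases hsmall : Nat.card A ≤ q ^ 2
  · have hX' : q ^ 4 ≤ A.index := by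
      refine Nat.le_of_mul_le_mul_right ?_ (Nat.pow_pos (n := 2) (show 0 < q by omega))
      calc q ^ 4 * q ^ 2 = A.index * Nat.card A := by rw [hX]; ring
        _ ≤ _ := Nat.mul_le_mul_left _ hsmall
    obtain ⟨a, ha, ha0⟩ := A.bot_or_exists_ne_zero.resolve_left hA
    have hl : q ^ 3 + 1 ≤ L.index := by
      have hd : 0 < q ^ 2 - 1 := Nat.sub_pos_of_lt (Nat.one_lt_pow (by norm_num) (by omega))
      refine Nat.le_of_mul_le_mul_right (le_trans ?_ (Nat.mul_le_mul_left _
        (show Nat.card {a : A // a ≠ 0} ≤ q ^ 2 - 1 by omega))) hd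
      by_cases haa : uh σ a a = 0
      · have h1 := class_count' L A hinv (fun v => v ≠ 0 ∧ uh σ v v = 0) hp0 ha
          (fun v hv => su_trans hF h (m := 1) le_rfl ha0 hv.1 haa hv.2)
        rw [hI] at h1
        exact h1.trans (Nat.mul_le_mul_left _ (hsub (fun w => w ≠ 0 ∧ uh σ w w = 0) fun h0 => h0.1 rfl))
      · have h1 := class_count' L A hinv (fun v => uh σ v v = uh σ a a) (fun g v hv => by rw [su_uh h, hv]) ha
          (fun v hv => su_trans_norm hF h (k := 1) haa hv)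
        rw [card_class_three hF h (h.symm a a) haa] at h1
        refine le_trans ?_ (h1.trans (Nat.mul_le_mul_left _ (hsub (fun w => uh σ w w = uh σ a a) fun h0 => haa (by rw [← h0, uh_zero_left]))))
        calc (q ^ 3 + 1) * (q ^ 2 - 1) ≤ (q ^ 3 + 1) * q ^ 2 := Nat.mul_le_mul_left _ (Nat.sub_le _ _)
          _ = _ := by ring
    calc q ^ 7 + q ^ 5 + q ^ 2 + 1 ≤ q ^ 4 * q * (q ^ 3 + 1) := by
          have h7 : q ^ 7 * 2 ≤ q ^ 8 := by
            rw [pow_succ q 7]; exact Nat.mul_le_mul_left _ hq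
          have h2 : q ^ 2 + 1 ≤ q ^ 7 := by
            have : q ^ 3 ≤ q ^ 7 := Nat.pow_le_pow_right (by omega) (by norm_num)
            nlinarith
          rw [show q ^ 4 * q * (q ^ 3 + 1) = q ^ 8 + q ^ 5 by ring]
          omega
      _ ≤ _ := Nat.mul_le_mul (Nat.mul_le_mul_right _ hX') hl
  push Not at hsmall
  have hA3 : Nat.card A ≤ q ^ 3 := Nat.mul_self_le_mul_self_iff.1 ((sym_card_sq hF h A hsym).trans_eq (by ring))
  have hX' : q ^ 3 ≤ A.index := by
    refine Nat.le_of_mul_le_mul_right ?_ (Nat.pow_pos (n := 3) (show 0 < q by omega))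
    calc q ^ 3 * q ^ 3 = A.index * Nat.card A := by rw [hX]; ring
      _ ≤ _ := Nat.mul_le_mul_left _ hA3
  suffices hl : q ^ 3 + q + 1 ≤ L.index by
    calc q ^ 7 + q ^ 5 + q ^ 2 + 1 ≤ q ^ 3 * q * (q ^ 3 + q + 1) := by
          have : q ^ 2 + 1 ≤ q ^ 4 := by
            have : 4 ≤ q ^ 2 := by nlinarith
            nlinarith
          rw [show q ^ 3 * q * (q ^ 3 + q + 1) = q ^ 7 + q ^ 5 + q ^ 4 by ring]
          omega
      _ ≤ _ := Nat.mul_le_mul (Nat.mul_le_mul_right _ hX') hl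
  obtain ⟨v, hv, hvv⟩ : ∃ v ∈ A, uh σ v v ≠ 0 := by
    by_contra hall
    push Not at hall
    exact absurd (iso_additive_card hF h A hall) (not_le.2 hsmall)
  obtain ⟨P, hP, hPv, hdec⟩ := exists_frame_perp (k := 2) h hvv
  have hreal : ∀ a ∈ A, σ (uh σ a v) = uh σ a v := fun a ha => by rw [h.symm]; exact hsym v hv a ha
  have hνs : σ (uh σ v v) = uh σ v v := h.symm v v
  have hform : ∀ a ∈ A, ∀ b, uh σ a b = uh σ a v * uh σ v b / uh σ v v +
      uh σ ((P.map σ)ᵀ *ᵥ a) ((P.map σ)ᵀ *ᵥ b) := fun a ha b => by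
    conv_lhs => rw [← hdec a]
    rw [uh_add_left, uh_smul_left, uh_frame_left h]
    ring
  let φ : (Fin (1 + 2) → F) →+ (Fin (0 + 2) → F) := ((P.map σ)ᵀ).mulVecLin.toAddMonoidHom
  have hφ : ∀ a, φ a = (P.map σ)ᵀ *ᵥ a := fun a => rfl
  obtain ⟨A', hA'⟩ : ∃ A', A' = A.map φ := ⟨_, rfl⟩
  have hsym' : ∀ a ∈ A', ∀ b ∈ A', uh σ a b = uh σ b a := by
    subst hA'
    rintro _ ⟨a, ha, rfl⟩ _ ⟨b, hb, rfl⟩
    have e1 := hform a ha b
    have e2 := hform b hb a
    rw [hsym a ha b hb, hsym v hv b hb] at e1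
    rw [hsym v hv a ha] at e2
    rw [hφ, hφ]
    linear_combination e2 - e1
  let ψ : Cfsg.SU (0 + 2) F q →* Cfsg.SU (1 + 2) F q := frameHom h P hP
  have hψv : ∀ M, (ψ M).1.1 *ᵥ v = v := fun M => frameHom_fix h P hP M hPv
  have hinv' : ∀ M ∈ L.comap ψ, ∀ a ∈ A', M.1.1 *ᵥ a ∈ A' := by
    subst hA'
    rintro M hM _ ⟨a, ha, rfl⟩
    refine ⟨_, hinv _ hM a ha, ?_⟩
    rw [hφ, hφ]
    conv_lhs => rw [← hdec a]
    rw [mulVec_add, mulVec_smul, hψv, show (ψ M).1.1 *ᵥ (P *ᵥ _) = _ from frameHom_frame h P hP M _, mulVec_add,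
      mulVec_smul, hPv, hP.apply]
    simp
  have hA'0 : A' ≠ ⊥ := fun h0 => by
    have h1 : Nat.card A ≤ q := by
      rw [← card_fixed hF h]
      refine Nat.card_le_card_of_injective (fun a : A => (⟨uh σ a.1 v, hreal _ a.2⟩ : {r : F // σ r = r}))
        fun a b hab => Subtype.ext ?_
      have h2 : ∀ a ∈ A, (P.map σ)ᵀ *ᵥ a = 0 := fun a ha => by
        have : φ a ∈ A' := hA' ▸ AddSubgroup.mem_map_of_mem φ ha
        rwa [h0, AddSubgroup.mem_bot] at this
      have hab' : uh σ a.1 v = uh σ b.1 v := congrArg Subtype.val hab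
      rw [← hdec a.1, ← hdec b.1, h2 _ a.2, h2 _ b.2, hab']
    have : q ≤ q ^ 2 := Nat.le_self_pow (by norm_num) q
    omega
  rcases two_sym hF h (L.comap ψ) A' hA'0 hsym' hinv' with hk | ⟨hiso', hnp⟩
  · -- both kinds of vectors, with multiplicity at the anisotropic one
    obtain ⟨e, he, he0, hee⟩ := exists_iso_of_sym hF h A hsym hsmall
    have h1 := class_count L A hinv (fun w => uh σ w w = uh σ v v) (fun g w hw => by rw [su_uh h, hw]) hv
      (fun w hw => su_trans_norm hF h (k := 1) hvv hw) ψ hψv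
    rw [card_class_three hF h hνs hvv] at h1
    have h2 := class_count' L A hinv (fun w => w ≠ 0 ∧ uh σ w w = 0) hp0 he
      (fun w hw => su_trans hF h (m := 1) le_rfl he0 hw.1 hee hw.2)
    rw [hI] at h2
    have h3 : Nat.card {a : A // uh σ a.1 a.1 = uh σ v v} + Nat.card {a : A // a.1 ≠ 0 ∧ uh σ a.1 a.1 = 0} ≤
        Nat.card {a : A // a ≠ 0} := by
      rw [← Nat.card_sum]
      refine Nat.card_le_card_of_injective (Sum.elim
        (fun a => ⟨a.1, fun h0 => hvv (by rw [← a.2, h0, AddSubgroup.coe_zero, uh_zero_left])⟩)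
        (fun a => ⟨a.1, fun h0 => a.2.1 (by rw [h0, AddSubgroup.coe_zero])⟩)) ?_
      refine Function.Injective.sumElim (fun a b he => Subtype.ext (congrArg Subtype.val he :))
        (fun a b he => Subtype.ext (congrArg Subtype.val he :)) fun a b he => hvv ?_
      rw [← a.2, show a.1 = b.1 from congrArg Subtype.val he, b.2.2]
    by_contra hlt
    push Not at hlt
    have h4 : (q ^ 5 + q ^ 2) * q + (q ^ 3 + 1) * (q ^ 2 - 1) ≤ L.index * Nat.card {a : A // a ≠ 0} :=
      le_trans (Nat.add_le_add ((Nat.mul_le_mul_left _ hk).trans h1) h2)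
        ((mul_add _ _ _).ge.trans (Nat.mul_le_mul_left _ h3))
    have h5 : L.index * Nat.card {a : A // a ≠ 0} ≤ (q ^ 3 + q) * (q ^ 3 - 1) :=
      Nat.mul_le_mul (by omega) (by omega)
    have h6 := h4.trans h5
    zify [Nat.one_le_pow 2 q (by omega), Nat.one_le_pow 3 q (by omega)] at h6
    have h7 : (2 : ℤ) * q ^ 4 ≤ q * q ^ 4 := mul_le_mul_of_nonneg_right (by exact_mod_cast hq) (by positivity)
    have h8 : (0 : ℤ) ≤ q ^ 4 := by positivity
    have h9 : (4 : ℤ) ≤ q ^ 2 := by exact_mod_cast (show 4 ≤ q ^ 2 by nlinarith)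
    nlinarith
  · -- the line of `v` is invariant
    obtain ⟨a₁, ha₁, b₁, hb₁, hab₁⟩ := hnp
    let χ : A →+ F := AddMonoidHom.mk' (fun a => uh σ a.1 v) fun a b => uh_add_left a.1 b.1 v
    have hKcard : q < Nat.card χ.ker := by
      have h1 : Nat.card A ≤ Nat.card χ.ker * q := by
        rw [← χ.ker.index_mul_card, mul_comm]
        refine Nat.mul_le_mul_left _ ?_
        rw [AddSubgroup.index_ker, ← card_fixed hF h]
        exact Nat.card_le_card_of_injective (fun r => (⟨r.1, by obtain ⟨a, ha⟩ := r.2; rw [← ha]; exact hreal _ a.2⟩ :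
          {r : F // σ r = r})) fun r s he => Subtype.ext (congrArg Subtype.val he :)
      by_contra hle
      push Not at hle
      have := h1.trans (Nat.mul_le_mul_right q hle)
      rw [← sq] at this
      omega
    have hker : ∀ k : χ.ker, uh σ k.1.1 v = 0 := fun k => k.2
    have hkA' : ∀ a ∈ A, φ a ∈ A' := fun a ha => hA' ▸ AddSubgroup.mem_map_of_mem φ ha
    obtain ⟨k₁, k₂, hk⟩ : ∃ k₁ k₂ : χ.ker, uh σ (φ k₁.1.1) (φ k₂.1.1) ≠ 0 := by
      by_contra hall
      push Not at hall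
      have hinjk : Function.Injective fun k : χ.ker => φ k.1.1 := fun k k' hkk => by
        refine Subtype.ext (Subtype.ext ?_)
        have hkk : (P.map σ)ᵀ *ᵥ k.1.1 = (P.map σ)ᵀ *ᵥ k'.1.1 := hkk
        rw [← hdec k.1.1, ← hdec k'.1.1, hkk, hker, hker]
      haveI := Fintype.ofFinite χ.ker
      obtain ⟨k₀, hk₀⟩ := Fintype.exists_ne_of_one_lt_card
        (by rw [← Nat.card_eq_fintype_card]; omega) (0 : χ.ker)
      have he0 : φ k₀.1.1 ≠ 0 := fun h0 => hk₀ (hinjk (by simpa using h0))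
      have hee := hiso' _ (hkA' _ k₀.1.2)
      obtain ⟨f, hff, hef, hfe, -⟩ := exists_partner h ⊥ (by simpa using he0) hee
        (fun z hz => by rw [(Submodule.mem_bot F).1 hz, uh_zero_left])
      have hline : ∀ b : Fin (0 + 2) → F, uh σ b (φ k₀.1.1) = 0 → b = uh σ b f • φ k₀.1.1 := fun b hb => by
        obtain ⟨r, t, rfl⟩ := SU_two_span hee hef b
        rw [uh_add_left, uh_smul_left, uh_smul_left, hee, hfe] at hb
        obtain rfl : t = 0 := by linear_combination hb
        simp [uh_smul_left, hef]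
      have hperp : ∀ a ∈ A', uh σ a (φ k₀.1.1) = 0 := fun a ha => by
        by_contra hc
        refine absurd hKcard (not_lt.2 ?_)
        rw [← card_fixed hF h]
        refine Nat.card_le_card_of_injective (fun k : χ.ker => (⟨uh σ a (φ k.1.1), by
          rw [h.symm]; exact hsym' _ (hkA' _ k.1.2) _ ha⟩ : {r : F // σ r = r})) fun k k' hkk => hinjk ?_
        have hkk : uh σ a (φ k.1.1) = uh σ a (φ k'.1.1) := congrArg Subtype.val hkk
        have e1 := hline _ (hall k k₀)
        have e2 := hline _ (hall k' k₀)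
        rw [e1, e2, uh_smul_right, uh_smul_right] at hkk
        show φ k.1.1 = φ k'.1.1
        rw [e1, e2, σ.injective (mul_right_cancel₀ hc hkk)]
      refine hab₁ ?_
      rw [hline a₁ (hperp a₁ ha₁), hline b₁ (hperp b₁ hb₁), uh_smul_left, uh_smul_right, hee]
      ring
    have hfix : ∀ g ∈ L, ∃ c : F, g.1.1 *ᵥ v = c • v := fun g hg => by
      obtain ⟨w, hw⟩ : ∃ w, w = g.1.1 *ᵥ v := ⟨_, rfl⟩
      rw [← hw]
      have h1 : ∀ k : χ.ker, uh σ (φ k.1.1) (φ w) = 0 := fun k => by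
        have hmem := hinv _ (L.inv_mem hg) _ k.1.2
        obtain ⟨m, hm⟩ : ∃ m, m = (g⁻¹).1.1 *ᵥ k.1.1 := ⟨_, rfl⟩
        rw [← hm] at hmem
        have hmm : uh σ m m = 0 := by
          rw [hm, su_uh h, hform _ k.1.2, hker, zero_mul, zero_div, zero_add]
          exact hiso' _ (hkA' _ k.1.2)
        rw [hform m hmem, hiso' (φ m) (hkA' _ hmem) |> (fun e => show uh σ ((P.map σ)ᵀ *ᵥ m) ((P.map σ)ᵀ *ᵥ m) = 0 from e),
          add_zero, hsym v hv m hmem, div_eq_zero_iff, or_iff_left hvv, mul_self_eq_zero] at hmm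
        have h2 : uh σ k.1.1 w = 0 := by
          rw [hw, ← su_uh h g⁻¹, su_inv_mulVec, ← hm, hmm]
        rwa [hform _ k.1.2, hker, zero_mul, zero_div, zero_add] at h2
      have hee := hiso' _ (hkA' _ k₁.1.2)
      have he0 : φ k₁.1.1 ≠ 0 := fun h0 => hk (by rw [h0, uh_zero_left])
      obtain ⟨f, hff, hef, hfe, -⟩ := exists_partner h ⊥ (by simpa using he0) hee
        (fun z hz => by rw [(Submodule.mem_bot F).1 hz, uh_zero_left])
      obtain ⟨r, t, hrt⟩ := SU_two_span hee hef (φ w)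
      have h3 := h1 k₁
      rw [hrt, uh_add_right, uh_smul_right, uh_smul_right, hee, hef] at h3
      have ht : t = 0 := σ.injective (by rw [map_zero]; linear_combination h3)
      have h4 := h1 k₂
      rw [hrt, ht, zero_smul, add_zero, uh_smul_right] at h4
      have hr : r = 0 := σ.injective (by
        rw [map_zero]
        exact (mul_eq_zero.1 h4).resolve_right (fun h0 => hk (h.swap_zero h0)))
      refine ⟨uh σ w v / uh σ v v, ?_⟩
      conv_lhs => rw [← hdec w]
      rw [show (P.map σ)ᵀ *ᵥ w = φ w from rfl, hrt, hr, ht]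
      simp
    let Av : AddSubgroup (Fin (1 + 2) → F) :=
      (AddMonoidHom.mk' (fun c : F => c • v) fun a b => add_smul a b v).range
    have hAv : ∀ g ∈ L, ∀ a ∈ Av, g.1.1 *ᵥ a ∈ Av := by
      rintro g hg _ ⟨c, rfl⟩
      obtain ⟨d, hd⟩ := hfix g hg
      exact ⟨c * d, by show (c * d) • v = g.1.1 *ᵥ (c • v); rw [mulVec_smul, hd, smul_smul]⟩
    have h1 := class_count' L Av hAv (fun w => uh σ w w = uh σ v v) (fun g w hw => by rw [su_uh h, hw])
      (⟨1, one_smul F v⟩ : v ∈ Av) (fun w hw => su_trans_norm hF h (k := 1) hvv hw)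
    rw [card_class_three hF h hνs hvv] at h1
    have h2 : Nat.card {a : Av // uh σ a.1 a.1 = uh σ v v} ≤ q + 1 := by
      have hv0 : v ≠ 0 := fun h0 => hvv (by rw [h0, uh_zero_left])
      rw [← card_normOne hF]
      choose c hc using fun a : {a : Av // uh σ a.1 a.1 = uh σ v v} => a.1.2
      have hN : ∀ a, c a * σ (c a) = 1 := fun a => by
        have h3 := a.2
        rw [← hc a] at h3
        change uh σ (c a • v) (c a • v) = uh σ v v at h3
        rw [uh_smul_left, uh_smul_right] at h3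
        exact mul_right_cancel₀ hvv (by linear_combination h3)
      refine Nat.card_le_card_of_injective (fun a => (⟨Units.mk0 (c a) (left_ne_zero_of_mul_eq_one (hN a)), by
        rw [det_mem_normOne_iff, Units.val_mk0, pow_succ', ← h.pow, hN]⟩ : normOne F q)) fun a b he => ?_
      have he' : c a = c b := congrArg Units.val (congrArg Subtype.val he)
      exact Subtype.ext (Subtype.ext (by rw [← hc a, ← hc b, he']))
    by_contra hlt
    push Not at hlt
    have h3 := h1.trans (Nat.mul_le_mul (Nat.le_of_lt_succ hlt) h2)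
    have h5 : q ^ 4 * 2 ≤ q ^ 5 := by
      rw [pow_succ q 4]; exact Nat.mul_le_mul_left _ hq
    have h6 : q ^ 3 * 2 ≤ q ^ 4 := by
      rw [pow_succ q 3]; exact Nat.mul_le_mul_left _ hq
    have h7 : q * 4 ≤ q ^ 3 := by nlinarith
    rw [show (q ^ 3 + q) * (q + 1) = q ^ 4 + q ^ 3 + q ^ 2 + q by ring] at h3
    omega

end CfsgLib.MinIdx.Un
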