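import Cfsg.Agent.Lib.MinIdx.UnLift
import Cfsg.Agent.Lib.MinIdx.UnThreeSym

/-!
# The smallest index of a proper subgroup of `SU` in odd dimension at least five
-/

set_option autoImplicit false

namespace CfsgLib.MinIdx.Un

open Matrix CfsgLib.Classical CfsgLib.Classical.Unitary

variable {F : Type*} [Field F] [Finite F] {σ : F →+* F} {q n m : ℕ}

/-- The hypothesis on the Levi part. -/
def LeviHyp (σ : F →+* F) (q m : ℕ) : Prop :=
  m = 3 ∨ (5 ≤ m ∧ ∀ L : Subgroup (Cfsg.SU m F q), L ≠ ⊤ → iso σ m ≤ L.index * (q ^ 2 - 1))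

theorem iso_odd (hF : Nat.card F = q ^ 2) (h : UFrob σ q) (hodd : Odd m) :
    (q : ℤ) * (iso σ m : ℤ) = (q : ℤ) ^ (2 * m) - (q : ℤ) ^ m * ((q : ℤ) - 1) - q := by
  rw [iso_mul hF h m, hodd.neg_one_pow]
  ring

theorem iso_rec (hF : Nat.card F = q ^ 2) (h : UFrob σ q) (hodd : Odd m) :
    iso σ (m + 2) = q ^ (2 * m + 1) * (q ^ 2 - 1) + q ^ 2 * iso σ m + (q ^ 2 - 1) := by
  have hq := two_le_q hF
  have h1 := iso_odd hF h (σ := σ) hodd
  have h2 := iso_odd hF h (σ := σ) (m := m + 2) (hodd.add_even even_two)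
  zify [Nat.one_le_pow 2 q (by omega)]
  refine mul_left_cancel₀ (show (q : ℤ) ≠ 0 by positivity) ?_
  linear_combination h2 - (q : ℤ) ^ 2 * h1

theorem q_mul_iso_le (hF : Nat.card F = q ^ 2) (h : UFrob σ q) (hodd : Odd m) : q * iso σ m ≤ q ^ (2 * m) := by
  have h1 := iso_odd hF h (σ := σ) hodd
  zify
  rw [h1]
  have h2 : (0 : ℤ) ≤ (q : ℤ) ^ m * ((q : ℤ) - 1) :=
    mul_nonneg (by positivity) (by have := two_le_q hF; linarith [(show (2 : ℤ) ≤ q by exact_mod_cast this)])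
  linarith [(show (0 : ℤ) ≤ q by positivity)]

theorem big_index (hF : Nat.card F = q ^ 2) (h : UFrob σ q) (hodd : Odd m) (hm : 3 ≤ m) {N : ℕ}
    (hN : 2 * q ^ (2 * m + 1) ≤ N) : iso σ (m + 2) ≤ N * (q ^ 2 - 1) := by
  have hq := two_le_q hF
  refine le_trans ?_ (Nat.mul_le_mul_right _ hN)
  rw [iso_rec hF h hodd]
  have h1 : q * (q * iso σ m) ≤ q * q ^ (2 * m) := Nat.mul_le_mul_left _ (q_mul_iso_le hF h hodd)
  have h2 : q * q ^ (2 * m) ≤ q ^ (2 * m + 1) * (q ^ 2 - 2) := by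
    rw [← pow_succ']
    refine Nat.le_mul_of_pos_right _ ?_
    have : 4 ≤ q ^ 2 := by nlinarith
    omega
  have h3 : q ^ 2 - 1 ≤ q ^ (2 * m + 1) := (Nat.sub_le _ _).trans (Nat.pow_le_pow_right (by omega) (by omega))
  obtain ⟨d, hd⟩ : ∃ d, q ^ 2 - 2 = d := ⟨_, rfl⟩
  have hd' : q ^ 2 - 1 = d + 1 := by
    have : 4 ≤ q ^ 2 := by nlinarith
    omega
  rw [hd'] at h3 ⊢
  rw [hd] at h2
  rw [show q ^ 2 * iso σ m = q * (q * iso σ m) by ring]
  calc q ^ (2 * m + 1) * (d + 1) + q * (q * iso σ m) + (d + 1)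
      ≤ q ^ (2 * m + 1) * (d + 1) + q ^ (2 * m + 1) * d + q ^ (2 * m + 1) :=
        Nat.add_le_add (Nat.add_le_add_left (h1.trans h2) _) h3
    _ = _ := by ring

theorem levi_big (hF : Nat.card F = q ^ 2) (h : UFrob σ q) (hodd : Odd m) (hm : 5 ≤ m) :
    iso σ (m + 2) ≤ q ^ (m + 1) * iso σ m := by
  have hq := two_le_q hF
  have h1 := iso_odd hF h (σ := σ) hodd
  obtain ⟨A, hA⟩ : ∃ A : ℤ, A = (q : ℤ) ^ m := ⟨_, rfl⟩
  have hq' : (2 : ℤ) ≤ q := by exact_mod_cast hq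
  have hA5 : (q : ℤ) ^ 5 ≤ A := hA ▸ pow_le_pow_right₀ (by omega) hm
  have hpos : (0 : ℤ) < q := by omega
  zify
  rw [iso_rec hF h hodd]
  push_cast [Nat.one_le_pow 2 q (by omega : 0 < q)]
  refine le_of_mul_le_mul_left ?_ hpos
  rw [show (q : ℤ) * ((q : ℤ) ^ (2 * m + 1) * ((q : ℤ) ^ 2 - 1) + (q : ℤ) ^ 2 * (iso σ m : ℤ) + ((q : ℤ) ^ 2 - 1)) =
      (q : ℤ) ^ 2 * A * A * ((q : ℤ) ^ 2 - 1) + (q : ℤ) ^ 2 * ((q : ℤ) * iso σ m) + q * ((q : ℤ) ^ 2 - 1) by
        rw [hA]; ring,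
    show (q : ℤ) * ((q : ℤ) ^ (m + 1) * iso σ m) = q * A * ((q : ℤ) * iso σ m) by rw [hA]; ring, h1,
    show (q : ℤ) ^ (2 * m) = A * A by rw [hA]; ring, ← hA]
  have h4 : (4 : ℤ) ≤ (q : ℤ) ^ 2 := by nlinarith
  have h8 : 8 * (q : ℤ) ^ 2 ≤ (q : ℤ) ^ 5 := by
    have : (8 : ℤ) ≤ (q : ℤ) ^ 3 := by nlinarith
    nlinarith
  have hA0 : (0 : ℤ) ≤ A := by linarith
  have e1 := mul_le_mul_of_nonneg_left hA5 (show (0 : ℤ) ≤ A * A * q by positivity)
  have e3 : (q : ℤ) ^ 4 + q ^ 2 ≤ q ^ 6 := by nlinarith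
  have e3' := mul_le_mul_of_nonneg_left e3 (show (0 : ℤ) ≤ A * A by positivity)
  have hAq : (q : ℤ) ≤ A := le_trans (le_self_pow₀ (by omega) (by norm_num)) hA5
  have e4 := mul_le_mul_of_nonneg_left hAq (show (0 : ℤ) ≤ A * q by positivity)
  have e5 : (0 : ℤ) ≤ (q : ℤ) ^ 2 * A * ((q : ℤ) - 1) := mul_nonneg (by positivity) (by omega)
  nlinarith

/-- Conjugate points have conjugate centres. -/
theorem notMem_orb_of_ctr (h : UFrob σ q) {H : Subgroup (Cfsg.SU n F q)} {x z : Fin n → F} (hxx : uh σ x x = 0)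
    (hC : ctr h H x = ⊥) (hz : ctr h H z ≠ ⊥) : z ∉ orb H x := by
  rintro ⟨g, hg, α, hα, rfl⟩
  refine hz (eq_bot_iff.2 fun c hc' => ?_)
  have hgx : uh σ (g.1.1 *ᵥ x) (g.1.1 *ᵥ x) = 0 := by rw [su_uh h, hxx]
  have hzz : uh σ (α • g.1.1 *ᵥ x) (α • g.1.1 *ᵥ x) = 0 := by rw [uh_smul_left, uh_smul_right, hgx]; ring
  have hc : c.1 + σ c.1 = 0 := c.2
  have h1 := (mem_ctr h hzz).1 hc'
  rw [ue_smul h (Ok.zero hgx hc), smul_zero, show (0 : Fin n → F) = g.1.1 *ᵥ 0 from (mulVec_zero _).symm,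
    ← ue_conj] at h1
  have h2 := H.mul_mem (H.mul_mem (H.inv_mem hg) h1) hg
  rw [show g⁻¹ * (g * ue h x 0 (α * σ α * c.1) * g⁻¹) * g = ue h x 0 (α * σ α * c.1) by group] at h2
  have hd0 : α * σ α * c.1 + σ (α * σ α * c.1) = 0 := by
    rw [map_mul, map_mul, h.invol]; linear_combination (α * σ α) * hc
  have h3 := (mem_ctr h hxx (c := ⟨_, hd0⟩)).2 h2
  rw [hC, AddSubgroup.mem_bot] at h3
  have h4 : α * σ α * c.1 = 0 := congrArg Subtype.val h3
  rw [AddSubgroup.mem_bot]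
  exact Subtype.ext (by simpa [hα] using h4)

/-- A point without transvections has a trivial root set and the whole Levi part. -/
theorem ctr_bot_structure (hF : Nat.card F = q ^ 2) (h : UFrob σ q) (hodd : Odd m) (hyp : LeviHyp σ q m)
    {H : Subgroup (Cfsg.SU (m + 2) F q)} (hlt : H.index * (q ^ 2 - 1) < iso σ (m + 2))
    {x y : Fin (m + 2) → F} {P : Matrix (Fin (m + 2)) (Fin m) F} (s : Split σ m x y P) (hC : ctr h H x = ⊥) :
    aSet h H s = ⊥ ∧ liftM h H s = ⊤ ∧ q ^ (2 * m + 1) ≤ cnt H x := by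
  have hq := two_le_q hF
  have hm : 3 ≤ m := by rcases hyp with rfl | ⟨h5, -⟩ <;> omega
  have hcnt := cnt_ge' h H s (by omega)
  rw [hC, AddSubgroup.index_bot, card_Sk hF h] at hcnt
  have hN := hcnt.trans (cnt_le_index H x)
  have ht1 : 1 ≤ ((liftM h H s).map (scalHom s)).index := Nat.pos_of_ne_zero Subgroup.index_ne_zero_of_finite
  have hsym : ∀ a ∈ aSet h H s, ∀ b ∈ aSet h H s, uh σ a b = uh σ b a := fun a ha b hb => by
    have h1 := comm_mem h s.xx ha hb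
    rw [hC, AddSubgroup.mem_bot] at h1
    have h2 := congrArg Subtype.val h1
    change uh σ (P *ᵥ a) (P *ᵥ b) - uh σ (P *ᵥ b) (P *ᵥ a) = 0 at h2
    rw [s.pp h, s.pp h, sub_eq_zero] at h2
    exact h2
  have hA : aSet h H s = ⊥ := by
    by_contra hA
    have hcard := sym_card_sq hF h _ hsym
    by_cases hL : liftL h H s = ⊤
    · rcases invariant_cases hF h hm _ (fun M a ha => aSet_liftL h s (hL ▸ Subgroup.mem_top M) ha) with hb | hT
      · exact hA hb
      rw [hT, AddSubgroup.card_top, Nat.card_fun, hF, Nat.card_fin, ← pow_mul] at hcard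
      have h1 : 1 < q ^ (2 * m) := Nat.one_lt_pow (by omega) (by omega)
      nlinarith
    · rcases hyp with rfl | ⟨h5, hyp⟩
      · have h1 := three_sym hF h (liftL h H s) (aSet h H s) hA hsym fun g hg a ha => aSet_liftL h s hg ha
        refine absurd hlt (not_lt.2 ?_)
        rw [iso_rec hF h (σ := σ) (by decide : Odd 3), iso_three hF h]
        calc q ^ (2 * 3 + 1) * (q ^ 2 - 1) + q ^ 2 * ((q ^ 3 + 1) * (q ^ 2 - 1)) + (q ^ 2 - 1)
            = (q ^ 7 + q ^ 5 + q ^ 2 + 1) * (q ^ 2 - 1) := by ring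
          _ ≤ _ := Nat.mul_le_mul_right _ (h1.trans (le_trans ?_ hN))
        exact Nat.mul_le_mul_right _ (Nat.mul_le_mul_left _ (Nat.le_mul_of_pos_right _ ht1))
      · have hX : q ^ m ≤ (aSet h H s).index := by
          have hA' : Nat.card (aSet h H s) ≤ q ^ m :=
            Nat.mul_self_le_mul_self_iff.1 (hcard.trans_eq (by rw [← pow_add, two_mul]))
          refine Nat.le_of_mul_le_mul_right ?_ (Nat.pow_pos (n := m) (show 0 < q by omega))
          calc q ^ m * q ^ m = (aSet h H s).index * Nat.card (aSet h H s) := by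
                rw [aSet_card_mul hF h H s, ← pow_add, two_mul]
            _ ≤ _ := Nat.mul_le_mul_left _ hA'
        refine absurd hlt (not_lt.2 ?_)
        calc iso σ (m + 2) ≤ q ^ (m + 1) * iso σ m := levi_big hF h hodd h5
          _ ≤ q ^ (m + 1) * ((liftL h H s).index * (q ^ 2 - 1)) := Nat.mul_le_mul_left _ (hyp _ hL)
          _ = q ^ m * (q * 1) * (liftL h H s).index * (q ^ 2 - 1) := by ring
          _ ≤ _ := Nat.mul_le_mul_right _
            ((Nat.mul_le_mul_right _ (Nat.mul_le_mul hX (Nat.mul_le_mul_left _ ht1))).trans hN)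
  have hcnt' : q ^ (2 * m + 1) * (((liftM h H s).map (scalHom s)).index * (liftL h H s).index) ≤ cnt H x := by
    refine le_trans (le_of_eq ?_) hcnt
    rw [hA, AddSubgroup.index_bot, Nat.card_fun, hF, Nat.card_fin, ← pow_mul]
    ring
  have hl1 : 1 ≤ (liftL h H s).index := Nat.pos_of_ne_zero Subgroup.index_ne_zero_of_finite
  have htl : ((liftM h H s).map (scalHom s)).index * (liftL h H s).index = 1 := by
    by_contra hne
    have h2 : 2 ≤ ((liftM h H s).map (scalHom s)).index * (liftL h H s).index := by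
      have := Nat.mul_le_mul ht1 hl1
      omega
    refine absurd hlt (not_lt.2 (big_index hF h hodd hm ?_))
    rw [mul_comm 2]
    exact (Nat.mul_le_mul_left _ h2).trans (hcnt'.trans (cnt_le_index H x))
  refine ⟨hA, ?_, by rwa [htl, mul_one] at hcnt'⟩
  obtain ⟨e1, e2⟩ := mul_eq_one.1 htl
  exact liftM_eq_top h s (Subgroup.index_eq_one.1 e1) (Subgroup.index_eq_one.1 e2)

/-- The count at a point with a transvection orthogonal to a point without. -/
theorem cnt_second (hF : Nat.card F = q ^ 2) (h : UFrob σ q) (hodd : Odd m) (hyp : LeviHyp σ q m)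
    {H : Subgroup (Cfsg.SU (m + 2) F q)} {x y : Fin (m + 2) → F} {P : Matrix (Fin (m + 2)) (Fin m) F}
    (s : Split σ m x y P) (hA : aSet h H s = ⊥) {z : Fin (m + 2) → F} (hz0 : z ≠ 0) (hzz : uh σ z z = 0)
    (hzx : uh σ z x = 0) (hzorb : z ∉ orb H x) : q ^ 2 * iso σ m ≤ cnt H z * (q ^ 2 - 1) := by
  classical
  have hq := two_le_q hF
  have hm : 3 ≤ m := by rcases hyp with rfl | ⟨h5, -⟩ <;> omega
  obtain ⟨y', Q, t⟩ := exists_split h hz0 hzz
  have hxz : uh σ x z = 0 := h.swap_zero hzx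
  obtain ⟨a₁, ha₁⟩ : ∃ a₁, a₁ = (Q.map σ)ᵀ *ᵥ x := ⟨_, rfl⟩
  obtain ⟨z₁, hz₁⟩ : ∃ z₁, z₁ = (P.map σ)ᵀ *ᵥ z := ⟨_, rfl⟩
  have hxdec : uh σ x y' • z + Q *ᵥ a₁ = x := ha₁ ▸ t.perp_x hxz
  have hzdec : uh σ z y • x + P *ᵥ z₁ = z := hz₁ ▸ s.perp_x hzx
  have hz10 : z₁ ≠ 0 := fun h0 => hzorb ⟨1, H.one_mem, uh σ z y, fun hy => hz0 (by
    rw [← hzdec, h0, hy, mulVec_zero, zero_smul, add_zero]), by
    conv_lhs => rw [← hzdec, h0, mulVec_zero, add_zero]
    rw [su_one_mulVec]⟩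
  obtain ⟨A, hAdef⟩ : ∃ A, A = aSet h H t := ⟨_, rfl⟩
  have hX : q ^ 2 ≤ A.index := by
    by_cases hCz : ctr h H z = ⊤
    · rw [← hF, AddSubgroup.index]
      refine Nat.card_le_card_of_injective (fun β : F => (QuotientAddGroup.mk (β • a₁) : (Fin m → F) ⧸ A)) ?_
      intro β β' he
      rw [QuotientAddGroup.eq, ← neg_smul, ← add_smul] at he
      obtain ⟨r, hr⟩ : ∃ r, r = -β + β' := ⟨_, rfl⟩
      rw [← hr, hAdef] at he
      have h1 : r • x ∈ rootSet h H z := by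
        have h2 : Q *ᵥ (r • a₁) ∈ rootSet h H z := he
        rw [← hxdec, smul_add, smul_smul, ← mulVec_smul]
        exact (rootSet h H z).add_mem (line_mem_rootSet h H z _) h2
      obtain ⟨c, hc, hcm⟩ := h1 hzz
      have hc0 : c + σ c = 0 := by
        have := hc.2.2
        rw [uh_smul_left, uh_smul_right, s.xx, mul_zero, mul_zero, add_zero] at this
        exact this
      have hok0 : Ok σ z (r • x) 0 :=
        ⟨hzz, by rw [uh_smul_left, hxz, mul_zero], by rw [uh_smul_left, uh_smul_right, s.xx]; simp⟩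
      have e := hok0.mul h (Ok.zero hzz hc0)
      rw [uh_zero_left, sub_zero, add_zero, zero_add] at e
      rw [← e] at hcm
      have h3 := (H.mul_mem_cancel_right
        ((mem_ctr h hzz (c := ⟨c, hc0⟩)).1 (hCz ▸ AddSubgroup.mem_top _))).1 hcm
      rw [ue_swap h s.xx hzz hzx r] at h3
      have h4 : (-σ r) • z ∈ rootSet h H x := (mem_rootSet h s.xx).2
        ⟨0, ⟨s.xx, by rw [uh_smul_left, hzx, mul_zero], by rw [uh_smul_left, uh_smul_right, hzz]; simp⟩, h3⟩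
      have h5 : (-σ r) • z₁ ∈ aSet h H s := by
        show P *ᵥ ((-σ r) • z₁) ∈ rootSet h H x
        have h6 := (rootSet h H x).sub_mem h4 (line_mem_rootSet h H x (-σ r * uh σ z y))
        rwa [show (-σ r) • z - (-σ r * uh σ z y) • x = P *ᵥ ((-σ r) • z₁) by
          rw [mulVec_smul]
          conv_lhs => arg 1; rw [← hzdec]
          module] at h6
      rw [hA, AddSubgroup.mem_bot, smul_eq_zero, or_iff_left hz10, neg_eq_zero, map_eq_zero, hr] at h5
      linear_combination -h5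
    · have hA' : Nat.card A ≤ q ^ m := by
        rw [hAdef]
        exact Nat.mul_self_le_mul_self_iff.1 ((card_aSet_sq hF h t hCz).trans_eq (by rw [← pow_add, two_mul]))
      refine le_trans (Nat.pow_le_pow_right (by omega) (by omega : 2 ≤ m)) ?_
      refine Nat.le_of_mul_le_mul_right ?_ (Nat.pow_pos (n := m) (show 0 < q by omega))
      calc q ^ m * q ^ m = A.index * Nat.card A := by rw [hAdef, aSet_card_mul hF h H t, ← pow_add, two_mul]
        _ ≤ _ := Nat.mul_le_mul_left _ hA'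
  have hAtop : A ≠ ⊤ := fun h0 => by
    rw [h0, AddSubgroup.index_top] at hX
    nlinarith
  have hinv : ∀ g ∈ liftL h H t, ∀ a ∈ A, g.1.1 *ᵥ a ∈ A := fun g hg a ha =>
    hAdef ▸ aSet_liftL h t hg (hAdef ▸ ha)
  have hcnt : A.index * (liftL h H t).index ≤ cnt H z := by
    refine le_trans ?_ (cnt_ge' h H t (by omega))
    rw [hAdef]
    refine Nat.mul_le_mul_right _ (Nat.le_mul_of_pos_right _ (Nat.mul_pos ?_ ?_))
    · exact Nat.pos_of_ne_zero AddSubgroup.index_ne_zero_of_finite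
    · exact Nat.pos_of_ne_zero Subgroup.index_ne_zero_of_finite
  refine le_trans ?_ (Nat.mul_le_mul_right _ hcnt)
  by_cases hA0 : A = ⊥
  · have hl1 : 1 ≤ (liftL h H t).index := Nat.pos_of_ne_zero Subgroup.index_ne_zero_of_finite
    refine le_trans ?_ (Nat.mul_le_mul_right _ (Nat.le_mul_of_pos_right _ hl1))
    rw [hA0, AddSubgroup.index_bot, Nat.card_fun, hF, Nat.card_fin, ← pow_mul]
    calc q ^ 2 * iso σ m = q * (q * iso σ m) := by ring
      _ ≤ q * q ^ (2 * m) := Nat.mul_le_mul_left _ (q_mul_iso_le hF h hodd)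
      _ ≤ (q ^ 2 - 1) * q ^ (2 * m) := by
        refine Nat.mul_le_mul_right _ ?_
        have : q * 2 ≤ q ^ 2 := by rw [sq]; exact Nat.mul_le_mul_left _ hq
        omega
      _ = _ := mul_comm _ _
  rcases hyp with rfl | ⟨h5, hyp⟩
  · rw [iso_three hF h, ← mul_assoc]
    refine Nat.mul_le_mul_right _ (le_trans (le_of_eq (by ring)) (three_any hF h (liftL h H t) A hAtop hinv))
  · have hL : liftL h H t ≠ ⊤ := fun hL =>
      (invariant_cases hF h (by omega) A fun M a ha => hinv M (hL ▸ Subgroup.mem_top M) a ha).elim hA0 hAtop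
    rw [mul_assoc]
    exact Nat.mul_le_mul hX (hyp _ hL)

/-- One step in odd dimension. -/
theorem su_step_odd (hF : Nat.card F = q ^ 2) (h : UFrob σ q) (hodd : Odd m) (hyp : LeviHyp σ q m)
    (H : Subgroup (Cfsg.SU (m + 2) F q)) (hH : H ≠ ⊤) : iso σ (m + 2) ≤ H.index * (q ^ 2 - 1) := by
  by_contra hlt
  push Not at hlt
  have hq := two_le_q hF
  have hm : 3 ≤ m := by rcases hyp with rfl | ⟨h5, -⟩ <;> omega
  obtain ⟨x, hx0, hxx, hC⟩ := exists_ctr_bot hF h hm H hH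
  obtain ⟨y, P, s⟩ := exists_split h hx0 hxx
  obtain ⟨hA, hM, hcx⟩ := ctr_bot_structure hF h hodd hyp hlt s hC
  obtain ⟨z, hz0, hzz, hzx, hzC⟩ := exists_ctr_ne_bot hF hm hodd hA hC hM
  have hzorb := notMem_orb_of_ctr h hxx hC hzC
  have hsum := cnt_add_le hF h (by omega) H hx0 hxx hz0 hzz hzorb
  have hcz := cnt_second hF h hodd hyp s hA hz0 hzz hzx hzorb
  have hmul := cnt_mul hF h (by omega) H hx0 hxx
  have hline := index_lineStab hF h (m := m) (by omega) hx0 hxx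
  obtain ⟨K, hK⟩ : ∃ K, K = (lineStab (q := q) x).index := ⟨_, rfl⟩
  rw [← hK] at hline
  obtain ⟨d, hd⟩ : ∃ d, q ^ 2 - 1 = d := ⟨_, rfl⟩
  have hd1 : d + 1 = q ^ 2 := by rw [← hd]; exact Nat.sub_add_cancel (Nat.one_le_pow _ _ (by omega))
  have hrec := iso_rec hF h (σ := σ) hodd
  rw [hd] at hrec hline hcz hlt
  have h2 : (cnt H x + cnt H z) * d ≤ H.index * d := Nat.mul_le_mul_right _ hsum
  rw [add_mul] at h2
  have h3 : q ^ (2 * m + 1) * d ≤ cnt H x * d := Nat.mul_le_mul_right _ hcx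
  have hlt' : H.index < K := Nat.lt_of_mul_lt_mul_right (a := d) (by rwa [hline])
  have h4 : (H.index + 1) * d ≤ K * d := Nat.mul_le_mul_right _ hlt'
  rw [add_mul, one_mul, hline] at h4
  have hN : H.index * d = q ^ (2 * m + 1) * d + q ^ 2 * iso σ m := by omega
  have hcx' : cnt H x = q ^ (2 * m + 1) := Nat.eq_of_mul_eq_mul_right (show 0 < d by nlinarith) (by omega)
  -- divisibility
  have hdvd : (H.index : ℤ) ∣ (q : ℤ) ^ (2 * m + 1) * d := by
    refine ⟨(Nat.card (orb H x) : ℤ) - (q : ℤ) ^ (2 * m + 1) * d, ?_⟩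
    have h5 : iso σ (m + 2) = H.index * d + d := by omega
    rw [hcx', h5] at hmul
    have h6 : (q : ℤ) ^ (2 * m + 1) * ((H.index : ℤ) * d + d) = H.index * Nat.card (orb H x) := by exact_mod_cast hmul
    linear_combination h6
  obtain ⟨R, hR⟩ : q ^ 2 ∣ H.index := by
    have h5 : q ^ 2 ∣ H.index * d := by
      rw [hN]
      exact Nat.dvd_add (dvd_mul_of_dvd_left (pow_dvd_pow q (by omega)) _) (dvd_mul_right _ _)
    refine Nat.Coprime.dvd_of_dvd_mul_right ?_ h5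
    rw [← hd1]
    simp
  have hRd : R * d = q ^ (2 * m - 1) * d + iso σ m := by
    refine Nat.eq_of_mul_eq_mul_left (show 0 < q ^ 2 by positivity) ?_
    rw [← mul_assoc, ← hR, hN, mul_add, ← mul_assoc, ← pow_add]
    congr 3
    omega
  have hi : (q : ℤ) ∣ (iso σ m : ℤ) + 1 := by
    refine ⟨(q : ℤ) ^ (m - 2) * ((q : ℤ) ^ m - q + 1), ?_⟩
    refine mul_left_cancel₀ (show (q : ℤ) ≠ 0 by positivity) ?_
    have h1 := iso_odd hF h (σ := σ) hodd
    have e : (q : ℤ) ^ m = q ^ (m - 2) * q ^ 2 := by rw [← pow_add]; congr 1; omega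
    rw [show (q : ℤ) ^ (2 * m) = q ^ m * q ^ m by ring] at h1
    linear_combination h1 + ((q : ℤ) ^ m - q + 1) * e
  obtain ⟨J, hJ⟩ := hi
  have hRd' : (R : ℤ) * d = (q : ℤ) ^ (2 * m - 1) * d + iso σ m := by exact_mod_cast hRd
  have hqR : IsCoprime (R : ℤ) q := by
    refine ⟨-(d : ℤ), (q : ℤ) ^ (2 * m - 2) * d + J, ?_⟩
    have e : (q : ℤ) ^ (2 * m - 1) = q ^ (2 * m - 2) * q := by rw [← pow_succ]; congr 1; omega
    rw [e] at hRd'
    linear_combination -hRd' - hJ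
  have h6 : (R : ℤ) ∣ (q : ℤ) ^ (2 * m + 1) * d := by
    refine dvd_trans ?_ hdvd
    rw [hR]; push_cast; exact dvd_mul_left _ _
  have h7 : R ∣ d := Int.natCast_dvd_natCast.1 (hqR.pow_right.dvd_of_dvd_mul_left h6)
  have h8 : R ≤ d := Nat.le_of_dvd (by nlinarith) h7
  have h9 : q ^ (2 * m - 1) ≤ R := by
    refine Nat.le_of_mul_le_mul_right ?_ (show 0 < d by nlinarith)
    rw [hRd]
    exact Nat.le_add_right _ _
  have h10 : q ^ 3 ≤ q ^ (2 * m - 1) := Nat.pow_le_pow_right (by omega) (by omega)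
  nlinarith

/-- Every proper subgroup of `SU n`, `n` odd and at least five, has index at least the number of isotropic points. -/
theorem su_odd_bound (hF : Nat.card F = q ^ 2) (h : UFrob σ q) (j : ℕ) :
    ∀ H : Subgroup (Cfsg.SU (2 * j + 3 + 2) F q), H ≠ ⊤ → iso σ (2 * j + 3 + 2) ≤ H.index * (q ^ 2 - 1) := by
  induction j with
  | zero => exact su_step_odd hF h (by decide) (Or.inl rfl)
  | succ j ih => exact su_step_odd hF h (m := 2 * j + 3 + 2) ⟨j + 2, by omega⟩ (Or.inr ⟨by omega, ih⟩)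

end CfsgLib.MinIdx.Un
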