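import Cfsg.Agent.Lib.MinIdx.UnWeak
import Cfsg.Agent.Lib.MinIdx.UnNum

/-!
# A second point for a subgroup containing a whole Levi subgroup
-/

set_option autoImplicit false

namespace CfsgLib.MinIdx.Un

open Matrix CfsgLib.Classical CfsgLib.Classical.Unitary

variable {F : Type*} [Field F] {σ : F →+* F} {q n m k : ℕ} {x y : Fin n → F} {P : Matrix (Fin n) (Fin m) F}

theorem ue_mem_Mst (h : UFrob σ q) {z w : Fin n → F} {c : F} (hzx : uh σ z x = 0) (hzy : uh σ z y = 0)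
    (hwx : uh σ w x = 0) (hwy : uh σ w y = 0) : ue h z w c ∈ Mst σ q x y := by
  have key : ∀ v, uh σ z v = 0 → uh σ w v = 0 → (ue h z w c).1.1 *ᵥ v = v := fun v h1 h2 => by
    by_cases he : Ok σ z w c
    · rw [ue_apply h he, h.swap_zero h1, h.swap_zero h2]
      simp
    · rw [ue_of_not h he, su_one_mulVec]
  exact ⟨⟨1, one_ne_zero, by rw [key x hzx hwx, one_smul]⟩, ⟨1, one_ne_zero, by rw [key y hzy hwy, one_smul]⟩⟩

theorem exists_unit_perp [Finite F] (h : UFrob σ q) (hk : 1 ≤ k) {e : Fin (k + 2) → F} (he0 : e ≠ 0)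
    (hee : uh σ e e = 0) : ∃ u, uh σ u u = 1 ∧ uh σ e u = 0 := by
  obtain ⟨f, P, s⟩ := exists_split h he0 hee
  exact ⟨P *ᵥ Pi.single ⟨0, hk⟩ 1, by rw [s.pp h, uh_single_self h], s.xp h _⟩

/-- What the root set at a point of the complement looks like. -/
theorem point_structure [Finite F] (hF : Nat.card F = q ^ 2) (h : UFrob σ q) (hq : 3 ≤ q)
    {H : Subgroup (Cfsg.SU n F q)} {P : Matrix (Fin n) (Fin (k + 2)) F} (hk : 1 ≤ k)
    (s : Split σ (k + 2) x y P) (hM : Mst σ q x y ≤ H) (hA : aSet h H s = ⊥) {e : Fin (k + 2) → F} (he0 : e ≠ 0)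
    (hee : uh σ e e = 0) :
    ctr h H (P *ᵥ e) = ⊤ ∧ (∀ a, uh σ a e = 0 → P *ᵥ a ∈ rootSet h H (P *ᵥ e)) ∧
      (∀ w ∈ rootSet h H (P *ᵥ e), uh σ w y = 0) ∧
      ((∀ γ : F, γ • y ∈ rootSet h H (P *ᵥ e)) ∨ ∀ w ∈ rootSet h H (P *ᵥ e), uh σ w x = 0) := by
  obtain ⟨z, hz⟩ : ∃ z, z = P *ᵥ e := ⟨_, rfl⟩
  rw [← hz]
  have hzz : uh σ z z = 0 := by rw [hz, s.pp h, hee]
  have hzx : uh σ z x = 0 := hz ▸ s.px e
  have hzy : uh σ z y = 0 := hz ▸ s.py e
  have hctr : ctr h H z = ⊤ := eq_top_iff.2 fun t _ =>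
    (mem_ctr h hzz).2 (hM (ue_mem_Mst h hzx hzy (uh_zero_left _) (uh_zero_left _)))
  have hin : ∀ a, uh σ a e = 0 → P *ᵥ a ∈ rootSet h H z := fun a ha => by
    obtain ⟨θ, hθ⟩ := exists_trace h
    refine (mem_rootSet h hzz).2 ⟨-θ * uh σ a a, ⟨hzz, by rw [hz, s.pp h, ha], ?_⟩,
      hM (ue_mem_Mst h hzx hzy (s.px a) (s.py a))⟩
    rw [s.pp h, map_mul, map_neg, h.symm]
    linear_combination (-(uh σ a a)) * hθ
  have hx : ∀ β : F, β • x ∈ rootSet h H z → β = 0 := fun β hb => by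
    obtain ⟨c, hc, hcm⟩ := hb hzz
    have hxz := h.swap_zero hzx
    have hβ : uh σ (β • x) (β • x) = 0 := by rw [uh_smul_left, uh_smul_right, s.xx]; ring
    have hc0 : c + σ c = 0 := by linear_combination hc.2.2 - hβ
    have he1 : Ok σ z (β • x) 0 :=
      ⟨hzz, by rw [uh_smul_left, hxz, mul_zero], by rw [hβ]; simp⟩
    have h1 : ue h z (β • x) 0 ∈ H := by
      have h2 := he1.mul h (Ok.zero hzz hc0)
      rw [uh_zero_left, sub_zero, add_zero, zero_add] at h2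
      rw [← h2] at hcm
      exact (H.mul_mem_cancel_right ((mem_ctr h hzz (c := ⟨c, hc0⟩)).1 (hctr ▸ AddSubgroup.mem_top _))).1 hcm
    rw [ue_swap h s.xx hzz hzx β, hz, ← mulVec_smul] at h1
    have h2 : (-σ β) • e ∈ aSet h H s :=
      (mem_aSet h s).2 ⟨0, ⟨s.xx, s.px _, by rw [s.pp h, uh_smul_left, uh_smul_right, hee]; simp⟩, h1⟩
    rw [hA, AddSubgroup.mem_bot] at h2
    simpa using (smul_eq_zero.1 h2).resolve_right he0
  have hdec : ∀ w ∈ rootSet h H z, uh σ w y • x + uh σ w x • y ∈ rootSet h H z := fun w hw => by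
    obtain ⟨c, hc, -⟩ := hw hzz
    have ha : uh σ ((P.map σ)ᵀ *ᵥ w) e = 0 := by rw [← uh_frame_right h, ← hz, hc.2.1]
    have h1 := (rootSet h H z).sub_mem hw (hin _ ha)
    rwa [show w - P *ᵥ ((P.map σ)ᵀ *ᵥ w) = uh σ w y • x + uh σ w x • y by
      conv_lhs => arg 1; rw [← s.dec w]
      abel] at h1
  obtain ⟨u, huu, heu⟩ := exists_unit_perp h hk he0 hee
  have htor : ∀ lam : F, lam ≠ 0 → ∀ α γ : F, α • x + γ • y ∈ rootSet h H z →
      (lam * α) • x + ((σ lam)⁻¹ * γ) • y ∈ rootSet h H z := fun lam hl α γ hw => by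
    obtain ⟨g, hg, hgs, hgy, hgp⟩ := exists_tor h s huu hl
    obtain ⟨c, hc, hcm⟩ := hw hzz
    have hgz : g.1.1 *ᵥ z = z := by
      rw [hz, hgp, heu, mul_zero, zero_smul, add_zero]
    have h1 := H.mul_mem (H.mul_mem (hM hg) hcm) (H.inv_mem (hM hg))
    rw [ue_conj, hgz] at h1
    have h2 := hc.map h g
    rw [hgz] at h2
    have e1 : g.1.1 *ᵥ (α • x + γ • y) = (lam * α) • x + ((σ lam)⁻¹ * γ) • y := by
      rw [mulVec_add, mulVec_smul, mulVec_smul, (Mst_x s hg).2, hgy, hgs, smul_smul, smul_smul, mul_comm α,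
        mul_comm γ]
    exact (mem_rootSet h hzz).2 ⟨c, e1 ▸ h2, e1 ▸ h1⟩
  have hy : ∀ γ : F, γ ≠ 0 → γ • y ∈ rootSet h H z → ∀ δ : F, δ • y ∈ rootSet h H z := fun γ hγ hm δ => by
    rcases eq_or_ne δ 0 with rfl | hδ
    · rw [zero_smul]; exact AddSubgroup.zero_mem _
    have h1 := htor (σ (γ / δ)) (by simp [hγ, hδ]) 0 γ (by simpa using hm)
    rw [h.invol, inv_div, mul_zero, zero_smul, zero_add, div_mul_cancel₀ _ hγ] at h1
    exact h1
  have hα : ∀ α γ : F, α • x + γ • y ∈ rootSet h H z → α = 0 := fun α γ hw => by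
    by_contra hα0
    have hγ : γ ≠ 0 := fun h0 => hα0 (hx α (by rwa [h0, zero_smul, add_zero] at hw))
    obtain ⟨μ, hμ0, hμ1, hμ2⟩ : ∃ μ : F, μ ≠ 0 ∧ 1 + μ ≠ 0 ∧ μ ^ 2 + μ + 1 ≠ 0 := by
      classical
      haveI := Fintype.ofFinite F
      by_contra hall
      push Not at hall
      have h5 : ∀ μ : F, μ = 0 ∨ μ = -1 ∨ μ ^ 2 + μ + 1 = 0 := fun μ => by
        rcases eq_or_ne μ 0 with h0 | h0
        · exact Or.inl h0
        by_cases h1 : 1 + μ = 0
        · exact Or.inr (Or.inl (by linear_combination h1))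
        · exact Or.inr (Or.inr (hall μ h0 h1))
      have hroot : (Finset.univ.filter fun μ : F => μ ^ 2 + μ + 1 = 0).card ≤ 2 := by
        rcases (Finset.univ.filter fun μ : F => μ ^ 2 + μ + 1 = 0).eq_empty_or_nonempty with h0 | ⟨r, hr⟩
        · simp [h0]
        simp only [Finset.mem_filter, Finset.mem_univ, true_and] at hr
        refine le_trans (Finset.card_le_card (t := {r, -1 - r}) fun μ hμ => ?_) Finset.card_le_two
        simp only [Finset.mem_filter, Finset.mem_univ, true_and] at hμ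
        simp only [Finset.mem_insert, Finset.mem_singleton]
        have : (μ - r) * (μ + r + 1) = 0 := by linear_combination hμ - hr
        rcases mul_eq_zero.1 this with e | e
        · exact Or.inl (sub_eq_zero.1 e)
        · exact Or.inr (by linear_combination e)
      have hcard : Fintype.card F ≤ 4 := by
        rw [← Finset.card_univ]
        refine le_trans (Finset.card_le_card
          (t := ({0, -1} : Finset F) ∪ (Finset.univ.filter fun μ : F => μ ^ 2 + μ + 1 = 0)) fun μ _ => ?_)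
          ((Finset.card_union_le _ _).trans (Nat.add_le_add Finset.card_le_two hroot))
        rcases h5 μ with e | e | e <;> simp [e]
      rw [← Nat.card_eq_fintype_card, hF] at hcard
      nlinarith
    have h1 := (rootSet h H z).sub_mem ((rootSet h H z).add_mem (htor 1 one_ne_zero α γ hw) (htor μ hμ0 α γ hw))
      (htor (1 + μ) hμ1 α γ hw)
    have hsμ0 : σ μ ≠ 0 := by simpa using hμ0
    have hsμ1 : (1 : F) + σ μ ≠ 0 := fun h0 => hμ1 (σ.injective (by rw [map_add, map_one, h0, map_zero]))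
    have hδ : (1 : F) + (σ μ)⁻¹ - (1 + σ μ)⁻¹ ≠ 0 := fun h0 => hμ2 ?_
    · rw [map_one, inv_one, map_add, map_one,
        show (1 * α) • x + (1 * γ) • y + ((μ * α) • x + ((σ μ)⁻¹ * γ) • y) -
          (((1 + μ) * α) • x + ((1 + σ μ)⁻¹ * γ) • y) = (((1 : F) + (σ μ)⁻¹ - (1 + σ μ)⁻¹) * γ) • y by module] at h1
      have h2 := (rootSet h H z).sub_mem hw (hy _ (mul_ne_zero hδ hγ) h1 γ)
      rw [add_sub_cancel_right] at h2
      exact hα0 (hx α h2)
    · field_simp at h0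
      refine σ.injective ?_
      rw [map_add, map_add, map_pow, map_one, map_zero]
      linear_combination h0
  refine ⟨hctr, hin, fun w hw => hα _ _ (hdec w hw), ?_⟩
  by_cases hex : ∃ w ∈ rootSet h H z, uh σ w x ≠ 0
  · obtain ⟨w, hw, hwx⟩ := hex
    have h1 := hdec w hw
    rw [hα _ _ h1, zero_smul, zero_add] at h1
    exact Or.inl (hy _ hwx h1)
  · push Not at hex
    exact Or.inr hex

/-- Pairing with a fixed vector. -/
def pair (σ : F →+* F) (a₀ : Fin m → F) : (Fin m → F) →+ F :=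
  AddMonoidHom.mk' (fun a => uh σ a a₀) fun a b => uh_add_left a b a₀

theorem pair_apply (a₀ a : Fin m → F) : pair σ a₀ a = uh σ a a₀ := rfl

theorem line_fix_of_perp (h : UFrob σ q) (L : Subgroup (Cfsg.SU m F q)) {a₀ : Fin m → F} (ha₀ : a₀ ≠ 0)
    (hinv : ∀ g ∈ L, ∀ a, uh σ a a₀ = 0 → uh σ (g.1.1 *ᵥ a) a₀ = 0) :
    ∀ g ∈ L, ∃ c : F, g.1.1 *ᵥ a₀ = c • a₀ := by
  intro g hg
  obtain ⟨b, hb⟩ := exists_uh_eq_one h ha₀
  refine ⟨σ (uh σ b (g.1.1 *ᵥ a₀)), uh_ext h fun a => ?_⟩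
  have h1 : uh σ (a - uh σ a a₀ • b) a₀ = 0 := by rw [uh_sub_left, uh_smul_left, hb, mul_one, sub_self]
  have h2 := hinv _ (L.inv_mem hg) _ h1
  rw [← su_uh h g, su_mulVec_inv, uh_sub_left, uh_smul_left] at h2
  rw [uh_smul_right, h.invol]
  linear_combination h2

theorem index_ker_pair [Finite F] (hF : Nat.card F = q ^ 2) (h : UFrob σ q) {a₀ : Fin m → F} (ha₀ : a₀ ≠ 0) :
    (pair σ a₀).ker.index = q ^ 2 := by
  obtain ⟨b, hb⟩ := exists_uh_eq_one h ha₀
  rw [AddSubgroup.index_ker, AddMonoidHom.range_eq_top.2 (fun c => ⟨c • b, by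
    rw [pair_apply, uh_smul_left, hb, mul_one]⟩), AddSubgroup.card_top, hF]

theorem index_ker_two [Finite F] (hF : Nat.card F = q ^ 2) (h : UFrob σ q) {a₀ a₁ : Fin m → F}
    (h00 : uh σ a₀ a₀ = 0) (h11 : uh σ a₁ a₁ = 0) (h10 : uh σ a₁ a₀ = 1) :
    ((pair σ a₀).prod (pair σ a₁)).ker.index = q ^ 4 := by
  have h01 : uh σ a₀ a₁ = 1 := by rw [← h.symm, h10, map_one]
  rw [AddSubgroup.index_ker, AddMonoidHom.range_eq_top.2 (fun c => ⟨c.1 • a₁ + c.2 • a₀, by
    simp [AddMonoidHom.prod_apply, pair_apply, uh_add_left, uh_smul_left, h00, h11, h10, h01]⟩),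
    AddSubgroup.card_top, Nat.card_prod, hF, ← pow_add]

/-- A subgroup preserving a hyperbolic plane. -/
theorem plane_bound [Finite F] (hF : Nat.card F = q ^ 2) (h : UFrob σ q) (hk : 1 ≤ k)
    (L : Subgroup (Cfsg.SU (k + 2) F q)) {a₀ a₁ : Fin (k + 2) → F} (h00 : uh σ a₀ a₀ = 0)
    (h11 : uh σ a₁ a₁ = 0) (h10 : uh σ a₁ a₀ = 1)
    (hinv : ∀ g ∈ L, ∀ a, uh σ a a₀ = 0 → uh σ a a₁ = 0 → uh σ (g.1.1 *ᵥ a) a₀ = 0) :
    iso σ (k + 2) ≤ L.index * iso σ 2 := by
  classical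
  have ha₀ : a₀ ≠ 0 := fun h0 => by rw [h0, uh_zero_right] at h10; exact zero_ne_one h10
  obtain ⟨P, s⟩ := exists_split_pair h h11 h00 h10
  obtain ⟨e, he0, hee⟩ := exists_iso_vector (m := 2) h le_rfl
  obtain ⟨f, Q, t⟩ := exists_split (m := 0) h he0 hee
  have hspan : ∀ v ∈ orb L a₀, v = uh σ v a₀ • a₁ + uh σ v a₁ • a₀ := by
    rintro v ⟨g, hg, α, -, rfl⟩
    have h1 : (P.map σ)ᵀ *ᵥ (g.1.1 *ᵥ a₀) = 0 := uh_ext h fun b => by
      have h2 := hinv _ (L.inv_mem hg) (P *ᵥ b) (s.py b) (s.px b)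
      rwa [← su_uh h g, su_mulVec_inv, uh_frame_left h, ← uh_zero_right (σ := σ) b] at h2
    have h2 := s.dec (g.1.1 *ᵥ a₀)
    rw [h1, mulVec_zero, add_zero] at h2
    rw [uh_smul_left, uh_smul_left, mul_smul, mul_smul, ← smul_add, h2]
  have hsub : Nat.card (orb L a₀) ≤ iso σ 2 := by
    refine Nat.card_le_card_of_injective
      (fun v : orb L a₀ => ⟨uh σ v.1 a₀ • e + uh σ v.1 a₁ • f, fun h0 => ?_, ?_⟩) ?_
    · have h1 := congrArg (fun w => uh σ w f) h0
      have h2 := congrArg (fun w => uh σ w e) h0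
      simp [uh_add_left, uh_smul_left, hee, t.yy, t.xy, t.yx h, uh_zero_left] at h1 h2
      refine (orb_iso h ha₀ h00 v.2).1 ?_
      rw [hspan _ v.2, h1, h2, zero_smul, zero_smul, add_zero]
    · have h1 := (orb_iso h ha₀ h00 v.2).2
      rw [hspan _ v.2] at h1
      simp only [uh_add_left, uh_add_right, uh_smul_left, uh_smul_right, h00, h11, h10, s.yx h] at h1
      simp only [uh_add_left, uh_add_right, uh_smul_left, uh_smul_right, hee, t.yy, t.xy, t.yx h]
      linear_combination h1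
    · intro v w hvw
      have h0 := congrArg Subtype.val hvw
      have h1 := congrArg (fun w => uh σ w f) h0
      have h2 := congrArg (fun w => uh σ w e) h0
      simp [uh_add_left, uh_smul_left, hee, t.yy, t.xy, t.yx h] at h1 h2
      exact Subtype.ext (by rw [hspan _ v.2, hspan _ w.2, h1, h2])
  calc iso σ (k + 2) = 1 * iso σ (k + 2) := (one_mul _).symm
    _ ≤ cnt L a₀ * iso σ (k + 2) := Nat.mul_le_mul_right _ (one_le_cnt L a₀)
    _ = L.index * Nat.card (orb L a₀) := cnt_mul hF h hk L ha₀ h00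
    _ ≤ _ := Nat.mul_le_mul_left _ hsub

/-- The count at the second point. -/
theorem point_count [Finite F] (hF : Nat.card F = q ^ 2) (h : UFrob σ q) (hq : 3 ≤ q) (hk : 2 ≤ k)
    (hyp : k = 2 ∨ ∀ L : Subgroup (Cfsg.SU (k + 2) F q), L ≠ ⊤ → iso σ (k + 2) ≤ L.index * (q ^ 2 - 1))
    {H : Subgroup (Cfsg.SU (k + 2 + 2) F q)} {x y : Fin (k + 2 + 2) → F}
    {P : Matrix (Fin (k + 2 + 2)) (Fin (k + 2)) F} (s : Split σ (k + 2) x y P) (hM : Mst σ q x y ≤ H)
    (hA : aSet h H s = ⊥) {e : Fin (k + 2) → F} (he0 : e ≠ 0) (hee : uh σ e e = 0) :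
    q ^ 2 * iso σ (k + 2) ≤ cnt H (P *ᵥ e) * (q ^ 2 - 1) := by
  obtain ⟨hctr, hin, hRy, hor⟩ := point_structure hF h hq (by omega) s hM hA he0 hee
  obtain ⟨z, hz⟩ : ∃ z, z = P *ᵥ e := ⟨_, rfl⟩
  rw [← hz] at hctr hin hRy hor ⊢
  have hzz : uh σ z z = 0 := by rw [hz, s.pp h, hee]
  have hz0 : z ≠ 0 := fun h0 => he0 (s.inj (by rw [← hz, h0, mulVec_zero]))
  have hzx : uh σ z x = 0 := hz ▸ s.px e
  have hzy : uh σ z y = 0 := hz ▸ s.py e
  obtain ⟨y', Q, t⟩ := exists_split h hz0 hzz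
  obtain ⟨a₀, ha₀⟩ : ∃ a, a = (Q.map σ)ᵀ *ᵥ y := ⟨_, rfl⟩
  obtain ⟨a₁, ha₁⟩ : ∃ a, a = (Q.map σ)ᵀ *ᵥ x := ⟨_, rfl⟩
  have hy' := t.perp_x (h.swap_zero hzy)
  have hx' := t.perp_x (h.swap_zero hzx)
  rw [← ha₀] at hy'
  rw [← ha₁] at hx'
  have hQy : ∀ a, uh σ (Q *ᵥ a) y = uh σ a a₀ := fun a => by rw [ha₀]; exact uh_frame_left h Q a y
  have hQx : ∀ a, uh σ (Q *ᵥ a) x = uh σ a a₁ := fun a => by rw [ha₁]; exact uh_frame_left h Q a x
  have h00 : uh σ a₀ a₀ = 0 := by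
    have h1 := s.yy
    rw [← hy', uh_add_left, uh_smul_left, hy', hzy, hQy, mul_zero, zero_add] at h1
    exact h1
  have h11 : uh σ a₁ a₁ = 0 := by
    have h1 := s.xx
    rw [← hx', uh_add_left, uh_smul_left, hx', hzx, hQx, mul_zero, zero_add] at h1
    exact h1
  have h10 : uh σ a₁ a₀ = 1 := by
    have h1 := s.xy
    rw [← hx', uh_add_left, uh_smul_left, hzy, hQy, mul_zero, zero_add] at h1
    exact h1
  have ha00 : a₀ ≠ 0 := fun h0 => by rw [h0, uh_zero_right] at h10; exact zero_ne_one h10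
  have hmem : ∀ a, a ∈ aSet h H t ↔ Q *ᵥ a ∈ rootSet h H z := fun a => Iff.rfl
  have hperp : ∀ w, uh σ w z = 0 → uh σ w y = 0 → uh σ w x = 0 → w ∈ rootSet h H z := fun w h1 h2 h3 => by
    have h4 := s.dec w
    rw [h2, h3, zero_smul, zero_smul, zero_add, zero_add] at h4
    rw [← h4]
    refine hin _ ?_
    rw [← uh_frame_right h, ← hz, h1]
  have hcnt := cnt_ge' h H t (by omega : 1 ≤ k + 2)
  rw [hctr, AddSubgroup.index_top, one_mul] at hcnt
  have hcnt' : (aSet h H t).index * (liftL h H t).index ≤ cnt H z := by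
    refine le_trans ?_ hcnt
    refine Nat.mul_le_mul_right _ ?_
    exact Nat.le_mul_of_pos_right _ (Nat.pos_of_ne_zero Subgroup.index_ne_zero_of_finite)
  rcases hor with hY | hX
  · have hAz : aSet h H t = (pair σ a₀).ker := by
      ext a
      rw [hmem, AddMonoidHom.mem_ker, pair_apply, ← hQy]
      refine ⟨hRy _, fun h1 => ?_⟩
      have h2 : Q *ᵥ a - uh σ (Q *ᵥ a) x • y ∈ rootSet h H z :=
        hperp _ (by rw [uh_sub_left, uh_smul_left, t.px, h.swap_zero hzy]; simp)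
          (by rw [uh_sub_left, uh_smul_left, h1, s.yy]; simp)
          (by rw [uh_sub_left, uh_smul_left, s.yx h]; simp)
      simpa using (rootSet h H z).add_mem h2 (hY (uh σ (Q *ᵥ a) x))
    rw [hAz, index_ker_pair hF h ha00] at hcnt'
    have hl := iso_le_of_fix hF h (by omega) (liftL h H t) ha00 h00
      (line_fix_of_perp h _ ha00 fun g hg a ha => by
        have h1 := aSet_liftL h t hg (a := a) (by rw [hAz]; exact ha)
        rwa [hAz] at h1)
    calc q ^ 2 * iso σ (k + 2) ≤ q ^ 2 * ((liftL h H t).index * (q ^ 2 - 1)) := Nat.mul_le_mul_left _ hl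
      _ = q ^ 2 * (liftL h H t).index * (q ^ 2 - 1) := by ring
      _ ≤ _ := Nat.mul_le_mul_right _ hcnt'
  · have hAz : aSet h H t = ((pair σ a₀).prod (pair σ a₁)).ker := by
      ext a
      rw [hmem, AddMonoidHom.mem_ker, AddMonoidHom.prod_apply, Prod.mk_eq_zero, pair_apply, pair_apply, ← hQy,
        ← hQx]
      exact ⟨fun h1 => ⟨hRy _ h1, hX _ h1⟩, fun h1 => hperp _ (t.px a) h1.1 h1.2⟩
    rw [hAz, index_ker_two hF h h00 h11 h10] at hcnt'
    have hinv : ∀ g ∈ liftL h H t, ∀ a, uh σ a a₀ = 0 → uh σ a a₁ = 0 →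
        uh σ (g.1.1 *ᵥ a) a₀ = 0 ∧ uh σ (g.1.1 *ᵥ a) a₁ = 0 := fun g hg a h0 h1 => by
      have h2 := aSet_liftL h t hg (a := a) (by rw [hAz]; exact Prod.ext h0 h1)
      rw [hAz] at h2
      exact Prod.ext_iff.1 h2
    rcases hyp with rfl | hyp
    · have hl := plane_bound hF h (by norm_num) (liftL h H t) h00 h11 h10 fun g hg a h0 h1 => (hinv g hg a h0 h1).1
      have h2 : iso σ 2 = (q + 1) * (q ^ 2 - 1) := by
        have h3 : (q ^ 2 - 1) + 1 = q ^ 2 := Nat.sub_add_cancel (Nat.one_le_pow _ _ (by omega))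
        have h4 := iso_two hF h
        zify [Nat.one_le_pow 2 q (by omega)]
        rw [h4]
        ring
      have hq2 : q + 1 ≤ q ^ 2 := by nlinarith
      calc q ^ 2 * iso σ (2 + 2) ≤ q ^ 2 * ((liftL h H t).index * iso σ 2) := Nat.mul_le_mul_left _ hl
        _ = q ^ 2 * (q + 1) * (liftL h H t).index * (q ^ 2 - 1) := by rw [h2]; ring
        _ ≤ q ^ 4 * (liftL h H t).index * (q ^ 2 - 1) := by
          refine Nat.mul_le_mul_right _ (Nat.mul_le_mul_right _ ?_)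
          calc q ^ 2 * (q + 1) ≤ q ^ 2 * q ^ 2 := Nat.mul_le_mul_left _ hq2
            _ = q ^ 4 := by ring
        _ ≤ _ := Nat.mul_le_mul_right _ hcnt'
    · have hne : liftL h H t ≠ ⊤ := fun hL => by
        rcases invariant_cases hF h (by omega) (aSet h H t)
          (fun M a ha => aSet_liftL h t (hL ▸ Subgroup.mem_top M) ha) with h1 | h1
        · have h2 := congrArg AddSubgroup.index h1
          rw [hAz, index_ker_two hF h h00 h11 h10, AddSubgroup.index_bot, Nat.card_fun, hF, Nat.card_fin,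
            ← pow_mul] at h2
          have := Nat.pow_right_injective (show 2 ≤ q by omega) h2
          omega
        · have h2 := congrArg AddSubgroup.index h1
          rw [hAz, index_ker_two hF h h00 h11 h10, AddSubgroup.index_top] at h2
          exact absurd h2 (Nat.one_lt_pow (by norm_num) (by omega)).ne'
      calc q ^ 2 * iso σ (k + 2) ≤ q ^ 4 * ((liftL h H t).index * (q ^ 2 - 1)) :=
          Nat.mul_le_mul (Nat.pow_le_pow_right (by omega) (by norm_num)) (hyp _ hne)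
        _ = q ^ 4 * (liftL h H t).index * (q ^ 2 - 1) := by ring
        _ ≤ _ := Nat.mul_le_mul_right _ hcnt'

end CfsgLib.MinIdx.Un
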