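import Mathlib

/-!
# A non-trivial zero of a quadratic function with values in a small elementary abelian group
-/

set_option autoImplicit false

namespace CfsgLib.MinIdx

/-- Chevalley and Warning for the diagonal of a biadditive function between vector spaces over `ZMod p`. -/
theorem exists_diag_zero_zmod {p : ℕ} [Fact p.Prime] {A T : Type*} [AddCommGroup A] [AddCommGroup T]
    [Module (ZMod p) A] [Module (ZMod p) T] [Finite A] [Finite T] (B : A →+ A →+ T)
    (hA : Nat.card T * Nat.card T < Nat.card A) : ∃ a, a ≠ 0 ∧ B a a = 0 := by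
  classical
  have hp : p.Prime := Fact.out
  let M : A →ₗ[ZMod p] A →ₗ[ZMod p] T := LinearMap.mk₂ (ZMod p) (fun a b => B a b)
    (fun a a' b => by simp) (fun c a b => by rw [ZMod.map_smul, AddMonoidHom.smul_apply])
    (fun a b b' => by simp) (fun c a b => by rw [ZMod.map_smul])
  haveI : Module.Finite (ZMod p) A := Module.Finite.of_finite
  haveI : Module.Finite (ZMod p) T := Module.Finite.of_finite
  let bA : Module.Basis (Fin (Module.finrank (ZMod p) A)) (ZMod p) A := Module.finBasis (ZMod p) A
  let bT : Module.Basis (Fin (Module.finrank (ZMod p) T)) (ZMod p) T := Module.finBasis (ZMod p) T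
  set d := Module.finrank (ZMod p) A
  set e := Module.finrank (ZMod p) T
  have hde : 2 * e < d := by
    have h1 := Module.natCard_eq_pow_finrank (K := ZMod p) (V := A)
    have h2 := Module.natCard_eq_pow_finrank (K := ZMod p) (V := T)
    rw [Nat.card_zmod] at h1 h2
    rw [h1, h2, ← pow_add, ← two_mul] at hA
    exact (Nat.pow_lt_pow_iff_right hp.one_lt).1 hA
  let f : Fin e → MvPolynomial (Fin d) (ZMod p) := fun k =>
    ∑ i, ∑ j, MvPolynomial.C (bT.repr (M (bA i) (bA j)) k) * MvPolynomial.X i * MvPolynomial.X j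
  have hdeg : (∑ k, (f k).totalDegree) < Fintype.card (Fin d) := by
    calc (∑ k, (f k).totalDegree) ≤ ∑ _k : Fin e, 2 := by
          refine Finset.sum_le_sum fun k _ => ?_
          refine (MvPolynomial.totalDegree_finsetSum _ _).trans (Finset.sup_le fun i _ => ?_)
          refine (MvPolynomial.totalDegree_finsetSum _ _).trans (Finset.sup_le fun j _ => ?_)
          refine (MvPolynomial.totalDegree_mul _ _).trans ?_
          refine (Nat.add_le_add (MvPolynomial.totalDegree_mul _ _) le_rfl).trans ?_
          simp [MvPolynomial.totalDegree_C, MvPolynomial.totalDegree_X]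
      _ < _ := by simp; omega
  have hdvd := char_dvd_card_solutions_of_fintype_sum_lt p (f := f) hdeg
  have hzero : ∀ k, MvPolynomial.eval (0 : Fin d → ZMod p) (f k) = 0 := fun k => by simp [f]
  have hcard : 1 < Fintype.card {x : Fin d → ZMod p // ∀ k, MvPolynomial.eval x (f k) = 0} := by
    haveI : Nonempty {x : Fin d → ZMod p // ∀ k, MvPolynomial.eval x (f k) = 0} := ⟨⟨0, hzero⟩⟩
    exact lt_of_lt_of_le hp.one_lt (Nat.le_of_dvd Fintype.card_pos (by convert hdvd))
  obtain ⟨⟨x, hx⟩, hne⟩ := Fintype.exists_ne_of_one_lt_card hcard ⟨0, hzero⟩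
  refine ⟨∑ i, x i • bA i, fun h => hne (Subtype.ext ?_), ?_⟩
  · funext i
    simpa using Fintype.linearIndependent_iff.1 bA.linearIndependent x h i
  · show M (∑ i, x i • bA i) (∑ i, x i • bA i) = 0
    rw [← bT.repr.map_eq_zero_iff]
    ext k
    have h1 := hx k
    simp only [f, map_sum, map_mul, MvPolynomial.eval_C, MvPolynomial.eval_X] at h1
    simp only [map_sum, map_smul, LinearMap.sum_apply, LinearMap.smul_apply, Finsupp.coe_finsetSum, Finset.sum_apply,
      Finsupp.smul_apply, smul_eq_mul, Finsupp.coe_zero, Pi.zero_apply, Finset.mul_sum]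
    rw [← h1, Finset.sum_comm]
    refine Finset.sum_congr rfl fun i _ => Finset.sum_congr rfl fun j _ => ?_
    ring

/-- The same in additive language. -/
theorem exists_diag_zero {p : ℕ} (hp : p.Prime) {A T : Type*} [AddCommGroup A] [AddCommGroup T]
    [Finite A] [Finite T] (hA : ∀ a : A, p • a = 0) (hT : ∀ t : T, p • t = 0) (B : A →+ A →+ T)
    (hcard : Nat.card T * Nat.card T < Nat.card A) : ∃ a, a ≠ 0 ∧ B a a = 0 := by
  haveI : Fact p.Prime := ⟨hp⟩
  letI : Module (ZMod p) A := AddCommGroup.zmodModule hA
  letI : Module (ZMod p) T := AddCommGroup.zmodModule hT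
  exact exists_diag_zero_zmod (p := p) B hcard

end CfsgLib.MinIdx
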