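import Cfsg.Agent.Lib.MinIdx.UnFrame
import Cfsg.Agent.Lib.MinIdx.UnWeak
import Cfsg.Agent.Lib.MinIdx.Warning

/-!
# Subgroups of `SU 3` with an invariant additive subgroup
-/

set_option autoImplicit false

namespace CfsgLib.MinIdx.Un

open Matrix CfsgLib.Classical CfsgLib.Classical.Unitary

variable {F : Type*} [Field F] [Finite F] {σ : F →+* F} {q n : ℕ}

theorem card_norm_class (hF : Nat.card F = q ^ 2) (h : UFrob σ q) (n : ℕ) {c : F} (hc : σ c = c) (hc0 : c ≠ 0) :
    (q : ℤ) * Nat.card {v : Fin n → F // uh σ v v = c} = (q : ℤ) ^ (2 * n) - (-1) ^ n * q ^ n := by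
  have h1 : Nat.card {v : Fin n → F // uh σ v v = c} = normCount F q n c :=
    Nat.card_congr (Equiv.subtypeEquivRight fun v => by rw [← h.hermForm_eq, hermForm_self])
  rw [h1, normCount_eq_one hF n (by rw [← h.pow, hc]) hc0]
  exact (normCount_closed hF n).2

theorem card_class_two (hF : Nat.card F = q ^ 2) (h : UFrob σ q) {c : F} (hc : σ c = c) (hc0 : c ≠ 0) :
    Nat.card {v : Fin 2 → F // uh σ v v = c} + q = q ^ 3 := by
  have h1 := card_norm_class hF h 2 hc hc0
  have hq : (q : ℤ) ≠ 0 := by have := two_le_q hF; positivity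
  zify
  refine mul_left_cancel₀ hq ?_
  linear_combination h1

theorem card_class_three (hF : Nat.card F = q ^ 2) (h : UFrob σ q) {c : F} (hc : σ c = c) (hc0 : c ≠ 0) :
    Nat.card {v : Fin 3 → F // uh σ v v = c} = q ^ 5 + q ^ 2 := by
  have h1 := card_norm_class hF h 3 hc hc0
  have hq : (q : ℤ) ≠ 0 := by have := two_le_q hF; positivity
  zify
  refine mul_left_cancel₀ hq ?_
  linear_combination h1

theorem iso_three (hF : Nat.card F = q ^ 2) (h : UFrob σ q) : iso σ 3 = (q ^ 3 + 1) * (q ^ 2 - 1) := by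
  have h1 := iso_mul hF h 3
  have hq2 := two_le_q hF
  have hq : (q : ℤ) ≠ 0 := by positivity
  zify [Nat.one_le_pow 2 q (by omega)]
  refine mul_left_cancel₀ hq ?_
  linear_combination h1

theorem card_fixed (hF : Nat.card F = q ^ 2) (h : UFrob σ q) : Nat.card {r : F // σ r = r} = q :=
  fixed_card_eq hF h.pow

/-- An additive group of isotropic vectors in dimension three. -/
theorem iso_additive_card (hF : Nat.card F = q ^ 2) (h : UFrob σ q) (B : AddSubgroup (Fin 3 → F))
    (hB : ∀ b ∈ B, uh σ b b = 0) : Nat.card B ≤ q ^ 2 := by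
  classical
  have hskew : ∀ a ∈ B, ∀ b ∈ B, uh σ a b + uh σ b a = 0 := fun a ha b hb => by
    have := hB _ (B.add_mem ha hb)
    rw [uh_add_left, uh_add_right, uh_add_right, hB a ha, hB b hb] at this
    linear_combination this
  by_cases hall : ∀ a ∈ B, ∀ b ∈ B, uh σ a b = 0
  · rcases B.bot_or_exists_ne_zero with hbot | ⟨e, he, he0⟩
    · rw [hbot, AddSubgroup.card_bot]
      exact Nat.one_le_pow _ _ (by have := two_le_q hF; omega)
    obtain ⟨y, P, s⟩ := exists_split h he0 (hB e he)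
    rw [← hF]
    refine Nat.card_le_card_of_injective (fun b : B => uh σ b.1 y) fun a b hab => Subtype.ext ?_
    have key : ∀ b ∈ B, b = uh σ b y • e := fun b hb => by
      have h1 := s.perp_x (hall b hb e he)
      obtain ⟨d, hd⟩ : ∃ d, d = (P.map σ)ᵀ *ᵥ b := ⟨_, rfl⟩
      rw [← hd] at h1
      have h2 := hB b hb
      rw [← h1] at h2
      simp only [uh_add_left, uh_add_right, uh_smul_left, uh_smul_right, s.xx, s.px, s.xp h, s.pp h, mul_zero,
        zero_add, add_zero] at h2
      have hd0 : d = 0 := by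
        funext i
        fin_cases i
        simpa [uh, dotProduct] using h2
      rw [hd0, mulVec_zero, add_zero] at h1
      exact h1.symm
    have hab : uh σ a.1 y = uh σ b.1 y := hab
    rw [key a.1 a.2, key b.1 b.2, hab]
  · push Not at hall
    obtain ⟨a, ha, b, hb, hc⟩ := hall
    obtain ⟨c, hcdef⟩ : ∃ c, c = uh σ a b := ⟨_, rfl⟩
    have hc0 : c ≠ 0 := hcdef ▸ hc
    have hcs : σ c = -c := by
      rw [hcdef, h.symm]
      linear_combination hskew a ha b hb
    obtain ⟨y, hy⟩ : ∃ y, y = σ c⁻¹ • b := ⟨_, rfl⟩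
    obtain ⟨P, s⟩ := exists_split_pair h (x := a) (y := y) (hB a ha)
      (by rw [hy, uh_smul_left, uh_smul_right, hB b hb]; ring)
      (by rw [hy, uh_smul_right, h.invol, ← hcdef, inv_mul_cancel₀ hc0])
    rw [sq, ← card_Sk hF h, ← Nat.card_prod]
    refine Nat.card_le_card_of_injective (fun r : B =>
      ((⟨uh σ r.1 a, by rw [mem_Sk, h.symm]; exact hskew _ r.2 _ ha⟩ : Sk σ),
        (⟨uh σ r.1 b, by rw [mem_Sk, h.symm]; exact hskew _ r.2 _ hb⟩ : Sk σ))) ?_
    have key : ∀ r ∈ B, r = (c⁻¹ * uh σ r b) • a + uh σ r a • y := fun r hr => by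
      have h1 := s.dec r
      rw [show uh σ r y = c⁻¹ * uh σ r b by rw [hy, uh_smul_right, h.invol]] at h1
      obtain ⟨d, hd⟩ : ∃ d, d = (P.map σ)ᵀ *ᵥ r := ⟨_, rfl⟩
      rw [← hd] at h1
      have h2 := hB r hr
      rw [← h1] at h2
      simp only [uh_add_left, uh_add_right, uh_smul_left, uh_smul_right, s.xx, s.yy, s.xy, s.yx h, s.px, s.py,
        s.xp h, s.yp h, s.pp h, mul_zero, zero_add, add_zero, mul_one] at h2
      have e1 : σ (uh σ r a) = -uh σ r a := by rw [h.symm]; linear_combination hskew r hr a ha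
      have e2 : σ (c⁻¹ * uh σ r b) = c⁻¹ * uh σ r b := by
        rw [map_mul, map_inv₀, hcs, h.symm, show uh σ b r = -uh σ r b by linear_combination hskew r hr b hb, inv_neg]
        ring
      rw [e1, e2] at h2
      have h3 : uh σ d d = 0 := by linear_combination h2
      have hd0 : d = 0 := by
        funext i
        fin_cases i
        simpa [uh, dotProduct] using h3
      rw [hd0, mulVec_zero, add_zero] at h1
      exact h1.symm
    intro r r' hrr
    obtain ⟨e1, e2⟩ := Prod.ext_iff.1 hrr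
    have e1 : uh σ r.1 a = uh σ r'.1 a := congrArg Subtype.val e1
    have e2 : uh σ r.1 b = uh σ r'.1 b := congrArg Subtype.val e2
    exact Subtype.ext (by rw [key r.1 r.2, key r'.1 r'.2, e1, e2])

/-- The orbit bound on a subgroup with an invariant proper additive subgroup. -/
theorem three_any (hF : Nat.card F = q ^ 2) (h : UFrob σ q) (L : Subgroup (Cfsg.SU 3 F q))
    (A : AddSubgroup (Fin 3 → F)) (hA : A ≠ ⊤) (hinv : ∀ g ∈ L, ∀ a ∈ A, g.1.1 *ᵥ a ∈ A) :
    q ^ 5 + q ^ 2 ≤ A.index * L.index := by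
  classical
  have hq := two_le_q hF
  obtain ⟨ψ, hψ⟩ := (AddChar.exists_apply_ne_zero (a := (1 : F))).2 one_ne_zero
  let Γ : AddSubgroup F :=
    { carrier := {c | ψ c = 1}
      zero_mem' := AddChar.map_zero_eq_one ψ
      add_mem' := fun {a b} ha hb => by
        show ψ (a + b) = 1
        rw [AddChar.map_add_eq_mul, show ψ a = 1 from ha, show ψ b = 1 from hb, one_mul]
      neg_mem' := fun {a} ha => by
        show ψ (-a) = 1
        rw [AddChar.map_neg_eq_inv, show ψ a = 1 from ha, inv_one] }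
  let B : AddSubgroup (Fin 3 → F) :=
    { carrier := {b | ∀ a ∈ A, uh σ a b ∈ Γ}
      zero_mem' := fun a _ => by rw [uh_zero_right]; exact Γ.zero_mem
      add_mem' := fun hb hb' a ha => by rw [uh_add_right]; exact Γ.add_mem (hb a ha) (hb' a ha)
      neg_mem' := fun hb a ha => by rw [uh_neg_right]; exact Γ.neg_mem (hb a ha) }
  have hBinv : ∀ g ∈ L, ∀ b ∈ B, g.1.1 *ᵥ b ∈ B := fun g hg b hb a ha => by
    rw [← su_mulVec_inv g a, su_uh h]
    exact hb _ (hinv _ (L.inv_mem hg) a ha)
  have hAB : Nat.card A * Nat.card B ≤ Nat.card (Fin 3 → F) := by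
    have := CfsgLib.MinIdx.Orth.card_mul_card_le' (fun a b : Fin 3 → F => uh σ a b)
      (fun a v w => uh_add_right a v w) (fun a a' v => uh_add_left a a' v) Γ
      (fun h0 => hψ (show (1 : F) ∈ Γ from h0 ▸ AddSubgroup.mem_top _)) A B ⊥
      (fun a ha b hb => hb a ha) (fun a r hr => by rw [AddSubgroup.mem_bot.1 hr, uh_zero_right])
      (fun a ha c => by
        obtain ⟨z, hz⟩ := exists_uh_eq_one h (fun h0 => ha (AddSubgroup.mem_bot.2 h0))
        refine ⟨σ c • z, ?_⟩
        rw [uh_smul_right, h.invol, ← h.symm z a, hz, map_one, mul_one])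
    simpa using this
  have hX : Nat.card B ≤ A.index := by
    refine Nat.le_of_mul_le_mul_left ?_ (Nat.card_pos (α := A))
    rw [mul_comm (Nat.card A) A.index, AddSubgroup.index_mul_card]
    exact hAB
  have hB : B ≠ ⊥ := by
    intro h0
    refine hA (AddSubgroup.eq_top_of_le_card _ ?_)
    haveI := Fintype.ofFinite A
    rw [Nat.card_eq_fintype_card (α := A), ← AddChar.card_eq, ← Nat.card_eq_fintype_card]
    refine Nat.card_le_card_of_injective (fun b : Fin 3 → F =>
      ({ toFun := fun a => ψ (uh σ a.1 b)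
         map_zero_eq_one' := by rw [AddSubgroup.coe_zero, uh_zero_left, AddChar.map_zero_eq_one]
         map_add_eq_mul' := fun a a' => by rw [AddSubgroup.coe_add, uh_add_left, AddChar.map_add_eq_mul] } :
        AddChar A ℂ)) fun b b' hbb => sub_eq_zero.1 ?_
    have hmem : b - b' ∈ B := fun a ha => by
      show ψ _ = 1
      have h1 : ψ (uh σ a b) = ψ (uh σ a b') := DFunLike.congr_fun hbb ⟨a, ha⟩
      rw [uh_sub_right, sub_eq_add_neg, AddChar.map_add_eq_mul, AddChar.map_neg_eq_inv, h1]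
      exact mul_inv_cancel₀ (AddChar.coe_ne_zero ψ ∘ fun h0 => absurd h0 ((AddChar.val_isUnit ψ _).ne_zero))
    rwa [h0, AddSubgroup.mem_bot] at hmem
  refine le_trans ?_ (Nat.mul_le_mul_right _ hX)
  haveI := Fintype.ofFinite B
  obtain ⟨b₀, hb₀, hb0⟩ := B.bot_or_exists_ne_zero.resolve_left hB
  by_cases hall : ∀ b ∈ B, uh σ b b = 0
  · have hcard := iso_additive_card hF h B hall
    have h1 := class_count' L B hBinv (fun v => v ≠ 0 ∧ uh σ v v = 0)
      (fun g v hv => ⟨fun h0 => hv.1 (by rw [← su_inv_mulVec g v, h0, mulVec_zero]), by rw [su_uh h, hv.2]⟩) hb₀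
      (fun v hv => su_trans hF h (m := 1) le_rfl hb0 hv.1 (hall _ hb₀) hv.2)
    change iso σ 3 ≤ _ at h1
    rw [iso_three hF h] at h1
    have h2 : Nat.card {b : B // b.1 ≠ 0 ∧ uh σ b.1 b.1 = 0} ≤ Nat.card B - 1 := by
      rw [show Nat.card B - 1 = Nat.card {b : B // b ≠ 0} by
        rw [Nat.card_eq_fintype_card, Nat.card_eq_fintype_card, Fintype.card_subtype_compl, Fintype.card_subtype_eq]]
      exact Nat.card_le_card_of_injective (fun b => ⟨b.1, fun h0 => b.2.1 (congrArg Subtype.val h0)⟩)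
        fun b b' he => Subtype.ext (congrArg Subtype.val he :)
    obtain ⟨c, hc⟩ : ∃ c, Nat.card B = c + 1 := ⟨Nat.card B - 1, by have := Nat.card_pos (α := B); omega⟩
    obtain ⟨d, hd⟩ : ∃ d, q ^ 2 = d + 1 := ⟨q ^ 2 - 1, by have := Nat.one_le_pow 2 q (by omega); omega⟩
    have h3 := h1.trans (Nat.mul_le_mul_left _ h2)
    rw [hc, Nat.add_sub_cancel, hd, Nat.add_sub_cancel] at h3
    rw [hc, hd] at hcard
    rw [hc, show q ^ 5 + q ^ 2 = (q ^ 3 + 1) * q ^ 2 by ring, hd]
    have hd1 : 0 < d := by nlinarith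
    refine Nat.le_of_mul_le_mul_right ?_ hd1
    calc (q ^ 3 + 1) * (d + 1) * d = (q ^ 3 + 1) * d * (d + 1) := by ring
      _ ≤ L.index * c * (d + 1) := Nat.mul_le_mul_right _ h3
      _ ≤ (c + 1) * L.index * d := by
        have : c * (d + 1) ≤ (c + 1) * d := by
          have : c ≤ d := by omega
          nlinarith
        nlinarith
  · push Not at hall
    obtain ⟨b, hb, hbb⟩ := hall
    have h1 := class_count' L B hBinv (fun v => uh σ v v = uh σ b b) (fun g v hv => by rw [su_uh h, hv]) hb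
      (fun v hv => su_trans_norm hF h (k := 1) hbb hv)
    rw [card_class_three hF h (h.symm b b) hbb] at h1
    rw [mul_comm (Nat.card B)]
    exact h1.trans (Nat.mul_le_mul_left _ (Nat.card_le_card_of_injective _ Subtype.val_injective))

end CfsgLib.MinIdx.Un
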