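import Cfsg.Agent.Lib.MinIdx.UnLevi

/-!
# Torus elements, the Levi part, and subgroups containing a whole Levi subgroup up to conjugation
-/

set_option autoImplicit false

namespace CfsgLib.MinIdx.Un

open Matrix CfsgLib.Classical CfsgLib.Classical.Unitary

variable {F : Type*} [Field F] {σ : F →+* F} {q n m : ℕ} {x y : Fin n → F} {P : Matrix (Fin n) (Fin m) F}

/-- The embedded `SU m`. -/
noncomputable def ext (h : UFrob σ q) (s : Split σ m x y P) : Cfsg.SU m F q →* Cfsg.SU n F q :=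
  frameHom h P s.frame

theorem ext_x (h : UFrob σ q) (s : Split σ m x y P) (M : Cfsg.SU m F q) : (ext h s M).1.1 *ᵥ x = x :=
  frameHom_fix h P s.frame M (s.proj_x h)

theorem ext_y (h : UFrob σ q) (s : Split σ m x y P) (M : Cfsg.SU m F q) : (ext h s M).1.1 *ᵥ y = y :=
  frameHom_fix h P s.frame M (s.proj_y h)

theorem ext_p (h : UFrob σ q) (s : Split σ m x y P) (M : Cfsg.SU m F q) (a : Fin m → F) :
    (ext h s M).1.1 *ᵥ (P *ᵥ a) = P *ᵥ (M.1.1 *ᵥ a) :=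
  frameHom_frame h P s.frame M a

theorem ext_mem (h : UFrob σ q) (s : Split σ m x y P) (M : Cfsg.SU m F q) : ext h s M ∈ Mst σ q x y :=
  ⟨⟨1, one_ne_zero, by rw [ext_x, one_smul]⟩, ⟨1, one_ne_zero, by rw [ext_y, one_smul]⟩⟩

theorem scal_ext (h : UFrob σ q) (s : Split σ m x y P) (M : Cfsg.SU m F q) :
    scal σ x y (ext h s M) = 1 := by rw [scal, ext_x, s.xy]

theorem lin_ext (h : UFrob σ q) (s : Split σ m x y P) (M : Cfsg.SU m F q) (a : Fin m → F) :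
    lin σ P (ext h s M) a = M.1.1 *ᵥ a := by rw [lin, ext_p, s.frame.apply]

theorem su_ext_split (h : UFrob σ q) (s : Split σ m x y P) {g k : Cfsg.SU n F q} (hx : g.1.1 *ᵥ x = k.1.1 *ᵥ x)
    (hy : g.1.1 *ᵥ y = k.1.1 *ᵥ y) (hp : ∀ a, g.1.1 *ᵥ (P *ᵥ a) = k.1.1 *ᵥ (P *ᵥ a)) : g = k := by
  refine su_ext fun v => ?_
  rw [← s.dec v, mulVec_add, mulVec_add, mulVec_add, mulVec_add, mulVec_smul, mulVec_smul, mulVec_smul,
    mulVec_smul, hx, hy, hp]

theorem exists_ext (h : UFrob σ q) (s : Split σ m x y P) {g : Cfsg.SU n F q} (hg : g ∈ Mst σ q x y)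
    (h1 : scal σ x y g = 1) : ∃ M, ext h s M = g := by
  have hgx := (Mst_x s hg).2
  have hgy := Mst_y h s hg
  rw [h1, one_smul] at hgx
  rw [h1, map_one, inv_one, one_smul] at hgy
  obtain ⟨M, hM⟩ : ∃ M, M = (P.map σ)ᵀ * g.1.1 * P := ⟨_, rfl⟩
  have hMa : ∀ a, M *ᵥ a = lin σ P g a := fun a => by rw [hM, lin, ← mulVec_mulVec, ← mulVec_mulVec]
  have hmat : g.1.1 = 1 + P * ((M - 1) * (P.map σ)ᵀ) := by
    refine Matrix.ext_iff_mulVec.2 fun v => ?_
    rw [add_mulVec, one_mulVec, ← mulVec_mulVec, ← mulVec_mulVec, sub_mulVec, one_mulVec, hMa, mulVec_sub,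
      ← Mst_p h s hg]
    conv_lhs => rw [← s.dec v, mulVec_add, mulVec_add, mulVec_smul, mulVec_smul, hgx, hgy]
    conv_rhs => arg 1; rw [← s.dec v]
    abel
  have hdet : M.det = 1 := by
    have h2 := g.1.2
    rwa [hmat, det_one_add_mul_comm, Matrix.mul_assoc, s.frame, Matrix.mul_one, add_sub_cancel] at h2
  refine ⟨⟨⟨M, hdet⟩, mem_SU_iff.2 fun a b => ?_⟩, ?_⟩
  · show Cfsg.hermForm m F q (M *ᵥ a) (M *ᵥ b) = _
    rw [h.hermForm_eq, h.hermForm_eq, ← s.pp h, hMa, hMa, ← Mst_p h s hg, ← Mst_p h s hg, su_uh h, s.pp h]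
  · refine su_ext_split h s ?_ ?_ fun a => ?_
    · rw [ext_x, hgx]
    · rw [ext_y, hgy]
    · rw [ext_p, Mst_p h s hg]
      exact congrArg (P *ᵥ ·) (hMa a)

/-- The Levi part of `H`. -/
noncomputable def liftL (h : UFrob σ q) (H : Subgroup (Cfsg.SU n F q)) (s : Split σ m x y P) :
    Subgroup (Cfsg.SU m F q) :=
  (liftM h H s).comap ((ext h s).codRestrict _ (ext_mem h s))

theorem mem_liftL (h : UFrob σ q) {H : Subgroup (Cfsg.SU n F q)} (s : Split σ m x y P) {M : Cfsg.SU m F q} :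
    M ∈ liftL h H s ↔ (⟨ext h s M, ext_mem h s M⟩ : Mst σ q x y) ∈ liftM h H s := Iff.rfl

theorem aSet_liftL (h : UFrob σ q) {H : Subgroup (Cfsg.SU n F q)} (s : Split σ m x y P) {M : Cfsg.SU m F q}
    (hM : M ∈ liftL h H s) {a : Fin m → F} (ha : a ∈ aSet h H s) : M.1.1 *ᵥ a ∈ aSet h H s := by
  have := aSet_invariant h s ((mem_liftL h s).1 hM) ha
  rwa [scal_ext h s, map_one, one_smul, lin_ext] at this

/-- `x ↦ α x`, `y ↦ y / σ α`, `u ↦ (σ α / α) u`. -/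
noncomputable def torMat (σ : F →+* F) (x y u : Fin n → F) (α : F) : Matrix (Fin n) (Fin n) F :=
  (1 : Matrix (Fin n) (Fin n) F) +
    Matrix.of (fun i j => (![x i, y i, u i] : Fin 3 → F) j) *
      Matrix.of (fun (j : Fin 3) i =>
        (![(α - 1) * σ (y i), ((σ α)⁻¹ - 1) * σ (x i), (σ α / α - 1) * σ (u i)] : Fin 3 → F) j)

theorem torMat_mulVec (x y u : Fin n → F) (α : F) (v : Fin n → F) :
    torMat σ x y u α *ᵥ v = v + ((α - 1) * uh σ v y) • x + (((σ α)⁻¹ - 1) * uh σ v x) • y +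
      ((σ α / α - 1) * uh σ v u) • u := by
  rw [torMat, add_mulVec, one_mulVec, ← mulVec_mulVec, add_assoc, add_assoc]
  congr 1
  funext i
  simp only [Matrix.mulVec, dotProduct, Matrix.of_apply, Fin.sum_univ_three, Matrix.cons_val_zero, Matrix.cons_val_one,
    Matrix.cons_val_two, Matrix.tail_cons, Matrix.head_cons, Pi.add_apply, Pi.smul_apply, smul_eq_mul, uh,
    Function.comp_apply, Finset.mul_sum, Finset.sum_mul]
  rw [add_assoc]
  refine congrArg₂ (· + ·) ?_ (congrArg₂ (· + ·) ?_ ?_) <;> exact Finset.sum_congr rfl fun j _ => by ring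

theorem exists_tor (h : UFrob σ q) (s : Split σ m x y P) {u : Fin m → F} (hu : uh σ u u = 1) {α : F}
    (hα : α ≠ 0) :
    ∃ g : Cfsg.SU n F q, g ∈ Mst σ q x y ∧ scal σ x y g = α ∧ g.1.1 *ᵥ y = (σ α)⁻¹ • y ∧
      ∀ a, g.1.1 *ᵥ (P *ᵥ a) = P *ᵥ (a + ((σ α / α - 1) * uh σ a u) • u) := by
  have hσα : σ α ≠ 0 := by simpa using hα
  have hxu := s.xp h u
  have hyu := s.yp h u
  have hux := s.px u
  have huy := s.py u
  have huu : uh σ (P *ᵥ u) (P *ᵥ u) = 1 := by rw [s.pp h, hu]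
  have hxy := s.xy
  have hyx := s.yx h
  have hdet : (torMat σ x y (P *ᵥ u) α).det = 1 := by
    rw [torMat, det_one_add_mul_comm]
    have e : (1 : Matrix (Fin 3) (Fin 3) F) + Matrix.of (fun (j : Fin 3) i =>
        (![(α - 1) * σ (y i), ((σ α)⁻¹ - 1) * σ (x i), (σ α / α - 1) * σ ((P *ᵥ u) i)] : Fin 3 → F) j) *
        Matrix.of (fun i j => (![x i, y i, (P *ᵥ u) i] : Fin 3 → F) j) =
        Matrix.diagonal ![α, (σ α)⁻¹, σ α / α] := by
      have key : ∀ (c : F) (a b : Fin n → F), ∑ i, c * σ (b i) * a i = c * uh σ a b := fun c a b => by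
        rw [uh, dotProduct, Finset.mul_sum]
        exact Finset.sum_congr rfl fun i _ => by simp only [Function.comp_apply]; ring
      ext i j
      fin_cases i <;> fin_cases j <;>
        simp [Matrix.mul_apply, key, s.xx, s.yy, hxy, hyx, hxu, hyu, hux, huy, huu]
    rw [e, det_diagonal, Fin.prod_univ_three]
    simp only [Matrix.cons_val_zero, Matrix.cons_val_one, Matrix.cons_val_two, Matrix.tail_cons, Matrix.head_cons]
    field_simp
  have hiso : ∀ a b, uh σ (torMat σ x y (P *ᵥ u) α *ᵥ a) (torMat σ x y (P *ᵥ u) α *ᵥ b) = uh σ a b := fun a b => by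
    simp only [torMat_mulVec, uh_add_left, uh_add_right, uh_smul_left, uh_smul_right, s.xx, s.yy, hxy, hyx, hxu, hyu,
      hux, huy, huu, map_mul, map_sub, map_one, map_inv₀, map_div₀, h.invol, h.symm]
    field_simp
    ring
  refine ⟨⟨⟨torMat σ x y (P *ᵥ u) α, hdet⟩, mem_SU_iff.2 fun a b => by
      show Cfsg.hermForm n F q (torMat σ x y (P *ᵥ u) α *ᵥ a) (torMat σ x y (P *ᵥ u) α *ᵥ b) = _
      rw [h.hermForm_eq, h.hermForm_eq, hiso]⟩, ?_⟩
  have hgx : torMat σ x y (P *ᵥ u) α *ᵥ x = α • x := by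
    rw [torMat_mulVec, hxy, s.xx, hxu]; module
  have hgy : torMat σ x y (P *ᵥ u) α *ᵥ y = (σ α)⁻¹ • y := by
    rw [torMat_mulVec, hyx, s.yy, hyu]; module
  refine ⟨⟨⟨α, hα, hgx⟩, (σ α)⁻¹, inv_ne_zero hσα, hgy⟩, ?_, hgy, fun a => ?_⟩
  · show uh σ (torMat σ x y (P *ᵥ u) α *ᵥ x) y = α
    rw [hgx, uh_smul_left, hxy, mul_one]
  · show torMat σ x y (P *ᵥ u) α *ᵥ (P *ᵥ a) = _
    rw [torMat_mulVec, s.px, s.py, s.pp h, mulVec_add, mulVec_smul]
    simp

theorem index_liftM_ge [Finite F] (h : UFrob σ q) (H : Subgroup (Cfsg.SU n F q)) (s : Split σ m x y P) (hm : 1 ≤ m) :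
    ((liftM h H s).map (scalHom s)).index * (liftL h H s).index ≤ (liftM h H s).index := by
  classical
  set T := (liftM h H s).map (scalHom s)
  have hu : uh σ (Pi.single (⟨0, hm⟩ : Fin m) (1 : F)) (Pi.single ⟨0, hm⟩ 1) = 1 := uh_single_self h _
  choose tor htor hscal _ _ using fun α : Fˣ => exists_tor h s hu α.ne_zero
  simp only [Subgroup.index, ← Nat.card_prod]
  refine Nat.card_le_card_of_injective
    (fun p : (Fˣ ⧸ T) × (Cfsg.SU m F q ⧸ liftL h H s) => (QuotientGroup.mk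
      ((⟨tor p.1.out, htor _⟩ : Mst σ q x y) * ⟨ext h s p.2.out, ext_mem h s _⟩) : Mst σ q x y ⧸ liftM h H s)) ?_
  rintro ⟨a, M⟩ ⟨b, N⟩ hab
  have h1 := QuotientGroup.eq.1 hab
  have hab' : a = b := by
    rw [← QuotientGroup.out_eq' a, ← QuotientGroup.out_eq' b]
    refine QuotientGroup.eq.2 ?_
    have h2 : scalHom s _ ∈ T := Subgroup.mem_map_of_mem _ h1
    have e : ∀ (α : Fˣ) K, scalHom s ((⟨tor α, htor α⟩ : Mst σ q x y) * ⟨ext h s K, ext_mem h s K⟩) = α := fun α K => by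
      rw [map_mul]
      refine Units.ext ?_
      rw [Units.val_mul, scalHom_val, scalHom_val, hscal, scal_ext h s, mul_one]
    rwa [map_mul, map_inv, e, e] at h2
  subst hab'
  refine Prod.ext rfl ?_
  rw [← QuotientGroup.out_eq' M, ← QuotientGroup.out_eq' N]
  refine QuotientGroup.eq.2 ?_
  show (⟨ext h s (M.out⁻¹ * N.out), ext_mem h s _⟩ : Mst σ q x y) ∈ liftM h H s
  convert h1 using 1
  refine Subtype.ext ?_
  push_cast
  rw [map_mul, map_inv]
  group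

theorem liftM_eq_top (h : UFrob σ q) {H : Subgroup (Cfsg.SU n F q)} (s : Split σ m x y P)
    (hT : (liftM h H s).map (scalHom s) = ⊤) (hL : liftL h H s = ⊤) : liftM h H s = ⊤ := by
  refine eq_top_iff.2 fun g _ => ?_
  obtain ⟨k, hk, he⟩ := hT.symm ▸ Subgroup.mem_top (scalHom s g)
  have h1 : scal σ x y (k⁻¹ * g : Mst σ q x y).1 = 1 := by
    rw [← scalHom_val s, map_mul, map_inv, he, inv_mul_cancel, Units.val_one]
  obtain ⟨M, hM⟩ := exists_ext h s (k⁻¹ * g).2 h1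
  have h2 : (⟨ext h s M, ext_mem h s M⟩ : Mst σ q x y) ∈ liftM h H s := (hL ▸ Subgroup.mem_top M : M ∈ liftL h H s)
  rw [show (⟨ext h s M, ext_mem h s M⟩ : Mst σ q x y) = k⁻¹ * g from Subtype.ext hM] at h2
  simpa using (liftM h H s).mul_mem hk h2

theorem exists_iso_vector [Finite F] (h : UFrob σ q) (hm : 2 ≤ m) :
    ∃ e : Fin m → F, e ≠ 0 ∧ uh σ e e = 0 := by
  obtain ⟨t, ht⟩ := CfsgLib.Geometry.exists_norm_eq h.ne h.invol (c := (-1 : F)) (by rw [map_neg, map_one])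
  let i₀ : Fin m := ⟨0, by omega⟩
  let i₁ : Fin m := ⟨1, by omega⟩
  have hne : i₀ ≠ i₁ := fun he => by simpa [i₀, i₁] using congrArg Fin.val he
  refine ⟨Pi.single i₀ 1 + t • Pi.single i₁ 1, fun h0 => ?_, ?_⟩
  · simpa [hne] using congrFun h0 i₀
  · simp only [uh_add_left, uh_add_right, uh_smul_left, uh_smul_right, uh_single_left]
    simp [hne, hne.symm]
    linear_combination ht

/-- `SU` leaves only the trivial additive subgroups invariant. -/
theorem invariant_cases [Finite F] (hF : Nat.card F = q ^ 2) (h : UFrob σ q) (hm : 3 ≤ m)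
    (A : AddSubgroup (Fin m → F)) (hA : ∀ M : Cfsg.SU m F q, ∀ a ∈ A, M.1.1 *ᵥ a ∈ A) : A = ⊥ ∨ A = ⊤ := by
  obtain ⟨k, rfl⟩ : ∃ k, m = k + 2 := ⟨m - 2, by omega⟩
  rcases AddSubgroup.bot_or_exists_ne_zero A with h0 | ⟨v, hv, hv0⟩
  · exact Or.inl h0
  obtain ⟨e, he0, hee⟩ := exists_iso_vector (m := k + 2) h (by omega)
  obtain ⟨y, P, s⟩ := exists_split h he0 hee
  obtain ⟨θ, hθ⟩ := exists_trace h
  have hpiece : ∀ a, uh σ (P *ᵥ a + (-θ * uh σ a a) • e + y) (P *ᵥ a + (-θ * uh σ a a) • e + y) = 0 := fun a => by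
    simp only [uh_add_left, uh_add_right, uh_smul_left, uh_smul_right, s.px, s.py, s.xp h, s.yp h, s.xx, s.yy, s.xy,
      s.yx h, s.pp h, map_mul, map_neg, h.symm]
    linear_combination (-(uh σ a a)) * hθ
  obtain ⟨e', he', hee', hne⟩ : ∃ e', e' ≠ 0 ∧ uh σ e' e' = 0 ∧ uh σ v e' ≠ 0 := by
    by_contra hall
    push Not at hall
    have hall' : ∀ w, uh σ w w = 0 → uh σ v w = 0 := fun w hw => by
      by_cases hw0 : w = 0
      · rw [hw0, uh_zero_right]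
      · exact hall w hw0 hw
    refine hv0 (uh_ext h fun z => ?_)
    rw [uh_zero_right, ← h.symm]
    have : uh σ v z = 0 := by
      rw [← s.dec z, uh_add_right, uh_add_right, uh_smul_right, uh_smul_right, hall' e hee, hall' y s.yy]
      have h1 := hall' _ (hpiece ((P.map σ)ᵀ *ᵥ z))
      rw [uh_add_right, uh_add_right, uh_smul_right, hall' e hee, hall' y s.yy] at h1
      linear_combination h1
    rw [this, map_zero]
  obtain ⟨c, hc0, hc⟩ := exists_skew h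
  have hmem : (c * uh σ v e') • e' ∈ A := by
    have h1 := hA (utv h e' c hee' hc) v hv
    rw [show (utv h e' c hee' hc).1.1 *ᵥ v = v + (c * uh σ v e') • e' from tMat_mulVec _ _ _] at h1
    simpa using A.sub_mem h1 hv
  have hiso : ∀ w, uh σ w w = 0 → w ∈ A := fun w hw => by
    by_cases hw0 : w = 0
    · rw [hw0]; exact A.zero_mem
    obtain ⟨g, hg⟩ := su_trans hF h (m := k) (by omega) (smul_ne_zero (mul_ne_zero hc0 hne) he') hw0
      (by rw [uh_smul_left, uh_smul_right, hee']; ring) hw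
    exact hg ▸ hA g _ hmem
  refine Or.inr (eq_top_iff.2 fun z _ => ?_)
  rw [← s.dec z]
  have hp : ∀ a, P *ᵥ a ∈ A := fun a => by
    have h1 := A.sub_mem (A.sub_mem (hiso _ (hpiece a)) (hiso y s.yy))
      (hiso ((-θ * uh σ a a) • e) (by rw [uh_smul_left, uh_smul_right, hee]; ring))
    simpa using h1
  exact A.add_mem (A.add_mem (hiso _ (by rw [uh_smul_left, uh_smul_right, hee]; ring))
    (hiso _ (by rw [uh_smul_left, uh_smul_right, s.yy]; ring))) (hp _)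

/-- Conjugation by `r`. -/
noncomputable abbrev cj (H : Subgroup (Cfsg.SU n F q)) (r : Cfsg.SU n F q) : Subgroup (Cfsg.SU n F q) :=
  H.map (MulAut.conj r).toMonoidHom

theorem mem_cj {H : Subgroup (Cfsg.SU n F q)} {r k : Cfsg.SU n F q} : k ∈ cj H r ↔ r⁻¹ * k * r ∈ H := by
  constructor
  · rintro ⟨a, ha, rfl⟩; simpa [mul_assoc] using ha
  · intro hk; exact ⟨_, hk, by simp [mul_assoc]⟩

theorem conj_comm (h : UFrob σ q) {w v : Fin n → F} {c d : F} (hw : Ok σ x w c) (hv : Ok σ x v d) :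
    ∃ e, Ok σ x w e ∧ (ue h x v d)⁻¹ * ue h x w c * ue h x v d = ue h x w e := by
  have h1 := ((hv.inv_ok h).add h hw).add h hv
  rw [show -v + w + v = w by abel] at h1
  refine ⟨_, h1, ?_⟩
  rw [hv.inv h, (hv.inv_ok h).mul h hw, ((hv.inv_ok h).add h hw).mul h hv, show -v + w + v = w by abel]

theorem cj_aSet (h : UFrob σ q) {H : Subgroup (Cfsg.SU n F q)} (s : Split σ m x y P) {v : Fin n → F} {d : F}
    (hv : Ok σ x v d) (hA : aSet h H s = ⊥) : aSet h (cj H (ue h x v d)) s = ⊥ := by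
  rw [eq_bot_iff]
  intro a ha
  obtain ⟨c, hc, hm⟩ := (mem_aSet h s).1 ha
  obtain ⟨e, he, hee⟩ := conj_comm h hc hv
  rw [← hA, mem_aSet h s]
  exact ⟨e, he, hee ▸ mem_cj.1 hm⟩

theorem cj_ctr (h : UFrob σ q) {H : Subgroup (Cfsg.SU n F q)} (s : Split σ m x y P) {v : Fin n → F} {d : F}
    (hv : Ok σ x v d) (hC : ctr h H x = ⊥) : ctr h (cj H (ue h x v d)) x = ⊥ := by
  rw [eq_bot_iff]
  intro t ht
  have ht0 : t.1 + σ t.1 = 0 := t.2
  have h1 := mem_cj.1 ((mem_ctr h s.xx).1 ht)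
  rw [hv.inv h, (hv.inv_ok h).mul h (Ok.zero s.xx ht0),
    ((hv.inv_ok h).add h (Ok.zero s.xx ht0)).mul h hv] at h1
  rw [← hC, mem_ctr h s.xx]
  convert h1 using 2
  · abel
  · rw [uh_zero_left, sub_zero, uh_add_right, uh_neg_right, uh_zero_right]
    linear_combination -hv.2.2

theorem cj_liftM (h : UFrob σ q) {H : Subgroup (Cfsg.SU n F q)} (s : Split σ m x y P) {b : Fin m → F} {d : F}
    (hv : Ok σ x (P *ᵥ b) d) (hM : liftM h H s = ⊤) : liftM h (cj H (ue h x (P *ᵥ b) d)) s = ⊤ := by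
  refine eq_top_iff.2 fun g _ => ?_
  obtain ⟨a, c, hc, hm⟩ := (hM ▸ Subgroup.mem_top g : g ∈ liftM h H s)
  have hi := hv.inv_ok h
  rw [← mulVec_neg] at hi
  obtain ⟨hg, e⟩ := conj_ue h s g.2 hi
  have h1 := (hv.add h hc).add h hg
  rw [← mulVec_add, ← mulVec_add] at h1
  refine ⟨_, _, h1, mem_cj.2 ?_⟩
  rw [mulVec_add, mulVec_add, ← (hv.add h hc).mul h hg, ← hv.mul h hc, ← e, mulVec_neg, ← hv.inv h]
  convert hm using 1
  group

theorem lift_pure (h : UFrob σ q) {H1 : Subgroup (Cfsg.SU n F q)} (s : Split σ m x y P) {α : F} (hα1 : α ≠ 1)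
    (hασ : σ α = α) {t0 : Cfsg.SU n F q} (ht0 : t0 ∈ Mst σ q x y) (hs0 : scal σ x y t0 = α)
    (hy0 : t0.1.1 *ᵥ y = (σ α)⁻¹ • y) (hp0' : ∀ a, t0.1.1 *ᵥ (P *ᵥ a) = P *ᵥ a) {d0 : F}
    (ht0H : ue h x (P *ᵥ (0 : Fin m → F)) d0 * t0 ∈ H1) (hd0 : Ok σ x (P *ᵥ (0 : Fin m → F)) d0)
    (hA1 : aSet h H1 s = ⊥) {g : Mst σ q x y} (hg : g ∈ liftM h H1 s) :
    ∃ c : F, c + σ c = 0 ∧ ue h x 0 c * g.1 ∈ H1 := by
  obtain ⟨a, c, hc, hm1⟩ := hg
  obtain ⟨hsg0, hgx⟩ := Mst_x s g.2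
  obtain ⟨-, hgt⟩ := Mst_x s ht0
  have hcomm : t0 * g.1 = g.1 * t0 := by
    refine su_ext_split h s ?_ ?_ fun z => ?_
    · rw [su_mul_mulVec, su_mul_mulVec, hgx, mulVec_smul, hgt, mulVec_smul, hgx, smul_comm]
    · rw [su_mul_mulVec, su_mul_mulVec, Mst_y h s g.2, mulVec_smul, hy0, mulVec_smul, Mst_y h s g.2, smul_comm]
    · rw [su_mul_mulVec, su_mul_mulVec, Mst_p h s g.2, hp0', hp0', Mst_p h s g.2]
  obtain ⟨hc1, e1⟩ := conj_ue h s ht0 hc
  have hd0' : Ok σ x (P *ᵥ (0 : Fin m → F)) (σ d0) := by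
    have := hd0.inv_ok h
    rwa [mulVec_zero, neg_zero, ← mulVec_zero P] at this
  obtain ⟨hd1, e2⟩ := conj_ue h s g.2 hd0'
  have hz : σ (scal σ x y g.1) • lin σ P g.1 (0 : Fin m → F) = 0 := by
    simp [lin, mulVec_zero]
  rw [hz] at hd1 e2
  have hconj := H1.mul_mem (H1.mul_mem ht0H hm1) (H1.inv_mem ht0H)
  obtain ⟨a', ha'⟩ : ∃ a', a' = σ (scal σ x y t0) • lin σ P t0 a := ⟨_, rfl⟩
  rw [← ha'] at hc1 e1
  have e : ue h x (P *ᵥ (0 : Fin m → F)) d0 * t0 * (ue h x (P *ᵥ a) c * g.1) *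
      (ue h x (P *ᵥ (0 : Fin m → F)) d0 * t0)⁻¹ =
      ue h x (P *ᵥ (0 : Fin m → F)) d0 * ue h x (P *ᵥ a') (scal σ x y t0 * σ (scal σ x y t0) * c) *
        ue h x (P *ᵥ (0 : Fin m → F)) (scal σ x y g.1 * σ (scal σ x y g.1) * σ d0) * g.1 := by
    rw [← e1, ← e2]
    have : (ue h x (P *ᵥ (0 : Fin m → F)) d0)⁻¹ = ue h x (P *ᵥ (0 : Fin m → F)) (σ d0) := by
      rw [hd0.inv h, mulVec_zero, neg_zero]
    rw [← this, _root_.mul_inv_rev]
    calc _ = ue h x (P *ᵥ (0 : Fin m → F)) d0 * (t0 * ue h x (P *ᵥ a) c * t0⁻¹) * (t0 * g.1 * t0⁻¹) *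
          (ue h x (P *ᵥ (0 : Fin m → F)) d0)⁻¹ := by group
      _ = _ := by rw [hcomm, mul_inv_cancel_right]; group
  rw [e, hd0.mul h hc1, (hd0.add h hc1).mul h hd1] at hconj
  have h2 := H1.mul_mem hm1 (H1.inv_mem hconj)
  have hok2 := (hd0.add h hc1).add h hd1
  rw [_root_.mul_inv_rev, ← mul_assoc, mul_inv_cancel_right, hok2.inv h, hc.mul h (hok2.inv_ok h)] at h2
  have hok3 := hc.add h (hok2.inv_ok h)
  have hvec : P *ᵥ a + -(P *ᵥ (0 : Fin m → F) + P *ᵥ a' + P *ᵥ (0 : Fin m → F)) = P *ᵥ (a - a') := by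
    rw [mulVec_zero, mulVec_sub]; abel
  rw [hvec] at h2 hok3
  have h3 : a - a' ∈ aSet h H1 s := (mem_aSet h s).2 ⟨_, hok3, h2⟩
  rw [hA1, AddSubgroup.mem_bot, ha', lin, hp0', s.frame.apply, hs0, hασ] at h3
  have ha0 : a = 0 := by
    have h4 : (1 - α) • a = 0 := by rw [sub_smul, one_smul]; exact h3
    exact (smul_eq_zero.1 h4).resolve_left (sub_ne_zero.2 (Ne.symm hα1))
  subst ha0
  rw [mulVec_zero] at hc hm1
  exact ⟨c, by simpa [uh_zero_left] using hc.2.2, hm1⟩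

theorem exists_pure_vec [Finite F] (hF : Nat.card F = q ^ 2) (h : UFrob σ q) (hq : 3 ≤ q) (hm : 1 ≤ m)
    {H : Subgroup (Cfsg.SU n F q)} (s : Split σ m x y P) (hA : aSet h H s = ⊥) (hC : ctr h H x = ⊥)
    (hM : liftM h H s = ⊤) :
    ∃ (v : Fin m → F) (cv : F), aSet h (cj H (ue h x (P *ᵥ v) cv)) s = ⊥ ∧
      ctr h (cj H (ue h x (P *ᵥ v) cv)) x = ⊥ ∧
      ∀ g : Mst σ q x y, ∃ c : F, c + σ c = 0 ∧ ue h x 0 c * g.1 ∈ cj H (ue h x (P *ᵥ v) cv) := by
  classical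
  have hu : uh σ (Pi.single (⟨0, hm⟩ : Fin m) (1 : F)) (Pi.single ⟨0, hm⟩ 1) = 1 := uh_single_self h _
  obtain ⟨α, hασ, hα0, hα1⟩ : ∃ α : F, σ α = α ∧ α ≠ 0 ∧ α ≠ 1 := by
    have hK := fixed_card_eq hF h.pow
    haveI := Fintype.ofFinite (σ.eqLocusField (RingHom.id F))
    rw [Nat.card_eq_fintype_card] at hK
    obtain ⟨a, -, ha⟩ := Finset.exists_mem_notMem_of_card_lt_card
      (s := ({0, 1} : Finset (σ.eqLocusField (RingHom.id F)))) (t := Finset.univ)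
      (lt_of_le_of_lt (Finset.card_le_two) (by rw [Finset.card_univ, hK]; omega))
    simp only [Finset.mem_insert, Finset.mem_singleton, not_or] at ha
    exact ⟨a.1, a.2, fun h0 => ha.1 (Subtype.ext h0), fun h0 => ha.2 (Subtype.ext h0)⟩
  obtain ⟨t0, ht0, hs0, hy0, hp0⟩ := exists_tor h s hu hα0
  have hp0' : ∀ a, t0.1.1 *ᵥ (P *ᵥ a) = P *ᵥ a := fun a => by
    rw [hp0, hασ, div_self hα0, sub_self, zero_mul, zero_smul, add_zero]
  obtain ⟨b, d, hb, hbm⟩ := (hM ▸ Subgroup.mem_top (⟨t0, ht0⟩ : Mst σ q x y) : _ ∈ liftM h H s)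
  -- first conjugation: the vector part of the lift of the torus element
  obtain ⟨θ, hθ⟩ := exists_trace h
  obtain ⟨v, hv⟩ : ∃ v : Fin m → F, v = -(1 - α)⁻¹ • b := ⟨_, rfl⟩
  have hvok := Ok.exists_c h s hθ v
  set H1 := cj H (ue h x (P *ᵥ v) (-θ * uh σ v v))
  have hA1 : aSet h H1 s = ⊥ := cj_aSet h s hvok hA
  have hC1 : ctr h H1 x = ⊥ := cj_ctr h s hvok hC
  have hM1 : liftM h H1 s = ⊤ := cj_liftM h s hvok hM
  obtain ⟨d0, hd0, ht0H⟩ : ∃ d0, Ok σ x (P *ᵥ (0 : Fin m → F)) d0 ∧ ue h x (P *ᵥ (0 : Fin m → F)) d0 * t0 ∈ H1 := by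
    have hi := hvok.inv_ok h
    rw [← mulVec_neg] at hi
    obtain ⟨hg, e⟩ := conj_ue h s ht0 hi
    have hlin : lin σ P t0 (-v) = -v := by rw [lin, hp0', s.frame.apply]
    have hvec : P *ᵥ v + P *ᵥ b + P *ᵥ (σ (scal σ x y t0) • lin σ P t0 (-v)) = P *ᵥ (0 : Fin m → F) := by
      rw [← mulVec_add, ← mulVec_add]
      congr 1
      rw [hlin, hs0, hασ, hv]
      match_scalars
      field_simp [sub_ne_zero.2 (Ne.symm hα1)]
      ring
    have h1 := (hvok.add h hb).add h hg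
    rw [hvec] at h1
    refine ⟨_, h1, mem_cj.2 ?_⟩
    rw [← hvec, ← (hvok.add h hb).mul h hg, ← hvok.mul h hb, ← e, mulVec_neg, ← hvok.inv h]
    convert hbm using 1
    group
  -- every lift has trivial vector part
  refine ⟨v, -θ * uh σ v v, hA1, hC1, fun g => lift_pure h s hα1 hασ ht0 hs0 hy0 hp0' ht0H hd0 hA1
    (hM1 ▸ Subgroup.mem_top g)⟩


theorem exists_cocycle (h : UFrob σ q) {H1 : Subgroup (Cfsg.SU n F q)} (s : Split σ m x y P)
    (hC1 : ctr h H1 x = ⊥) (hpure : ∀ g : Mst σ q x y, ∃ c : F, c + σ c = 0 ∧ ue h x 0 c * g.1 ∈ H1) :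
    ∃ bg : Mst σ q x y → F, (∀ g, bg g + σ (bg g) = 0) ∧ (∀ g, ue h x 0 (bg g) * g.1 ∈ H1) ∧
      ∀ g k : Mst σ q x y, bg (g * k) = bg g + scal σ x y g.1 * σ (scal σ x y g.1) * bg k := by
  choose bg hbg hbgm using hpure
  have huniq : ∀ (g : Mst σ q x y) (c : F), c + σ c = 0 → ue h x 0 c * g.1 ∈ H1 → c = bg g := by
    intro g c hc hcm
    have h1 := H1.mul_mem hcm (H1.inv_mem (hbgm g))
    rw [_root_.mul_inv_rev, ← mul_assoc, mul_inv_cancel_right, (Ok.zero s.xx (hbg g)).inv h, neg_zero,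
      (Ok.zero s.xx hc).mul h (Ok.zero s.xx (by rw [h.invol, add_comm]; exact hbg g)),
      uh_zero_left, sub_zero, add_zero] at h1
    have hk : c + σ (bg g) + σ (c + σ (bg g)) = 0 := by rw [map_add, h.invol]; linear_combination hc + hbg g
    have h2 : (⟨c + σ (bg g), hk⟩ : Sk σ) ∈ ctr h H1 x := (mem_ctr h s.xx).2 h1
    rw [hC1, AddSubgroup.mem_bot] at h2
    have h3 : c + σ (bg g) = 0 := congrArg Subtype.val h2
    linear_combination h3 - hbg g
  have hmul : ∀ g k : Mst σ q x y,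
      bg (g * k) = bg g + scal σ x y g.1 * σ (scal σ x y g.1) * bg k := by
    intro g k
    have hk0 : Ok σ x (P *ᵥ (0 : Fin m → F)) (bg k) := by rw [mulVec_zero]; exact Ok.zero s.xx (hbg k)
    obtain ⟨hk1, e⟩ := conj_ue h s g.2 hk0
    simp only [lin, mulVec_zero, smul_zero] at hk1 e
    refine (huniq _ _ ?_ ?_).symm
    · have := hk1.2.2
      rw [uh_zero_left, add_zero] at this
      rw [map_add]; linear_combination hbg g + this
    · have h1 := H1.mul_mem (hbgm g) (hbgm k)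
      have h2 := (Ok.zero s.xx (hbg g)).mul h hk1
      rw [uh_zero_left, sub_zero, add_zero] at h2
      rw [← h2, ← e]
      convert h1 using 1
      show _ * (g.1 * k.1) = _
      group
  exact ⟨bg, hbg, hbgm, hmul⟩

theorem cocycle_zero [Finite F] (hF : Nat.card F = q ^ 2) (h : UFrob σ q) (hq : 3 ≤ q) (hm : 3 ≤ m)
    (s : Split σ m x y P) {u : Fin m → F} (hu : uh σ u u = 1) {b' : Mst σ q x y → F}
    (hmul' : ∀ g k : Mst σ q x y, b' (g * k) = b' g + scal σ x y g.1 * σ (scal σ x y g.1) * b' k)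
    {lam : Fˣ} (hne : (1 - (lam : F) * σ lam) ≠ 0) {t1 : Cfsg.SU n F q} (ht1 : t1 ∈ Mst σ q x y)
    (hs1 : scal σ x y t1 = lam) (hy1 : t1.1.1 *ᵥ y = (σ (lam : F))⁻¹ • y)
    (hp1 : ∀ a, t1.1.1 *ᵥ (P *ᵥ a) = P *ᵥ (a + ((σ (lam : F) / lam - 1) * uh σ a u) • u))
    (hb'1 : b' ⟨t1, ht1⟩ = 0) {g : Cfsg.SU n F q} (hg : g ∈ Mst σ q x y) : b' ⟨g, hg⟩ = 0 := by
  have hb'ext : ∀ M : Cfsg.SU m F q, b' ⟨ext h s M, ext_mem h s M⟩ = 0 := by
    let φ : Cfsg.SU m F q →* Multiplicative F :=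
      { toFun := fun M => Multiplicative.ofAdd (b' ⟨ext h s M, ext_mem h s M⟩)
        map_one' := by
          have h1 := hmul' 1 1
          rw [one_mul, show scal σ x y (1 : Mst σ q x y).1 = 1 from congrArg Units.val (map_one (scalHom s)),
            map_one, one_mul, one_mul, eq_comm, add_eq_left] at h1
          rw [show (⟨ext h s 1, ext_mem h s 1⟩ : Mst σ q x y) = 1 from Subtype.ext (map_one _), h1, ofAdd_zero]
        map_mul' := fun M N => by
          rw [show (⟨ext h s (M * N), ext_mem h s _⟩ : Mst σ q x y) =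
              ⟨ext h s M, ext_mem h s M⟩ * ⟨ext h s N, ext_mem h s N⟩ from Subtype.ext (map_mul _ _ _), hmul',
            scal_ext h s, map_one, one_mul, one_mul, ofAdd_add] }
    intro M
    have h1 : commutator (Cfsg.SU m F q) ≤ φ.ker := Abelianization.commutator_subset_ker φ
    rw [su_commutator_eq_top hF h hm (fun _ => hq)] at h1
    exact congrArg Multiplicative.toAdd (h1 (Subgroup.mem_top M))
  have hb'0 : b' ⟨g, hg⟩ = 0 := by
    obtain ⟨hsg0, -⟩ := Mst_x s hg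
    obtain ⟨t2, ht2, hs2, hy2, hp2⟩ := exists_tor h s hu hsg0
    have hgk : t2⁻¹ * g ∈ Mst σ q x y := (Mst σ q x y).mul_mem ((Mst σ q x y).inv_mem ht2) hg
    have hk : scal σ x y (t2⁻¹ * g) = 1 := by
      have h3 := scal_mul s ht2 hgk
      rw [mul_inv_cancel_left, hs2] at h3
      exact mul_left_cancel₀ hsg0 (by rw [mul_one, ← h3])
    obtain ⟨M, hM'⟩ := exists_ext h s hgk hk
    have e : (⟨g, hg⟩ : Mst σ q x y) = ⟨t2, ht2⟩ * ⟨ext h s M, ext_mem h s M⟩ := by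
      refine Subtype.ext ?_
      show g = t2 * ext h s M
      rw [hM', mul_inv_cancel_left]
    rw [e, hmul', hb'ext, mul_zero, add_zero]
    have hc : (⟨t1, ht1⟩ : Mst σ q x y) * ⟨t2, ht2⟩ = ⟨t2, ht2⟩ * ⟨t1, ht1⟩ := by
      refine Subtype.ext (show t1 * t2 = t2 * t1 from su_ext_split h s ?_ ?_ fun z => ?_)
      · rw [su_mul_mulVec, su_mul_mulVec, (Mst_x s ht1).2, mulVec_smul,
          (Mst_x s ht2).2, mulVec_smul, (Mst_x s ht1).2, smul_comm]
      · rw [su_mul_mulVec, su_mul_mulVec, hy1, mulVec_smul, hy2, mulVec_smul,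
          hy1, smul_comm]
      · rw [su_mul_mulVec, su_mul_mulVec, hp1, hp2, hp2, hp1]
        congr 1
        simp only [uh_add_left, uh_smul_left, hu]
        module
    have h1 := congrArg b' hc
    rw [hmul', hmul', hb'1, mul_zero, add_zero, zero_add, hs1] at h1
    have h2 : (1 - (lam : F) * σ lam) * b' ⟨t2, ht2⟩ = 0 := by linear_combination -h1
    exact (mul_eq_zero.1 h2).resolve_left hne
  exact hb'0

/-- A subgroup with the whole Levi subgroup modulo the unipotent radical, and trivial root set and centre,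
contains a whole Levi subgroup up to conjugation. -/
theorem exists_pure [Finite F] (hF : Nat.card F = q ^ 2) (h : UFrob σ q) (hq : 3 ≤ q) (hm : 3 ≤ m)
    {H : Subgroup (Cfsg.SU n F q)} (s : Split σ m x y P) (hA : aSet h H s = ⊥) (hC : ctr h H x = ⊥)
    (hM : liftM h H s = ⊤) :
    ∃ r : Cfsg.SU n F q, (Mst σ q x y ≤ cj H r) ∧ aSet h (cj H r) s = ⊥ ∧ ctr h (cj H r) x = ⊥ := by
  classical
  obtain ⟨v, cv, hA1, hC1, hpure⟩ := exists_pure_vec hF h hq (by omega) s hA hC hM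
  set H1 := cj H (ue h x (P *ᵥ v) cv)
  have hu : uh σ (Pi.single (⟨0, by omega⟩ : Fin m) (1 : F)) (Pi.single ⟨0, by omega⟩ 1) = 1 := uh_single_self h _
  obtain ⟨bg, hbg, hbgm, hmul⟩ := exists_cocycle h s hC1 hpure
  -- second conjugation: the centre part of a torus element
  obtain ⟨lam, hlam⟩ : ∃ lam : Fˣ, (lam : F) * σ lam ≠ 1 := by
    by_contra hall
    push Not at hall
    have h1 : normOne F q = ⊤ := eq_top_iff.2 fun u _ => by
      rw [det_mem_normOne_iff, pow_succ', ← h.pow]; exact hall u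
    have h2 := card_normOne (F := F) hF
    rw [h1, Subgroup.card_top, card_units_field, hF] at h2
    have : 3 * q ≤ q ^ 2 := by rw [sq]; exact Nat.mul_le_mul_right _ hq
    omega
  obtain ⟨t1, ht1, hs1, hy1, hp1⟩ := exists_tor h s hu lam.ne_zero
  obtain ⟨c1, hc1⟩ : ∃ c1, c1 = -bg ⟨t1, ht1⟩ / (1 - (lam : F) * σ lam) := ⟨_, rfl⟩
  have hne : (1 - (lam : F) * σ lam) ≠ 0 := sub_ne_zero.2 (Ne.symm hlam)
  have hc1σ : c1 + σ c1 = 0 := by
    have h0 := hbg ⟨t1, ht1⟩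
    rw [hc1, map_div₀, map_neg, map_sub, map_one, map_mul, h.invol, mul_comm (σ (lam : F))]
    field_simp
    linear_combination -h0
  refine ⟨ue h x 0 c1 * ue h x (P *ᵥ v) cv, ?_⟩
  have hH2 : cj H (ue h x 0 c1 * ue h x (P *ᵥ v) cv) = cj H1 (ue h x 0 c1) := by
    rw [cj, cj, Subgroup.map_map]
    congr 1
    ext k : 1
    simp [mul_assoc]
  rw [hH2]
  refine ⟨fun g hg => ?_, cj_aSet h s (Ok.zero s.xx hc1σ) hA1, cj_ctr h s (Ok.zero s.xx hc1σ) hC1⟩
  -- the adjusted centre part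
  obtain ⟨b', hb'⟩ : ∃ b' : Mst σ q x y → F, b' = fun g =>
      bg g + c1 - scal σ x y g.1 * σ (scal σ x y g.1) * c1 := ⟨_, rfl⟩
  have hmul' : ∀ g k : Mst σ q x y, b' (g * k) = b' g + scal σ x y g.1 * σ (scal σ x y g.1) * b' k := by
    intro g k
    simp only [hb', hmul g k, Subgroup.coe_mul, scal_mul s g.2 k.2, map_mul]
    ring
  have hb'1 : b' ⟨t1, ht1⟩ = 0 := by
    simp only [hb', hs1]
    rw [hc1]
    field_simp
    ring
  have hb'0 : b' ⟨g, hg⟩ = 0 := cocycle_zero hF h hq hm s hu hmul' hne ht1 hs1 hy1 hp1 hb'1 hg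
  rw [mem_cj]
  have hg1 : Ok σ x (P *ᵥ (0 : Fin m → F)) c1 := by rw [mulVec_zero]; exact Ok.zero s.xx hc1σ
  obtain ⟨hg2, e⟩ := conj_ue h s hg hg1
  simp only [lin, mulVec_zero, smul_zero] at hg2 e
  have h1 := hbgm ⟨g, hg⟩
  have hi := (Ok.zero s.xx hc1σ).inv_ok h
  rw [neg_zero] at hi
  have e3 : (ue h x 0 c1)⁻¹ * g * ue h x 0 c1 = ue h x 0 (bg ⟨g, hg⟩) * g := by
    rw [mul_assoc, show g * ue h x 0 c1 = ue h x 0 (scal σ x y g * σ (scal σ x y g) * c1) * g by rw [← e]; group,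
      ← mul_assoc, (Ok.zero s.xx hc1σ).inv h, neg_zero, hi.mul h hg2, add_zero]
    congr 2
    rw [uh_zero_left, sub_zero]
    have := hb'0
    simp only [hb'] at this
    linear_combination hc1σ - this
  rw [e3]
  exact h1

end CfsgLib.MinIdx.Un
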