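import Cfsg.Agent.Lib.MinIdx.UnMain
import Cfsg.Agent.Lib.MinIdx.UnFrame
import Mathlib.Analysis.Fourier.FiniteAbelian.PontryaginDuality

/-!
# Counting in unitary geometries over four elements
-/

set_option autoImplicit false

namespace CfsgLib.MinIdx.Un

open Matrix CfsgLib.Classical CfsgLib.Classical.Unitary

variable {F : Type*} [Field F] [Finite F] {σ : F →+* F} {n m k : ℕ}

theorem norm_four (hF : Nat.card F = 2 ^ 2) (h : UFrob σ 2) {a : F} (ha : a ≠ 0) : a * σ a = 1 := by
  classical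
  haveI := Fintype.ofFinite F
  have h1 := FiniteField.pow_card_sub_one_eq_one a ha
  rw [← Nat.card_eq_fintype_card, hF] at h1
  rw [h.pow]
  rw [show 2 ^ 2 - 1 = 3 by norm_num] at h1
  linear_combination h1

theorem two_four (hF : Nat.card F = 2 ^ 2) : (2 : F) = 0 := by
  classical
  haveI := Fintype.ofFinite F
  have h1 : ((Fintype.card F : ℕ) : F) = 0 := FiniteField.cast_card_eq_zero F
  rw [← Nat.card_eq_fintype_card, hF] at h1
  push_cast at h1
  exact mul_self_eq_zero.1 (by linear_combination h1)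

theorem fix_four (hF : Nat.card F = 2 ^ 2) (h : UFrob σ 2) {c : F} (hc : σ c = c) : c = 0 ∨ c = 1 := by
  refine (eq_or_ne c 0).imp_right fun h0 => ?_
  have h1 := norm_four hF h h0
  rw [hc] at h1
  have h2 : (c - 1) * (c - 1) = 0 := by linear_combination h1 - (c - 1) * two_four hF
  exact sub_eq_zero.1 (mul_self_eq_zero.1 h2)

theorem one_skew (hF : Nat.card F = 2 ^ 2) : (1 : F) + σ 1 = 0 := by
  rw [map_one]; linear_combination two_four hF

theorem skew_four (hF : Nat.card F = 2 ^ 2) (h : UFrob σ 2) {c : F} (hc : c + σ c = 0) : c = 0 ∨ c = 1 :=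
  fix_four hF h (by linear_combination hc - c * two_four hF)

theorem ctr_four (hF : Nat.card F = 2 ^ 2) (h : UFrob σ 2) (H : Subgroup (Cfsg.SU n F 2)) (x : Fin n → F) :
    ctr h H x = ⊥ ∨ ctr h H x = ⊤ := by
  refine (AddSubgroup.bot_or_exists_ne_zero (ctr h H x)).imp_right fun ⟨c, hc, hc0⟩ => eq_top_iff.2 fun d _ => ?_
  have hc1 : c.1 = 1 := (skew_four hF h c.2).resolve_left fun h0 => hc0 (Subtype.ext h0)
  rcases skew_four hF h d.2 with h0 | h1
  · rw [show d = 0 from Subtype.ext h0]; exact AddSubgroup.zero_mem _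
  · rwa [show d = c from Subtype.ext (h1.trans hc1.symm)]

theorem ctr_index_four (hF : Nat.card F = 2 ^ 2) (h : UFrob σ 2) {H : Subgroup (Cfsg.SU n F 2)} {x : Fin n → F}
    (hC : ctr h H x = ⊥) : (ctr h H x).index = 2 := by
  rw [hC, AddSubgroup.index_bot, card_Sk hF h]

/-- The number of vectors of norm one. -/
noncomputable def units (σ : F →+* F) (n : ℕ) : ℕ := Nat.card {v : Fin n → F // uh σ v v = 1}

theorem units_eq (hF : Nat.card F = 2 ^ 2) (h : UFrob σ 2) (hm : Even m) :
    (units σ (m + 2) : ℤ) = 2 ^ (m + 1) * (2 ^ (m + 2) - 1) ∧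
      (iso σ (m + 2) : ℤ) = (2 ^ (m + 2) - 1) * (2 ^ (m + 1) + 1) := by
  classical
  have hi := iso_even hF h (σ := σ) hm.add_one
  push_cast at hi
  refine ⟨?_, hi⟩
  haveI := Fintype.ofFinite F
  have h2 : units σ (m + 2) + (iso σ (m + 2) + 1) = 4 ^ (m + 2) := by
    rw [show (4 : ℕ) ^ (m + 2) = Nat.card (Fin (m + 2) → F) by
      rw [Nat.card_fun, hF, Nat.card_fin]; norm_num]
    rw [units, iso, show 1 = Nat.card {v : Fin (m + 2) → F // v = 0} by simp, ← Nat.card_sum, ← Nat.card_sum]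
    refine Nat.card_congr
      { toFun := fun p => p.elim Subtype.val fun p => p.elim Subtype.val Subtype.val
        invFun := fun v => if h0 : v = 0 then Sum.inr (Sum.inr ⟨v, h0⟩) else
          if h1 : uh σ v v = 0 then Sum.inr (Sum.inl ⟨v, h0, h1⟩) else
          Sum.inl ⟨v, (fix_four hF h (h.symm v v)).resolve_left h1⟩
        left_inv := ?_
        right_inv := fun v => ?_ }
    · rintro (⟨v, hv⟩ | ⟨v, hv0, hv⟩ | ⟨v, rfl⟩)
      · have h0 : v ≠ 0 := fun h0 => by simp [h0, uh_zero_left] at hv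
        simp [h0, hv]
      · simp [hv0, hv]
      · simp
    · dsimp only
      split_ifs <;> rfl
  have h3 : (units σ (m + 2) : ℤ) + ((iso σ (m + 2) : ℤ) + 1) = 4 ^ (m + 2) := by exact_mod_cast h2
  rw [hi, show (4 : ℤ) ^ (m + 2) = 2 ^ (m + 2) * 2 ^ (m + 2) by rw [← mul_pow]; norm_num] at h3
  linear_combination h3

theorem units_le_iso (hF : Nat.card F = 2 ^ 2) (h : UFrob σ 2) (hm : Even m) :
    units σ (m + 2) ≤ iso σ (m + 2) := by
  obtain ⟨h1, h2⟩ := units_eq hF h hm
  zify
  rw [h1, h2]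
  have : (1 : ℤ) ≤ 2 ^ (m + 2) := one_le_pow₀ (by norm_num)
  nlinarith

/-- A non-trivial invariant subgroup has a small non-trivial invariant annihilator. -/
theorem exists_annihilator (h : UFrob σ 2) (L : Subgroup (Cfsg.SU n F 2)) (A : AddSubgroup (Fin n → F))
    (hA : A ≠ ⊤) (hinv : ∀ g ∈ L, ∀ a ∈ A, g.1.1 *ᵥ a ∈ A) :
    ∃ P : AddSubgroup (Fin n → F), P ≠ ⊥ ∧ Nat.card P ≤ A.index ∧ ∀ g ∈ L, ∀ a ∈ P, g.1.1 *ᵥ a ∈ P := by
  classical
  haveI := Fintype.ofFinite F
  obtain ⟨ψ, hψ⟩ := (AddChar.exists_apply_ne_zero (α := F) (a := 1)).2 one_ne_zero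
  let P : AddSubgroup (Fin n → F) :=
    { carrier := {w | ∀ a ∈ A, ψ (uh σ a w) = 1}
      zero_mem' := fun a _ => by rw [uh_zero_right, AddChar.map_zero_eq_one]
      add_mem' := fun {v w} hv hw a ha => by
        rw [uh_add_right, AddChar.map_add_eq_mul, hv a ha, hw a ha, one_mul]
      neg_mem' := fun {v} hv a ha => by
        have h1 := AddChar.map_add_eq_mul ψ (uh σ a v) (uh σ a (-v))
        rw [← uh_add_right, add_neg_cancel, uh_zero_right, AddChar.map_zero_eq_one, hv a ha, one_mul] at h1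
        exact h1.symm }
  have hnd : ∀ w : Fin n → F, (∀ a, ψ (uh σ a w) = 1) → w = 0 := fun w hw => by
    refine uh_ext h fun a => ?_
    rw [uh_zero_right]
    by_contra hne
    refine hψ ?_
    have h1 := hw ((uh σ a w)⁻¹ • a)
    rwa [uh_smul_left, inv_mul_cancel₀ hne] at h1
  refine ⟨P, fun hP => hA ?_, ?_, fun g hg v hv a ha => ?_⟩
  · let Φ : (Fin n → F) → AddChar A ℂ := fun w =>
      { toFun := fun a => ψ (uh σ a.1 w)
        map_zero_eq_one' := by simp [uh_zero_left]
        map_add_eq_mul' := fun a b => by simp [uh_add_left, AddChar.map_add_eq_mul] }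
    have hΦ : Function.Injective Φ := fun v w he => by
      have h1 : v - w ∈ P := fun a ha => by
        have h2 : ψ (uh σ a v) = ψ (uh σ a w) := DFunLike.congr_fun he ⟨a, ha⟩
        rw [uh_sub_right, sub_eq_add_neg, AddChar.map_add_eq_mul, h2, ← AddChar.map_add_eq_mul, add_neg_cancel,
          AddChar.map_zero_eq_one]
      rw [hP, AddSubgroup.mem_bot] at h1
      exact sub_eq_zero.1 h1
    have h1 := Nat.card_le_card_of_injective Φ hΦ
    haveI := Fintype.ofFinite A
    rw [Nat.card_eq_fintype_card (α := AddChar A ℂ), AddChar.card_eq, ← Nat.card_eq_fintype_card] at h1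
    exact AddSubgroup.eq_top_of_card_eq _ (le_antisymm (Nat.card_le_card_of_injective _ Subtype.val_injective) h1)
  · let Ψ : P → AddChar ((Fin n → F) ⧸ A) ℂ := fun w =>
      { toFun := fun q => ψ (uh σ q.out w.1)
        map_zero_eq_one' := by
          refine w.2 _ ?_
          rw [← QuotientAddGroup.eq_zero_iff, QuotientAddGroup.out_eq']
        map_add_eq_mul' := fun q r => by
          have h1 : (q + r).out - (q.out + r.out) ∈ A := by
            rw [← QuotientAddGroup.eq_zero_iff, QuotientAddGroup.mk_sub, QuotientAddGroup.mk_add,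
              QuotientAddGroup.out_eq', QuotientAddGroup.out_eq', QuotientAddGroup.out_eq', sub_self]
          have h2 := w.2 _ h1
          have h3 := AddChar.map_add_eq_mul ψ (uh σ ((q + r).out - (q.out + r.out)) w.1) (uh σ (q.out + r.out) w.1)
          rw [← uh_add_left, sub_add_cancel, h2, one_mul, uh_add_left, AddChar.map_add_eq_mul] at h3
          exact h3 }
    have hΨ : Function.Injective Ψ := fun v w he => by
      refine Subtype.ext (sub_eq_zero.1 (hnd _ fun a => ?_))
      have h2 : ψ (uh σ (QuotientAddGroup.mk a : (Fin n → F) ⧸ A).out v.1) =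
          ψ (uh σ (QuotientAddGroup.mk a : (Fin n → F) ⧸ A).out w.1) := DFunLike.congr_fun he _
      obtain ⟨b, hb⟩ := QuotientAddGroup.mk_out_eq_mul A a
      rw [hb, uh_add_left, uh_add_left, AddChar.map_add_eq_mul, AddChar.map_add_eq_mul, v.2 _ b.2, w.2 _ b.2,
        mul_one, mul_one] at h2
      rw [uh_sub_right, sub_eq_add_neg, AddChar.map_add_eq_mul, h2, ← AddChar.map_add_eq_mul, add_neg_cancel,
        AddChar.map_zero_eq_one]
    refine (Nat.card_le_card_of_injective Ψ hΨ).trans (le_of_eq ?_)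
    haveI := Fintype.ofFinite ((Fin n → F) ⧸ A)
    rw [Nat.card_eq_fintype_card, AddChar.card_eq, AddSubgroup.index, Nat.card_eq_fintype_card]
  · have h1 := hv _ (hinv _ (L.inv_mem hg) a ha)
    rwa [← su_uh h g, su_mulVec_inv] at h1

/-- The vectors moved around by a subgroup with an invariant subgroup of small index. -/
theorem units_le_mul (hF : Nat.card F = 2 ^ 2) (h : UFrob σ 2) (hk : 2 ≤ k) (hev : Even k)
    (L : Subgroup (Cfsg.SU (k + 2) F 2)) (A : AddSubgroup (Fin (k + 2) → F)) (hA : A ≠ ⊤)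
    (hinv : ∀ g ∈ L, ∀ a ∈ A, g.1.1 *ᵥ a ∈ A) : units σ (k + 2) ≤ L.index * (A.index - 1) := by
  classical
  haveI := Fintype.ofFinite F
  obtain ⟨P, hP, hcard, hPinv⟩ := exists_annihilator h L A hA hinv
  obtain ⟨w, hw, hw0⟩ := (AddSubgroup.bot_or_exists_ne_zero _).resolve_left hP
  have key : ∀ p : (Fin (k + 2) → F) → Prop, ¬ p 0 → Nat.card {a : P // p a.1} ≤ A.index - 1 := by
    intro p hp0
    haveI := Fintype.ofFinite P
    have h1 : Nat.card {a : P // p a.1} + 1 ≤ Nat.card P := by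
      rw [Nat.card_eq_fintype_card, Nat.card_eq_fintype_card (α := P), Fintype.card_subtype]
      have h2 : (0 : P) ∉ Finset.univ.filter fun a : P => p a.1 := by simpa using hp0
      refine le_trans (le_of_eq (Finset.card_insert_of_notMem h2).symm) (Finset.card_le_univ _)
    omega
  rcases fix_four hF h (h.symm w w) with hww | hww
  · have h1 := class_count' L P hPinv (fun v => v ≠ 0 ∧ uh σ v v = 0)
      (fun g v hv => ⟨fun h0 => hv.1 (by rw [← su_inv_mulVec g v, h0, mulVec_zero]), by rw [su_uh h]; exact hv.2⟩) hw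
      fun v hv => su_trans hF h (by omega) hw0 hv.1 hww hv.2
    exact (units_le_iso hF h hev).trans (h1.trans (Nat.mul_le_mul_left _ (key (fun v => v ≠ 0 ∧ uh σ v v = 0) fun h0 => h0.1 rfl)))
  · have h1 := class_count' L P hPinv (fun v => uh σ v v = 1) (fun g v hv => by rw [su_uh h]; exact hv) hw
      fun v hv => su_trans_norm hF h (by rw [hww]; exact one_ne_zero) (hv.trans hww.symm)
    exact h1.trans (Nat.mul_le_mul_left _ (key (fun v => uh σ v v = 1) (by simp [uh_zero_left])))

/-- The stabilizer of a non-isotropic line has three cosets fewer for each vector of norm one. -/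
theorem index_lineStab_unit (hF : Nat.card F = 2 ^ 2) (h : UFrob σ 2) {v : Fin (k + 2) → F} (hv : uh σ v v = 1) :
    (lineStab (q := 2) v).index * 3 = units σ (k + 2) := by
  classical
  set L := lineStab (q := 2) v with hL
  have hv0 : v ≠ 0 := fun h0 => by simp [h0, uh_zero_left] at hv
  rw [Subgroup.index, units, show 3 = Nat.card Fˣ by rw [card_units_sq hF]; norm_num, ← Nat.card_prod]
  refine Nat.card_eq_of_bijective (fun p : (Cfsg.SU (k + 2) F 2 ⧸ L) × Fˣ =>
    (⟨(p.2 : F) • p.1.out.1.1 *ᵥ v, by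
      rw [uh_smul_left, uh_smul_right, su_uh h, hv, mul_one, norm_four hF h p.2.ne_zero]⟩ :
      {u : Fin (k + 2) → F // uh σ u u = 1})) ⟨?_, ?_⟩
  · rintro ⟨c, a⟩ ⟨d, b⟩ he
    have e : (a : F) • c.out.1.1 *ᵥ v = (b : F) • d.out.1.1 *ᵥ v := congrArg Subtype.val he
    have e2 : (d.out⁻¹ * c.out).1.1 *ᵥ v = ((a : F)⁻¹ * b) • v := by
      rw [su_mul_mulVec, ← smul_smul, eq_inv_smul_iff₀ a.ne_zero, ← mulVec_smul, e, mulVec_smul, su_inv_mulVec]
    obtain rfl : c = d := by
      rw [← QuotientGroup.out_eq' c, ← QuotientGroup.out_eq' d]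
      exact (QuotientGroup.eq.2 (show d.out⁻¹ * c.out ∈ lineStab (q := 2) v from
        ⟨(a : F)⁻¹ * b, mul_ne_zero (inv_ne_zero a.ne_zero) b.ne_zero, e2⟩)).symm
    refine Prod.ext rfl (Units.ext (smul_left_injective F ?_ e))
    exact fun h0 => hv0 (by rw [← su_inv_mulVec c.out v, h0, mulVec_zero])
  · rintro ⟨u, hu⟩
    obtain ⟨g, hg⟩ := su_trans_norm hF h (k := k) (e := v) (e' := u) (by rw [hv]; exact one_ne_zero) (hu.trans hv.symm)
    obtain ⟨l, hl⟩ := QuotientGroup.mk_out_eq_mul L g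
    obtain ⟨β, hβ, hlv⟩ := l.2
    refine ⟨(QuotientGroup.mk g, (Units.mk0 β hβ)⁻¹), Subtype.ext ?_⟩
    show ((Units.mk0 β hβ)⁻¹ : Fˣ).1 • _ = u
    rw [hl, su_mul_mulVec, hlv, mulVec_smul, hg, Units.val_inv_eq_inv_val, Units.val_mk0, inv_smul_smul₀ hβ]

end CfsgLib.MinIdx.Un
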