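import Cfsg.Agent.Lib.MinIdx.UnTwoBasic
import Cfsg.Agent.Lib.MinIdx.UnCentre
import Cfsg.Agent.Lib.MinIdx.Un4Line

/-!
# Over four elements a trivial root set with a full Levi part gives a root element at an orthogonal point
-/

set_option autoImplicit false

namespace CfsgLib.MinIdx.Un

open Matrix CfsgLib.Classical CfsgLib.Classical.Unitary

variable {F : Type*} [Field F] [Finite F] {σ : F →+* F} {n m k : ℕ}

theorem eq_zero_of_perp_iso (h : UFrob σ 2) (hk : 2 ≤ k) {v : Fin k → F}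
    (hv : ∀ w, uh σ w w = 0 → uh σ v w = 0) : v = 0 := by
  obtain ⟨j, rfl⟩ : ∃ j, k = j + 2 := ⟨k - 2, by omega⟩
  obtain ⟨e, he0, hee⟩ := exists_iso_vector (m := j + 2) h (by omega)
  obtain ⟨y, P, s⟩ := exists_split h he0 hee
  obtain ⟨θ, hθ⟩ := exists_trace h
  have hpiece : ∀ a, uh σ (P *ᵥ a + (-θ * uh σ a a) • e + y) (P *ᵥ a + (-θ * uh σ a a) • e + y) = 0 := fun a => by
    simp only [uh_add_left, uh_add_right, uh_smul_left, uh_smul_right, s.px, s.py, s.xp h, s.yp h, s.xx, s.yy, s.xy,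
      s.yx h, s.pp h, map_mul, map_neg, h.symm]
    linear_combination (-(uh σ a a)) * hθ
  refine uh_ext h fun z => ?_
  rw [uh_zero_right, ← h.symm]
  have : uh σ v z = 0 := by
    rw [← s.dec z, uh_add_right, uh_add_right, uh_smul_right, uh_smul_right, hv e hee, hv y s.yy]
    have h1 := hv _ (hpiece ((P.map σ)ᵀ *ᵥ z))
    rw [uh_add_right, uh_add_right, uh_smul_right, hv e hee, hv y s.yy] at h1
    linear_combination h1
  rw [this, map_zero]

theorem utv_mulVec (h : UFrob σ 2) {u : Fin n → F} {c : F} (huu : uh σ u u = 0) (hc : c + σ c = 0) (a : Fin n → F) :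
    (utv h u c huu hc).1.1 *ᵥ a = a + (c * uh σ a u) • u := tMat_mulVec _ _ _

/-- The product of two transvections at orthogonal points is a root element at their sum. -/
theorem ue_pair (hF : Nat.card F = 2 ^ 2) (h : UFrob σ 2) {x z : Fin n → F} (hx : uh σ x x = 0) (hz : uh σ z z = 0)
    (hzx : uh σ z x = 0) :
    Ok σ (z + x) x 1 ∧ ue h x 0 1 * ue h z 0 1 = ue h (z + x) x 1 := by
  have h2 := two_four hF
  have hxz := h.swap_zero hzx
  have hok : Ok σ (z + x) x 1 := by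
    refine ⟨?_, ?_, ?_⟩
    · simp [uh_add_left, uh_add_right, hx, hz, hzx, hxz]
    · simp [uh_add_right, hx, hxz]
    · rw [map_one, hx]; linear_combination h2
  refine ⟨hok, su_ext fun v => ?_⟩
  rw [su_mul_mulVec, ue_apply h (Ok.zero hz (one_skew hF)), ue_apply h (Ok.zero hx (one_skew hF)), ue_apply h hok]
  simp only [uh_add_left, uh_add_right, uh_smul_left, uh_zero_right, hzx, smul_zero, add_zero, sub_zero, mul_zero,
    one_mul]
  match_scalars
  · ring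
  · ring
  · linear_combination -(uh σ v z) * h2

variable {x y : Fin n → F} {P : Matrix (Fin n) (Fin m) F}

theorem lift_unique (h : UFrob σ 2) {H : Subgroup (Cfsg.SU n F 2)} (s : Split σ m x y P) (hA : aSet h H s = ⊥)
    {g : Cfsg.SU n F 2} {a b : Fin m → F} {c d : F} (hc : Ok σ x (P *ᵥ a) c) (hd : Ok σ x (P *ᵥ b) d)
    (ha : ue h x (P *ᵥ a) c * g ∈ H) (hb : ue h x (P *ᵥ b) d * g ∈ H) : a = b := by
  have h1 := H.mul_mem ha (H.inv_mem hb)
  rw [_root_.mul_inv_rev, ← mul_assoc, mul_inv_cancel_right, hd.inv h, hc.mul h (hd.inv_ok h)] at h1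
  have h2 := hc.add h (hd.inv_ok h)
  rw [← mulVec_neg, ← mulVec_add] at h1 h2
  have h3 : a + -b ∈ aSet h H s := (mem_aSet h s).2 ⟨_, h2, h1⟩
  rw [hA, AddSubgroup.mem_bot, add_neg_eq_zero] at h3
  exact h3

theorem lift_mul (h : UFrob σ 2) {H : Subgroup (Cfsg.SU n F 2)} (s : Split σ m x y P) {g k : Cfsg.SU m F 2}
    {a b : Fin m → F} {c d : F} (hc : Ok σ x (P *ᵥ a) c) (hd : Ok σ x (P *ᵥ b) d)
    (ha : ue h x (P *ᵥ a) c * ext h s g ∈ H) (hb : ue h x (P *ᵥ b) d * ext h s k ∈ H) :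
    ∃ e, Ok σ x (P *ᵥ (a + g.1.1 *ᵥ b)) e ∧ ue h x (P *ᵥ (a + g.1.1 *ᵥ b)) e * ext h s (g * k) ∈ H := by
  obtain ⟨h1, e1⟩ := conj_ue h s (ext_mem h s g) hd
  rw [scal_ext h s, lin_ext h s, map_one, one_smul, one_mul, one_mul] at h1 e1
  have h2 := hc.add h h1
  rw [← mulVec_add] at h2
  refine ⟨_, h2, ?_⟩
  rw [mulVec_add, ← hc.mul h h1, ← e1, map_mul]
  convert H.mul_mem ha hb using 1
  group

/-- The lift of a transvection of the Levi part lies along its centre. -/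
theorem lift_transv (hF : Nat.card F = 2 ^ 2) (h : UFrob σ 2) (hk : 2 ≤ k) {H : Subgroup (Cfsg.SU n F 2)}
    {P : Matrix (Fin n) (Fin (k + 2)) F} (s : Split σ (k + 2) x y P) (hA : aSet h H s = ⊥)
    (hL : liftL h H s = ⊤) {e : Fin (k + 2) → F} (he0 : e ≠ 0) (hee : uh σ e e = 0) :
    ∃ (μ c : F), Ok σ x (P *ᵥ (μ • e)) c ∧
      ue h x (P *ᵥ (μ • e)) c * ext h s (utv h e 1 hee (one_skew hF)) ∈ H := by
  have hlift : ∀ g, ∃ (a : Fin (k + 2) → F) (c : F), Ok σ x (P *ᵥ a) c ∧ ue h x (P *ᵥ a) c * ext h s g ∈ H :=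
    fun g => (mem_liftL h s).1 (hL ▸ Subgroup.mem_top g)
  obtain ⟨t, ht⟩ : ∃ t, t = utv h e 1 hee (one_skew hF) := ⟨_, rfl⟩
  rw [← ht]
  obtain ⟨a, c, hc, hm⟩ := hlift t
  suffices ha : a = uh σ a (exists_split h he0 hee).choose • e from ⟨_, c, ha ▸ hc, ha ▸ hm⟩
  have hte : ∀ v, t.1.1 *ᵥ v = v + uh σ v e • e := fun v => by rw [ht, utv_mulVec, one_mul]
  have hae : uh σ a e = 0 := by
    have htt : t * t = 1 := su_ext fun v => by
      rw [su_mul_mulVec, hte, hte, su_one_mulVec, uh_add_left, uh_smul_left, hee, mul_zero, add_zero]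
      match_scalars
      · rfl
      · linear_combination uh σ v e * two_four hF
    obtain ⟨d, hd, hdm⟩ := lift_mul h s hc hc hm hm
    rw [htt, map_one, mul_one] at hdm
    have h3 : a + t.1.1 *ᵥ a ∈ aSet h H s := (mem_aSet h s).2 ⟨_, hd, hdm⟩
    rw [hA, AddSubgroup.mem_bot, hte] at h3
    by_contra hne
    refine he0 ((smul_eq_zero.1 (?_ : uh σ a e • e = 0)).resolve_left hne)
    linear_combination (norm := module) h3 - (two_four hF) • a
  have hperp : ∀ u, uh σ u u = 0 → uh σ u e = 0 → (∀ r : F, u ≠ r • e) → uh σ a u = 0 := by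
    intro u huu hue hne
    obtain ⟨g, hg⟩ : ∃ g, g = utv h u 1 huu (one_skew hF) := ⟨_, rfl⟩
    have hge : ∀ v, g.1.1 *ᵥ v = v + uh σ v u • u := fun v => by rw [hg, utv_mulVec, one_mul]
    obtain ⟨b, d, hd, hdm⟩ := hlift g
    have hcom : g * t = t * g := su_ext fun v => by
      simp only [su_mul_mulVec, hge, hte, uh_add_left, uh_smul_left, hue, h.swap_zero hue]
      module
    obtain ⟨e1, h1, h1m⟩ := lift_mul h s hd hc hdm hm
    obtain ⟨e2, h2, h2m⟩ := lift_mul h s hc hd hm hdm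
    rw [hcom] at h1m
    have h3 := lift_unique h s hA h1 h2 h1m h2m
    rw [hge, hte] at h3
    by_contra hau
    refine hne ((uh σ a u)⁻¹ * uh σ b e) ?_
    rw [mul_smul, eq_inv_smul_iff₀ hau]
    linear_combination (norm := module) h3
  obtain ⟨R, r⟩ := (exists_split h he0 hee).choose_spec
  generalize (exists_split h he0 hee).choose = f at r
  have hb : (R.map σ)ᵀ *ᵥ a = 0 := eq_zero_of_perp_iso h hk fun w hw => by
    rw [← uh_frame_right h]
    rcases eq_or_ne w 0 with rfl | hw0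
    · rw [mulVec_zero, uh_zero_right]
    refine hperp _ (by rw [r.pp h, hw]) (r.px w) fun ρ hρ => hw0 ?_
    rw [← r.frame.apply w, hρ, mulVec_smul, r.proj_x h, smul_zero]
  have h4 := r.perp_x hae
  rw [hb, mulVec_zero, add_zero] at h4
  exact h4.symm

/-- A root element at a point orthogonal to `x`. -/
theorem exists_second (hF : Nat.card F = 2 ^ 2) (h : UFrob σ 2) (hk : 2 ≤ k) {H : Subgroup (Cfsg.SU n F 2)}
    {P : Matrix (Fin n) (Fin (k + 2)) F} (s : Split σ (k + 2) x y P) (hA : aSet h H s = ⊥)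
    (hL : liftL h H s = ⊤) :
    ∃ z, z ≠ 0 ∧ uh σ z z = 0 ∧ uh σ z x = 0 ∧ (∀ r : F, z ≠ r • x) ∧
      (ctr h H z = ⊤ ∨ ∃ w ∈ rootSet h H z, ∀ r : F, w ≠ r • z) := by
  obtain ⟨e, he0, hee⟩ := exists_iso_vector (m := k + 2) h (by omega)
  obtain ⟨μ, c, hc, hm⟩ := lift_transv hF h hk s hA hL he0 hee
  have hne : ∀ lam r : F, P *ᵥ e + lam • x ≠ r • x := fun lam r h0 => by
    have h1 := congrArg ((P.map σ)ᵀ *ᵥ ·) h0
    simp only [mulVec_add, mulVec_smul, s.frame.apply, s.proj_x h, smul_zero, add_zero] at h1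
    exact he0 h1
  have hzz : ∀ lam : F, uh σ (P *ᵥ e + lam • x) (P *ᵥ e + lam • x) = 0 := fun lam => by
    simp [uh_add_left, uh_add_right, uh_smul_left, uh_smul_right, s.pp h, hee, s.px, s.xp h, s.xx]
  have hzx : ∀ lam : F, uh σ (P *ᵥ e + lam • x) x = 0 := fun lam => by
    simp [uh_add_left, uh_smul_left, s.px, s.xx]
  have hz0 : ∀ lam : F, P *ᵥ e + lam • x ≠ 0 := fun lam h0 => hne lam 0 (by rw [h0, zero_smul])
  obtain ⟨h1, e1⟩ := ue_shift h s hee (σ μ) (one_skew hF)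
  rw [h.invol, one_mul, one_mul] at h1 e1
  obtain ⟨lam, hlam⟩ : ∃ lam, lam = σ μ := ⟨_, rfl⟩
  rw [← hlam] at e1 h1
  have hd : c - lam * μ + σ (c - lam * μ) = 0 := by
    rw [map_sub]
    linear_combination hc.2.2 - h1.2.2
  rcases skew_four hF h hd with h0 | h0
  · rw [sub_eq_zero.1 h0, ← e1] at hm
    refine ⟨_, hz0 lam, hzz lam, hzx lam, hne lam, Or.inl ((ctr_four hF h H _).resolve_left fun hb => ?_)⟩
    have h2 : (⟨1, one_skew hF⟩ : Sk σ) ∈ ctr h H (P *ᵥ e + lam • x) := (mem_ctr h (hzz lam)).2 hm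
    rw [hb, AddSubgroup.mem_bot] at h2
    exact one_ne_zero (congrArg Subtype.val h2)
  · have e2 : ue h x (P *ᵥ (μ • e)) c = ue h x 0 1 * ue h x (P *ᵥ (μ • e)) (lam * μ) := by
      rw [(Ok.zero s.xx (one_skew hF)).mul h h1, zero_add, uh_zero_right, sub_zero]
      congr 1
      linear_combination h0
    rw [e2, mul_assoc, ← e1] at hm
    obtain ⟨hok, e3⟩ := ue_pair hF h s.xx (hzz lam) (hzx lam)
    rw [e3] at hm
    have hsum : P *ᵥ e + lam • x + x = P *ᵥ e + (lam + 1) • x := by module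
    rw [hsum] at hm hok
    refine ⟨_, hz0 _, hzz _, hzx _, hne _, Or.inr ⟨x, fun _ => ⟨1, hok, hm⟩, fun r hr => ?_⟩⟩
    rcases eq_or_ne r 0 with rfl | hr0
    · exact s.x_ne (by rw [hr, zero_smul])
    · refine hne (lam + 1) r⁻¹ ?_
      rw [eq_inv_smul_iff₀ hr0]
      exact hr.symm

/-- Such a point is in another orbit. -/
theorem second_notMem_orb (h : UFrob σ 2) {H : Subgroup (Cfsg.SU n F 2)} (s : Split σ m x y P)
    (hA : aSet h H s = ⊥) (hC : ctr h H x = ⊥) {z : Fin n → F}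
    (hor : ctr h H z = ⊤ ∨ ∃ w ∈ rootSet h H z, ∀ r : F, w ≠ r • z) : z ∉ orb H x := by
  rcases hor with hz | ⟨w, hw, hne⟩
  · exact notMem_orb h s.xx hC hz
  rintro ⟨g, hg, α, hα, rfl⟩
  have hgx : uh σ (g.1.1 *ᵥ x) (g.1.1 *ᵥ x) = 0 := by rw [su_uh h, s.xx]
  obtain ⟨c, hc, hm⟩ := hw (by rw [uh_smul_left, uh_smul_right, hgx]; ring)
  have hw' : Ok σ (g.1.1 *ᵥ x) w c := ⟨hgx, by
    have := hc.2.1
    rw [uh_smul_right, mul_eq_zero] at this
    exact this.resolve_left (by simpa using hα), hc.2.2⟩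
  rw [ue_smul h hw'] at hm
  have h2 := Ok.smul h (α := α) hw'.1 hw'.2.1 hw'.2.2
  obtain ⟨v, hv⟩ : ∃ v, v = (g⁻¹).1.1 *ᵥ (σ α • w) := ⟨_, rfl⟩
  have hgv : g.1.1 *ᵥ v = σ α • w := by rw [hv, su_mulVec_inv]
  have h3 := H.mul_mem (H.mul_mem (H.inv_mem hg) hm) hg
  rw [← hgv, ← ue_conj, show g⁻¹ * (g * ue h x v (α * σ α * c) * g⁻¹) * g = ue h x v (α * σ α * c) by group] at h3
  have h4 : Ok σ x v (α * σ α * c) := by
    have := h2.map h g⁻¹
    rwa [su_inv_mulVec, ← hv] at this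
  have h5 : v - uh σ v y • x ∈ rootSet h H x :=
    (rootSet h H x).sub_mem (fun _ => ⟨_, h4, h3⟩) (line_mem_rootSet h H x _)
  have h6 : (P.map σ)ᵀ *ᵥ v ∈ aSet h H s := by
    show P *ᵥ ((P.map σ)ᵀ *ᵥ v) ∈ rootSet h H x
    convert h5 using 1
    exact eq_sub_of_add_eq' (s.perp_x h4.2.1)
  rw [hA, AddSubgroup.mem_bot] at h6
  have h7 := s.perp_x h4.2.1
  rw [h6, mulVec_zero, add_zero] at h7
  have hsα : σ α ≠ 0 := by simpa using hα
  refine hne ((σ α)⁻¹ * uh σ v y * α⁻¹) ?_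
  rw [smul_smul, mul_assoc _ α⁻¹ α, inv_mul_cancel₀ hα, mul_one, mul_smul, ← mulVec_smul _ _ x, h7, hgv,
    inv_smul_smul₀ hsα]

/-- The root set at such a point is not everything. -/
theorem second_ne_top (hF : Nat.card F = 2 ^ 2) (h : UFrob σ 2) {H : Subgroup (Cfsg.SU n F 2)}
    (s : Split σ m x y P) (hA : aSet h H s = ⊥) {z y' : Fin n → F} {Q : Matrix (Fin n) (Fin m) F}
    (t : Split σ m z y' Q) (hm : 1 ≤ m) (hzx : uh σ z x = 0) (hne : ∀ r : F, z ≠ r • x) : aSet h H t ≠ ⊤ := by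
  intro htop
  have hall : ∀ w, uh σ w z = 0 → w ∈ rootSet h H z := fun w hw => by
    rw [← t.perp_x hw]
    exact (rootSet h H z).add_mem (line_mem_rootSet h H z _)
      (show (Q.map σ)ᵀ *ᵥ w ∈ aSet h H t from htop ▸ AddSubgroup.mem_top _)
  obtain ⟨ω, hω⟩ : ∃ ω : F, σ ω - ω = 1 := by
    obtain ⟨θ, hθ⟩ := exists_trace h
    exact ⟨θ, by linear_combination hθ - θ * two_four hF⟩
  obtain ⟨u, hu⟩ : ∃ u, u = Q *ᵥ Pi.single ⟨0, hm⟩ 1 := ⟨_, rfl⟩
  have huu : uh σ u u = 1 := by rw [hu, t.pp h, uh_single_self h]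
  have huz : uh σ u z = 0 := hu ▸ t.px _
  have hctr : ctr h H z = ⊤ := (ctr_four hF h H z).resolve_left fun hb => by
    have h1 := comm_mem h t.xx (hall u huz) (hall (ω • u) (by rw [uh_smul_left, huz, mul_zero]))
    rw [hb, AddSubgroup.mem_bot] at h1
    have h2 := congrArg Subtype.val h1
    simp only [uh_smul_left, uh_smul_right, huu, mul_one, hω, AddSubgroup.coe_zero] at h2
    exact one_ne_zero h2
  obtain ⟨c, hc, hcm⟩ := hall x (h.swap_zero hzx) t.xx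
  have hx0 : Ok σ z x 0 := ⟨t.xx, h.swap_zero hzx, by rw [s.xx]; simp⟩
  have hc0 : c + σ c = 0 := by linear_combination hc.2.2 - s.xx
  have e := hx0.mul h (Ok.zero t.xx hc0)
  rw [uh_zero_left, sub_zero, add_zero, zero_add] at e
  rw [← e] at hcm
  have h1 := (H.mul_mem_cancel_right ((mem_ctr h t.xx (c := ⟨c, hc0⟩)).1 (hctr ▸ AddSubgroup.mem_top _))).1 hcm
  rw [← one_smul F x, ue_swap h s.xx t.xx hzx, map_one] at h1
  have h2 : (-1 : F) • z ∈ rootSet h H x := fun _ =>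
    ⟨0, ⟨s.xx, by rw [uh_smul_left, hzx, mul_zero], by rw [uh_smul_left, uh_smul_right, t.xx]; simp⟩, h1⟩
  have h3 : (-1 : F) • z - uh σ ((-1 : F) • z) y • x ∈ rootSet h H x :=
    (rootSet h H x).sub_mem h2 (line_mem_rootSet h H x _)
  have h4 : (P.map σ)ᵀ *ᵥ ((-1 : F) • z) ∈ aSet h H s := by
    show P *ᵥ ((P.map σ)ᵀ *ᵥ ((-1 : F) • z)) ∈ rootSet h H x
    convert h3 using 1
    exact eq_sub_of_add_eq' (s.perp_x (by rw [uh_smul_left, hzx, mul_zero]))
  rw [hA, AddSubgroup.mem_bot] at h4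
  have h5 := s.perp_x (show uh σ ((-1 : F) • z) x = 0 by rw [uh_smul_left, hzx, mul_zero])
  rw [h4, mulVec_zero, add_zero] at h5
  refine hne (-uh σ ((-1 : F) • z) y) ?_
  rw [neg_smul, h5]
  simp

end CfsgLib.MinIdx.Un
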