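import Cfsg.Agent.Lib.MinIdx.UnTwoLift
import Cfsg.Agent.Lib.MinIdx.Un4Main

/-!
# The smallest index of a proper subgroup of `SU` of even dimension over four elements
-/

set_option autoImplicit false

namespace CfsgLib.MinIdx.Un

open Matrix CfsgLib.Classical CfsgLib.Classical.Unitary

variable {F : Type*} [Field F] [Finite F] {σ : F →+* F} {n k : ℕ}

theorem units_nat (hF : Nat.card F = 2 ^ 2) (h : UFrob σ 2) (hev : Even k) :
    units σ (k + 2) = 2 ^ (k + 1) * (2 ^ (k + 2) - 1) := by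
  zify [Nat.one_le_two_pow (n := k + 2)]
  exact (units_eq hF h hev).1

/-- An invariant root set costs four cosets of the smaller bound. -/
theorem aSet_cost (hF : Nat.card F = 2 ^ 2) (h : UFrob σ 2) (hk : 2 ≤ k) (hev : Even k)
    (hyp : ∀ L : Subgroup (Cfsg.SU (k + 2) F 2), L ≠ ⊤ → units σ (k + 2) ≤ 6 * L.index)
    (A : AddSubgroup (Fin (k + 2) → F)) (hA : A ≠ ⊤) (L : Subgroup (Cfsg.SU (k + 2) F 2))
    (hinv : ∀ g ∈ L, ∀ a ∈ A, g.1.1 *ᵥ a ∈ A) : 4 * units σ (k + 2) ≤ 3 * (A.index * L.index) := by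
  have hcard : Nat.card (Fin (k + 2) → F) = 2 ^ (2 * (k + 2)) := by
    rw [Nat.card_fun, hF, Nat.card_fin, ← pow_mul]
  by_cases hA0 : A = ⊥
  · have hl : 1 ≤ L.index := Nat.pos_of_ne_zero Subgroup.index_ne_zero_of_finite
    rw [hA0, AddSubgroup.index_bot, hcard, units_nat hF h hev]
    calc 4 * (2 ^ (k + 1) * (2 ^ (k + 2) - 1)) ≤ 4 * (2 ^ (k + 1) * 2 ^ (k + 2)) :=
          Nat.mul_le_mul_left _ (Nat.mul_le_mul_left _ (Nat.sub_le _ _))
      _ = 2 * (2 ^ (2 * (k + 2)) * 1) := by ring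
      _ ≤ _ := Nat.mul_le_mul (by norm_num) (Nat.mul_le_mul_left _ hl)
  have hL : L ≠ ⊤ := fun hL =>
    (invariant_cases hF h (by omega) A fun M a ha => hinv M (hL ▸ Subgroup.mem_top M) a ha).elim hA0 hA
  have h6 := hyp L hL
  obtain ⟨i, -, hi⟩ := (Nat.dvd_prime_pow Nat.prime_two).1
    (show A.index ∣ 2 ^ (2 * (k + 2)) from hcard ▸ AddSubgroup.index_dvd_card _)
  rcases (show i = 0 ∨ i ≤ 2 ∧ 1 ≤ i ∨ 3 ≤ i by omega) with rfl | ⟨hi2, hi1⟩ | hi3
  · exact absurd (AddSubgroup.index_eq_one.1 hi) hA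
  · have h1 := units_le_mul hF h hk hev L A hA hinv
    have hX : A.index ≤ 4 := hi ▸ Nat.pow_le_pow_right two_pos hi2
    calc 4 * units σ (k + 2) ≤ 4 * (L.index * (A.index - 1)) := Nat.mul_le_mul_left _ h1
      _ = L.index * (4 * (A.index - 1)) := by ring
      _ ≤ L.index * (3 * A.index) := Nat.mul_le_mul_left _ (by omega)
      _ = _ := by ring
  · have hX : 8 ≤ A.index := hi ▸ Nat.pow_le_pow_right two_pos hi3
    calc 4 * units σ (k + 2) ≤ 4 * (6 * L.index) := Nat.mul_le_mul_left _ h6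
      _ = 3 * (8 * L.index) := by ring
      _ ≤ _ := Nat.mul_le_mul_left _ (Nat.mul_le_mul_right _ hX)

/-- One step of the induction on the dimension. -/
theorem two_step (hF : Nat.card F = 2 ^ 2) (h : UFrob σ 2) (hk : 2 ≤ k) (hev : Even k)
    (hyp : ∀ L : Subgroup (Cfsg.SU (k + 2) F 2), L ≠ ⊤ →
      units σ (k + 2) ≤ 6 * L.index ∧ 2 ^ (k + 4) - 1 ≤ 3 * L.index)
    (H : Subgroup (Cfsg.SU (k + 2 + 2) F 2)) (hH : H ≠ ⊤) : units σ (k + 2 + 2) ≤ 3 * H.index := by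
  rw [units_nat hF h (hev.add even_two)]
  obtain ⟨x, hx0, hxx, hxc⟩ := exists_nonfull hF h (by omega) H hH
  have hC : ctr h H x = ⊥ := (ctr_four hF h H x).resolve_right hxc
  obtain ⟨y, P, s⟩ := exists_split h hx0 hxx
  have hA : Nat.card (aSet h H s) ≤ 2 ^ (k + 2) := by
    refine Nat.mul_self_le_mul_self_iff.1 ((card_aSet_sq hF h s hxc).trans (le_of_eq ?_))
    rw [← pow_add, two_mul]
  have hcard : (aSet h H s).index * Nat.card (aSet h H s) = 2 ^ (2 * (k + 2)) := aSet_card_mul hF h H s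
  have hX : 2 ^ (k + 2) ≤ (aSet h H s).index := by
    refine Nat.le_of_mul_le_mul_right ?_ (Nat.pow_pos (n := k + 2) two_pos)
    rw [← pow_add, ← two_mul, ← hcard]
    exact Nat.mul_le_mul_left _ hA
  have hcnt : (aSet h H s).index * 2 * (liftL h H s).index ≤ cnt H x := by
    refine le_trans (Nat.mul_le_mul_right _ (Nat.mul_le_mul_left _ ?_)) (cnt_ge' h H s (by omega))
    rw [ctr_index_four hF h hC]
    exact Nat.le_mul_of_pos_right _ (Nat.pos_of_ne_zero Subgroup.index_ne_zero_of_finite)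
  have hcx := cnt_le_index H x
  by_cases hA0 : aSet h H s = ⊥
  swap
  · have hL : liftL h H s ≠ ⊤ := fun hL => by
      rcases invariant_cases hF h (by omega) (aSet h H s)
        (fun M a ha => aSet_liftL h s (hL ▸ Subgroup.mem_top M) ha) with h1 | h1
      · exact hA0 h1
      · rw [h1, AddSubgroup.index_top] at hX
        exact absurd hX (not_le.2 (Nat.one_lt_pow (by omega) (by norm_num)))
    calc 2 ^ (k + 2 + 1) * (2 ^ (k + 2 + 2) - 1) ≤ 2 ^ (k + 2 + 1) * (3 * (liftL h H s).index) :=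
          Nat.mul_le_mul_left _ (hyp _ hL).2
      _ = 3 * (2 ^ (k + 2) * 2 * (liftL h H s).index) := by ring
      _ ≤ 3 * H.index := Nat.mul_le_mul_left _
          ((Nat.mul_le_mul_right _ (Nat.mul_le_mul_right _ hX)).trans (hcnt.trans hcx))
  rw [hA0, AddSubgroup.index_bot, Nat.card_fun, hF, Nat.card_fin, ← pow_mul] at hcnt
  have e8 : 2 ^ (k + 2 + 1) * 2 ^ (k + 2 + 2) = 8 * 2 ^ (2 * (k + 2)) := by ring
  by_cases hL : liftL h H s = ⊤
  swap
  · calc 2 ^ (k + 2 + 1) * (2 ^ (k + 2 + 2) - 1) ≤ 2 ^ (k + 2 + 1) * 2 ^ (k + 2 + 2) :=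
          Nat.mul_le_mul_left _ (Nat.sub_le _ _)
      _ ≤ 12 * 2 ^ (2 * (k + 2)) := by rw [e8]; exact Nat.mul_le_mul_right _ (by norm_num)
      _ = 3 * (2 ^ (2 * (k + 2)) * 2 * 2) := by ring
      _ ≤ 3 * H.index := Nat.mul_le_mul_left _
          ((Nat.mul_le_mul_left _ (Subgroup.one_lt_index_of_ne_top hL)).trans (hcnt.trans hcx))
  rw [hL, Subgroup.index_top, mul_one] at hcnt
  obtain ⟨z, hz0, hzz, hzx, hne, hor⟩ := exists_second hF h hk s hA0 hL
  obtain ⟨y', Q, t⟩ := exists_split h hz0 hzz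
  have hcz := cnt_ge' h H t (by omega)
  have hsum := cnt_add_le hF h (by omega) H hx0 hxx hz0 hzz (second_notMem_orb h s hA0 hC hor)
  have hcost := aSet_cost hF h hk hev (fun L hL => (hyp L hL).1) _ (second_ne_top hF h s hA0 t (by omega) hzx hne)
    (liftL h H t) fun g hg a ha => aSet_liftL h t hg ha
  have hcz' : (aSet h H t).index * (liftL h H t).index ≤ cnt H z := by
    refine le_trans (Nat.mul_le_mul_right _ (Nat.le_mul_of_pos_right _ (Nat.mul_pos ?_ ?_))) hcz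
    · exact Nat.pos_of_ne_zero AddSubgroup.index_ne_zero_of_finite
    · exact Nat.pos_of_ne_zero Subgroup.index_ne_zero_of_finite
  rw [units_nat hF h hev] at hcost
  have e9 : 2 ^ (k + 2 + 1) * (2 ^ (k + 2 + 2) - 1) =
      3 * (2 ^ (2 * (k + 2)) * 2) + 4 * (2 ^ (k + 1) * (2 ^ (k + 2) - 1)) := by
    zify [Nat.one_le_two_pow (n := k + 2 + 2), Nat.one_le_two_pow (n := k + 2)]
    ring
  rw [e9]
  calc _ ≤ 3 * cnt H x + 3 * cnt H z :=
        Nat.add_le_add (Nat.mul_le_mul_left _ hcnt) (hcost.trans (Nat.mul_le_mul_left _ hcz'))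
    _ = 3 * (cnt H x + cnt H z) := by ring
    _ ≤ _ := Nat.mul_le_mul_left _ hsum

theorem two_bound (hF : Nat.card F = 2 ^ 2) (h : UFrob σ 2) (j : ℕ) :
    ∀ H : Subgroup (Cfsg.SU (2 * j + 2 + 2 + 2) F 2), H ≠ ⊤ →
      units σ (2 * j + 2 + 2 + 2) ≤ 3 * H.index := by
  induction j with
  | zero =>
    refine two_step hF h le_rfl even_two fun L hL => ?_
    have h1 := su4_bound hF h L hL
    rw [units_nat hF h even_two]
    omega
  | succ j ih =>
    have hev : Even (2 * j + 2 + 2) := ⟨j + 2, by omega⟩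
    refine two_step hF h (k := 2 * j + 2 + 2) (by omega) hev fun L hL => ?_
    have h1 := ih L hL
    refine ⟨h1.trans (Nat.mul_le_mul_right _ (by norm_num)), le_trans ?_ h1⟩
    rw [units_nat hF h hev]
    have h2 : 32 ≤ 2 ^ (2 * j + 2 + 2 + 1) := le_trans (by norm_num) (Nat.pow_le_pow_right two_pos (show 5 ≤ _ by omega))
    have h3 : 64 ≤ 2 ^ (2 * j + 2 + 2 + 2) := le_trans (by norm_num) (Nat.pow_le_pow_right two_pos (show 6 ≤ _ by omega))
    refine le_trans ?_ (Nat.mul_le_mul_right _ h2)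
    rw [show 2 * j + 2 + 2 + 4 = (2 * j + 2 + 2 + 2) + 2 by ring, pow_add _ (2 * j + 2 + 2 + 2) 2]
    omega

end CfsgLib.MinIdx.Un
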